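import Cfsg.Agent.Helper8.PairCensus2

/-!
# Counting the lattice vectors of sum of squares 48 with a prescribed sum of the coordinates at
two fixed points (adaptation of `Helper8.PairCensus`)
-/

set_option autoImplicit false

namespace Cfsg.Agent.Helper26

open Cfsg Cfsg.Agent.Helper8 Cfsg.Agent.Helper27

/-- one term of the count, for sums of squares up to 48 -/
def pairTerm48 (L1 L2 : List ℤ) (n' : ℕ) (N r0 a b : ℤ) : ℕ :=
  if N - a ^ 2 - b ^ 2 < 0 then 0 else
    look (tbl L1 L2 8 49 n' (22 - n')) (N - a ^ 2 - b ^ 2).toNat ((r0 - a - b) % 8).toNat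

/-- the count for one code word, by the dynamic programme -/
def pairCnt48 (L1 L2 : List ℤ) (bp bq : Bool) (n' : ℕ) (N r0 t : ℤ) : ℕ :=
  ((if bp then L1 else L2).map fun a =>
    ((if bq then L1 else L2).map fun b =>
      if a + b = t then pairTerm48 L1 L2 n' N r0 a b else 0).sum).sum

theorem card_filter_pairsum48 (L1 L2 : List ℤ) (h1 : L1.Nodup) (h2 : L2.Nodup)
    (C : Finset GolayPt) (N r0 t : ℤ) (hN : N ≤ 48) :
    ((solF (fun i => if i ∈ C then L1.toFinset else L2.toFinset) 8 Finset.univ N r0).filter
      fun y => y pA + y pB = t).card =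
      pairCnt48 L1 L2 (decide (pA ∈ C)) (decide (pB ∈ C)) (rest22 ∩ C).card N r0 t := by
  rw [card_solF_pairsum _ _ pA_ne_pB]
  have hterm : ∀ a b : ℤ,
      (solF (fun i => if i ∈ C then L1.toFinset else L2.toFinset) 8
        ((Finset.univ.erase pA).erase pB) (N - a ^ 2 - b ^ 2) (r0 - a - b)).card =
        pairTerm48 L1 L2 (rest22 ∩ C).card N r0 a b := by
    intro a b
    rw [card_solF, ← rest22.eq_def, card_rest22_sdiff]
    unfold pairTerm48
    have hk : N - a ^ 2 - b ^ 2 < ((49 : ℕ) : ℤ) := by
      have := sq_nonneg a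
      have := sq_nonneg b
      push_cast
      linarith
    exact cntAB_eq_lookZ (m := 8) (K := 49) (by norm_num) L1 L2 h1 h2 _ _ _ _ hk
  simp only [hterm]
  unfold pairCnt48
  have hA : (if pA ∈ C then L1.toFinset else L2.toFinset) =
      (if decide (pA ∈ C) = true then L1 else L2).toFinset := by
    by_cases h : pA ∈ C <;> simp [h]
  have hB : (if pB ∈ C then L1.toFinset else L2.toFinset) =
      (if decide (pB ∈ C) = true then L1 else L2).toFinset := by
    by_cases h : pB ∈ C <;> simp [h]
  have hndA : (if decide (pA ∈ C) = true then L1 else L2).Nodup := by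
    split_ifs
    · exact h1
    · exact h2
  have hndB : (if decide (pB ∈ C) = true then L1 else L2).Nodup := by
    split_ifs
    · exact h1
    · exact h2
  rw [hA, hB, List.sum_toFinset _ hndA]
  congr 1
  refine List.map_congr_left fun a _ => ?_
  rw [List.sum_toFinset _ hndB]

/-- the count attached to a key -/
def keyG48 (t : ℤ) (key : ℕ × Bool × Bool) : ℕ :=
  pairCnt48 Le1 Le2 key.2.1 key.2.2
      (key.1 - (if key.2.1 then 1 else 0) - (if key.2.2 then 1 else 0)) 48 0 t +
    pairCnt48 Lo1 Lo2 key.2.1 key.2.2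
      (key.1 - (if key.2.1 then 1 else 0) - (if key.2.2 then 1 else 0)) 48 4 t

/-- the number of lattice vectors of sum of squares 48 whose two distinguished coordinates
have sum `t`, by the dynamic programme -/
def censusNum48 (t : ℤ) : ℕ := (keyList.map fun key => keyCount key * keyG48 t key).sum

theorem card_census48 (t : ℤ) :
    ((leechF 48).filter fun x => x pA + x pB = t).card = censusNum48 t := by
  rw [card_leechF_filter']
  have h : ∀ C ∈ codeF, ((evenF 48 C).filter fun x => x pA + x pB = t).card +
      ((oddF 48 C).filter fun x => x pA + x pB = t).card = keyG48 t (keyOf C) := by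
    intro C _
    have he := card_filter_pairsum48 Le1 Le2 Le1_nodup Le2_nodup C 48 0 t (le_refl _)
    have ho := card_filter_pairsum48 Lo1 Lo2 Lo1_nodup Lo2_nodup C 48 4 t (le_refl _)
    have hn : (rest22 ∩ C).card = C.card - (if decide (pA ∈ C) = true then 1 else 0) -
        (if decide (pB ∈ C) = true then 1 else 0) := by
      rw [card_rest22_inter]
      simp only [decide_eq_true_eq]
    rw [hn] at he ho
    unfold keyG48 keyOf
    exact congrArg₂ (· + ·) he ho
  rw [Finset.sum_congr rfl h, sum_codeF_key, keys_eq, List.sum_toFinset _ keyList_nodup]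
  rfl

set_option maxRecDepth 100000 in
theorem censusNum48_neg4 : censusNum48 (-4) = 953856 := by decide +kernel

/-- the number of lattice vectors of sum of squares 48 with inner product `-16` with the base
minimal vector -/
theorem census48_vA0 :
    {u : IVec | u ∈ leechLattice ∧ sqNorm u = 48 ∧ dotInt vA0 u = -16}.ncard = 953856 := by
  rw [← censusNum48_neg4, ← card_census48, ← Set.ncard_coe_finset]
  congr 1
  ext w
  rw [Finset.coe_filter, Set.mem_ofPred_eq, Set.mem_ofPred_eq, Finset.mem_coe.symm,
    coe_leechF (by norm_num), Set.mem_ofPred_eq, dotInt_vA0]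
  constructor
  · rintro ⟨h1, h2, h3⟩
    exact ⟨⟨h1, h2⟩, by linarith⟩
  · rintro ⟨⟨h1, h2⟩, h3⟩
    exact ⟨h1, h2, by rw [h3]; norm_num⟩

end Cfsg.Agent.Helper26
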