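import Mathlib
import Cfsg.Prelude.Def_Sporadic_a

/-!
Abstract (non-computational) facts about binary codes viewed as set systems, specialised to
`Cfsg.golayCode`: supports of sums are symmetric differences, complements, etc.
-/

set_option autoImplicit false
set_option linter.unusedSectionVars false

namespace Cfsg.Agent.Helper26

open Cfsg

section Binary

variable {α : Type*} [Fintype α]

/-- The indicator word of a finite set of coordinates. -/
def indWord [DecidableEq α] (s : Finset α) : α → ZMod 2 := fun a => if a ∈ s then 1 else 0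

theorem zmod2_eq_one_of_ne_zero (x : ZMod 2) (h : x ≠ 0) : x = 1 := by
  revert x; decide

theorem mem_support₂ (w : α → ZMod 2) (a : α) : a ∈ support₂ w ↔ w a ≠ 0 := by
  simp [support₂]

theorem mem_support₂' (w : α → ZMod 2) (a : α) : a ∈ support₂ w ↔ w a = 1 := by
  rw [mem_support₂]
  constructor
  · exact zmod2_eq_one_of_ne_zero _
  · intro h; rw [h]; decide

variable [DecidableEq α]

theorem support₂_indWord (s : Finset α) : support₂ (indWord s) = s := by
  ext a
  rw [mem_support₂]
  unfold indWord
  by_cases h : a ∈ s <;> simp [h]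

theorem indWord_support₂ (w : α → ZMod 2) : indWord (support₂ w) = w := by
  funext a
  unfold indWord
  by_cases h : a ∈ support₂ w
  · rw [if_pos h]; exact ((mem_support₂' w a).1 h).symm
  · rw [if_neg h]
    rw [mem_support₂, not_not] at h
    exact h.symm

theorem support₂_injective : Function.Injective (support₂ : (α → ZMod 2) → Finset α) := by
  intro v w h
  rw [← indWord_support₂ v, ← indWord_support₂ w, h]

theorem support₂_add (v w : α → ZMod 2) :
    support₂ (v + w) = symmDiff (support₂ v) (support₂ w) := by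
  ext a
  rw [Finset.mem_symmDiff, mem_support₂, mem_support₂, mem_support₂, Pi.add_apply]
  generalize v a = x
  generalize w a = y
  revert x y; decide

theorem support₂_one : support₂ (1 : α → ZMod 2) = Finset.univ := by
  ext a
  rw [mem_support₂]
  simp

theorem support₂_zero : support₂ (0 : α → ZMod 2) = ∅ := by
  ext a
  rw [mem_support₂]
  simp

theorem support₂_one_add (v : α → ZMod 2) : support₂ (1 + v) = (support₂ v)ᶜ := by
  ext a
  rw [Finset.mem_compl, mem_support₂, mem_support₂, Pi.add_apply, Pi.one_apply]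
  generalize v a = x
  revert x; decide

theorem mem_supports_iff (C : Set (α → ZMod 2)) (s : Finset α) :
    s ∈ supports C ↔ indWord s ∈ C := by
  unfold supports
  constructor
  · rintro ⟨w, hw, rfl⟩
    rw [indWord_support₂]; exact hw
  · intro h
    exact ⟨indWord s, h, support₂_indWord s⟩

theorem symmDiff_mem_supports (C : Submodule (ZMod 2) (α → ZMod 2)) {s t : Finset α}
    (hs : s ∈ supports (C : Set (α → ZMod 2))) (ht : t ∈ supports (C : Set (α → ZMod 2))) :
    symmDiff s t ∈ supports (C : Set (α → ZMod 2)) := by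
  obtain ⟨v, hv, rfl⟩ := hs
  obtain ⟨w, hw, rfl⟩ := ht
  exact ⟨v + w, C.add_mem hv hw, support₂_add v w⟩

theorem compl_mem_supports (C : Submodule (ZMod 2) (α → ZMod 2)) (h1 : (1 : α → ZMod 2) ∈ C)
    {s : Finset α} (hs : s ∈ supports (C : Set (α → ZMod 2))) :
    sᶜ ∈ supports (C : Set (α → ZMod 2)) := by
  obtain ⟨v, hv, rfl⟩ := hs
  exact ⟨1 + v, C.add_mem h1 hv, support₂_one_add v⟩

theorem empty_mem_supports (C : Submodule (ZMod 2) (α → ZMod 2)) :
    (∅ : Finset α) ∈ supports (C : Set (α → ZMod 2)) :=
  ⟨0, C.zero_mem, support₂_zero⟩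

end Binary

/-! ### The Golay code -/

theorem one_mem_golayCode : (1 : GolayPt → ZMod 2) ∈ golayCode :=
  Submodule.subset_span (Or.inr rfl)

theorem qrWord_mem_golayCode (t : ZMod 23) : qrWord t ∈ golayCode :=
  Submodule.subset_span (Or.inl ⟨t, rfl⟩)

theorem card_golayPt : Fintype.card GolayPt = 24 := by
  simp [GolayPt, Fintype.card_option, ZMod.card]

theorem mem_octads_iff (o : Finset GolayPt) :
    o ∈ octads ↔ o ∈ supports (golayCode : Set (GolayPt → ZMod 2)) ∧ o.card = 8 := Iff.rfl

theorem mem_dodecads_iff (o : Finset GolayPt) :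
    o ∈ dodecads ↔ o ∈ supports (golayCode : Set (GolayPt → ZMod 2)) ∧ o.card = 12 := Iff.rfl

theorem golay_symmDiff {s t : Finset GolayPt}
    (hs : s ∈ supports (golayCode : Set (GolayPt → ZMod 2)))
    (ht : t ∈ supports (golayCode : Set (GolayPt → ZMod 2))) :
    symmDiff s t ∈ supports (golayCode : Set (GolayPt → ZMod 2)) :=
  symmDiff_mem_supports golayCode hs ht

theorem golay_compl {s : Finset GolayPt}
    (hs : s ∈ supports (golayCode : Set (GolayPt → ZMod 2))) :
    sᶜ ∈ supports (golayCode : Set (GolayPt → ZMod 2)) :=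
  compl_mem_supports golayCode one_mem_golayCode hs

/-- The complement of the union of two disjoint octads is an octad. -/
theorem compl_union_mem_octads {o o' : Finset GolayPt} (ho : o ∈ octads) (ho' : o' ∈ octads)
    (hd : Disjoint o o') : (o ∪ o')ᶜ ∈ octads := by
  rw [mem_octads_iff] at ho ho' ⊢
  refine ⟨?_, ?_⟩
  · have h := golay_compl (golay_symmDiff ho.1 ho'.1)
    rwa [hd.symmDiff_eq_sup] at h
  · rw [Finset.card_compl, card_golayPt, Finset.card_union_of_disjoint hd, ho.2, ho'.2]

end Cfsg.Agent.Helper26
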