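import Mathlib
import Cfsg.Prelude.Def_Sporadic_a

/-!
Abstract counting in Steiner systems: the number of blocks through an `i`-set (`i ≤ t`).
-/

set_option autoImplicit false
set_option linter.unusedSectionVars false

namespace Cfsg.Agent.Helper26

open Cfsg

section Steiner

variable {α : Type*} [Fintype α] [DecidableEq α]

/-- The unique block through a `t`-set. -/
noncomputable def blockOf {t k : ℕ} {B : Set (Finset α)} (hB : IsSteinerSystem t k B)
    (s : Finset α) (hs : s.card = t) : Finset α :=
  (hB.2 s hs).choose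

theorem blockOf_mem {t k : ℕ} {B : Set (Finset α)} (hB : IsSteinerSystem t k B)
    (s : Finset α) (hs : s.card = t) : blockOf hB s hs ∈ B :=
  (hB.2 s hs).choose_spec.1.1

theorem subset_blockOf {t k : ℕ} {B : Set (Finset α)} (hB : IsSteinerSystem t k B)
    (s : Finset α) (hs : s.card = t) : s ⊆ blockOf hB s hs :=
  (hB.2 s hs).choose_spec.1.2

theorem eq_blockOf {t k : ℕ} {B : Set (Finset α)} (hB : IsSteinerSystem t k B)
    (s : Finset α) (hs : s.card = t) {b : Finset α} (hb : b ∈ B) (hsb : s ⊆ b) :
    b = blockOf hB s hs :=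
  (hB.2 s hs).choose_spec.2 b ⟨hb, hsb⟩

theorem block_eq_of_subset {t k : ℕ} {B : Set (Finset α)} (hB : IsSteinerSystem t k B)
    (s : Finset α) (hs : s.card = t) {b c : Finset α} (hb : b ∈ B) (hc : c ∈ B)
    (hsb : s ⊆ b) (hsc : s ⊆ c) : b = c := by
  rw [eq_blockOf hB s hs hb hsb, eq_blockOf hB s hs hc hsc]

theorem card_block {t k : ℕ} {B : Set (Finset α)} (hB : IsSteinerSystem t k B)
    {b : Finset α} (hb : b ∈ B) : b.card = k := hB.1 b hb

/-- Two blocks sharing at least `t` points are equal. -/
theorem block_eq_of_le_card_inter {t k : ℕ} {B : Set (Finset α)} (hB : IsSteinerSystem t k B)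
    {b c : Finset α} (hb : b ∈ B) (hc : c ∈ B) (h : t ≤ (b ∩ c).card) : b = c := by
  obtain ⟨s, hs, hst⟩ := Finset.exists_subset_card_eq h
  exact block_eq_of_subset hB s hst hb hc (hs.trans Finset.inter_subset_left)
    (hs.trans Finset.inter_subset_right)

/-- Counting blocks through an `i`-set, `i ≤ t`, in a Steiner system `S(t, k, v)`. -/
theorem card_blocks_through {t k : ℕ} {B : Set (Finset α)} (hB : IsSteinerSystem t k B)
    (I : Finset α) (hI : I.card ≤ t) :
    {b | b ∈ B ∧ I ⊆ b}.ncard * Nat.choose (k - I.card) (t - I.card) =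
      Nat.choose (Fintype.card α - I.card) (t - I.card) := by
  classical
  obtain ⟨T, hT⟩ : ∃ T, T = (Iᶜ).powersetCard (t - I.card) := ⟨_, rfl⟩
  have hmemT : ∀ X, X ∈ T ↔ X ⊆ Iᶜ ∧ X.card = t - I.card := by
    intro X; rw [hT, Finset.mem_powersetCard]
  have hcardX : ∀ X ∈ T, (I ∪ X).card = t := by
    intro X hX
    rw [hmemT] at hX
    have hd : Disjoint I X := by
      rw [Finset.disjoint_left]
      intro a ha haX
      exact (Finset.mem_compl.1 (hX.1 haX)) ha
    rw [Finset.card_union_of_disjoint hd, hX.2]
    omega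
  let f : Finset α → Finset α := fun X =>
    if h : (I ∪ X).card = t then blockOf hB (I ∪ X) h else ∅
  have hf : ∀ X (h : (I ∪ X).card = t), f X = blockOf hB (I ∪ X) h := by
    intro X h
    simp only [f, dif_pos h]
  let Bs : Finset (Finset α) := Finset.univ.filter (fun b => b ∈ B ∧ I ⊆ b)
  have hmaps : ∀ X ∈ T, f X ∈ Bs := by
    intro X hX
    have h := hcardX X hX
    rw [hf X h]
    simp only [Bs, Finset.mem_filter, Finset.mem_univ, true_and]
    exact ⟨blockOf_mem hB _ h, Finset.subset_union_left.trans (subset_blockOf hB _ h)⟩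
  have hfib : ∀ b ∈ Bs, (T.filter (fun X => f X = b)) = (b \ I).powersetCard (t - I.card) := by
    intro b hb
    simp only [Bs, Finset.mem_filter, Finset.mem_univ, true_and] at hb
    ext X
    rw [Finset.mem_filter, Finset.mem_powersetCard]
    constructor
    · rintro ⟨hX, hfX⟩
      have h := hcardX X hX
      rw [hf X h] at hfX
      rw [hmemT] at hX
      refine ⟨?_, hX.2⟩
      intro a ha
      rw [Finset.mem_sdiff]
      refine ⟨?_, Finset.mem_compl.1 (hX.1 ha)⟩
      rw [← hfX]
      exact subset_blockOf hB _ h (Finset.mem_union_right _ ha)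
    · rintro ⟨hXb, hXc⟩
      have hX : X ∈ T := by
        rw [hmemT]
        refine ⟨?_, hXc⟩
        intro a ha
        exact Finset.mem_compl.2 (Finset.mem_sdiff.1 (hXb ha)).2
      refine ⟨hX, ?_⟩
      have h := hcardX X hX
      rw [hf X h]
      symm
      apply eq_blockOf hB _ h hb.1
      exact Finset.union_subset hb.2 (hXb.trans Finset.sdiff_subset)
  have hcount := Finset.card_eq_sum_card_fiberwise (f := f) (s := T) (t := Bs) hmaps
  have hsum : ∑ b ∈ Bs, (T.filter (fun X => f X = b)).card =
      ∑ _b ∈ Bs, Nat.choose (k - I.card) (t - I.card) := by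
    apply Finset.sum_congr rfl
    intro b hb
    rw [hfib b hb, Finset.card_powersetCard]
    simp only [Bs, Finset.mem_filter, Finset.mem_univ, true_and] at hb
    rw [Finset.card_sdiff_of_subset hb.2, card_block hB hb.1]
  rw [hsum, Finset.sum_const, smul_eq_mul] at hcount
  have hTcard : T.card = Nat.choose (Fintype.card α - I.card) (t - I.card) := by
    rw [hT, Finset.card_powersetCard, Finset.card_compl]
  have hn : {b | b ∈ B ∧ I ⊆ b}.ncard = Bs.card := by
    rw [Set.ncard_eq_toFinset_card']
    congr 1
    ext b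
    simp [Bs]
  rw [hn, ← hTcard, hcount]

/-- `S0350`-style: total number of blocks. -/
theorem card_blocks {t k : ℕ} {B : Set (Finset α)} (hB : IsSteinerSystem t k B) :
    B.ncard * Nat.choose k t = Nat.choose (Fintype.card α) t := by
  have h := card_blocks_through hB ∅ (by simp)
  simpa using h

end Steiner

end Cfsg.Agent.Helper26
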