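import Mathlib
import Cfsg.Prelude.Def_Sporadic_a
import Cfsg.Agent.Helper26.Steiner

/-!
The intersection equations of a Steiner system (the "intersection triangle"):
for a block `b` and `i ≤ t`,
`∑_j #{c ∈ B | |c ∩ b| = j} * C(j, i) = C(k, i) * λ_i`.
-/

set_option autoImplicit false
set_option linter.unusedSectionVars false

namespace Cfsg.Agent.Helper26

open Cfsg

section

variable {α : Type*} [Fintype α] [DecidableEq α]

/-- number of blocks meeting `b` in exactly `j` points -/
noncomputable def meetCount (B : Set (Finset α)) (b : Finset α) (j : ℕ) : ℕ :=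
  {c | c ∈ B ∧ (c ∩ b).card = j}.ncard

theorem meetCount_eq_card_filter (B : Set (Finset α)) [DecidablePred (· ∈ B)] (b : Finset α)
    (j : ℕ) :
    meetCount B b j = ((Finset.univ.filter (· ∈ B)).filter (fun c => (c ∩ b).card = j)).card := by
  unfold meetCount
  rw [← Set.ncard_coe_finset]
  congr 1
  ext c
  simp

theorem meetCount_eq_zero_iff (B : Set (Finset α)) (b : Finset α) (j : ℕ) :
    meetCount B b j = 0 ↔ ∀ c ∈ B, (c ∩ b).card ≠ j := by
  unfold meetCount
  rw [Set.ncard_eq_zero (Set.toFinite _), Set.eq_empty_iff_forall_notMem]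
  constructor
  · intro h c hc hj
    exact h c ⟨hc, hj⟩
  · rintro h c ⟨hc, hj⟩
    exact h c hc hj

/-- double counting: pairs (`i`-subset `I` of `Y`, member `c ⊇ I`) -/
theorem sum_choose_inter' (Bf : Finset (Finset α)) (Y : Finset α) (i : ℕ) :
    ∑ c ∈ Bf, (c ∩ Y).card.choose i = ∑ I ∈ Y.powersetCard i, (Bf.filter fun c => I ⊆ c).card := by
  have h := Finset.sum_card_bipartiteAbove_eq_sum_card_bipartiteBelow (s := Y.powersetCard i)
    (t := Bf) (r := fun I c => I ⊆ c)
  have h1 : ∑ I ∈ Y.powersetCard i, (Bf.filter fun c => I ⊆ c).card =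
      ∑ I ∈ Y.powersetCard i, (Bf.bipartiteAbove (fun I c => I ⊆ c) I).card := rfl
  rw [h1, h]
  refine Finset.sum_congr rfl fun c _ => ?_
  have : (Y.powersetCard i).bipartiteBelow (fun I c => I ⊆ c) c = (c ∩ Y).powersetCard i := by
    unfold Finset.bipartiteBelow
    ext I
    simp only [Finset.mem_filter, Finset.mem_powersetCard, Finset.subset_inter_iff]
    tauto
  rw [this, Finset.card_powersetCard]

theorem sum_fiber_inter' (Bf : Finset (Finset α)) (Y : Finset α) (g : ℕ → ℕ) :
    ∑ c ∈ Bf, g (c ∩ Y).card =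
      ∑ j ∈ Finset.range (Y.card + 1), (Bf.filter fun c => (c ∩ Y).card = j).card * g j := by
  rw [← Finset.sum_fiberwise_of_maps_to (s := Bf) (t := Finset.range (Y.card + 1))
    (g := fun c => (c ∩ Y).card) (f := fun c => g (c ∩ Y).card)]
  · refine Finset.sum_congr rfl fun j _ => ?_
    rw [Finset.sum_congr rfl (g := fun _ => g j), Finset.sum_const, smul_eq_mul]
    intro c hc
    rw [(Finset.mem_filter.mp hc).2]
  · intro c _
    have := Finset.card_le_card (Finset.inter_subset_right (s₁ := c) (s₂ := Y))
    simp only [Finset.mem_range]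
    omega

/-- The intersection equations. -/
theorem inter_equation {t k : ℕ} {B : Set (Finset α)} (hB : IsSteinerSystem t k B)
    {b : Finset α} (hb : b ∈ B) (i : ℕ) (hi : i ≤ t) :
    (∑ j ∈ Finset.range (k + 1), meetCount B b j * j.choose i) * (k - i).choose (t - i) =
      k.choose i * (Fintype.card α - i).choose (t - i) := by
  classical
  have hbk : b.card = k := hB.1 b hb
  set Bf : Finset (Finset α) := Finset.univ.filter (· ∈ B) with hBf
  have h1 : ∑ j ∈ Finset.range (k + 1), meetCount B b j * j.choose i =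
      ∑ c ∈ Bf, (c ∩ b).card.choose i := by
    rw [sum_fiber_inter' Bf b (fun j => j.choose i), hbk]
    refine Finset.sum_congr rfl fun j _ => ?_
    rw [meetCount_eq_card_filter]
  rw [h1, sum_choose_inter', Finset.sum_mul]
  have h2 : ∀ I ∈ b.powersetCard i, (Bf.filter fun c => I ⊆ c).card * (k - i).choose (t - i) =
      (Fintype.card α - i).choose (t - i) := by
    intro I hI
    rw [Finset.mem_powersetCard] at hI
    have h3 := card_blocks_through hB I (by rw [hI.2]; exact hi)
    rw [hI.2] at h3
    rw [← h3]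
    congr 1
    rw [← Set.ncard_coe_finset]
    congr 1
    ext c
    simp [hBf]
  rw [Finset.sum_congr rfl h2, Finset.sum_const, Finset.card_powersetCard, hbk, smul_eq_mul]

theorem meetCount_self {t k : ℕ} {B : Set (Finset α)} (hB : IsSteinerSystem t k B)
    {b : Finset α} (hb : b ∈ B) : meetCount B b k = 1 := by
  unfold meetCount
  rw [Set.ncard_eq_one]
  refine ⟨b, ?_⟩
  ext c
  simp only [Set.mem_ofPred_eq, Set.mem_singleton_iff]
  constructor
  · rintro ⟨hc, hj⟩
    have hck : c.card = k := hB.1 c hc
    have hbk : b.card = k := hB.1 b hb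
    have h1 : c ∩ b = c := Finset.eq_of_subset_of_card_le Finset.inter_subset_left (by omega)
    have h2 : c ⊆ b := by rw [← h1]; exact Finset.inter_subset_right
    exact Finset.eq_of_subset_of_card_le h2 (by omega)
  · rintro rfl
    exact ⟨hb, by rw [Finset.inter_self]; exact hB.1 c hb⟩

theorem meetCount_eq_zero_of_le {t k : ℕ} {B : Set (Finset α)} (hB : IsSteinerSystem t k B)
    {b : Finset α} (hb : b ∈ B) {j : ℕ} (htj : t ≤ j) (hjk : j ≠ k) : meetCount B b j = 0 := by
  rw [meetCount_eq_zero_iff]
  intro c hc hj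
  have : c = b := block_eq_of_le_card_inter hB hc hb (by omega)
  subst this
  rw [Finset.inter_self, hB.1 c hc] at hj
  exact hjk hj.symm

/-- The block intersection numbers of an `S(5,8,24)`. -/
theorem meetCount_5_8_24 (hα : Fintype.card α = 24) {B : Set (Finset α)}
    (hB : IsSteinerSystem 5 8 B) {b : Finset α} (hb : b ∈ B) :
    meetCount B b 0 = 30 ∧ meetCount B b 1 = 0 ∧ meetCount B b 2 = 448 ∧ meetCount B b 3 = 0 ∧
      meetCount B b 4 = 280 := by
  have e0 := inter_equation hB hb 0 (by norm_num)
  have e1 := inter_equation hB hb 1 (by norm_num)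
  have e2 := inter_equation hB hb 2 (by norm_num)
  have e3 := inter_equation hB hb 3 (by norm_num)
  have e4 := inter_equation hB hb 4 (by norm_num)
  have h8 := meetCount_self hB hb
  have h5 := meetCount_eq_zero_of_le hB hb (j := 5) (by norm_num) (by norm_num)
  have h6 := meetCount_eq_zero_of_le hB hb (j := 6) (by norm_num) (by norm_num)
  have h7 := meetCount_eq_zero_of_le hB hb (j := 7) (by norm_num) (by norm_num)
  rw [hα] at e0 e1 e2 e3 e4
  simp only [Finset.sum_range_succ, Finset.sum_range_zero, h5, h6, h7, h8] at e0 e1 e2 e3 e4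
  norm_num [Nat.choose] at e0 e1 e2 e3 e4
  omega

/-- The block intersection numbers of an `S(4,7,23)`. -/
theorem meetCount_4_7_23 (hα : Fintype.card α = 23) {B : Set (Finset α)}
    (hB : IsSteinerSystem 4 7 B) {b : Finset α} (hb : b ∈ B) :
    meetCount B b 0 = 0 ∧ meetCount B b 1 = 112 ∧ meetCount B b 2 = 0 ∧ meetCount B b 3 = 140 := by
  have e0 := inter_equation hB hb 0 (by norm_num)
  have e1 := inter_equation hB hb 1 (by norm_num)
  have e2 := inter_equation hB hb 2 (by norm_num)
  have e3 := inter_equation hB hb 3 (by norm_num)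
  have h7 := meetCount_self hB hb
  have h4 := meetCount_eq_zero_of_le hB hb (j := 4) (by norm_num) (by norm_num)
  have h5 := meetCount_eq_zero_of_le hB hb (j := 5) (by norm_num) (by norm_num)
  have h6 := meetCount_eq_zero_of_le hB hb (j := 6) (by norm_num) (by norm_num)
  rw [hα] at e0 e1 e2 e3
  simp only [Finset.sum_range_succ, Finset.sum_range_zero, h4, h5, h6, h7] at e0 e1 e2 e3
  norm_num [Nat.choose] at e0 e1 e2 e3
  omega

/-- The block intersection numbers of an `S(3,6,22)`. -/
theorem meetCount_3_6_22 (hα : Fintype.card α = 22) {B : Set (Finset α)}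
    (hB : IsSteinerSystem 3 6 B) {b : Finset α} (hb : b ∈ B) :
    meetCount B b 0 = 16 ∧ meetCount B b 1 = 0 ∧ meetCount B b 2 = 60 := by
  have e0 := inter_equation hB hb 0 (by norm_num)
  have e1 := inter_equation hB hb 1 (by norm_num)
  have e2 := inter_equation hB hb 2 (by norm_num)
  have h6 := meetCount_self hB hb
  have h3 := meetCount_eq_zero_of_le hB hb (j := 3) (by norm_num) (by norm_num)
  have h4 := meetCount_eq_zero_of_le hB hb (j := 4) (by norm_num) (by norm_num)
  have h5 := meetCount_eq_zero_of_le hB hb (j := 5) (by norm_num) (by norm_num)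
  rw [hα] at e0 e1 e2
  simp only [Finset.sum_range_succ, Finset.sum_range_zero, h3, h4, h5, h6] at e0 e1 e2
  norm_num [Nat.choose] at e0 e1 e2
  omega

/-- The block intersection numbers of an `S(5,6,12)`. -/
theorem meetCount_5_6_12 (hα : Fintype.card α = 12) {B : Set (Finset α)}
    (hB : IsSteinerSystem 5 6 B) {b : Finset α} (hb : b ∈ B) :
    meetCount B b 0 = 1 ∧ meetCount B b 1 = 0 ∧ meetCount B b 2 = 45 ∧ meetCount B b 3 = 40 ∧
      meetCount B b 4 = 45 := by
  have e0 := inter_equation hB hb 0 (by norm_num)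
  have e1 := inter_equation hB hb 1 (by norm_num)
  have e2 := inter_equation hB hb 2 (by norm_num)
  have e3 := inter_equation hB hb 3 (by norm_num)
  have e4 := inter_equation hB hb 4 (by norm_num)
  have h6 := meetCount_self hB hb
  have h5 := meetCount_eq_zero_of_le hB hb (j := 5) (by norm_num) (by norm_num)
  rw [hα] at e0 e1 e2 e3 e4
  simp only [Finset.sum_range_succ, Finset.sum_range_zero, h5, h6] at e0 e1 e2 e3 e4
  norm_num [Nat.choose] at e0 e1 e2 e3 e4
  omega

/-- If no block meets `b` in exactly `j` points for `j` in a list of excluded sizes... generic helper: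
the intersection size of two blocks is at most `k`. -/
theorem card_inter_le {t k : ℕ} {B : Set (Finset α)} (hB : IsSteinerSystem t k B)
    {b c : Finset α} (hc : c ∈ B) : (c ∩ b).card ≤ k := by
  have := Finset.card_le_card (Finset.inter_subset_left (s₁ := c) (s₂ := b))
  rw [hB.1 c hc] at this
  exact this

theorem ne_of_meetCount_eq_zero {B : Set (Finset α)} {b c : Finset α} {j : ℕ}
    (h : meetCount B b j = 0) (hc : c ∈ B) : (c ∩ b).card ≠ j :=
  (meetCount_eq_zero_iff B b j).1 h c hc

end

end Cfsg.Agent.Helper26
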