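import Cfsg.Agent.Helper7.M24Trans

/-!
# Homogeneity consequences of the 5-transitivity of `M24`

`exists_map_list`: any two duplicate-free lists of at most 5 points of equal length are related by an
element of `M24`.  `exists_smul_three`: three pairwise disjoint sets can be moved to three pairwise
disjoint sets of the same sizes if there are at most 5 points in all.  `exists_smul_pair`: the
stabiliser of `s` moves `y` to `y'` as soon as `|y| = |y'|`, `|s ∩ y| = |s ∩ y'|` and
`|s ∪ y| ≤ 5`.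
-/

set_option autoImplicit false

namespace Cfsg.Agent.Helper26

open Cfsg
open scoped Pointwise

theorem exists_map_list (l m : List GolayPt) (hl : l.Nodup) (hm : m.Nodup)
    (hlen : l.length = m.length) (h5 : l.length ≤ 5) : ∃ g ∈ M24, l.map (⇑g) = m := by
  have := Helper7.m24_five_transitive
  have : MulAction.IsMultiplyPretransitive M24 GolayPt l.length :=
    MulAction.isMultiplyPretransitive_of_le h5 (by
      rw [Nat.card_eq_fintype_card]
      decide)
  let x : Fin l.length ↪ GolayPt := ⟨fun i => l.get i, List.nodup_iff_injective_get.1 hl⟩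
  let y : Fin l.length ↪ GolayPt := ⟨fun i => m.get (i.cast hlen), fun i j h => by
    have := List.nodup_iff_injective_get.1 hm h
    exact Fin.cast_injective _ this⟩
  obtain ⟨g, hg⟩ := MulAction.exists_smul_eq M24 x y
  refine ⟨g.1, g.2, ?_⟩
  apply List.ext_getElem (by simp [hlen])
  intro i h1 h2
  have h1' : i < l.length := by simpa using h1
  have := congrArg (fun f : Fin l.length ↪ GolayPt => f ⟨i, h1'⟩) hg
  simp only [List.getElem_map]
  exact this

theorem smul_eq_toFinset_map (g : Equiv.Perm GolayPt) (A : Finset GolayPt) :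
    g • A = (A.toList.map (⇑g)).toFinset := by
  ext p
  simp [Finset.mem_smul_finset]

theorem exists_smul_three (A₁ A₂ A₃ B₁ B₂ B₃ : Finset GolayPt)
    (hA₁₂ : Disjoint A₁ A₂) (hA₁₃ : Disjoint A₁ A₃) (hA₂₃ : Disjoint A₂ A₃)
    (hB₁₂ : Disjoint B₁ B₂) (hB₁₃ : Disjoint B₁ B₃) (hB₂₃ : Disjoint B₂ B₃)
    (h₁ : A₁.card = B₁.card) (h₂ : A₂.card = B₂.card) (h₃ : A₃.card = B₃.card)
    (h5 : A₁.card + A₂.card + A₃.card ≤ 5) :
    ∃ g ∈ M24, g • A₁ = B₁ ∧ g • A₂ = B₂ ∧ g • A₃ = B₃ := by
  have hnd : ∀ X₁ X₂ X₃ : Finset GolayPt, Disjoint X₁ X₂ → Disjoint X₁ X₃ → Disjoint X₂ X₃ →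
      (X₁.toList ++ (X₂.toList ++ X₃.toList)).Nodup := by
    intro X₁ X₂ X₃ h12 h13 h23
    rw [List.nodup_append, List.nodup_append]
    refine ⟨Finset.nodup_toList _, ⟨Finset.nodup_toList _, Finset.nodup_toList _, ?_⟩, ?_⟩
    · intro a ha b hb hab
      subst hab
      exact Finset.disjoint_left.1 h23 (Finset.mem_toList.1 ha) (Finset.mem_toList.1 hb)
    · intro a ha b hb hab
      subst hab
      rcases List.mem_append.1 hb with hb | hb
      · exact Finset.disjoint_left.1 h12 (Finset.mem_toList.1 ha) (Finset.mem_toList.1 hb)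
      · exact Finset.disjoint_left.1 h13 (Finset.mem_toList.1 ha) (Finset.mem_toList.1 hb)
  obtain ⟨g, hg, hmap⟩ := exists_map_list (A₁.toList ++ (A₂.toList ++ A₃.toList))
    (B₁.toList ++ (B₂.toList ++ B₃.toList)) (hnd _ _ _ hA₁₂ hA₁₃ hA₂₃) (hnd _ _ _ hB₁₂ hB₁₃ hB₂₃)
    (by simp [h₁, h₂, h₃]) (by simp; omega)
  rw [List.map_append, List.map_append] at hmap
  obtain ⟨e₁, e₂₃⟩ := List.append_inj hmap (by simp [h₁])
  obtain ⟨e₂, e₃⟩ := List.append_inj e₂₃ (by simp [h₂])
  refine ⟨g, hg, ?_, ?_, ?_⟩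
  · rw [smul_eq_toFinset_map, e₁, Finset.toList_toFinset]
  · rw [smul_eq_toFinset_map, e₂, Finset.toList_toFinset]
  · rw [smul_eq_toFinset_map, e₃, Finset.toList_toFinset]

theorem exists_smul_eq_of_card (s y : Finset GolayPt) (h : s.card = y.card) (h5 : s.card ≤ 5) :
    ∃ g ∈ M24, g • s = y := by
  obtain ⟨g, hg, h1, -, -⟩ := exists_smul_three s ∅ ∅ y ∅ ∅ (by simp) (by simp) (by simp)
    (by simp) (by simp) (by simp) h rfl rfl (by simpa using h5)
  exact ⟨g, hg, h1⟩

theorem exists_smul_pair (s y y' : Finset GolayPt) (hy : y.card = y'.card)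
    (hc : (s ∩ y).card = (s ∩ y').card) (h5 : s.card + y.card ≤ 5 + (s ∩ y).card) :
    ∃ g ∈ M24, g • s = s ∧ g • y = y' := by
  have e1 : ∀ z : Finset GolayPt, (s \ z).card = s.card - (s ∩ z).card := fun z => by
    rw [← Finset.card_sdiff_add_card_inter s z]; omega
  have e2 : ∀ z : Finset GolayPt, (z \ s).card = z.card - (s ∩ z).card := fun z => by
    rw [← Finset.card_sdiff_add_card_inter z s, Finset.inter_comm s z]; omega
  have hle : (s ∩ y).card ≤ s.card := Finset.card_le_card Finset.inter_subset_left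
  have hle' : (s ∩ y).card ≤ y.card := Finset.card_le_card Finset.inter_subset_right
  obtain ⟨g, hg, h1, h2, h3⟩ := exists_smul_three (s ∩ y) (s \ y) (y \ s) (s ∩ y') (s \ y') (y' \ s)
    (by
      rw [Finset.disjoint_left]; intro a ha hb
      exact (Finset.mem_sdiff.1 hb).2 (Finset.mem_inter.1 ha).2)
    (by
      rw [Finset.disjoint_left]; intro a ha hb
      exact (Finset.mem_sdiff.1 hb).2 (Finset.mem_inter.1 ha).1)
    (by
      rw [Finset.disjoint_left]; intro a ha hb
      exact (Finset.mem_sdiff.1 hb).2 (Finset.mem_sdiff.1 ha).1)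
    (by
      rw [Finset.disjoint_left]; intro a ha hb
      exact (Finset.mem_sdiff.1 hb).2 (Finset.mem_inter.1 ha).2)
    (by
      rw [Finset.disjoint_left]; intro a ha hb
      exact (Finset.mem_sdiff.1 hb).2 (Finset.mem_inter.1 ha).1)
    (by
      rw [Finset.disjoint_left]; intro a ha hb
      exact (Finset.mem_sdiff.1 hb).2 (Finset.mem_sdiff.1 ha).1)
    hc (by rw [e1, e1, hc]) (by rw [e2, e2, hc, hy])
    (by rw [e1, e2]; omega)
  refine ⟨g, hg, ?_, ?_⟩
  · have hs : ∀ z : Finset GolayPt, (s ∩ z) ∪ (s \ z) = s := fun z => by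
      ext a; simp only [Finset.mem_union, Finset.mem_inter, Finset.mem_sdiff]; tauto
    calc g • s = g • ((s ∩ y) ∪ (s \ y)) := by rw [hs]
      _ = (s ∩ y') ∪ (s \ y') := by rw [Finset.smul_finset_union, h1, h2]
      _ = s := hs y'
  · have hs : ∀ z : Finset GolayPt, (s ∩ z) ∪ (z \ s) = z := fun z => by
      ext a; simp only [Finset.mem_union, Finset.mem_inter, Finset.mem_sdiff]; tauto
    calc g • y = g • ((s ∩ y) ∪ (y \ s)) := by rw [hs]
      _ = (s ∩ y') ∪ (y' \ s) := by rw [Finset.smul_finset_union, h1, h3]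
      _ = y' := hs y'

end Cfsg.Agent.Helper26
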