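import Mathlib
import Cfsg.Prelude.Def_SporadicCombinatorics
import Cfsg.Agent.Helper26.GolayAbs
import Cfsg.Agent.Helper26.Steiner

/-!
Sextet theory, derived abstractly from `IsSteinerSystem 5 8 octads` and linearity of the code.
-/

set_option autoImplicit false
set_option linter.unusedSectionVars false

namespace Cfsg.Agent.Helper26

open Cfsg

/-- two octads meeting in exactly four points have an octad as symmetric difference -/
theorem symmDiff_mem_octads {o o' : Finset GolayPt} (ho : o ∈ octads) (ho' : o' ∈ octads)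
    (h4 : (o ∩ o').card = 4) : symmDiff o o' ∈ octads := by
  rw [mem_octads_iff] at ho ho' ⊢
  refine ⟨golay_symmDiff ho.1 ho'.1, ?_⟩
  have h1 : symmDiff o o' = (o \ o') ∪ (o' \ o) := rfl
  have hd : Disjoint (o \ o') (o' \ o) := by
    rw [Finset.disjoint_left]
    intro a ha hb
    exact (Finset.mem_sdiff.1 hb).2 (Finset.mem_sdiff.1 ha).1
  rw [h1, Finset.card_union_of_disjoint hd]
  have h2 := Finset.card_sdiff_add_card_inter o o'
  have h3 := Finset.card_sdiff_add_card_inter o' o
  rw [Finset.inter_comm] at h3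
  omega

section

variable (hS : IsSteinerSystem 5 8 octads)
include hS

/-- The octad through a tetrad `t` and a further point `p`. -/
noncomputable def octOf (t : Finset GolayPt) (p : GolayPt) : Finset GolayPt :=
  if h : (insert p t).card = 5 then blockOf hS (insert p t) h else ∅

/-- The tetrad of the sextet of `t` through the point `p`. -/
noncomputable def tetOf (t : Finset GolayPt) (p : GolayPt) : Finset GolayPt :=
  octOf hS t p \ t

variable {t : Finset GolayPt} (ht : t.card = 4)
include ht

theorem card_insert_tet {p : GolayPt} (hp : p ∉ t) : (insert p t).card = 5 := by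
  rw [Finset.card_insert_of_notMem hp, ht]

theorem octOf_eq {p : GolayPt} (hp : p ∉ t) :
    octOf hS t p = blockOf hS (insert p t) (card_insert_tet hS ht hp) := by
  unfold octOf
  rw [dif_pos (card_insert_tet hS ht hp)]

theorem octOf_mem {p : GolayPt} (hp : p ∉ t) : octOf hS t p ∈ octads := by
  rw [octOf_eq hS ht hp]; exact blockOf_mem hS _ _

theorem insert_subset_octOf {p : GolayPt} (hp : p ∉ t) : insert p t ⊆ octOf hS t p := by
  rw [octOf_eq hS ht hp]; exact subset_blockOf hS _ _

theorem subset_octOf {p : GolayPt} (hp : p ∉ t) : t ⊆ octOf hS t p :=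
  (Finset.subset_insert p t).trans (insert_subset_octOf hS ht hp)

theorem mem_octOf {p : GolayPt} (hp : p ∉ t) : p ∈ octOf hS t p :=
  insert_subset_octOf hS ht hp (Finset.mem_insert_self p t)

theorem card_octOf {p : GolayPt} (hp : p ∉ t) : (octOf hS t p).card = 8 :=
  hS.1 _ (octOf_mem hS ht hp)

theorem eq_octOf {p : GolayPt} (hp : p ∉ t) {o : Finset GolayPt} (ho : o ∈ octads)
    (hto : t ⊆ o) (hpo : p ∈ o) : o = octOf hS t p := by
  rw [octOf_eq hS ht hp]
  apply eq_blockOf hS _ _ ho
  exact Finset.insert_subset hpo hto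

theorem card_tetOf {p : GolayPt} (hp : p ∉ t) : (tetOf hS t p).card = 4 := by
  unfold tetOf
  rw [Finset.card_sdiff_of_subset (subset_octOf hS ht hp), card_octOf hS ht hp, ht]

theorem mem_tetOf {p : GolayPt} (hp : p ∉ t) : p ∈ tetOf hS t p :=
  Finset.mem_sdiff.2 ⟨mem_octOf hS ht hp, hp⟩

theorem disjoint_tetOf (p : GolayPt) : Disjoint t (tetOf hS t p) := by
  unfold tetOf
  exact Finset.disjoint_sdiff

theorem union_tetOf {p : GolayPt} (hp : p ∉ t) : t ∪ tetOf hS t p = octOf hS t p := by
  unfold tetOf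
  exact Finset.union_sdiff_of_subset (subset_octOf hS ht hp)

theorem notMem_of_mem_tetOf {p q : GolayPt} (hq : q ∈ tetOf hS t p) : q ∉ t :=
  (Finset.mem_sdiff.1 hq).2

theorem octOf_eq_of_mem_tetOf {p q : GolayPt} (hp : p ∉ t) (hq : q ∈ tetOf hS t p) :
    octOf hS t q = octOf hS t p := by
  have hqt : q ∉ t := notMem_of_mem_tetOf hS ht hq
  symm
  exact eq_octOf hS ht hqt (octOf_mem hS ht hp) (subset_octOf hS ht hp)
    (Finset.mem_sdiff.1 hq).1

theorem tetOf_eq_of_mem_tetOf {p q : GolayPt} (hp : p ∉ t) (hq : q ∈ tetOf hS t p) :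
    tetOf hS t q = tetOf hS t p := by
  unfold tetOf
  rw [octOf_eq_of_mem_tetOf hS ht hp hq]

theorem octOf_ne_of_tetOf_ne {p q : GolayPt} (h : tetOf hS t p ≠ tetOf hS t q) :
    octOf hS t p ≠ octOf hS t q := by
  intro h'
  apply h
  unfold tetOf
  rw [h']

theorem disjoint_tetOf_tetOf {p q : GolayPt} (hp : p ∉ t) (hq : q ∉ t)
    (h : tetOf hS t p ≠ tetOf hS t q) : Disjoint (tetOf hS t p) (tetOf hS t q) := by
  rw [Finset.disjoint_left]
  intro r hrp hrq
  apply h
  rw [← tetOf_eq_of_mem_tetOf hS ht hp hrp, ← tetOf_eq_of_mem_tetOf hS ht hq hrq]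

theorem octOf_inter_octOf {p q : GolayPt} (hp : p ∉ t) (hq : q ∉ t)
    (h : tetOf hS t p ≠ tetOf hS t q) : octOf hS t p ∩ octOf hS t q = t := by
  rw [← union_tetOf hS ht hp, ← union_tetOf hS ht hq, ← Finset.union_inter_distrib_left,
    Finset.disjoint_iff_inter_eq_empty.1 (disjoint_tetOf_tetOf hS ht hp hq h), Finset.union_empty]

theorem tetOf_union_tetOf_mem {p q : GolayPt} (hp : p ∉ t) (hq : q ∉ t)
    (h : tetOf hS t p ≠ tetOf hS t q) : tetOf hS t p ∪ tetOf hS t q ∈ octads := by
  have h1 := symmDiff_mem_octads (octOf_mem hS ht hp) (octOf_mem hS ht hq)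
    (by rw [octOf_inter_octOf hS ht hp hq h, ht])
  have h2 : symmDiff (octOf hS t p) (octOf hS t q) = tetOf hS t p ∪ tetOf hS t q := by
    ext a
    rw [Finset.mem_symmDiff, Finset.mem_union]
    have hi := octOf_inter_octOf hS ht hp hq h
    have hmem : a ∈ t ↔ a ∈ octOf hS t p ∧ a ∈ octOf hS t q := by
      rw [← Finset.mem_inter, hi]
    unfold tetOf
    rw [Finset.mem_sdiff, Finset.mem_sdiff]
    tauto
  rwa [h2] at h1

/-- The five "other" tetrads. -/
noncomputable def otherTets (t : Finset GolayPt) : Finset (Finset GolayPt) :=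
  (tᶜ).image (tetOf hS t)

theorem mem_otherTets {u : Finset GolayPt} :
    u ∈ otherTets hS t ↔ ∃ p, p ∉ t ∧ tetOf hS t p = u := by
  unfold otherTets
  rw [Finset.mem_image]
  constructor
  · rintro ⟨p, hp, rfl⟩; exact ⟨p, Finset.mem_compl.1 hp, rfl⟩
  · rintro ⟨p, hp, rfl⟩; exact ⟨p, Finset.mem_compl.2 hp, rfl⟩

theorem card_otherTets : (otherTets hS t).card = 5 := by
  have hdisj : ∀ u ∈ otherTets hS t, ∀ v ∈ otherTets hS t, u ≠ v →
      Disjoint (id u) (id v) := by
    intro u hu v hv huv
    obtain ⟨p, hp, rfl⟩ := (mem_otherTets hS ht).1 hu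
    obtain ⟨q, hq, rfl⟩ := (mem_otherTets hS ht).1 hv
    exact disjoint_tetOf_tetOf hS ht hp hq huv
  have hunion : (otherTets hS t).biUnion id = tᶜ := by
    ext a
    rw [Finset.mem_biUnion, Finset.mem_compl]
    constructor
    · rintro ⟨u, hu, hau⟩
      obtain ⟨p, hp, rfl⟩ := (mem_otherTets hS ht).1 hu
      exact notMem_of_mem_tetOf hS ht hau
    · intro ha
      exact ⟨tetOf hS t a, (mem_otherTets hS ht).2 ⟨a, ha, rfl⟩, mem_tetOf hS ht ha⟩
  have h1 := Finset.card_biUnion hdisj
  rw [hunion, Finset.card_compl, card_golayPt, ht] at h1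
  have h2 : ∑ u ∈ otherTets hS t, (id u).card = ∑ _u ∈ otherTets hS t, 4 := by
    apply Finset.sum_congr rfl
    intro u hu
    obtain ⟨p, hp, rfl⟩ := (mem_otherTets hS ht).1 hu
    exact card_tetOf hS ht hp
  rw [h2, Finset.sum_const, smul_eq_mul] at h1
  omega

theorem notMem_otherTets : t ∉ otherTets hS t := by
  intro h
  obtain ⟨p, hp, he⟩ := (mem_otherTets hS ht).1 h
  have := mem_tetOf hS ht hp
  rw [he] at this
  exact hp this

/-- The sextet determined by a tetrad. -/
noncomputable def sextetOf (t : Finset GolayPt) : Finset (Finset GolayPt) :=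
  insert t (otherTets hS t)

theorem self_mem_sextetOf : t ∈ sextetOf hS t := Finset.mem_insert_self _ _

theorem sextetOf_mem : sextetOf hS t ∈ sextets := by
  refine ⟨?_, ?_, ?_⟩
  · unfold sextetOf
    rw [Finset.card_insert_of_notMem (notMem_otherTets hS ht), card_otherTets hS ht]
  · intro u hu
    rcases Finset.mem_insert.1 hu with rfl | hu
    · exact ht
    · obtain ⟨p, hp, rfl⟩ := (mem_otherTets hS ht).1 hu
      exact card_tetOf hS ht hp
  · intro u hu v hv huv
    rcases Finset.mem_insert.1 hu with rfl | hu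
    · rcases Finset.mem_insert.1 hv with rfl | hv
      · exact absurd rfl huv
      · obtain ⟨p, hp, rfl⟩ := (mem_otherTets hS ht).1 hv
        rw [union_tetOf hS ht hp]
        exact octOf_mem hS ht hp
    · obtain ⟨p, hp, rfl⟩ := (mem_otherTets hS ht).1 hu
      rcases Finset.mem_insert.1 hv with rfl | hv
      · rw [Finset.union_comm, union_tetOf hS ht hp]
        exact octOf_mem hS ht hp
      · obtain ⟨q, hq, rfl⟩ := (mem_otherTets hS ht).1 hv
        exact tetOf_union_tetOf_mem hS ht hp hq huv

theorem sextet_unique {S : Finset (Finset GolayPt)} (hSx : S ∈ sextets) (htS : t ∈ S) :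
    S = sextetOf hS t := by
  obtain ⟨hc, h4, hu⟩ := hSx
  have hsub : S ⊆ sextetOf hS t := by
    intro u huS
    by_cases hut : u = t
    · rw [hut]; exact self_mem_sextetOf hS ht
    · apply Finset.mem_insert_of_mem
      have hoct : t ∪ u ∈ octads := hu t htS u huS (Ne.symm hut)
      have hcard : (t ∪ u).card = 8 := hS.1 _ hoct
      have hu4 : u.card = 4 := h4 u huS
      have hdisj : Disjoint t u := by
        rw [← Finset.card_union_eq_card_add_card, hcard, ht, hu4]
      have hne : u.Nonempty := by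
        rw [← Finset.card_pos, hu4]; norm_num
      obtain ⟨p, hp⟩ := hne
      have hpt : p ∉ t := fun h => (Finset.disjoint_left.1 hdisj) h hp
      rw [mem_otherTets hS ht]
      refine ⟨p, hpt, ?_⟩
      have h1 : t ∪ u = octOf hS t p :=
        eq_octOf hS ht hpt hoct Finset.subset_union_left (Finset.mem_union_right _ hp)
      unfold tetOf
      rw [← h1, Finset.union_sdiff_cancel_left hdisj]
  apply Finset.eq_of_subset_of_card_le hsub
  rw [hc]
  have := (sextetOf_mem hS ht).1
  omega

omit ht in
/-- The number of sextets. -/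
theorem card_sextets : sextets.ncard = 1771 := by
  classical
  let Sx : Finset (Finset (Finset GolayPt)) := Finset.univ.filter (fun S => S ∈ sextets)
  let T : Finset (Finset GolayPt) := (Finset.univ : Finset GolayPt).powersetCard 4
  have hTmem : ∀ t, t ∈ T ↔ t.card = 4 := by
    intro t; simp [T, Finset.mem_powersetCard]
  have hmaps : ∀ t ∈ T, sextetOf hS t ∈ Sx := by
    intro t ht
    simp only [Sx, Finset.mem_filter, Finset.mem_univ, true_and]
    exact sextetOf_mem hS ((hTmem t).1 ht)
  have hfib : ∀ S ∈ Sx, T.filter (fun t => sextetOf hS t = S) = S := by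
    intro S hSx
    simp only [Sx, Finset.mem_filter, Finset.mem_univ, true_and] at hSx
    ext t
    rw [Finset.mem_filter, hTmem]
    constructor
    · rintro ⟨ht, rfl⟩
      exact self_mem_sextetOf hS ht
    · intro htS
      have ht : t.card = 4 := hSx.2.1 t htS
      exact ⟨ht, (sextet_unique hS ht hSx htS).symm⟩
  have hcount := Finset.card_eq_sum_card_fiberwise (f := sextetOf hS) (s := T) (t := Sx) hmaps
  have hsum : ∑ S ∈ Sx, (T.filter (fun t => sextetOf hS t = S)).card = ∑ _S ∈ Sx, 6 := by
    apply Finset.sum_congr rfl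
    intro S hSx
    rw [hfib S hSx]
    simp only [Sx, Finset.mem_filter, Finset.mem_univ, true_and] at hSx
    exact hSx.1
  rw [hsum, Finset.sum_const, smul_eq_mul] at hcount
  have hT : T.card = 10626 := by
    simp only [T, Finset.card_powersetCard, Finset.card_univ, card_golayPt]
    decide +kernel
  have hn : sextets.ncard = Sx.card := by
    have : sextets = (↑Sx : Set (Finset (Finset GolayPt))) := by
      ext S
      simp only [Sx, Finset.coe_filter, Finset.mem_univ, true_and, Set.mem_ofPred_eq]
    rw [this, Set.ncard_coe_finset]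
  rw [hn]
  omega

end

end Cfsg.Agent.Helper26
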