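import Mathlib
import Cfsg.Prelude.Def_SporadicCombinatorics
import Cfsg.Agent.Helper26.GolayAbs
import Cfsg.Agent.Helper26.Steiner
import Cfsg.Agent.Helper26.Steiner2
import Cfsg.Agent.Helper26.Sextet

/-!
Bottom row of the Leech triangle: octads meeting a given octad in a prescribed 2-set / 4-set.
Everything is derived from `IsSteinerSystem 5 8 octads` and linearity of the code.
-/

set_option autoImplicit false
set_option linter.unusedSectionVars false

namespace Cfsg.Agent.Helper26

open Cfsg

section

variable (hS : IsSteinerSystem 5 8 octads)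
include hS

/-- Two distinct octads meet in 0, 2 or 4 points. -/
theorem octad_inter_card {o o' : Finset GolayPt} (ho : o ∈ octads) (ho' : o' ∈ octads)
    (hne : o ≠ o') : (o ∩ o').card = 0 ∨ (o ∩ o').card = 2 ∨ (o ∩ o').card = 4 := by
  obtain ⟨_, h1, _, h3, _⟩ := meetCount_5_8_24 card_golayPt hS ho'
  have hle := card_inter_le hS (b := o') ho
  have n1 := ne_of_meetCount_eq_zero h1 ho
  have n3 := ne_of_meetCount_eq_zero h3 ho
  have hge : ¬ 5 ≤ (o ∩ o').card := fun h => hne (block_eq_of_le_card_inter hS ho ho' h)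
  omega

/-- Exactly four octads meet a given octad in a prescribed 4-subset. -/
theorem octad_meet_four {o : Finset GolayPt} (ho : o ∈ octads) {s : Finset GolayPt}
    (hs : s ⊆ o) (h4 : s.card = 4) :
    {o' : Finset GolayPt | o' ∈ octads ∧ o ∩ o' = s}.ncard = 4 := by
  classical
  have ho8 : o.card = 8 := ho.2
  -- a point of `o` outside `s`
  have hne : (o \ s).Nonempty := by
    rw [← Finset.card_pos, Finset.card_sdiff_of_subset hs, ho8, h4]; norm_num
  obtain ⟨p₀, hp₀⟩ := hne
  rw [Finset.mem_sdiff] at hp₀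
  have hoeq : o = octOf hS s p₀ := eq_octOf hS h4 hp₀.2 ho hs hp₀.1
  have hset : {o' : Finset GolayPt | o' ∈ octads ∧ o ∩ o' = s} =
      ↑(((otherTets hS s).erase (tetOf hS s p₀)).image (fun u => s ∪ u)) := by
    ext o'
    simp only [Set.mem_ofPred_eq, Finset.coe_image, Set.mem_image, Finset.mem_coe,
      Finset.mem_erase]
    constructor
    · rintro ⟨ho', hi⟩
      have hso' : s ⊆ o' := by rw [← hi]; exact Finset.inter_subset_right
      have hne' : (o' \ s).Nonempty := by
        rw [← Finset.card_pos, Finset.card_sdiff_of_subset hso', ho'.2, h4]; norm_num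
      obtain ⟨p, hp⟩ := hne'
      rw [Finset.mem_sdiff] at hp
      have ho'eq : o' = octOf hS s p := eq_octOf hS h4 hp.2 ho' hso' hp.1
      refine ⟨tetOf hS s p, ⟨?_, (mem_otherTets hS h4).2 ⟨p, hp.2, rfl⟩⟩, ?_⟩
      · intro hEq
        have : o' = o := by
          rw [ho'eq, hoeq, ← union_tetOf hS h4 hp.2, ← union_tetOf hS h4 hp₀.2, hEq]
        rw [this, Finset.inter_self] at hi
        rw [hi, h4] at ho8
        norm_num at ho8
      · rw [union_tetOf hS h4 hp.2, ← ho'eq]
    · rintro ⟨u, ⟨hne, hu⟩, rfl⟩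
      obtain ⟨p, hp, rfl⟩ := (mem_otherTets hS h4).1 hu
      rw [union_tetOf hS h4 hp]
      refine ⟨octOf_mem hS h4 hp, ?_⟩
      rw [hoeq]
      exact octOf_inter_octOf hS h4 hp₀.2 hp (Ne.symm hne)
  rw [hset, Set.ncard_coe_finset, Finset.card_image_of_injOn, Finset.card_erase_of_mem,
    card_otherTets hS h4]
  · exact (mem_otherTets hS h4).2 ⟨p₀, hp₀.2, rfl⟩
  · intro u hu v hv huv
    simp only [Finset.coe_erase, Set.mem_sdiff, Finset.mem_coe] at hu hv
    obtain ⟨p, hp, rfl⟩ := (mem_otherTets hS h4).1 hu.1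
    obtain ⟨q, hq, rfl⟩ := (mem_otherTets hS h4).1 hv.1
    simp only at huv
    have h1 : (s ∪ tetOf hS s p) \ s = tetOf hS s p :=
      Finset.union_sdiff_cancel_left (disjoint_tetOf hS h4 p)
    have h2 : (s ∪ tetOf hS s q) \ s = tetOf hS s q :=
      Finset.union_sdiff_cancel_left (disjoint_tetOf hS h4 q)
    rw [← h1, ← h2, huv]

/-- The number of octads through two given points. -/
theorem card_octads_through_two {s : Finset GolayPt} (h2 : s.card = 2) :
    {o' : Finset GolayPt | o' ∈ octads ∧ s ⊆ o'}.ncard = 77 := by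
  have h := card_blocks_through hS s (by rw [h2]; norm_num)
  rw [card_golayPt, h2] at h
  have h1 : Nat.choose (8 - 2) (5 - 2) = 20 := by decide +kernel
  have h3 : Nat.choose (24 - 2) (5 - 2) = 1540 := by decide +kernel
  rw [h1, h3] at h
  omega

/-- Exactly sixteen octads meet a given octad in a prescribed 2-subset. -/
theorem octad_meet_two {o : Finset GolayPt} (ho : o ∈ octads) {s : Finset GolayPt}
    (hs : s ⊆ o) (h2 : s.card = 2) :
    {o' : Finset GolayPt | o' ∈ octads ∧ o ∩ o' = s}.ncard = 16 := by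
  classical
  have ho8 : o.card = 8 := ho.2
  let Oct : Finset (Finset GolayPt) := Finset.univ.filter (fun o' => o' ∈ octads)
  have hOct : ∀ o', o' ∈ Oct ↔ o' ∈ octads := by intro o'; simp [Oct]
  let Nf : Finset (Finset GolayPt) := Oct.filter (fun o' => s ⊆ o')
  have hNf : ∀ o', o' ∈ Nf ↔ o' ∈ octads ∧ s ⊆ o' := by
    intro o'; simp only [Nf, Finset.mem_filter, hOct]
  have hNcard : Nf.card = 77 := by
    rw [← card_octads_through_two hS h2, ← Set.ncard_coe_finset]
    congr 1
    ext o'
    simp only [Finset.mem_coe, hNf, Set.mem_ofPred_eq]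
  let meet : Finset GolayPt → Finset (Finset GolayPt) := fun x => Oct.filter (fun o' => o ∩ o' = x)
  have hmeet : ∀ x o', o' ∈ meet x ↔ o' ∈ octads ∧ o ∩ o' = x := by
    intro x o'; simp only [meet, Finset.mem_filter, hOct]
  have hmeetcard : ∀ x, (meet x).card = {o' : Finset GolayPt | o' ∈ octads ∧ o ∩ o' = x}.ncard := by
    intro x
    rw [← Set.ncard_coe_finset]
    congr 1
    ext o'
    simp only [Finset.mem_coe, hmeet, Set.mem_ofPred_eq]
  -- the 4-subsets of `o` containing `s`
  let U : Finset (Finset GolayPt) := ((o \ s).powersetCard 2).image (fun v => s ∪ v)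
  have hU : ∀ u, u ∈ U ↔ ∃ v, v ⊆ o \ s ∧ v.card = 2 ∧ s ∪ v = u := by
    intro u
    simp only [U, Finset.mem_image, Finset.mem_powersetCard]
    constructor
    · rintro ⟨v, ⟨h1, h2⟩, h3⟩; exact ⟨v, h1, h2, h3⟩
    · rintro ⟨v, h1, h2, h3⟩; exact ⟨v, ⟨h1, h2⟩, h3⟩
  have hUprop : ∀ u ∈ U, s ⊆ u ∧ u ⊆ o ∧ u.card = 4 := by
    intro u hu
    obtain ⟨v, hv, hv2, rfl⟩ := (hU u).1 hu
    have hd : Disjoint s v := by
      rw [Finset.disjoint_left]
      intro a ha hav
      exact (Finset.mem_sdiff.1 (hv hav)).2 ha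
    refine ⟨Finset.subset_union_left, Finset.union_subset hs (hv.trans Finset.sdiff_subset), ?_⟩
    rw [Finset.card_union_of_disjoint hd, h2, hv2]
  have hUcard : U.card = 15 := by
    simp only [U]
    rw [Finset.card_image_of_injOn, Finset.card_powersetCard, Finset.card_sdiff_of_subset hs,
      ho8, h2]
    · decide +kernel
    · intro v hv w hw hvw
      rw [Finset.mem_coe, Finset.mem_powersetCard] at hv hw
      simp only at hvw
      have hdv : Disjoint s v := by
        rw [Finset.disjoint_left]
        intro a ha hav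
        exact (Finset.mem_sdiff.1 (hv.1 hav)).2 ha
      have hdw : Disjoint s w := by
        rw [Finset.disjoint_left]
        intro a ha hav
        exact (Finset.mem_sdiff.1 (hw.1 hav)).2 ha
      rw [← Finset.union_sdiff_cancel_left hdv, ← Finset.union_sdiff_cancel_left hdw, hvw]
  -- target set of the fibration
  let T : Finset (Finset GolayPt) := insert o (insert s U)
  have hsU : s ∉ U := by
    intro h
    have := (hUprop s h).2.2
    omega
  have hoU : o ∉ insert s U := by
    intro h
    rcases Finset.mem_insert.1 h with h | h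
    · rw [h] at ho8; omega
    · have := (hUprop o h).2.2
      omega
  have hmaps : ∀ o' ∈ Nf, o ∩ o' ∈ T := by
    intro o' ho'
    rw [hNf] at ho'
    by_cases hoo' : o = o'
    · subst hoo'
      rw [Finset.inter_self]
      exact Finset.mem_insert_self _ _
    · have hsub : s ⊆ o ∩ o' := Finset.subset_inter hs ho'.2
      have hc := Finset.card_le_card hsub
      rw [h2] at hc
      rcases octad_inter_card hS ho ho'.1 hoo' with h | h | h
      · omega
      · have : s = o ∩ o' := Finset.eq_of_subset_of_card_le hsub (by rw [h, h2])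
        rw [← this]
        exact Finset.mem_insert_of_mem (Finset.mem_insert_self _ _)
      · apply Finset.mem_insert_of_mem
        apply Finset.mem_insert_of_mem
        rw [hU]
        refine ⟨(o ∩ o') \ s, ?_, ?_, ?_⟩
        · intro a ha
          rw [Finset.mem_sdiff] at ha ⊢
          exact ⟨Finset.mem_of_mem_inter_left ha.1, ha.2⟩
        · rw [Finset.card_sdiff_of_subset hsub, h, h2]
        · exact Finset.union_sdiff_of_subset hsub
  have hcount := Finset.card_eq_sum_card_fiberwise (f := fun o' => o ∩ o') (s := Nf) (t := T) hmaps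
  have hfib_o : (Nf.filter (fun o' => o ∩ o' = o)).card = 1 := by
    rw [Finset.card_eq_one]
    refine ⟨o, ?_⟩
    ext o'
    rw [Finset.mem_filter, hNf, Finset.mem_singleton]
    constructor
    · rintro ⟨⟨ho', _⟩, hi⟩
      have hsub : o ⊆ o' := by rw [← hi]; exact Finset.inter_subset_right
      exact (Finset.eq_of_subset_of_card_le hsub (by rw [ho8, ho'.2])).symm
    · rintro rfl
      exact ⟨⟨ho, hs⟩, Finset.inter_self _⟩
  have hfib_x : ∀ x, s ⊆ x → (Nf.filter (fun o' => o ∩ o' = x)) = meet x := by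
    intro x hsx
    ext o'
    rw [Finset.mem_filter, hNf, hmeet]
    constructor
    · rintro ⟨⟨ho', _⟩, hi⟩; exact ⟨ho', hi⟩
    · rintro ⟨ho', hi⟩
      refine ⟨⟨ho', ?_⟩, hi⟩
      rw [← hi] at hsx
      exact hsx.trans Finset.inter_subset_right
  have hsumU : ∑ u ∈ U, (Nf.filter (fun o' => o ∩ o' = u)).card = ∑ _u ∈ U, 4 := by
    apply Finset.sum_congr rfl
    intro u hu
    obtain ⟨hsu, huo, hu4⟩ := hUprop u hu
    rw [hfib_x u hsu, hmeetcard, octad_meet_four hS ho huo hu4]
  simp only [T] at hcount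
  rw [Finset.sum_insert hoU, Finset.sum_insert hsU, hfib_o, hfib_x s (Finset.Subset.refl _),
    hsumU, Finset.sum_const, smul_eq_mul, hUcard, hNcard, hmeetcard] at hcount
  omega

end

end Cfsg.Agent.Helper26
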