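import Cfsg.Agent.Helper26.PairBase
import Cfsg.Agent.Helper8.Norm64f
import Cfsg.Agent.S1567

/-!
# The rank-24 lattice modulo twice itself as a module for its automorphism group

* `central_of_trivial_mod_two`: an automorphism acting trivially modulo twice the lattice is `± 1`.
* `invariant_between`: an invariant subgroup between twice the lattice and the lattice is one of
  the two (given transitivity on the vectors of sum of squares 48).
-/

set_option autoImplicit false

namespace Cfsg.Agent.Helper26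

open Cfsg Cfsg.Agent.Helper8 Cfsg.Agent.Helper27

/-! ### faithfulness -/

/-- the vector `4 e_i + 4 e_j` -/
def vPlus (i j : GolayPt) : IVec := Pi.single i 4 + Pi.single j 4

theorem vPlus_mem {i j : GolayPt} (hij : i ≠ j) : vPlus i j ∈ leechLattice :=
  (vrelA ⟨i, j, 4, 4, hij, Or.inl rfl, Or.inl rfl, rfl⟩).mem_right

theorem sqNorm_vPlus {i j : GolayPt} (hij : i ≠ j) : sqNorm (vPlus i j) = 32 := by
  unfold vPlus
  rw [sqNorm_add', sqNorm_single, sqNorm_single, dotInt_single, Pi.single_eq_of_ne hij]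
  norm_num

theorem vPlus_add_vPQ (i j : GolayPt) : vPlus i j + vPQ i j = Pi.single i 8 := by
  unfold vPlus vPQ
  ext x
  simp only [Pi.add_apply, Pi.single_apply]
  split_ifs <;> norm_num

theorem vPlus_sub_vPQ (i j : GolayPt) : vPlus i j - vPQ i j = Pi.single j 8 := by
  unfold vPlus vPQ
  ext x
  simp only [Pi.add_apply, Pi.sub_apply, Pi.single_apply]
  split_ifs <;> norm_num

/-- an automorphism trivial modulo twice the lattice maps a minimal vector to itself or its
opposite -/
theorem smul_min_eq_or_neg {g : ↥Co0}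
    (hg : ∀ v : ↥leechLattice, ∃ w : ↥leechLattice,
      ((g • v : ↥leechLattice) : IVec) - (v : IVec) = 2 • (w : IVec))
    (v : ↥leechLattice) (hv : sqNorm (v : IVec) = 32) : g • v = v ∨ g • v = -v := by
  obtain ⟨w, hw⟩ := hg v
  have hphi : phi (v : IVec) = phi ((g • v : ↥leechLattice) : IVec) := by
    rw [phi_eq_iff]
    refine ⟨-w, leechLattice.neg_mem w.2, ?_⟩
    rw [smul_neg, ← hw]
    abel
  have hn : sqNorm ((g • v : ↥leechLattice) : IVec) = 32 := by rw [co0_sqNorm, hv]
  rcases short_cases v.2 (g • v).2 (by rw [hv]; norm_num) (by rw [hn]; norm_num) hphi with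
    h | h | ⟨h, -, -⟩
  · exact Or.inl (Subtype.ext h)
  · right
    apply Subtype.ext
    rw [h, AddSubgroup.coe_neg]
  · rw [hv] at h
    norm_num at h

theorem single8_ne {i j : GolayPt} (hij : i ≠ j) (s t : ℤ) (hs : s ≠ 0) :
    (Pi.single i s : IVec) ≠ Pi.single j t := by
  intro h
  have := congrFun h i
  rw [Pi.single_eq_same, Pi.single_eq_of_ne hij] at this
  exact hs this

theorem exists_two_other : ∀ i : GolayPt, ∃ j j' : GolayPt, j ≠ i ∧ j' ≠ i ∧ j ≠ j' := by
  decide +kernel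

theorem smul_vec8_inj {a b : GolayPt} {s t : ℤ} (hs : s = 1 ∨ s = -1) (ht : t = 1 ∨ t = -1)
    (h : s • vec8 a = t • vec8 b) : a = b ∧ s = t := by
  have h1 := congrArg (fun w : ↥leechLattice => (w : IVec) a) h
  simp only [AddSubgroup.coe_zsmul, Pi.smul_apply, vec8_val, Pi.single_eq_same, smul_eq_mul] at h1
  by_cases hab : a = b
  · subst hab
    rw [Pi.single_eq_same] at h1
    exact ⟨rfl, by omega⟩
  · rw [Pi.single_eq_of_ne hab] at h1
    rcases hs with rfl | rfl <;> omega

/-- the lattice vector `4 e_i + 4 e_j` -/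
def latPlus {i j : GolayPt} (hij : i ≠ j) : ↥leechLattice := ⟨vPlus i j, vPlus_mem hij⟩

/-- the lattice vector `4 e_i - 4 e_j` -/
def latPQ {i j : GolayPt} (hij : i ≠ j) : ↥leechLattice := ⟨vPQ i j, vPQ_mem hij⟩

theorem latPlus_add {i j : GolayPt} (hij : i ≠ j) : latPlus hij + latPQ hij = vec8 i :=
  Subtype.ext (vPlus_add_vPQ i j)

theorem latPlus_sub {i j : GolayPt} (hij : i ≠ j) : latPlus hij - latPQ hij = vec8 j :=
  Subtype.ext (vPlus_sub_vPQ i j)

/-- an automorphism trivial modulo twice the lattice is `1` or `-1` -/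
theorem eq_one_or_neg_of_trivial_mod_two {g : ↥Co0}
    (hg : ∀ v : ↥leechLattice, ∃ w : ↥leechLattice,
      ((g • v : ↥leechLattice) : IVec) - (v : IVec) = 2 • (w : IVec)) :
    g = 1 ∨ g = negCo0 := by
  classical
  -- the images of `8 e_i` and `8 e_j`
  have L : ∀ i j : GolayPt, i ≠ j → ∃ s : ℤ, (s = 1 ∨ s = -1) ∧
      ((g • vec8 i = s • vec8 i ∧ g • vec8 j = s • vec8 j) ∨
        (g • vec8 i = s • vec8 j ∧ g • vec8 j = s • vec8 i)) := by
    intro i j hij
    have ha := smul_min_eq_or_neg hg (latPlus hij) (sqNorm_vPlus hij)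
    have hb := smul_min_eq_or_neg hg (latPQ hij) (sqNorm_vPQ hij)
    have e1 : g • vec8 i = g • latPlus hij + g • latPQ hij := by
      rw [← latPlus_add hij, ← co0Hom_apply, map_add]; rfl
    have e2 : g • vec8 j = g • latPlus hij - g • latPQ hij := by
      rw [← latPlus_sub hij, ← co0Hom_apply, map_sub]; rfl
    rcases ha with ha | ha <;> rcases hb with hb | hb <;> rw [ha, hb] at e1 e2
    · exact ⟨1, Or.inl rfl, Or.inl ⟨by rw [e1, latPlus_add, one_smul],
        by rw [e2, latPlus_sub, one_smul]⟩⟩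
    · refine ⟨1, Or.inl rfl, Or.inr ⟨?_, ?_⟩⟩
      · rw [e1, one_smul, ← latPlus_sub hij, sub_eq_add_neg]
      · rw [e2, one_smul, ← latPlus_add hij, sub_neg_eq_add]
    · refine ⟨-1, Or.inr rfl, Or.inr ⟨?_, ?_⟩⟩
      · rw [e1, neg_smul, one_smul, ← latPlus_sub hij]; abel
      · rw [e2, neg_smul, one_smul, ← latPlus_add hij]; abel
    · refine ⟨-1, Or.inr rfl, Or.inl ⟨?_, ?_⟩⟩
      · rw [e1, neg_smul, one_smul, ← latPlus_add hij]; abel
      · rw [e2, neg_smul, one_smul, ← latPlus_sub hij]; abel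
  -- each `8 e_i` goes to `± 8 e_i`
  have S1 : ∀ i : GolayPt, ∃ s : ℤ, (s = 1 ∨ s = -1) ∧ g • vec8 i = s • vec8 i := by
    intro i
    obtain ⟨j, j', hj, hj', hjj'⟩ := exists_two_other i
    obtain ⟨s, hs, h | h⟩ := L i j (Ne.symm hj)
    · exact ⟨s, hs, h.1⟩
    · obtain ⟨t, ht, h' | h'⟩ := L i j' (Ne.symm hj')
      · exact ⟨t, ht, h'.1⟩
      · exact absurd (smul_vec8_inj hs ht (h.1.symm.trans h'.1)).1 hjj'
  -- with a common sign
  have S2 : ∃ s : ℤ, (s = 1 ∨ s = -1) ∧ ∀ i : GolayPt, g • vec8 i = s • vec8 i := by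
    obtain ⟨s, hs, h0⟩ := S1 none
    refine ⟨s, hs, fun i => ?_⟩
    by_cases hi : none = i
    · rw [← hi]; exact h0
    · obtain ⟨t, ht, h | h⟩ := L none i hi
      · rw [h.2, (smul_vec8_inj hs ht (h0.symm.trans h.1)).2]
      · exact absurd (smul_vec8_inj hs ht (h0.symm.trans h.1)).1 hi
  obtain ⟨s, hs, hall⟩ := S2
  -- hence on all vectors
  have S3 : ∀ x : ↥leechLattice, g • x = s • x := by
    intro x
    have hx : (8 : ℤ) • x = ∑ i, (x : IVec) i • vec8 i := by
      apply Subtype.ext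
      rw [AddSubgroup.coe_zsmul, AddSubgroup.val_finsetSum]
      ext k
      rw [Pi.smul_apply, Finset.sum_apply, Finset.sum_eq_single k]
      · rw [AddSubgroup.coe_zsmul, Pi.smul_apply, vec8_val,
          Pi.single_eq_same, smul_eq_mul, smul_eq_mul, mul_comm]
      · intro b _ hb
        rw [AddSubgroup.coe_zsmul, Pi.smul_apply, vec8_val,
          Pi.single_eq_of_ne (Ne.symm hb), smul_zero]
      · intro h
        exact absurd (Finset.mem_univ k) h
    have h8 : (8 : ℤ) • (g • x) = (8 : ℤ) • (s • x) := by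
      rw [← co0Hom_apply, ← map_zsmul, hx, map_sum, smul_comm, hx, Finset.smul_sum]
      refine Finset.sum_congr rfl fun i _ => ?_
      rw [map_zsmul, co0Hom_apply, hall i, smul_comm]
    apply Subtype.ext
    ext k
    have := congrArg (fun w : ↥leechLattice => (w : IVec) k) h8
    simp only [AddSubgroup.coe_zsmul, Pi.smul_apply, smul_eq_mul] at this ⊢
    omega
  rcases hs with rfl | rfl
  · left
    apply co0_ext
    intro v
    rw [S3 v, one_smul, one_smul]
  · right
    apply co0_ext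
    intro v
    rw [S3 v, negCo0_smul, neg_smul, one_smul]

/-- an automorphism trivial modulo twice the lattice is central -/
theorem central_of_trivial_mod_two {g : ↥Co0}
    (hg : ∀ v : ↥leechLattice, ∃ w : ↥leechLattice,
      ((g • v : ↥leechLattice) : IVec) - (v : IVec) = 2 • (w : IVec)) :
    g ∈ Subgroup.center ↥Co0 := by
  rcases eq_one_or_neg_of_trivial_mod_two hg with rfl | rfl
  · exact Subgroup.one_mem _
  · exact negCo0_mem_center

/-! ### irreducibility -/

/-- the automorphism group is transitive on the vectors of sum of squares 48 -/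
def Trans48 : Prop :=
  ∀ v w : ↥leechLattice, sqNorm (v : IVec) = 48 → sqNorm (w : IVec) = 48 → ∃ g : ↥Co0, g • v = w

/-- the vector `(5, 1, …, 1)` with the `5` at `k` -/
def fiveVec (k : GolayPt) : IVec := fun i => if i = k then 5 else 1

set_option maxRecDepth 100000 in
theorem fiveVec_chk : leechChk (fiveVec (gPt 0)) = true ∧ leechChk (fiveVec (gPt 1)) = true := by
  decide +kernel

set_option maxRecDepth 100000 in
theorem sqNorm_fiveVec : sqNorm (fiveVec (gPt 0)) = 48 ∧ sqNorm (fiveVec (gPt 1)) = 48 := by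
  decide +kernel

set_option maxRecDepth 100000 in
theorem fiveVec_sub : ∀ i : GolayPt,
    fiveVec (gPt 0) i - fiveVec (gPt 1) i = vPQ (gPt 0) (gPt 1) i := by
  decide +kernel

/-- the vector `(4, 4, 4, 4, 0, …, 0)` on the points `0, 1, 2, k` -/
def fourVec (k : GolayPt) : IVec :=
  Pi.single (gPt 0) 4 + Pi.single (gPt 1) 4 + Pi.single (gPt 2) 4 + Pi.single k 4

set_option maxRecDepth 100000 in
theorem fourVec_chk : leechChk (fourVec (gPt 3)) = true ∧ leechChk (fourVec (gPt 4)) = true := by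
  decide +kernel

set_option maxRecDepth 100000 in
theorem sqNorm_fourVec : sqNorm (fourVec (gPt 3)) = 64 ∧ sqNorm (fourVec (gPt 4)) = 64 := by
  decide +kernel

set_option maxRecDepth 100000 in
theorem fourVec_sub : ∀ i : GolayPt,
    fourVec (gPt 3) i - fourVec (gPt 4) i = vPQ (gPt 3) (gPt 4) i := by
  decide +kernel

/-- an invariant subgroup between twice the lattice and the lattice is one of the two -/
theorem invariant_between (h48 : Trans48) (M : AddSubgroup IVec)
    (h2 : ∀ v ∈ leechLattice, (2 : ℤ) • v ∈ M) (hle : M ≤ leechLattice)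
    (hinv : ∀ g : ↥Co0, ∀ v : ↥leechLattice, (v : IVec) ∈ M →
      ((g • v : ↥leechLattice) : IVec) ∈ M) :
    (∀ x ∈ M, ∃ w ∈ leechLattice, x = (2 : ℤ) • w) ∨ M = leechLattice := by
  classical
  by_cases hM : ∀ x ∈ M, ∃ w ∈ leechLattice, x = (2 : ℤ) • w
  · exact Or.inl hM
  right
  push Not at hM
  obtain ⟨x, hxM, hx2⟩ := hM
  have hxL := hle hxM
  -- transport along the group
  have htr : ∀ (y y' : IVec) (hy : y ∈ leechLattice) (hy' : y' ∈ leechLattice),
      (∃ g : ↥Co0, g • (⟨y, hy⟩ : ↥leechLattice) = ⟨y', hy'⟩) → y ∈ M → y' ∈ M := by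
    rintro y y' hy hy' ⟨g, hg⟩ hyM
    have := hinv g ⟨y, hy⟩ hyM
    rwa [hg] at this
  -- a minimal vector in `M` gives everything
  have hmin : ∀ m : IVec, m ∈ leechLattice → sqNorm m = 32 → m ∈ M → M = leechLattice := by
    intro m hm hmn hmM
    apply le_antisymm hle
    rw [← Cfsg.Agent.S1567.result, AddSubgroup.closure_le]
    rintro z ⟨hz, hzn⟩
    exact htr m z hm hz (co0_transitive_min32 ⟨m, hm⟩ ⟨z, hz⟩ hmn hzn) hmM
  -- a short vector congruent to `x`
  have h1 : phi x ∈ (shortClasses : Set ((GolayPt → ℤ) ⧸ twoL)) := by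
    rw [shortClasses_eq]
    exact AddSubgroup.mem_map_of_mem phi hxL
  rw [Finset.mem_coe] at h1
  unfold shortClasses at h1
  rw [Finset.mem_insert] at h1
  rcases h1 with h1 | h1
  · exfalso
    have : phi x = phi 0 := by rw [h1, map_zero]
    rw [phi_eq_iff] at this
    obtain ⟨z, hz, hxz⟩ := this
    rw [sub_zero, two_nsmul] at hxz
    exact hx2 z hz (by rw [two_zsmul]; exact hxz)
  have hy : ∃ N : ℤ, (N = 32 ∨ N = 48 ∨ N = 64) ∧ ∃ y ∈ leechLattice, sqNorm y = N ∧ y ∈ M := by
    have key : ∀ N : ℤ, N ≤ 64 → phi x ∈ img N → ∃ y ∈ leechLattice, sqNorm y = N ∧ y ∈ M := by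
      intro N hN hb
      unfold img at hb
      rw [Finset.mem_image] at hb
      obtain ⟨y, hy, hyx⟩ := hb
      rw [mem_leechF (by omega)] at hy
      refine ⟨y, hy.1, hy.2, ?_⟩
      rw [phi_eq_iff] at hyx
      obtain ⟨z, hz, hyz⟩ := hyx
      have : y = x + (2 : ℤ) • z := by
        rw [two_nsmul] at hyz
        rw [two_zsmul, ← hyz]
        abel
      rw [this]
      exact M.add_mem hxM (h2 z hz)
    simp only [Finset.mem_union] at h1
    rcases h1 with h | h | h
    · exact ⟨32, Or.inl rfl, key 32 (by norm_num) h⟩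
    · exact ⟨48, Or.inr (Or.inl rfl), key 48 (by norm_num) h⟩
    · exact ⟨64, Or.inr (Or.inr rfl), key 64 (by norm_num) h⟩
  obtain ⟨N, hN, y, hyL, hyn, hyM⟩ := hy
  rcases hN with rfl | rfl | rfl
  · exact hmin y hyL hyn hyM
  · have m0 := mem_of_leechChk fiveVec_chk.1
    have m1 := mem_of_leechChk fiveVec_chk.2
    have a0 := htr y _ hyL m0 (h48 ⟨y, hyL⟩ ⟨_, m0⟩ hyn sqNorm_fiveVec.1) hyM
    have a1 := htr y _ hyL m1 (h48 ⟨y, hyL⟩ ⟨_, m1⟩ hyn sqNorm_fiveVec.2) hyM
    have hd : vPQ (gPt 0) (gPt 1) ∈ M := by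
      have := M.sub_mem a0 a1
      rwa [show fiveVec (gPt 0) - fiveVec (gPt 1) = vPQ (gPt 0) (gPt 1) from
        funext fiveVec_sub] at this
    exact hmin _ (vPQ_mem (by decide)) (sqNorm_vPQ (by decide)) hd
  · have m0 := mem_of_leechChk fourVec_chk.1
    have m1 := mem_of_leechChk fourVec_chk.2
    have a0 := htr y _ hyL m0
      (co0_transitive_norm64 ⟨y, hyL⟩ ⟨_, m0⟩ hyn sqNorm_fourVec.1) hyM
    have a1 := htr y _ hyL m1
      (co0_transitive_norm64 ⟨y, hyL⟩ ⟨_, m1⟩ hyn sqNorm_fourVec.2) hyM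
    have hd : vPQ (gPt 3) (gPt 4) ∈ M := by
      have := M.sub_mem a0 a1
      rwa [show fourVec (gPt 3) - fourVec (gPt 4) = vPQ (gPt 3) (gPt 4) from
        funext fourVec_sub] at this
    exact hmin _ (vPQ_mem (by decide)) (sqNorm_vPQ (by decide)) hd

end Cfsg.Agent.Helper26
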