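import Cfsg.Agent.Helper26.Census48
import Cfsg.Agent.Helper26.LeechModTwo

/-!
# The number of minimal vectors of inner product `-16` with a vector of sum of squares 48
(double counting, given the transitivity on the vectors of sum of squares 48)
-/

set_option autoImplicit false

namespace Cfsg.Agent.Helper26

open Cfsg Cfsg.Agent.Helper8 Cfsg.Agent.Helper27

/-- lattice vectors of sum of squares `N` with inner product `c` with `v` -/
def shellDot (N c : ℤ) (v : ↥leechLattice) : Set ↥leechLattice :=
  {w : ↥leechLattice | sqNorm (w : IVec) = N ∧ dotInt (v : IVec) (w : IVec) = c}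

theorem shellDot_smul (N c : ℤ) (g : ↥Co0) (v : ↥leechLattice) :
    shellDot N c (g • v) = (fun w : ↥leechLattice => g • w) '' shellDot N c v := by
  ext w
  unfold shellDot
  simp only [Set.mem_ofPred_eq, Set.mem_image]
  constructor
  · rintro ⟨h1, h2⟩
    refine ⟨g⁻¹ • w, ⟨?_, ?_⟩, smul_inv_smul g w⟩
    · rw [co0_sqNorm]; exact h1
    · rw [← co0_dotInt g v (g⁻¹ • w), smul_inv_smul]; exact h2
  · rintro ⟨w', ⟨h1, h2⟩, rfl⟩
    exact ⟨by rw [co0_sqNorm]; exact h1, by rw [co0_dotInt]; exact h2⟩

theorem ncard_shellDot_smul (N c : ℤ) (g : ↥Co0) (v : ↥leechLattice) :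
    (shellDot N c (g • v)).ncard = (shellDot N c v).ncard := by
  rw [shellDot_smul, Set.ncard_image_of_injective _ (MulAction.injective g)]

open Classical in
theorem ncard_shellDot_eq_card {N : ℤ} (hN : N ≤ 80) (c : ℤ) (v : ↥leechLattice) :
    (shellDot N c v).ncard = ((leechF N).filter fun w => dotInt (v : IVec) w = c).card := by
  rw [← Set.ncard_coe_finset, ← Set.ncard_image_of_injective _ Subtype.val_injective]
  congr 1
  ext w
  rw [Finset.coe_filter, Set.mem_ofPred_eq, Finset.mem_coe.symm, coe_leechF hN]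
  unfold shellDot
  simp only [Set.mem_image, Set.mem_ofPred_eq]
  constructor
  · rintro ⟨w', ⟨h2, h3⟩, rfl⟩
    exact ⟨⟨w'.2, h2⟩, h3⟩
  · rintro ⟨⟨h1, h2⟩, h3⟩
    exact ⟨⟨w, h1⟩, ⟨h2, h3⟩, rfl⟩

theorem dotInt_comm' (a b : IVec) : dotInt a b = dotInt b a := by
  unfold dotInt
  refine Finset.sum_congr rfl fun i _ => ?_
  ring

/-- every minimal vector has inner product `-16` with exactly 953856 vectors of sum of squares 48 -/
theorem ncard_shellDot_min (x : ↥leechLattice) (hx : sqNorm (x : IVec) = 32) :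
    (shellDot 48 (-16) x).ncard = 953856 := by
  obtain ⟨g, hg⟩ := co0_transitive_min32 ⟨vA0, vA0_mem⟩ x (by
    show sqNorm vA0 = 32
    unfold vA0
    rw [sqNorm_add', sqNorm_single, sqNorm_single, dotInt_single,
      Pi.single_eq_of_ne (by decide)]
    norm_num) hx
  rw [← hg, ncard_shellDot_smul, ← census48_vA0,
    ← Set.ncard_image_of_injective _ Subtype.val_injective]
  congr 1
  ext w
  unfold shellDot
  simp only [Set.mem_image, Set.mem_ofPred_eq]
  constructor
  · rintro ⟨w', ⟨h2, h3⟩, rfl⟩
    exact ⟨w'.2, h2, h3⟩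
  · rintro ⟨h1, h2, h3⟩
    exact ⟨⟨w, h1⟩, ⟨h2, h3⟩, rfl⟩

/-- every vector of sum of squares 48 has inner product `-16` with exactly 11178 minimal
vectors -/
theorem ncard_shellDot_48 (h48 : Trans48) (u : ↥leechLattice) (hu : sqNorm (u : IVec) = 48) :
    (shellDot 32 (-16) u).ncard = 11178 := by
  classical
  have hconst : ∀ u' : ↥leechLattice, sqNorm (u' : IVec) = 48 →
      (shellDot 32 (-16) u').ncard = (shellDot 32 (-16) u).ncard := by
    intro u' hu'
    obtain ⟨g, hg⟩ := h48 u u' hu hu'
    rw [← hg, ncard_shellDot_smul]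
  have hdc := Finset.sum_card_bipartiteAbove_eq_sum_card_bipartiteBelow
    (s := leechF 32) (t := leechF 48) (fun (x u' : IVec) => dotInt x u' = -16)
  have hL : ∀ x ∈ leechF 32,
      ((leechF 48).bipartiteAbove (fun (x u' : IVec) => dotInt x u' = -16) x).card = 953856 := by
    intro x hx
    rw [mem_leechF (by norm_num)] at hx
    have := ncard_shellDot_min ⟨x, hx.1⟩ hx.2
    rw [ncard_shellDot_eq_card (by norm_num)] at this
    exact this
  have hR : ∀ u' ∈ leechF 48,
      ((leechF 32).bipartiteBelow (fun (x u' : IVec) => dotInt x u' = -16) u').card =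
        (shellDot 32 (-16) u).ncard := by
    intro u' hu'
    rw [mem_leechF (by norm_num)] at hu'
    rw [← hconst ⟨u', hu'.1⟩ hu'.2, ncard_shellDot_eq_card (by norm_num)]
    unfold Finset.bipartiteBelow
    congr 1
    ext x
    simp only [Finset.mem_filter]
    rw [dotInt_comm']
  rw [Finset.sum_congr rfl hL, Finset.sum_congr rfl hR, Finset.sum_const, Finset.sum_const,
    card_leechF_32, card_leechF_48, smul_eq_mul, smul_eq_mul] at hdc
  omega

end Cfsg.Agent.Helper26
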