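import Cfsg.Agent.Helper26.Co1InvA
import Cfsg.Agent.Helper8.LeechCount

/-!
# The centraliser of an involution of `Co1`: the roots

A minimal vector fixed by `tE` is one of the 240 listed vectors.
-/

set_option autoImplicit false

namespace Cfsg.Agent.Helper26.Co1Inv

open Cfsg Cfsg.Agent.Helper7 Cfsg.Agent.Helper8 Cfsg.Agent.Helper27 Cfsg.Agent.Helper26.Co2Inv
  MulAction

/-! ### the arithmetic -/

/-- the check for the vectors with entries divisible by 4 -/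
def chkE8 (a b c1 c2 c3 c4 c5 c6 : ℤ) : Bool :=
  !(a * a + b * b + c1 * c1 + c2 * c2 + c3 * c3 + c4 * c4 + c5 * c5 + c6 * c6 == 2) ||
    r8T.contains (mk8 (4 * a) (4 * b) (4 * c1) (4 * c2) (4 * c3) (4 * c4) (4 * c5) (4 * c6))

/-- the check for the vectors with entries `±2` -/
def chkD8 (a b c1 c2 c3 c4 c5 c6 : ℤ) : Bool :=
  !((a + b + c1 + c2 + c3 + c4 + c5 + c6) % 4 == 0) ||
    r8T.contains (mk8 (2 * a) (2 * b) (2 * c1) (2 * c2) (2 * c3) (2 * c4) (2 * c5) (2 * c6))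

set_option maxRecDepth 1000000 in
theorem chkE8_all : ∀ a b c1 c2 c3 c4 c5 c6 : Fin 3,
    chkE8 ((a.val : ℤ) - 1) ((b.val : ℤ) - 1) ((c1.val : ℤ) - 1) ((c2.val : ℤ) - 1)
      ((c3.val : ℤ) - 1) ((c4.val : ℤ) - 1) ((c5.val : ℤ) - 1) ((c6.val : ℤ) - 1) = true := by
  decide +kernel

set_option maxRecDepth 1000000 in
theorem chkD8_all : ∀ a b c1 c2 c3 c4 c5 c6 : Fin 2,
    chkD8 (2 * (a.val : ℤ) - 1) (2 * (b.val : ℤ) - 1) (2 * (c1.val : ℤ) - 1)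
      (2 * (c2.val : ℤ) - 1) (2 * (c3.val : ℤ) - 1) (2 * (c4.val : ℤ) - 1)
      (2 * (c5.val : ℤ) - 1) (2 * (c6.val : ℤ) - 1) = true := by decide +kernel

theorem cmodA' (a c : ℤ) (hp : (16 : ℤ) ∣ 4 * a - 4 * c) (ha : a % 4 = 0)
    (h : -5 ≤ c ∧ c ≤ 5) : ∃ d : ℤ, c = 4 * d ∧ -1 ≤ d ∧ d ≤ 1 :=
  ⟨c / 4, by omega, by omega, by omega⟩

theorem cmodB' (a c : ℤ) (hp : (16 : ℤ) ∣ 4 * a - 4 * c) (ha : a % 4 = 2)
    (h : -5 ≤ c ∧ c ≤ 5) : ∃ d : ℤ, c = 2 * d ∧ (d = -1 ∨ d = 1) :=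
  ⟨c / 2, by omega, by omega⟩

theorem root_cases8 (a b c1 c2 c3 c4 c5 c6 : ℤ)
    (hN : a ^ 2 + b ^ 2 + c1 ^ 2 + c2 ^ 2 + c3 ^ 2 + c4 ^ 2 + c5 ^ 2 + c6 ^ 2 = 32)
    (ha2 : a % 2 = 0)
    (hb : (16 : ℤ) ∣ 4 * a - 4 * b)
    (h1p : (16 : ℤ) ∣ 4 * a + 4 * c1)
    (h2p : (16 : ℤ) ∣ 4 * a + 4 * c2)
    (h3p : (16 : ℤ) ∣ 4 * a + 4 * c3)
    (h4p : (16 : ℤ) ∣ 4 * a + 4 * c4)
    (h5p : (16 : ℤ) ∣ 4 * a + 4 * c5)
    (h6p : (16 : ℤ) ∣ 4 * a + 4 * c6)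
    (hG : (16 : ℤ) ∣ 2 * a + 2 * b + 2 * c1 + 2 * c2 + 2 * c3 + 2 * c4 + 2 * c5 + 2 * c6) :
    mk8 a b c1 c2 c3 c4 c5 c6 ∈ r8T := by
  have haE : a % 4 = 0 ∨ a % 4 = 2 := by
    clear hN hb h1p h2p h3p h4p h5p h6p hG
    omega
  have hba : -5 ≤ a ∧ a ≤ 5 := bnd5 a (b ^ 2 + c1 ^ 2 + c2 ^ 2 + c3 ^ 2 + c4 ^ 2 + c5 ^ 2 + c6 ^ 2)
    (by positivity) (by linarith)
  have hbb := bnd5 b (a ^ 2 + c1 ^ 2 + c2 ^ 2 + c3 ^ 2 + c4 ^ 2 + c5 ^ 2 + c6 ^ 2)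
    (by positivity) (by linarith)
  have hc1 := bnd5 c1 (a ^ 2 + b ^ 2 + c2 ^ 2 + c3 ^ 2 + c4 ^ 2 + c5 ^ 2 + c6 ^ 2)
    (by positivity) (by linarith)
  have hc2 := bnd5 c2 (a ^ 2 + b ^ 2 + c1 ^ 2 + c3 ^ 2 + c4 ^ 2 + c5 ^ 2 + c6 ^ 2)
    (by positivity) (by linarith)
  have hc3 := bnd5 c3 (a ^ 2 + b ^ 2 + c1 ^ 2 + c2 ^ 2 + c4 ^ 2 + c5 ^ 2 + c6 ^ 2)
    (by positivity) (by linarith)
  have hc4 := bnd5 c4 (a ^ 2 + b ^ 2 + c1 ^ 2 + c2 ^ 2 + c3 ^ 2 + c5 ^ 2 + c6 ^ 2)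
    (by positivity) (by linarith)
  have hc5 := bnd5 c5 (a ^ 2 + b ^ 2 + c1 ^ 2 + c2 ^ 2 + c3 ^ 2 + c4 ^ 2 + c6 ^ 2)
    (by positivity) (by linarith)
  have hc6 := bnd5 c6 (a ^ 2 + b ^ 2 + c1 ^ 2 + c2 ^ 2 + c3 ^ 2 + c4 ^ 2 + c5 ^ 2)
    (by positivity) (by linarith)
  rcases haE with h4 | h4
  · -- entries divisible by 4
    obtain ⟨a', ha', ha1, ha2'⟩ : ∃ d : ℤ, a = 4 * d ∧ -1 ≤ d ∧ d ≤ 1 :=
      ⟨a / 4, by omega, by omega, by omega⟩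
    obtain ⟨b', hb', hb1, hb2⟩ := cmodA' a b hb h4 hbb
    obtain ⟨d1, hd1, hd1a, hd1b⟩ := cmodA a c1 h1p h4 hc1
    obtain ⟨d2, hd2, hd2a, hd2b⟩ := cmodA a c2 h2p h4 hc2
    obtain ⟨d3, hd3, hd3a, hd3b⟩ := cmodA a c3 h3p h4 hc3
    obtain ⟨d4, hd4, hd4a, hd4b⟩ := cmodA a c4 h4p h4 hc4
    obtain ⟨d5, hd5, hd5a, hd5b⟩ := cmodA a c5 h5p h4 hc5
    obtain ⟨d6, hd6, hd6a, hd6b⟩ := cmodA a c6 h6p h4 hc6
    subst ha' hb' hd1 hd2 hd3 hd4 hd5 hd6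
    obtain ⟨ka, hka⟩ := exists_fin3 a' ha1 ha2'
    obtain ⟨kb, hkb⟩ := exists_fin3 b' hb1 hb2
    obtain ⟨k1, hk1⟩ := exists_fin3 d1 hd1a hd1b
    obtain ⟨k2, hk2⟩ := exists_fin3 d2 hd2a hd2b
    obtain ⟨k3, hk3⟩ := exists_fin3 d3 hd3a hd3b
    obtain ⟨k4, hk4⟩ := exists_fin3 d4 hd4a hd4b
    obtain ⟨k5, hk5⟩ := exists_fin3 d5 hd5a hd5b
    obtain ⟨k6, hk6⟩ := exists_fin3 d6 hd6a hd6b
    have key := chkE8_all ka kb k1 k2 k3 k4 k5 k6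
    rw [hka, hkb, hk1, hk2, hk3, hk4, hk5, hk6] at key
    have hn : (a' * a' + b' * b' + d1 * d1 + d2 * d2 + d3 * d3 + d4 * d4 + d5 * d5 + d6 * d6 == 2)
        = true := by
      rw [beq_iff_eq]
      linarith
    unfold chkE8 at key
    rw [hn] at key
    simp only [Bool.not_true, Bool.false_or] at key
    exact List.contains_iff_mem.mp key
  · -- entries `±2`
    obtain ⟨a', ha', ha1⟩ : ∃ d : ℤ, a = 2 * d ∧ (d = -1 ∨ d = 1) :=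
      ⟨a / 2, by omega, by omega⟩
    obtain ⟨b', hb', hb1⟩ := cmodB' a b hb h4 hbb
    obtain ⟨d1, hd1, hd1a⟩ := cmodB a c1 h1p h4 hc1
    obtain ⟨d2, hd2, hd2a⟩ := cmodB a c2 h2p h4 hc2
    obtain ⟨d3, hd3, hd3a⟩ := cmodB a c3 h3p h4 hc3
    obtain ⟨d4, hd4, hd4a⟩ := cmodB a c4 h4p h4 hc4
    obtain ⟨d5, hd5, hd5a⟩ := cmodB a c5 h5p h4 hc5
    obtain ⟨d6, hd6, hd6a⟩ := cmodB a c6 h6p h4 hc6
    subst ha' hb' hd1 hd2 hd3 hd4 hd5 hd6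
    obtain ⟨ka, hka⟩ := exists_fin2 a' ha1
    obtain ⟨kb, hkb⟩ := exists_fin2 b' hb1
    obtain ⟨k1, hk1⟩ := exists_fin2 d1 hd1a
    obtain ⟨k2, hk2⟩ := exists_fin2 d2 hd2a
    obtain ⟨k3, hk3⟩ := exists_fin2 d3 hd3a
    obtain ⟨k4, hk4⟩ := exists_fin2 d4 hd4a
    obtain ⟨k5, hk5⟩ := exists_fin2 d5 hd5a
    obtain ⟨k6, hk6⟩ := exists_fin2 d6 hd6a
    have key := chkD8_all ka kb k1 k2 k3 k4 k5 k6
    rw [hka, hkb, hk1, hk2, hk3, hk4, hk5, hk6] at key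
    have hn : ((a' + b' + d1 + d2 + d3 + d4 + d5 + d6) % 4 == 0) = true := by
      rw [beq_iff_eq]
      clear hN hb h1p h2p h3p h4p h5p h6p key hc1 hc2 hc3 hc4 hc5 hc6 hba hbb
      omega
    unfold chkD8 at key
    rw [hn] at key
    simp only [Bool.not_true, Bool.false_or] at key
    exact List.contains_iff_mem.mp key

/-! ### the classification -/

/-- the entries of a fixed vector are even -/
theorem even_of_fixed {y : ↥leechLattice} (hy : tE • y = y) (p : GolayPt) : y.1 p % 2 = 0 := by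
  obtain ⟨m, hm, -, -⟩ := (Cfsg.Agent.Helper8.mem_leechLattice_iff y.1).mp y.2
  have h3 := (tE_fix_iff y).mp hy 3 (by norm_num) (by decide)
  have h1 := hm (gPt 3)
  have h2 := hm p
  rw [h3] at h1
  unfold Int.ModEq at h1 h2
  omega

theorem mem_r8T_of {y : ↥leechLattice} (hn : sqNorm y.1 = 32) (hy : tE • y = y) :
    ∃ l ∈ r8T, y.1 = vecOf l := by
  have hl := fixed_eq_mk8 hy
  have hev := even_of_fixed hy (gPt 23)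
  generalize y.1 (gPt 23) = a at hl hev
  generalize y.1 (gPt 0) = b at hl
  generalize y.1 (gPt 1) = c1 at hl
  generalize y.1 (gPt 2) = c2 at hl
  generalize y.1 (gPt 4) = c3 at hl
  generalize y.1 (gPt 13) = c4 at hl
  generalize y.1 (gPt 16) = c5 at hl
  generalize y.1 (gPt 22) = c6 at hl
  refine ⟨_, ?_, hl⟩
  have hN : a ^ 2 + b ^ 2 + c1 ^ 2 + c2 ^ 2 + c3 ^ 2 + c4 ^ 2 + c5 ^ 2 + c6 ^ 2 = 32 := by
    rw [← dotInt_self, hl, dotInt_vecOf_vecOf, lsum_mk8] at hn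
    simp only [mk8, List.getD_cons_succ, List.getD_cons_zero] at hn
    linarith
  have t1 := cong_of hy hl [-4, 0, 0, 0, 0, 0, 0, 0, 0, 0, 0, 0, 0, 0, 0, 0, 0, 0, 0, 0, 0, 0, 0, 4] (f1VT.getD 1 [])
    (by decide +kernel) (mem_of_leechChk (f1V_chk 1 (by norm_num)))
  norm_num [List.getD] at t1
  have t2 := cong_of hy hl [0, 4, 0, 0, 0, 0, 0, 0, 0, 0, 0, 0, 0, 0, 0, 0, 0, 0, 0, 0, 0, 0, 0, 4] (f1VT.getD 2 [])
    (by decide +kernel) (mem_of_leechChk (f1V_chk 2 (by norm_num)))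
  norm_num [List.getD] at t2
  have t4 := cong_of hy hl [0, 0, 4, 0, 0, 0, 0, 0, 0, 0, 0, 0, 0, 0, 0, 0, 0, 0, 0, 0, 0, 0, 0, 4] (f1VT.getD 4 [])
    (by decide +kernel) (mem_of_leechChk (f1V_chk 4 (by norm_num)))
  norm_num [List.getD] at t4
  have t6 := cong_of hy hl [0, 0, 0, 0, 4, 0, 0, 0, 0, 0, 0, 0, 0, 0, 0, 0, 0, 0, 0, 0, 0, 0, 0, 4] (f1VT.getD 6 [])
    (by decide +kernel) (mem_of_leechChk (f1V_chk 6 (by norm_num)))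
  norm_num [List.getD] at t6
  have t8 := cong_of hy hl [0, 0, 0, 0, 0, 0, 0, 0, 0, 0, 0, 0, 0, 4, 0, 0, 0, 0, 0, 0, 0, 0, 0, 4] (f1VT.getD 8 [])
    (by decide +kernel) (mem_of_leechChk (f1V_chk 8 (by norm_num)))
  norm_num [List.getD] at t8
  have t10 := cong_of hy hl [0, 0, 0, 0, 0, 0, 0, 0, 0, 0, 0, 0, 0, 0, 0, 0, 4, 0, 0, 0, 0, 0, 0, 4] (f1VT.getD 10 [])
    (by decide +kernel) (mem_of_leechChk (f1V_chk 10 (by norm_num)))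
  norm_num [List.getD] at t10
  have t12 := cong_of hy hl [0, 0, 0, 0, 0, 0, 0, 0, 0, 0, 0, 0, 0, 0, 0, 0, 0, 0, 0, 0, 0, 0, 4, 4] (f1VT.getD 12 [])
    (by decide +kernel) (mem_of_leechChk (f1V_chk 12 (by norm_num)))
  norm_num [List.getD] at t12
  have t14 := cong_of hy hl [2, 2, 2, 0, 2, 0, 0, 0, 0, 0, 0, 0, 0, 2, 0, 0, 2, 0, 0, 0, 0, 0, 2, 2] (f1VT.getD 14 [])
    (by decide +kernel) (mem_of_leechChk (f1V_chk 14 (by norm_num)))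
  norm_num [List.getD] at t14
  exact root_cases8 a b c1 c2 c3 c4 c5 c6 hN hev (by omega) (by omega) (by omega) (by omega)
    (by omega) (by omega) (by omega) (by omega)

end Cfsg.Agent.Helper26.Co1Inv
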