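import Cfsg.Agent.Helper26.Co1InvB

/-!
# The centraliser of an involution of `Co1`: the homomorphism to the orthogonal group

The centraliser `N` of the involution `tE` in `Co0` permutes the 240 roots, linearly on their
labels; this gives a homomorphism `psi0` to the isometry group of the quadratic form of plus type
in dimension 8 over the field with two elements.
-/

set_option autoImplicit false

namespace Cfsg.Agent.Helper26.Co1Inv

open Cfsg Cfsg.Agent.Helper7 Cfsg.Agent.Helper8 Cfsg.Agent.Helper27 Cfsg.Agent.Helper26.Co2Inv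
  MulAction

/-! ### the roots as lattice vectors -/

/-- the root of index `k` -/
noncomputable def R8 (k : ℕ) : ↥leechLattice :=
  if h : k < 240 then ⟨vecOf (r8L k), mem_of_leechChk (r8_chk k h)⟩ else 0

theorem R8_val {k : ℕ} (h : k < 240) : ((R8 k : ↥leechLattice) : IVec) = vecOf (r8L k) := by
  unfold R8
  rw [dif_pos h]

theorem R8_apply {k : ℕ} (h : k < 240) {i : ℕ} (hi : i < 24) :
    ((R8 k : ↥leechLattice) : IVec) (gPt i) = r8E k i := by
  rw [R8_val h]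
  show (r8L k).getD (gIdx (gPt i)) 0 = _
  rw [gIdx_gPt i hi]
  rfl

theorem R8_fix {k : ℕ} (h : k < 240) : tE • R8 k = R8 k := by
  rw [tE_fix_iff]
  intro i hi hb
  rw [R8_apply h hi]
  exact r8_fix k h i hi hb

theorem dot_R8_R8 {k l : ℕ} (hk : k < 240) (hl : l < 240) :
    dotInt (R8 k : IVec) (R8 l : IVec) = lsum 24 (fun i => r8E k i * r8E l i) := by
  rw [R8_val hk, R8_val hl, dotInt_vecOf_vecOf]
  rfl

theorem R8_norm {k : ℕ} (h : k < 240) : sqNorm (R8 k : IVec) = 32 := by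
  rw [← dotInt_self, dot_R8_R8 h h]
  exact r8_norm k h

theorem R8_neg {k : ℕ} (h : k < 240) : R8 (k ^^^ 1) = - R8 k := by
  apply Subtype.ext
  funext p
  rw [AddSubgroup.coe_neg, Pi.neg_apply, ← gPt_gIdx p, R8_apply (xor8_lt k h) (gIdx_lt p),
    R8_apply h (gIdx_lt p)]
  exact r8_neg k h _ (gIdx_lt p)

theorem R8_eq_R {k : ℕ} (h : k < 126) : R8 k = R k := by
  apply Subtype.ext
  rw [R8_val (by omega), R_val h, r8_first k h]

theorem R8_u : R8 126 = u0 := by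
  apply Subtype.ext
  rw [R8_val (by norm_num), r8_u, u0_list]

/-- the classification of the roots -/
theorem exists_R8 {y : ↥leechLattice} (hn : sqNorm (y : IVec) = 32) (hy : tE • y = y) :
    ∃ k < 240, y = R8 k := by
  obtain ⟨l, hl, e⟩ := mem_r8T_of hn hy
  obtain ⟨k, hk, rfl⟩ := List.getElem_of_mem hl
  rw [r8T_length] at hk
  refine ⟨k, hk, Subtype.ext ?_⟩
  rw [e, R8_val hk]
  congr 1
  unfold r8L
  rw [List.getD_eq_getElem _ _ (by rw [r8T_length]; exact hk)]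

/-! ### the subgroup -/

/-- the centraliser of the involution in `Co0` -/
noncomputable def N : Subgroup ↥Co0 := Subgroup.centralizer {tE}

theorem mem_N {g : ↥Co0} : g ∈ N ↔ tE * g = g * tE := by
  unfold N
  rw [Subgroup.mem_centralizer_iff]
  constructor
  · intro h
    exact h tE rfl
  · intro h2 h hh
    rw [Set.mem_singleton_iff] at hh
    rw [hh]
    exact h2

theorem CH_le_N : CH ≤ N := fun _ hg => mem_N.mpr (mem_CH.mp hg).2

theorem N_fix {g : ↥Co0} (hg : g ∈ N) {y : ↥leechLattice} (hy : tE • y = y) :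
    tE • (g • y) = g • y := by
  rw [← mul_smul, mem_N.mp hg, mul_smul, hy]

/-- the elements permute the roots -/
theorem exists_sig8 {g : ↥Co0} (hg : g ∈ N) {k : ℕ} (hk : k < 240) :
    ∃ k' < 240, g • R8 k = R8 k' := by
  apply exists_R8
  · rw [co0_sqNorm, R8_norm hk]
  · exact N_fix hg (R8_fix hk)

/-! ### the basis vectors -/

/-- the basis vector of index `j` -/
noncomputable def F8 (j : ℕ) : ↥leechLattice :=
  if h : j < 8 then ⟨vecOf (f8L j), mem_of_leechChk (f8_chk j h)⟩ else 0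

theorem F8_val {j : ℕ} (h : j < 8) : ((F8 j : ↥leechLattice) : IVec) = vecOf (f8L j) := by
  unfold F8
  rw [dif_pos h]

theorem F8_apply {j : ℕ} (h : j < 8) {i : ℕ} (hi : i < 24) :
    ((F8 j : ↥leechLattice) : IVec) (gPt i) = f8E j i := by
  rw [F8_val h]
  show (f8L j).getD (gIdx (gPt i)) 0 = _
  rw [gIdx_gPt i hi]
  rfl

theorem F8_fix {j : ℕ} (h : j < 8) : tE • F8 j = F8 j := by
  rw [tE_fix_iff]
  intro i hi hb
  rw [F8_apply h hi]
  exact f8_fix j h i hi hb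

theorem dvd16_F8 {y : ↥leechLattice} (hy : tE • y = y) {j : ℕ} (hj : j < 8) :
    (16 : ℤ) ∣ dotInt (y : IVec) (F8 j : IVec) := by
  rw [F8_val hj]
  exact sixteen_dvd_of_pre hy (f8L j) (f8VT.getD j []) (f8_pre j hj)
    (mem_of_leechChk (f8V_chk j hj))

theorem dvd16_R8 {y : ↥leechLattice} (hy : tE • y = y) {k : ℕ} (hk : k < 240) :
    (16 : ℤ) ∣ dotInt (y : IVec) (R8 k : IVec) := by
  rw [R8_val hk]
  exact sixteen_dvd_of_pre hy (r8L k) (r8VT.getD k []) (r8_pre k hk)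
    (mem_of_leechChk (r8V_chk k hk))

theorem dot_R8_right (y : ↥leechLattice) {k : ℕ} (hk : k < 240) :
    dotInt (y : IVec) (R8 k : IVec) = ∑ i ∈ Finset.range 24, y.1 (gPt i) * r8E k i := by
  rw [R8_val hk, dotInt_vecOf_right]
  rfl

theorem dot_F8_right (y : ↥leechLattice) {j : ℕ} (hj : j < 8) :
    dotInt (y : IVec) (F8 j : IVec) = ∑ i ∈ Finset.range 24, y.1 (gPt i) * f8E j i := by
  rw [F8_val hj, dotInt_vecOf_right]
  rfl

theorem dot_F8_F8 {j l : ℕ} (hj : j < 8) (hl : l < 8) :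
    dotInt (F8 j : IVec) (F8 l : IVec) = lsum 24 (fun i => f8E j i * f8E l i) := by
  rw [F8_val hj, F8_val hl, dotInt_vecOf_vecOf]
  rfl

theorem dot_R8_F8 {k l : ℕ} (hk : k < 240) (hl : l < 8) :
    dotInt (R8 k : IVec) (F8 l : IVec) = lsum 24 (fun i => r8E k i * f8E l i) := by
  rw [R8_val hk, F8_val hl, dotInt_vecOf_vecOf]
  rfl

/-! ### the decomposition of the dot products -/

theorem dec8 {y : ↥leechLattice} (hy : tE • y = y) {k : ℕ} (hk : k < 240) :
    ∃ c : ℤ, dotInt (y : IVec) (R8 k : IVec) =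
      (∑ j ∈ Finset.range 8, bitZ (lab8 k) j * dotInt (y : IVec) (F8 j : IVec)) + 32 * c := by
  obtain ⟨c, hc⟩ := sixteen_dvd_of_pre hy (z8T.getD k []) (z8VT.getD k []) (z8_pre k hk)
    (mem_of_leechChk (z8V_chk k hk))
  refine ⟨c, ?_⟩
  have e : dotInt (y : IVec) (R8 k : IVec) =
      (∑ j ∈ Finset.range 8, bitZ (lab8 k) j * dotInt (y : IVec) (F8 j : IVec)) +
        2 * dotInt (y : IVec) (vecOf (z8T.getD k [])) := by
    have h1 : ∀ j ∈ Finset.range 8, bitZ (lab8 k) j * dotInt (y : IVec) (F8 j : IVec) =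
        ∑ i ∈ Finset.range 24, bitZ (lab8 k) j * (y.1 (gPt i) * f8E j i) := by
      intro j hj
      rw [dot_F8_right y (Finset.mem_range.mp hj), Finset.mul_sum]
    rw [dot_R8_right y hk, dotInt_vecOf_right, Finset.mul_sum, Finset.sum_congr rfl h1,
      Finset.sum_comm, ← Finset.sum_add_distrib]
    refine Finset.sum_congr rfl fun i hi => ?_
    rw [Finset.mem_range] at hi
    rw [r8_dec k hk i hi, lsum_eq, mul_add, Finset.mul_sum]
    congr 1
    · exact Finset.sum_congr rfl fun j _ => by ring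
    · show _ = 2 * (y.1 (gPt i) * z8E k i)
      ring
  rw [e, hc]
  ring

/-! ### labels -/

/-- the label of a vector -/
noncomputable def lb8 (x : ↥leechLattice) (i : ℕ) : ZMod 2 :=
  ((dotInt (x : IVec) (F8 ((i + 4) % 8) : IVec) / 16 : ℤ) : ZMod 2)

theorem dual_lt (i : ℕ) : (i + 4) % 8 < 8 := Nat.mod_lt _ (by norm_num)

theorem lb8_R8 {k : ℕ} (hk : k < 240) {i : ℕ} (hi : i < 8) :
    lb8 (R8 k) i = ((bitZ (lab8 k) i : ℤ) : ZMod 2) := by
  unfold lb8
  rw [ZMod.intCast_eq_intCast_iff']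
  have h := r8_lab k hk i hi
  rw [← dot_R8_F8 hk (dual_lt i)] at h
  rcases bitZ_cases (lab8 k) i with hb | hb <;> rw [hb] at h ⊢ <;> omega

theorem lb8_F8 {j : ℕ} (hj : j < 8) {i : ℕ} (hi : i < 8) :
    lb8 (F8 j) i = if j = i then 1 else 0 := by
  unfold lb8
  have h := f8_lab j hj i hi
  rw [← dot_F8_F8 hj (dual_lt i)] at h
  have h16 := dvd16_F8 (F8_fix hj) (dual_lt i)
  by_cases hji : j = i
  · rw [if_pos hji] at h ⊢
    have : ((1 : ℤ) : ZMod 2) = 1 := by norm_num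
    rw [← this, ZMod.intCast_eq_intCast_iff']
    omega
  · rw [if_neg hji] at h ⊢
    have : ((0 : ℤ) : ZMod 2) = 0 := by norm_num
    rw [← this, ZMod.intCast_eq_intCast_iff']
    omega

/-- linearity of the labels of the images of the roots -/
theorem lin8 {g : ↥Co0} (hg : g ∈ N) {k : ℕ} (hk : k < 240) {i : ℕ} (hi : i < 8) :
    lb8 (g • R8 k) i =
      ∑ j ∈ Finset.range 8, ((bitZ (lab8 k) j : ℤ) : ZMod 2) * lb8 (g • F8 j) i := by
  have hi' := dual_lt i
  have hgi : g⁻¹ ∈ N := N.inv_mem hg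
  have hy : tE • (g⁻¹ • F8 ((i + 4) % 8)) = g⁻¹ • F8 ((i + 4) % 8) := N_fix hgi (F8_fix hi')
  have tr : ∀ x : ↥leechLattice,
      dotInt ((g • x : ↥leechLattice) : IVec) (F8 ((i + 4) % 8) : IVec) =
      dotInt ((g⁻¹ • F8 ((i + 4) % 8) : ↥leechLattice) : IVec) (x : IVec) := by
    intro x
    have := co0_dotInt g⁻¹ (g • x) (F8 ((i + 4) % 8))
    rw [inv_smul_smul] at this
    rw [← this, dotInt_comm']
  obtain ⟨c, hc⟩ := dec8 hy hk
  -- the quotients
  obtain ⟨dk, hdk⟩ := dvd16_F8 (N_fix hg (R8_fix hk)) hi'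
  have hF : ∀ j : ℕ, ∃ d : ℤ, j < 8 →
      dotInt ((g • F8 j : ↥leechLattice) : IVec) (F8 ((i + 4) % 8) : IVec) = 16 * d := by
    intro j
    by_cases hj : j < 8
    · obtain ⟨d, hd⟩ := dvd16_F8 (N_fix hg (F8_fix hj)) hi'
      exact ⟨d, fun _ => hd⟩
    · exact ⟨0, fun h => absurd h hj⟩
  choose D hD using hF
  have hc' : 16 * dk = (∑ j ∈ Finset.range 8, bitZ (lab8 k) j * (16 * D j)) + 32 * c := by
    rw [← hdk, tr, hc]
    congr 1
    refine Finset.sum_congr rfl fun j hj => ?_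
    rw [← tr, hD j (Finset.mem_range.mp hj)]
  have e : dk = (∑ j ∈ Finset.range 8, bitZ (lab8 k) j * D j) + 2 * c := by
    have : (∑ j ∈ Finset.range 8, bitZ (lab8 k) j * (16 * D j)) =
        16 * ∑ j ∈ Finset.range 8, bitZ (lab8 k) j * D j := by
      rw [Finset.mul_sum]
      exact Finset.sum_congr rfl fun j _ => by ring
    rw [this] at hc'
    omega
  have lhs : lb8 (g • R8 k) i = ((dk : ℤ) : ZMod 2) := by
    unfold lb8
    rw [hdk, Int.mul_ediv_cancel_left _ (by norm_num)]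
  have rhs : ∀ j ∈ Finset.range 8, lb8 (g • F8 j) i = ((D j : ℤ) : ZMod 2) := by
    intro j hj
    unfold lb8
    rw [hD j (Finset.mem_range.mp hj), Int.mul_ediv_cancel_left _ (by norm_num)]
  have rsum : ∑ j ∈ Finset.range 8, ((bitZ (lab8 k) j : ℤ) : ZMod 2) * lb8 (g • F8 j) i =
      ∑ j ∈ Finset.range 8, ((bitZ (lab8 k) j : ℤ) : ZMod 2) * ((D j : ℤ) : ZMod 2) :=
    Finset.sum_congr rfl (fun j hj => by rw [rhs j hj])
  rw [lhs, rsum, e]
  push_cast
  rw [two_zmod, zero_mul, add_zero]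

/-! ### the matrices -/

/-- the index of a coordinate -/
def eI8 : Fin 4 ⊕ Fin 4 → ℕ := Sum.elim (fun i => i.val) (fun i => i.val + 4)

theorem eI8_lt (a : Fin 4 ⊕ Fin 4) : eI8 a < 8 := by
  rcases a with i | i <;> simp only [eI8, Sum.elim_inl, Sum.elim_inr] <;> omega

theorem eI8_inj : Function.Injective eI8 := by
  intro a b
  revert a b
  decide

/-- the vector of bits of a number -/
def bitsV8 (n : ℕ) : Fin 4 ⊕ Fin 4 → ZMod 2 := fun a => ((bitZ n (eI8 a) : ℤ) : ZMod 2)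

/-- the matrix of an element -/
noncomputable def Mx8 (g : ↥Co0) : Matrix (Fin 4 ⊕ Fin 4) (Fin 4 ⊕ Fin 4) (ZMod 2) :=
  Matrix.of fun a b => lb8 (g • F8 (eI8 b)) (eI8 a)

theorem sum_eI8 (f : ℕ → ZMod 2) :
    ∑ b : Fin 4 ⊕ Fin 4, f (eI8 b) = ∑ j ∈ Finset.range 8, f j := by
  simp only [Fintype.sum_sum_type, Fin.sum_univ_four, Finset.sum_range_succ, Finset.sum_range_zero,
    eI8, Sum.elim_inl, Sum.elim_inr, Fin.val_zero, Fin.val_one, Fin.val_two, zero_add]
  have e3 : ((3 : Fin 4) : ℕ) = 3 := rfl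
  rw [e3]
  show f 0 + f 1 + f 2 + f 3 + (f 4 + f 5 + f 6 + f 7) = _
  ring

theorem Mx8_mulVec {g : ↥Co0} (hg : g ∈ N) {k : ℕ} (hk : k < 240) (a : Fin 4 ⊕ Fin 4) :
    (Mx8 g).mulVec (bitsV8 (lab8 k)) a = lb8 (g • R8 k) (eI8 a) := by
  rw [lin8 hg hk (eI8_lt a),
    ← sum_eI8 (fun j => ((bitZ (lab8 k) j : ℤ) : ZMod 2) * lb8 (g • F8 j) (eI8 a))]
  unfold Matrix.mulVec dotProduct
  exact Finset.sum_congr rfl fun b _ => mul_comm _ _

/-- the matrix maps the label of a root to the label of its image -/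
theorem Mx8_lab {g : ↥Co0} (hg : g ∈ N) {k k' : ℕ} (hk : k < 240) (hk' : k' < 240)
    (e : g • R8 k = R8 k') : (Mx8 g).mulVec (bitsV8 (lab8 k)) = bitsV8 (lab8 k') := by
  funext a
  rw [Mx8_mulVec hg hk, e, lb8_R8 hk' (eI8_lt a)]
  rfl

/-- two roots whose labels add up to a basis vector -/
def spP (j : ℕ) : ℕ := [0, 0, 0, 16, 2, 4, 0, 16].getD j 0
def spQ (j : ℕ) : ℕ := [2, 4, 8, 200, 14, 50, 64, 166].getD j 0

theorem sp_lt : ∀ j < 8, spP j < 240 ∧ spQ j < 240 := by decide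

set_option maxRecDepth 100000 in
theorem sp_spec : ∀ b : Fin 4 ⊕ Fin 4,
    bitsV8 (lab8 (spP (eI8 b))) + bitsV8 (lab8 (spQ (eI8 b))) = Pi.single b 1 := by
  decide +kernel

/-- a matrix is determined by its values on the labels of the roots -/
theorem Mx8_ext {A B : Matrix (Fin 4 ⊕ Fin 4) (Fin 4 ⊕ Fin 4) (ZMod 2)}
    (H : ∀ k < 240, A.mulVec (bitsV8 (lab8 k)) = B.mulVec (bitsV8 (lab8 k))) : A = B := by
  ext a b
  obtain ⟨h1, h2⟩ := sp_lt _ (eI8_lt b)
  have h3 : A.mulVec (Pi.single b 1) = B.mulVec (Pi.single b 1) := by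
    rw [← sp_spec b, Matrix.mulVec_add, Matrix.mulVec_add, H _ h1, H _ h2]
  have h4 := congrFun h3 a
  rw [Matrix.mulVec_single_one, Matrix.mulVec_single_one] at h4
  exact h4

theorem Mx8_one : Mx8 1 = 1 := by
  ext a b
  show lb8 ((1 : ↥Co0) • F8 (eI8 b)) (eI8 a) = _
  rw [one_smul, lb8_F8 (eI8_lt b) (eI8_lt a), Matrix.one_apply]
  by_cases h : a = b
  · subst h
    rw [if_pos rfl, if_pos rfl]
  · rw [if_neg h, if_neg (fun h' => h (eI8_inj h').symm)]

theorem Mx8_mul {g h : ↥Co0} (hg : g ∈ N) (hh : h ∈ N) : Mx8 (g * h) = Mx8 g * Mx8 h := by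
  apply Mx8_ext
  intro k hk
  obtain ⟨k', hk', e⟩ := exists_sig8 hh hk
  obtain ⟨k'', hk'', e'⟩ := exists_sig8 hg hk'
  rw [← Matrix.mulVec_mulVec, Mx8_lab hh hk hk' e, Mx8_lab hg hk' hk'' e',
    Mx8_lab (N.mul_mem hg hh) hk hk'' (by rw [mul_smul, e, e'])]

/-! ### the matrices are isometries -/

/-- the number of a vector -/
def enc8 (w : Fin 4 ⊕ Fin 4 → ZMod 2) : ℕ :=
  (w (.inl 0)).val + 2 * (w (.inl 1)).val + 4 * (w (.inl 2)).val + 8 * (w (.inl 3)).val +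
    16 * (w (.inr 0)).val + 32 * (w (.inr 1)).val + 64 * (w (.inr 2)).val +
    128 * (w (.inr 3)).val

set_option maxRecDepth 1000000 in
theorem bitsV8_enc : ∀ w : Fin 4 ⊕ Fin 4 → ZMod 2, enc8 w < 256 ∧ bitsV8 (enc8 w) = w := by
  decide +kernel

set_option maxRecDepth 1000000 in
theorem enc8_bits : ∀ n < 256, enc8 (bitsV8 n) = n := by decide +kernel

theorem bitsV8_inj {m n : ℕ} (hm : m < 256) (hn : n < 256) (h : bitsV8 m = bitsV8 n) : m = n := by
  rw [← enc8_bits m hm, ← enc8_bits n hn, h]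

theorem cast_qN (n : ℕ) :
    Cfsg.quadFormPlus 4 (ZMod 2) (bitsV8 n) = ((qN n : ℤ) : ZMod 2) := by
  unfold Cfsg.quadFormPlus qN
  rw [Fin.sum_univ_four, cast_mod_two]
  simp only [bitsV8, eI8, Sum.elim_inl, Sum.elim_inr, Fin.val_zero, Fin.val_one, Fin.val_two,
    zero_add]
  have e3 : ((3 : Fin 4) : ℕ) = 3 := rfl
  rw [e3]
  push_cast
  ring

theorem qN_cases (n : ℕ) : qN n = 0 ∨ qN n = 1 := by
  unfold qN
  omega

theorem zmod2_cases (x : ZMod 2) : x = 0 ∨ x = 1 := by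
  revert x
  decide

theorem labT_length : labT.length = 120 := by decide

/-- the vectors on which the form takes the value 1 are the labels of the roots -/
theorem qone_iff (w : Fin 4 ⊕ Fin 4 → ZMod 2) :
    Cfsg.quadFormPlus 4 (ZMod 2) w = 1 ↔ ∃ k < 240, w = bitsV8 (lab8 k) := by
  constructor
  · intro h
    obtain ⟨hn, hw⟩ := bitsV8_enc w
    rw [← hw, cast_qN] at h
    have hq : qN (enc8 w) = 1 := by
      rcases qN_cases (enc8 w) with h0 | h1
      · rw [h0] at h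
        exact absurd h (by decide)
      · exact h1
    have hm := List.contains_iff_mem.mp (lab_all _ hn hq)
    obtain ⟨i, hi, e⟩ := List.getElem_of_mem hm
    rw [labT_length] at hi
    refine ⟨2 * i, by omega, ?_⟩
    rw [← hw]
    congr 1
    unfold lab8
    rw [Nat.mul_div_cancel_left _ (by norm_num), List.getD_eq_getElem _ _ (by rw [labT_length]; exact hi)]
    exact e.symm
  · rintro ⟨k, hk, rfl⟩
    rw [cast_qN, lab_q k hk]
    rfl

theorem Mx8_inv_mul {g : ↥Co0} (hg : g ∈ N) : Mx8 g⁻¹ * Mx8 g = 1 := by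
  rw [← Mx8_mul (N.inv_mem hg) hg, inv_mul_cancel, Mx8_one]

theorem Mx8_mul_inv {g : ↥Co0} (hg : g ∈ N) : Mx8 g * Mx8 g⁻¹ = 1 := by
  rw [← Mx8_mul hg (N.inv_mem hg), mul_inv_cancel, Mx8_one]

theorem Mx8_qone {g : ↥Co0} (hg : g ∈ N) {w : Fin 4 ⊕ Fin 4 → ZMod 2}
    (hw : Cfsg.quadFormPlus 4 (ZMod 2) w = 1) :
    Cfsg.quadFormPlus 4 (ZMod 2) ((Mx8 g).mulVec w) = 1 := by
  obtain ⟨k, hk, rfl⟩ := (qone_iff w).mp hw
  obtain ⟨k', hk', e⟩ := exists_sig8 hg hk
  rw [Mx8_lab hg hk hk' e]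
  exact (qone_iff _).mpr ⟨k', hk', rfl⟩

/-- the matrices preserve the quadratic form -/
theorem Mx8_iso {g : ↥Co0} (hg : g ∈ N) (w : Fin 4 ⊕ Fin 4 → ZMod 2) :
    Cfsg.quadFormPlus 4 (ZMod 2) ((Mx8 g).mulVec w) = Cfsg.quadFormPlus 4 (ZMod 2) w := by
  rcases zmod2_cases (Cfsg.quadFormPlus 4 (ZMod 2) w) with h0 | h1
  · rcases zmod2_cases (Cfsg.quadFormPlus 4 (ZMod 2) ((Mx8 g).mulVec w)) with h0' | h1'
    · rw [h0, h0']
    · exfalso
      have := Mx8_qone (N.inv_mem hg) h1'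
      rw [Matrix.mulVec_mulVec, Mx8_inv_mul hg, Matrix.one_mulVec, h0] at this
      exact absurd this (by decide)
  · rw [h1, Mx8_qone hg h1]

/-! ### the homomorphism -/

/-- the matrix as an invertible matrix -/
noncomputable def Mx8U (g : ↥N) : GL (Fin 4 ⊕ Fin 4) (ZMod 2) :=
  ⟨Mx8 g.1, Mx8 g.1⁻¹, Mx8_mul_inv g.2, Mx8_inv_mul g.2⟩

/-- the homomorphism to the isometry group -/
noncomputable def psi0 : ↥N →* ↥(Cfsg.isometryGroup (ZMod 2) (Cfsg.quadFormPlus 4 (ZMod 2))) where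
  toFun g := ⟨Mx8U g, fun u _ => Mx8_iso g.2 u⟩
  map_one' := Subtype.ext (Units.ext Mx8_one)
  map_mul' g h := Subtype.ext (Units.ext (Mx8_mul g.2 h.2))

theorem psi0_val (g : ↥N) :
    (((psi0 g : ↥(Cfsg.isometryGroup (ZMod 2) (Cfsg.quadFormPlus 4 (ZMod 2)))) :
      GL (Fin 4 ⊕ Fin 4) (ZMod 2)) : Matrix (Fin 4 ⊕ Fin 4) (Fin 4 ⊕ Fin 4) (ZMod 2)) =
      Mx8 g.1 := rfl

/-! ### the kernel -/

theorem lab8_xor : ∀ k < 240, lab8 (k ^^^ 1) = lab8 k := by decide +kernel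

theorem psi0_eq_one_iff (g : ↥N) :
    psi0 g = 1 ↔ ∀ k < 240, g.1 • R8 k = R8 k ∨ g.1 • R8 k = - R8 k := by
  constructor
  · intro h k hk
    have hM : Mx8 g.1 = 1 := by
      rw [← psi0_val, h]
      rfl
    obtain ⟨k', hk', e⟩ := exists_sig8 g.2 hk
    have h1 := Mx8_lab g.2 hk hk' e
    rw [hM, Matrix.one_mulVec] at h1
    have h2 := bitsV8_inj (lab_lt k hk) (lab_lt k' hk') h1
    rcases lab_inj k hk k' hk' h2 with h3 | h3
    · left; rw [e, h3]
    · right; rw [e, h3, R8_neg hk]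
  · intro h
    apply Subtype.ext
    apply Units.ext
    show Mx8 g.1 = 1
    apply Mx8_ext
    intro k hk
    rw [Matrix.one_mulVec]
    rcases h k hk with h1 | h1
    · exact Mx8_lab g.2 hk hk h1
    · rw [← R8_neg hk] at h1
      rw [Mx8_lab g.2 hk (xor8_lt k hk) h1, lab8_xor k hk]

end Cfsg.Agent.Helper26.Co1Inv
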