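import Mathlib
import Cfsg.Agent.Helper5.OmegaCard
import Cfsg.Agent.Helper5.GrpIndex
import Cfsg.Agent.S0287
import Cfsg.Agent.S0296

/-!
# The orthogonal group of plus type in dimension 8 over the field with two elements

Order, index and simplicity of the commutator subgroup, collected from the general results.
-/

set_option autoImplicit false

namespace Cfsg.Agent.Helper26.Co1Inv

open Cfsg Cfsg.Agent.Helper5

/-- the isometry group -/
abbrev O8 : Subgroup (GL (Fin 4 ⊕ Fin 4) (ZMod 2)) :=
  Cfsg.isometryGroup (ZMod 2) (Cfsg.quadFormPlus 4 (ZMod 2))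

/-- its commutator subgroup -/
abbrev Om8 : Subgroup ↥O8 := Cfsg.Omega (ZMod 2) (Cfsg.quadFormPlus 4 (ZMod 2))

theorem card_O8 : Nat.card ↥O8 = 348364800 := by
  have h := Cfsg.Agent.S0287.result (F := ZMod 2) (q := 2) (ZMod.card 2) 4 (by norm_num)
  rw [h]
  norm_num [Finset.prod_range_succ]

instance finite_O8 : Finite ↥O8 := Nat.finite_of_card_ne_zero (by rw [card_O8]; norm_num)

theorem index_Om8 : Om8.index = 2 := by
  haveI : CharP (ZMod 2) 2 := ZMod.charP 2
  have := index_Omega_eq_two (Cfsg.Agent.Helper44.plusForm 4 (ZMod 2))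
    (Cfsg.Agent.Helper44.nondegenerate_plusForm 4) (Or.inr (by simp)) (by simp)
  exact this

theorem card_Om8 : Nat.card ↥Om8 = 174182400 := by
  have h := Subgroup.card_mul_index Om8
  rw [index_Om8, card_O8] at h
  omega

theorem center_Om8 : Subgroup.center ↥Om8 = ⊥ := by
  apply center_Omega_eq_bot _ (Hc_plus 1)
  intro g _ hgm
  rw [hgm]
  ext i j
  by_cases hij : i = j <;> simp [hij, Matrix.one_apply]

/-- the commutator subgroup as the projective group -/
noncomputable def om8Equiv : ↥Om8 ≃* Cfsg.POmega (ZMod 2) (Cfsg.quadFormPlus 4 (ZMod 2)) :=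
  (QuotientGroup.quotientBot (G := ↥Om8)).symm.trans
    (QuotientGroup.quotientMulEquivOfEq center_Om8.symm)

instance simple_Om8 : IsSimpleGroup ↥Om8 := by
  have : IsSimpleGroup (Cfsg.POmega (ZMod 2) (Cfsg.quadFormPlus 4 (ZMod 2))) :=
    Cfsg.Agent.S0296.result (F := ZMod 2) 4 (by norm_num)
  exact om8Equiv.isSimpleGroup

theorem not_isPGroup_Om8 : ¬ IsPGroup 2 ↥Om8 := by
  intro hp
  obtain ⟨k, hk⟩ := hp.exists_card_eq
  rw [card_Om8] at hk
  have h3 : (3 : ℕ) ∣ 2 ^ k := by rw [← hk]; norm_num
  have := Nat.Prime.dvd_of_dvd_pow Nat.prime_three h3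
  omega

/-- a subgroup of the isometry group of the order of the commutator subgroup is that subgroup -/
theorem eq_Om8_of_card (H : Subgroup ↥O8) (hH : Nat.card ↥H = 174182400) : H = Om8 := by
  have hidx : H.index = 2 := by
    have h := Subgroup.card_mul_index H
    rw [hH, card_O8] at h
    omega
  have hle : Om8 ≤ H := commutator_le_of_index_two H hidx
  exact (Subgroup.eq_of_le_of_card_ge hle (by rw [hH, card_Om8])).symm

end Cfsg.Agent.Helper26.Co1Inv
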