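import Cfsg.Agent.Helper26.Co1InvC
import Cfsg.Agent.Helper26.Co1InvO

/-!
# The centraliser of an involution of `Co1`: orders

The centraliser `N` of `tE` in `Co0` is transitive on the 240 roots (a search tree over three
explicit elements), so its order is `240 |CH|`; the kernel of `psi0` is the kernel of `phi` together
with its negative; hence the image of `psi0` is the commutator subgroup of the orthogonal group.
-/

set_option autoImplicit false

namespace Cfsg.Agent.Helper26.Co1Inv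

open Cfsg Cfsg.Agent.Helper7 Cfsg.Agent.Helper8 Cfsg.Agent.Helper27 Cfsg.Agent.Helper26.Co2Inv
  MulAction

/-! ### data -/

/-- a word -/
def gW0 : List Letter := [
  .X,
  .P [4, 0, 23, 20, 13, 7, 8, 21, 14, 10, 6, 12, 15, 1, 17, 5, 16, 18, 19, 9, 11, 3, 22, 2] [1, 13, 23, 21, 0, 15, 10, 5, 6, 19, 9, 20, 11, 4, 8, 12, 16, 14, 17, 18, 3, 7, 22, 2]]

/-- a word -/
def gW1 : List Letter := [
  .P [16, 2, 23, 10, 22, 12, 15, 20, 14, 19, 5, 6, 17, 1, 9, 7, 0, 18, 21, 8, 3, 11, 13, 4] [16, 13, 1, 20, 23, 10, 11, 15, 19, 14, 3, 21, 5, 22, 8, 6, 0, 12, 17, 9, 7, 18, 4, 2]]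

/-- a word -/
def gW2 : List Letter := [
  .S 5279]

/-- the parents in the search tree -/
def parT : List ℕ := [220, 221, 3, 71, 88, 89, 5, 97, 2, 3, 209, 208, 13, 75, 120, 121, 118, 118, 49, 48, 93, 92, 209, 208, 211, 125, 117, 51, 52, 187, 9, 30, 105, 131, 35, 65, 18, 19, 11, 24, 177, 176, 175, 174, 63, 62, 142, 143, 126, 120, 54, 55, 56, 57, 207, 168, 82, 115, 55, 54, 158, 58, 36, 37, 213, 212, 108, 176, 107, 106, 125, 126, 33, 32, 75, 151, 105, 104, 205, 90, 93, 92, 19, 18, 187, 20, 228, 229, 87, 86, 19, 18, 14, 15, 42, 43, 162, 44, 193, 98, 60, 61, 103, 5, 129, 128, 97, 96, 37, 36, 161, 84, 83, 82, 169, 168, 171, 170, 79, 78, 71, 48, 51, 23, 217, 216, 126, 53, 3, 2, 184, 185, 218, 219, 186, 187, 191, 190, 50, 51, 143, 218, 146, 151, 30, 146, 238, 239, 151, 108, 149, 37, 7, 6, 65, 29, 81, 80, 79, 78, 130, 131, 113, 171, 97, 44, 178, 179, 228, 229, 56, 57, 165, 164, 8, 9, 113, 66, 210, 211,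 208, 28, 210, 211, 185, 82, 158, 115, 193, 165, 66, 67, 59, 58, 141, 44, 11, 60, 129, 128, 232, 94, 220, 221, 57, 56, 226, 227, 79, 205, 206, 207, 9, 8, 63, 62, 15, 14, 93, 92, 216, 217, 174, 175, 180, 230, 121, 228, 48, 226, 170, 171, 176, 177, 146, 135, 20, 21, 86, 238]

/-- the generators in the search tree -/
def genT : List ℕ := [1, 1, 2, 0, 1, 1, 0, 1, 0, 0, 1, 1, 1, 0, 0, 0, 0, 1, 0, 0, 2, 2, 2, 2, 2, 0, 1, 0, 0, 1, 0, 2, 2, 1, 2, 0, 1, 1, 0, 1, 1, 1, 2, 2, 1, 1, 1, 1, 1, 2, 0, 0, 0, 0, 2, 1, 1, 0, 1, 1, 1, 0, 0, 0, 1, 1, 0, 2, 0, 0, 1, 2, 0, 0, 2, 1, 0, 0, 1, 0, 0, 0, 0, 0, 2, 0, 1, 1, 0, 0, 2, 2, 0, 0, 0, 0, 1, 0, 2, 0, 1, 1, 2, 1, 1, 1, 0, 0, 2, 2, 2, 0, 0, 0, 2, 2, 2, 2, 0, 0, 1, 2, 2, 0, 1, 1, 0, 1, 1, 1, 0, 0, 1, 1, 0, 0, 0, 0, 1, 1, 2, 0, 1, 0, 1, 2, 0, 0, 2, 1, 2, 1, 2, 2, 2, 1, 2, 2, 2, 2, 0, 0, 2, 1, 2, 1, 1, 1, 0, 0, 1, 1, 1, 1, 1, 1, 1, 2, 1, 1, 0, 2, 0, 0, 1, 2, 0, 1, 1, 0, 1,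 1, 1, 1, 0, 2, 1, 2, 0, 0, 0, 2, 0, 0, 2, 2, 0, 0, 1, 0, 0, 0, 2, 2, 2, 2, 1, 1, 1, 1, 0, 0, 0, 0, 0, 2, 1, 2, 1, 2, 0, 0, 0, 0, 0, 1, 1, 1, 1, 2]

/-- the depths in the search tree -/
def rkT : List ℕ := [6, 6, 3, 2, 7, 5, 6, 7, 4, 3, 7, 6, 7, 6, 3, 3, 6, 6, 4, 2, 5, 5, 7, 6, 6, 6, 7, 6, 6, 6, 4, 5, 5, 6, 7, 6, 5, 3, 7, 7, 7, 6, 5, 6, 5, 7, 7, 6, 1, 3, 6, 5, 5, 6, 5, 4, 4, 5, 5, 6, 6, 6, 6, 4, 6, 5, 5, 6, 8, 8, 6, 1, 7, 6, 6, 5, 5, 6, 6, 4, 5, 5, 3, 5, 6, 6, 3, 5, 6, 4, 3, 5, 4, 4, 6, 7, 6, 6, 7, 8, 7, 7, 7, 6, 5, 4, 7, 7, 4, 6, 7, 7, 6, 4, 6, 4, 7, 6, 5, 7, 2, 2, 6, 7, 5, 5, 0, 7, 3, 4, 6, 5, 6, 6, 7, 6, 8, 7, 7, 6, 6, 6, 6, 5, 5, 6, 5, 6, 5, 5, 6, 4, 8, 7, 6, 7, 6, 6, 5, 7, 7, 6, 5, 7, 7, 6, 7, 7, 3, 5, 5, 6, 7, 8, 5, 4, 5, 6, 6, 6, 6, 7, 6, 6, 5, 4, 6, 5, 7, 7, 6, 7, 7, 6, 7, 6, 7, 7, 5, 4, 7, 7, 6, 6, 6, 5, 4, 4, 5, 6, 5, 5, 4, 5, 5, 7, 4, 4, 5, 5, 5, 5, 6, 5, 7, 7, 3, 3, 2, 4, 6, 7, 6, 7,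 6, 7, 6, 6, 4, 5]

/-- the words -/
def genW (i : ℕ) : List Letter := [gW0, gW1, gW2].getD i []

def par (k : ℕ) : ℕ := parT.getD k 0
def gen (k : ℕ) : ℕ := genT.getD k 0
def rk (k : ℕ) : ℕ := rkT.getD k 0

set_option maxRecDepth 1000000 in
theorem genW_ok : ∀ i < 3, okW (genW i) = true := by decide +kernel

set_option maxRecDepth 1000000 in
theorem genW_comm : ∀ i < 3, ∀ k < 24,
    runW (genW i ++ tW) (basisL k) = runW (tW ++ genW i) (basisL k) := by decide +kernel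

set_option maxRecDepth 1000000 in
theorem tree_ok : ∀ k < 240, k ≠ 126 → par k < 240 ∧ rk (par k) < rk k ∧ gen k < 3 ∧
    runW (genW (gen k)) (r8L (par k)) = r8L k := by decide +kernel

/-! ### transitivity -/

/-- an element of `N` from a word -/
theorem exists_N_of_word (W : List Letter) (hW : okW W = true)
    (hc : ∀ k < 24, runW (W ++ tW) (basisL k) = runW (tW ++ W) (basisL k)) :
    ∃ g : ↥Co0, g ∈ N ∧ Acts g W := by
  obtain ⟨e, he⟩ := exists_co0_word W hW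
  have hact : Acts e W := he
  refine ⟨e, mem_N.mpr ?_, hact⟩
  exact Acts.ext (hact.mul acts_tE) (acts_tE.mul hact) (okW_append hW tW_ok)
    (okW_append tW_ok hW) hc

theorem reach : ∀ n : ℕ, ∀ k < 240, rk k = n → ∃ g ∈ N, g • u0 = R8 k := by
  intro n
  induction n using Nat.strong_induction_on with
  | _ n ih =>
    intro k hk hr
    by_cases h126 : k = 126
    · subst h126
      exact ⟨1, N.one_mem, by rw [one_smul, R8_u]⟩
    · obtain ⟨h1, h2, h3, h4⟩ := tree_ok k hk h126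
      obtain ⟨g0, hg0, e0⟩ := ih (rk (par k)) (by rw [← hr]; exact h2) (par k) h1 rfl
      obtain ⟨e, heN, hact⟩ := exists_N_of_word (genW (gen k)) (genW_ok _ h3) (genW_comm _ h3)
      refine ⟨e * g0, N.mul_mem heN hg0, ?_⟩
      rw [mul_smul, e0]
      apply Subtype.ext
      rw [hact.run (genW_ok _ h3) (R8_val h1), h4, R8_val hk]

/-! ### the roots are distinct -/

theorem R8_ne_zero {k : ℕ} (hk : k < 240) : R8 k ≠ 0 := by
  intro h
  have h1 := R8_norm hk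
  rw [h] at h1
  simp [sqNorm] at h1

theorem R8_inj {k k' : ℕ} (hk : k < 240) (hk' : k' < 240) (e : R8 k = R8 k') : k = k' := by
  have h1 : bitsV8 (lab8 k) = bitsV8 (lab8 k') := by
    funext a
    show ((bitZ (lab8 k) (eI8 a) : ℤ) : ZMod 2) = ((bitZ (lab8 k') (eI8 a) : ℤ) : ZMod 2)
    rw [← lb8_R8 hk (eI8_lt a), ← lb8_R8 hk' (eI8_lt a), e]
  have h2 := bitsV8_inj (lab_lt k hk) (lab_lt k' hk') h1
  rcases lab_inj k hk k' hk' h2 with h3 | h3
  · exact h3.symm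
  · exfalso
    rw [h3, R8_neg hk] at e
    have h0 : R8 k = 0 := by
      apply Subtype.ext
      funext p
      have h4 := congrArg (fun v : ↥leechLattice => (v : IVec) p) e
      simp only [AddSubgroup.coe_neg, Pi.neg_apply] at h4
      show (R8 k : IVec) p = 0
      omega
    exact R8_ne_zero hk h0

/-! ### the order of the centraliser -/

theorem card_N : Nat.card ↥N = 240 * Nat.card ↥CH := by
  let S : Set ↥leechLattice := Set.range (fun k : Fin 240 => R8 k.val)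
  have hS : ∀ s ∈ S, ∃ g : ↥N, g • u0 = s := by
    rintro s ⟨k, rfl⟩
    obtain ⟨g, hg, e⟩ := reach _ k.val k.2 rfl
    exact ⟨⟨g, hg⟩, e⟩
  have h1 := card_fiber_set (G := ↥N) u0 S hS
  have e1 : Nat.card {g : ↥N // g • u0 ∈ S} = Nat.card ↥N :=
    Nat.card_congr (Equiv.subtypeUnivEquiv fun g => by
      obtain ⟨k', hk', e⟩ := exists_sig8 g.2 (show 126 < 240 by norm_num)
      rw [R8_u] at e
      exact ⟨⟨k', hk'⟩, e.symm⟩)
  have c1 : Nat.card ↥S = 240 := by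
    have hinj : Function.Injective (fun k : Fin 240 => R8 k.val) :=
      fun a b h => Fin.ext (R8_inj a.2 b.2 h)
    rw [Nat.card_congr (Equiv.ofInjective _ hinj).symm, Nat.card_eq_fintype_card,
      Fintype.card_fin]
  have c2 : Nat.card ↥(stabilizer ↥N u0) = Nat.card ↥CH :=
    Nat.card_congr
      { toFun := fun x => ⟨x.1.1, mem_CH.mpr ⟨mem_stabilizer_iff.mp x.2, mem_N.mp x.1.2⟩⟩
        invFun := fun y => ⟨⟨y.1, CH_le_N y.2⟩, mem_stabilizer_iff.mpr (mem_CH.mp y.2).1⟩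
        left_inv := fun _ => rfl
        right_inv := fun _ => rfl }
  rw [← e1, h1, c1, c2]

/-! ### the kernel -/

theorem neg_mem_N : negCo0 ∈ N := by
  rw [mem_N]
  have h := negCo0_mem_center
  rw [Subgroup.mem_center_iff] at h
  exact h tE

theorem psi0_neg : psi0 ⟨negCo0, neg_mem_N⟩ = 1 := by
  rw [psi0_eq_one_iff]
  intro k _
  right
  exact negCo0_smul _

/-- the kernel of `phi` fixes the vectors fixed by the involution -/
theorem ker_fix {g : ↥CH} (hg : phi g = 1) {y : ↥leechLattice} (hy : tE • y = y) :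
    g.1 • y = y := by
  obtain ⟨n, hn, e⟩ := exists_eN_of_ker hg
  rw [e]
  exact fix_of_tE_fixed (eN_tab hn).1 hy

theorem psi0_of_ker {g : ↥CH} (hg : phi g = 1) : psi0 ⟨g.1, CH_le_N g.2⟩ = 1 := by
  rw [psi0_eq_one_iff]
  intro k hk
  left
  exact ker_fix hg (R8_fix hk)

/-- an element of the kernel of `psi0` that fixes `u0` is in the kernel of `phi` -/
theorem ker_of_psi0 {g : ↥N} (hg : psi0 g = 1) (hu : g.1 • u0 = u0) :
    ∃ hc : g.1 ∈ CH, phi ⟨g.1, hc⟩ = 1 := by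
  have hc : g.1 ∈ CH := mem_CH.mpr ⟨hu, mem_N.mp g.2⟩
  refine ⟨hc, ?_⟩
  rw [phi_eq_one_iff]
  intro k hk
  have := (psi0_eq_one_iff g).mp hg k (by omega)
  rwa [R8_eq_R hk] at this

theorem u0_ne_neg : (u0 : ↥leechLattice) ≠ -u0 := by
  intro h
  have h0 : (u0 : ↥leechLattice) = 0 := by
    apply Subtype.ext
    funext p
    have h4 := congrArg (fun v : ↥leechLattice => (v : IVec) p) h
    simp only [AddSubgroup.coe_neg, Pi.neg_apply] at h4
    show (u0 : IVec) p = 0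
    omega
  have h1 := u0_norm
  rw [h0] at h1
  simp [sqNorm] at h1

/-- minus the identity, in the kernel -/
noncomputable def negK : ↥psi0.ker := ⟨⟨negCo0, neg_mem_N⟩, psi0_neg⟩

/-- the kernel of `phi`, in the kernel -/
noncomputable def iotaK (k : ↥Co2Inv.phi.ker) : ↥psi0.ker :=
  ⟨⟨k.1.1, CH_le_N k.1.2⟩, psi0_of_ker k.2⟩

theorem iotaK_u0 (k : ↥Co2Inv.phi.ker) : (iotaK k).1.1 • u0 = u0 := (mem_CH.mp k.1.2).1

theorem iotaK_inj : Function.Injective iotaK := by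
  intro a b h
  apply Subtype.ext
  apply Subtype.ext
  exact congrArg (fun x : ↥psi0.ker => x.1.1) h

theorem negK_smul (x : ↥psi0.ker) (v : ↥leechLattice) : (negK * x).1.1 • v = - (x.1.1 • v) := by
  show (negCo0 * x.1.1) • v = _
  rw [mul_smul, negCo0_smul]

theorem negK_mul_self : negK * negK = 1 := by
  apply Subtype.ext
  apply Subtype.ext
  show negCo0 * negCo0 = 1
  apply Cfsg.Agent.Helper8.co0_ext
  intro v
  rw [mul_smul, negCo0_smul, negCo0_smul, neg_neg, one_smul]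

theorem card_ker_psi0 : Nat.card ↥psi0.ker = 1024 := by
  let f : Bool × ↥Co2Inv.phi.ker → ↥psi0.ker := fun p => if p.1 then negK * iotaK p.2 else iotaK p.2
  have fu : ∀ p : Bool × ↥Co2Inv.phi.ker, (f p).1.1 • u0 = if p.1 then -u0 else u0 := by
    rintro ⟨b, k⟩
    cases b
    · exact iotaK_u0 k
    · show (negK * iotaK k).1.1 • u0 = -u0
      rw [negK_smul, iotaK_u0]
  have hinj : Function.Injective f := by
    rintro ⟨b, k⟩ ⟨b', k'⟩ h
    have h1 := fu (b, k)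
    rw [h, fu (b', k')] at h1
    cases b <;> cases b'
    · have : iotaK k = iotaK k' := h
      rw [iotaK_inj this]
    · exfalso
      simp only [if_true] at h1
      exact u0_ne_neg h1.symm
    · exfalso
      simp only [if_true] at h1
      exact u0_ne_neg h1
    · have h2 : negK * iotaK k = negK * iotaK k' := h
      rw [iotaK_inj (mul_left_cancel h2)]
  have hsurj : Function.Surjective f := by
    intro g
    have hg : psi0 g.1 = 1 := g.2
    rcases (psi0_eq_one_iff g.1).mp hg 126 (by norm_num) with h | h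
    · rw [R8_u] at h
      obtain ⟨hc, hp⟩ := ker_of_psi0 hg h
      refine ⟨(false, ⟨⟨g.1.1, hc⟩, hp⟩), ?_⟩
      apply Subtype.ext
      apply Subtype.ext
      rfl
    · rw [R8_u] at h
      have hg' : psi0 (negK * g).1 = 1 := (negK * g).2
      have hu' : (negK * g).1.1 • u0 = u0 := by rw [negK_smul, h, neg_neg]
      obtain ⟨hc, hp⟩ := ker_of_psi0 hg' hu'
      refine ⟨(true, ⟨⟨(negK * g).1.1, hc⟩, hp⟩), ?_⟩
      have e1 : iotaK ⟨⟨(negK * g).1.1, hc⟩, hp⟩ = negK * g := by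
        apply Subtype.ext
        apply Subtype.ext
        rfl
      show negK * iotaK _ = g
      rw [e1, ← mul_assoc, negK_mul_self, one_mul]
  rw [← Nat.card_congr (Equiv.ofBijective f ⟨hinj, hsurj⟩), Nat.card_prod, card_ker,
    Nat.card_eq_fintype_card, Fintype.card_bool]
  norm_num

/-! ### the image -/

instance finite_N : Finite ↥N := by
  have : Finite ↥Co0 := Nat.finite_of_card_ne_zero (by rw [card_co0]; norm_num)
  exact Finite.of_injective (fun g : ↥N => (g : ↥Co0)) Subtype.val_injective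

theorem card_range_psi0 : Nat.card ↥psi0.range = 174182400 := by
  have h1 := Subgroup.card_eq_card_quotient_mul_card_subgroup psi0.ker
  rw [Nat.card_congr (QuotientGroup.quotientKerEquivRange psi0).toEquiv, card_N, card_CH_eq,
    card_ker, card_ker_psi0] at h1
  omega

theorem range_psi0 : psi0.range = Om8 := eq_Om8_of_card _ card_range_psi0

end Cfsg.Agent.Helper26.Co1Inv
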