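import Cfsg.Agent.Helper26.Co1InvD
import Cfsg.Agent.Helper49.FStar

/-!
# The centraliser of an involution of `Co1`: the transport to the quotient

The involution `tE` is not conjugate to its negative, so the centraliser of its image in `Co1` is
the image of its centraliser `N` in `Co0`; the homomorphism `psi0` descends to it.
-/

set_option autoImplicit false

namespace Cfsg.Agent.Helper26.Co1Inv

open Cfsg Cfsg.Agent.Helper7 Cfsg.Agent.Helper8 Cfsg.Agent.Helper27 Cfsg.Agent.Helper26.Co2Inv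
  MulAction

/-! ### a criterion for the generalized Fitting subgroup -/

/-- the kernel of a homomorphism onto a simple group that is not a `2`-group is the generalized
Fitting subgroup, if it is a `2`-group whose commutators lie in `{1, z}` and on which some element
acts non-trivially modulo `z` -/
theorem gfs_eq_ker {X S : Type*} [Group X] [Finite X] [Group S] [IsSimpleGroup S]
    (Ψ : X →* S) (hΨ : Function.Surjective Ψ) (hS : ¬ IsPGroup 2 S) (hK : IsPGroup 2 ↥Ψ.ker)
    (z : X) (hz : z ∈ Ψ.ker)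
    (hc : ∀ a ∈ Ψ.ker, ∀ b ∈ Ψ.ker, a * b = b * a ∨ a * b = z * (b * a))
    (x k : X) (hk : k ∈ Ψ.ker) (h1 : x * k ≠ k * x) (h2 : x * k ≠ z * (k * x)) :
    Cfsg.generalizedFittingSubgroup X = Ψ.ker := by
  haveI : Fact (Nat.Prime 2) := ⟨Nat.prime_two⟩
  have hp : Cfsg.pCore 2 X = Ψ.ker := pCore_eq_ker Ψ hΨ hS hK
  rw [← hp]
  apply (Cfsg.Agent.Helper49.gfs_eq_pCore_iff (p := 2) (H := X)).mpr
  rw [hp]
  have hCn : (Subgroup.centralizer (Ψ.ker : Set X)).Normal := Subgroup.normal_centralizer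
  have hmap : ((Subgroup.centralizer (Ψ.ker : Set X)).map Ψ).Normal :=
    Subgroup.Normal.map hCn Ψ hΨ
  rcases hmap.eq_bot_or_eq_top with h | h
  · exact (Subgroup.map_eq_bot_iff _).mp h
  · exfalso
    have hx : Ψ x ∈ (Subgroup.centralizer (Ψ.ker : Set X)).map Ψ := by
      rw [h]
      trivial
    obtain ⟨c, hcC, hcx⟩ := hx
    have cc : ∀ y ∈ Ψ.ker, y * c = c * y :=
      fun y hy => Subgroup.mem_centralizer_iff.mp hcC y hy
    have hq : c⁻¹ * x ∈ Ψ.ker := by
      rw [MonoidHom.mem_ker, map_mul, map_inv, hcx, inv_mul_cancel]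
    have hxq : x = c * (c⁻¹ * x) := by rw [mul_inv_cancel_left]
    rcases hc _ hq k hk with e | e
    · apply h1
      calc x * k = c * ((c⁻¹ * x) * k) := by rw [← mul_assoc, ← hxq]
        _ = c * (k * (c⁻¹ * x)) := by rw [e]
        _ = (c * k) * (c⁻¹ * x) := by rw [mul_assoc]
        _ = (k * c) * (c⁻¹ * x) := by rw [cc k hk]
        _ = k * x := by rw [mul_assoc, ← hxq]
    · apply h2
      calc x * k = c * ((c⁻¹ * x) * k) := by rw [← mul_assoc, ← hxq]
        _ = c * (z * (k * (c⁻¹ * x))) := by rw [e]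
        _ = (c * z) * (k * (c⁻¹ * x)) := by rw [mul_assoc]
        _ = (z * c) * (k * (c⁻¹ * x)) := by rw [cc z hz]
        _ = z * ((c * k) * (c⁻¹ * x)) := by rw [mul_assoc, mul_assoc]
        _ = z * ((k * c) * (c⁻¹ * x)) := by rw [cc k hk]
        _ = z * (k * x) := by rw [mul_assoc k, ← hxq]

/-! ### equality in the quotient -/

theorem neg_mul_neg : negCo0 * negCo0 = 1 := by
  apply Cfsg.Agent.Helper8.co0_ext
  intro v
  rw [mul_smul, negCo0_smul, negCo0_smul, neg_neg, one_smul]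

theorem neg_comm (g : ↥Co0) : g * negCo0 = negCo0 * g := by
  have h := negCo0_mem_center
  rw [Subgroup.mem_center_iff] at h
  exact h g

theorem mk_eq_iff (a b : ↥Co0) :
    ((a : ↥Co0 ⧸ Subgroup.center ↥Co0) = (b : ↥Co0 ⧸ Subgroup.center ↥Co0)) ↔
      a = b ∨ a = negCo0 * b := by
  rw [QuotientGroup.eq]
  constructor
  · intro h
    rcases center_eq_or _ h with h1 | h1
    · left
      exact (inv_mul_eq_one.mp h1)
    · right
      have hb : b = a * negCo0 := by rw [← h1, mul_inv_cancel_left]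
      rw [hb, ← mul_assoc, ← neg_comm, mul_assoc, neg_mul_neg, mul_one]
  · rintro (rfl | rfl)
    · rw [inv_mul_cancel]
      exact Subgroup.one_mem _
    · have : (negCo0 * b)⁻¹ * b = negCo0 := by
        have hi : negCo0⁻¹ = negCo0 := inv_eq_of_mul_eq_one_left neg_mul_neg
        rw [mul_inv_rev, hi, neg_comm, mul_assoc, inv_mul_cancel, mul_one]
      rw [this]
      exact negCo0_mem_center

/-! ### the involution is not conjugate to its negative -/

/-- two minimal vectors negated by the involution -/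
def aL : List ℤ := [0, 0, 0, 4, 0, 0, 0, 4, 0, 0, 0, 0, 0, 0, 0, 0, 0, 0, 0, 0, 0, 0, 0, 0]
def bL : List ℤ := [0, 0, 0, 2, 0, 2, 2, 0, 0, 0, 0, 0, 2, 0, 0, 2, 0, 0, 2, 0, 2, 2, 0, 0]

set_option maxRecDepth 100000 in
theorem aL_chk : leechChk (vecOf aL) = true := by decide +kernel

set_option maxRecDepth 100000 in
theorem bL_chk : leechChk (vecOf bL) = true := by decide +kernel

noncomputable def aV : ↥leechLattice := ⟨vecOf aL, mem_of_leechChk aL_chk⟩
noncomputable def bV : ↥leechLattice := ⟨vecOf bL, mem_of_leechChk bL_chk⟩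

theorem tE_neg_of {y : ↥leechLattice}
    (h : ∀ i < 24, Ocm.testBit i = false → y.1 (gPt i) = 0) : tE • y = -y := by
  apply Subtype.ext
  funext p
  rw [tE_apply, AddSubgroup.coe_neg, Pi.neg_apply]
  unfold tS
  by_cases hb : Ocm.testBit (gIdx p) = true
  · rw [if_pos hb]
  · rw [if_neg hb]
    have h1 := h (gIdx p) (gIdx_lt p) (by simpa using hb)
    rw [gPt_gIdx] at h1
    rw [h1]
    rfl

theorem vecOf_apply (l : List ℤ) {i : ℕ} (hi : i < 24) : vecOf l (gPt i) = l.getD i 0 := by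
  show l.getD (gIdx (gPt i)) 0 = _
  rw [gIdx_gPt i hi]

theorem tE_aV : tE • aV = -aV := by
  apply tE_neg_of
  intro i hi
  show Ocm.testBit i = false → vecOf aL (gPt i) = 0
  rw [vecOf_apply aL hi]
  revert i
  decide

theorem tE_bV : tE • bV = -bV := by
  apply tE_neg_of
  intro i hi
  show Ocm.testBit i = false → vecOf bL (gPt i) = 0
  rw [vecOf_apply bL hi]
  revert i
  decide

theorem aV_norm : sqNorm (aV : IVec) = 32 := by
  rw [← dotInt_self]
  show dotInt (vecOf aL) (vecOf aL) = 32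
  rw [dotInt_vecOf_vecOf]
  decide +kernel

theorem dot_bV_aV : dotInt (bV : IVec) (aV : IVec) = 8 := by
  show dotInt (vecOf bL) (vecOf aL) = 8
  rw [dotInt_vecOf_vecOf]
  decide +kernel

theorem not_conj (g : ↥Co0) : g * tE * g⁻¹ ≠ negCo0 * tE := by
  intro h
  have h3 : g * tE = negCo0 * tE * g := by
    rw [← h]
    group
  have key : ∀ y : ↥leechLattice, tE • y = -y → tE • (g⁻¹ • y) = g⁻¹ • y := by
    intro y hy
    calc tE • (g⁻¹ • y) = g⁻¹ • ((g * tE) • (g⁻¹ • y)) := by rw [mul_smul, inv_smul_smul]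
      _ = g⁻¹ • y := by
        rw [h3, mul_smul, smul_inv_smul, mul_smul, hy, negCo0_smul, neg_neg]
  obtain ⟨k, hk, e⟩ := exists_R8 (y := g⁻¹ • aV) (by rw [co0_sqNorm, aV_norm]) (key aV tE_aV)
  have h16 := dvd16_R8 (key bV tE_bV) hk
  rw [← e, co0_dotInt, dot_bV_aV] at h16
  revert h16
  decide

/-! ### the centraliser in the quotient -/

/-- the image of the involution in `Co1` -/
noncomputable def zb : Cfsg.Spor.Co1 := ((tE : ↥Co0) : ↥Co0 ⧸ Subgroup.center ↥Co0)

/-- its centraliser -/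
abbrev X1 : Subgroup Cfsg.Spor.Co1 := Subgroup.centralizer ({zb} : Set Cfsg.Spor.Co1)

theorem mem_X1 (g : ↥Co0) : ((g : ↥Co0 ⧸ Subgroup.center ↥Co0) ∈ X1) ↔ g ∈ N := by
  rw [Subgroup.mem_centralizer_singleton_iff, mem_N]
  show ((g * tE : ↥Co0) : ↥Co0 ⧸ Subgroup.center ↥Co0) = ((tE * g : ↥Co0) : _) ↔ _
  rw [mk_eq_iff]
  constructor
  · rintro (h | h)
    · exact h.symm
    · exfalso
      apply not_conj g
      rw [h]
      group
  · intro h
    left
    exact h.symm

/-- the map from the centraliser in `Co0` -/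
noncomputable def piN : ↥N →* ↥X1 where
  toFun g := ⟨(g.1 : ↥Co0 ⧸ Subgroup.center ↥Co0), (mem_X1 g.1).mpr g.2⟩
  map_one' := rfl
  map_mul' _ _ := rfl

theorem piN_surj : Function.Surjective piN := by
  rintro ⟨x, hx⟩
  obtain ⟨g, rfl⟩ := QuotientGroup.mk_surjective x
  exact ⟨⟨g, (mem_X1 g).mp hx⟩, rfl⟩

theorem piN_eq_iff (a b : ↥N) : piN a = piN b ↔ a.1 = b.1 ∨ a.1 = negCo0 * b.1 := by
  rw [Subtype.ext_iff]
  exact mk_eq_iff a.1 b.1

/-! ### the homomorphism on the centraliser -/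

/-- the homomorphism to the commutator subgroup of the orthogonal group -/
noncomputable def psiN : ↥N →* ↥Om8 :=
  psi0.codRestrict Om8 (fun g => by rw [← range_psi0]; exact ⟨g, rfl⟩)

theorem psiN_eq_one_iff (g : ↥N) : psiN g = 1 ↔ psi0 g = 1 := by
  rw [Subtype.ext_iff]
  rfl

theorem psiN_surj : Function.Surjective psiN := by
  rintro ⟨y, hy⟩
  rw [← range_psi0] at hy
  obtain ⟨g, rfl⟩ := hy
  exact ⟨g, rfl⟩

theorem piN_ker_le : piN.ker ≤ psiN.ker := by
  intro g hg
  rw [MonoidHom.mem_ker] at hg ⊢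
  have h := (piN_eq_iff g 1).mp (by rw [hg, map_one])
  rw [psiN_eq_one_iff]
  rcases h with h | h
  · have : g = 1 := Subtype.ext h
    rw [this, map_one]
  · have : g = ⟨negCo0, neg_mem_N⟩ := by
      apply Subtype.ext
      rw [h]
      exact mul_one _
    rw [this]
    exact psi0_neg

/-- the homomorphism on the centraliser in `Co1` -/
noncomputable def PsiX : ↥X1 →* ↥Om8 :=
  piN.liftOfRightInverse (Function.surjInv piN_surj) (Function.rightInverse_surjInv piN_surj)
    ⟨psiN, piN_ker_le⟩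

theorem PsiX_piN (g : ↥N) : PsiX (piN g) = psiN g :=
  MonoidHom.liftOfRightInverse_comp_apply _ _ _ ⟨psiN, piN_ker_le⟩ g

theorem PsiX_surj : Function.Surjective PsiX := fun y => by
  obtain ⟨g, rfl⟩ := psiN_surj y
  exact ⟨piN g, PsiX_piN g⟩

/-! ### the kernel -/

/-- the kernel of `phi` in `N` -/
noncomputable def iotaN : ↥Co2Inv.phi.ker →* ↥N :=
  (Subgroup.inclusion CH_le_N).comp Co2Inv.phi.ker.subtype

theorem iotaN_val (k : ↥Co2Inv.phi.ker) : (iotaN k).1 = k.1.1 := rfl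

/-- the kernel of `phi` to the kernel of `PsiX` -/
noncomputable def eQhom : ↥Co2Inv.phi.ker →* ↥PsiX.ker :=
  (piN.comp iotaN).codRestrict PsiX.ker (fun k => by
    rw [MonoidHom.mem_ker]
    show PsiX (piN (iotaN k)) = 1
    rw [PsiX_piN, psiN_eq_one_iff]
    exact psi0_of_ker k.2)

theorem eQhom_val (k : ↥Co2Inv.phi.ker) : (eQhom k).1 = piN (iotaN k) := rfl

theorem eQ_inj : Function.Injective eQhom := by
  rw [injective_iff_map_eq_one]
  intro k hk
  have h1 : piN (iotaN k) = 1 := by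
    rw [← eQhom_val, hk]
    rfl
  rcases (piN_eq_iff (iotaN k) 1).mp (by rw [h1, map_one]) with h | h
  · apply Subtype.ext
    apply Subtype.ext
    exact h
  · exfalso
    have hu : (iotaN k).1 • u0 = u0 := (mem_CH.mp k.1.2).1
    rw [h] at hu
    have h2 : (negCo0 * ((1 : ↥N) : ↥Co0)) • u0 = -u0 := by
      show (negCo0 * 1) • u0 = -u0
      rw [mul_one, negCo0_smul]
    rw [h2] at hu
    exact u0_ne_neg hu.symm

theorem exists_ker_of_psi0 {g : ↥N} (hg : psi0 g = 1) :
    ∃ k : ↥Co2Inv.phi.ker, piN (iotaN k) = piN g := by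
  rcases (psi0_eq_one_iff g).mp hg 126 (by norm_num) with h | h
  · rw [R8_u] at h
    obtain ⟨hc, hp⟩ := ker_of_psi0 hg h
    exact ⟨⟨⟨g.1, hc⟩, hp⟩, rfl⟩
  · rw [R8_u] at h
    have hg' : psi0 (⟨negCo0, neg_mem_N⟩ * g) = 1 := by rw [map_mul, psi0_neg, hg, one_mul]
    have hu' : ((⟨negCo0, neg_mem_N⟩ * g : ↥N) : ↥Co0) • u0 = u0 := by
      show (negCo0 * g.1) • u0 = u0
      rw [mul_smul, h, negCo0_smul, neg_neg]
    obtain ⟨hc, hp⟩ := ker_of_psi0 hg' hu'
    refine ⟨⟨⟨_, hc⟩, hp⟩, ?_⟩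
    rw [piN_eq_iff]
    right
    rfl

theorem eQ_surj : Function.Surjective eQhom := by
  rintro ⟨y, hy⟩
  obtain ⟨g, rfl⟩ := piN_surj y
  rw [MonoidHom.mem_ker, PsiX_piN, psiN_eq_one_iff] at hy
  obtain ⟨k, hk⟩ := exists_ker_of_psi0 hy
  exact ⟨k, Subtype.ext hk⟩

/-- the kernel of `PsiX` is the kernel of `phi` -/
noncomputable def eQ : ↥Co2Inv.phi.ker ≃* ↥PsiX.ker :=
  MulEquiv.ofBijective eQhom ⟨eQ_inj, eQ_surj⟩

end Cfsg.Agent.Helper26.Co1Inv
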