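import Cfsg.Agent.Helper26.Co1InvE

/-!
# The centraliser of an involution of `Co1`: the large extraspecial hypothesis
-/

set_option autoImplicit false

namespace Cfsg.Agent.Helper26.Co1Inv

open Cfsg Cfsg.Agent.Helper7 Cfsg.Agent.Helper8 Cfsg.Agent.Helper27 Cfsg.Agent.Helper26.Co2Inv
  MulAction

/-! ### words -/

/-- the word of minus the identity -/
def negW : List Letter := [.S 16777215]

/-- the word of a permutation mapping the octad to an octad in its complement -/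
def rhoW : List Letter := [.P [12, 7, 15, 14, 9, 4, 18, 10, 22, 20, 13, 19, 2, 5, 21, 11, 8, 1, 3, 23, 16, 0, 17, 6] [21, 17, 12, 18, 5, 13, 23, 1, 16, 4, 7, 15, 0, 10, 3, 2, 20, 22, 6, 11, 9, 14, 8, 19]]

set_option maxRecDepth 100000 in
theorem negW_ok : okW negW = true := by decide +kernel

set_option maxRecDepth 100000 in
theorem rhoW_ok : okW rhoW = true := by decide +kernel

theorem acts_neg : Acts negCo0 negW := by
  intro v
  rw [negCo0_smul]
  show _ = signedPerm 1 (setOf 16777215) v.1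
  funext p
  rw [signedPerm_one_apply, if_pos ((mem_setOf 16777215 p).mpr (by
    have := gIdx_lt p
    generalize gIdx p = i at this
    revert i
    decide))]
  rfl

theorem acts_sE {j : ℕ} (hj : j < 32) : Acts (sE j) (WS j) := by
  unfold sE
  rw [dif_pos hj]
  exact Classical.choose_spec (exists_co0_word (WS j) (WS_ok j hj))

theorem vecOf_getD' {l l' : List ℤ} (h : vecOf l = vecOf l') {i : ℕ} (hi : i < 24) :
    l.getD i 0 = l'.getD i 0 := by
  have := congrFun h (gPt i)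
  rwa [vecOf_apply l hi, vecOf_apply l' hi] at this

/-- two elements acting as words that differ on a vector are different -/
theorem Acts.ne {g g' : ↥Co0} {W W' : List Letter} (h : Acts g W) (h' : Acts g' W')
    (hW : okW W = true) (hW' : okW W' = true) {q i : ℕ} (hq : q < 24) (hi : i < 24)
    (hne : (runW W (basisL q)).getD i 0 ≠ (runW W' (basisL q)).getD i 0) : g ≠ g' := by
  intro e
  subst e
  apply hne
  apply vecOf_getD' _ hi
  have e1 := h.run hW (vec8_eq_vecOf (gPt q))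
  have e2 := h'.run hW' (vec8_eq_vecOf (gPt q))
  rw [gIdx_gPt q hq] at e1 e2
  exact e1.symm.trans e2

/-! ### elements -/

theorem tE_mem_N : tE ∈ N := mem_N.mpr rfl

theorem sE_mem_N {j : ℕ} (hj : j < 32) : sE j ∈ N := mem_N.mpr (sE_tab hj).comm

theorem psi0_sE {j : ℕ} (hj : j < 32) : psi0 ⟨sE j, sE_mem_N hj⟩ = 1 := by
  rw [psi0_eq_one_iff]
  intro k hk
  left
  exact fix_of_tE_fixed (sE_tab hj).1 (R8_fix hk)

theorem psi0_tE : psi0 ⟨tE, tE_mem_N⟩ = 1 := by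
  rw [psi0_eq_one_iff]
  intro k hk
  left
  exact R8_fix hk

theorem piN_mem_ker {g : ↥N} (hg : psi0 g = 1) : piN g ∈ PsiX.ker := by
  rw [MonoidHom.mem_ker, PsiX_piN, psiN_eq_one_iff]
  exact hg

/-- the involution in the centraliser -/
noncomputable def zX : ↥X1 := piN ⟨tE, tE_mem_N⟩

theorem zX_val : (zX : Cfsg.Spor.Co1) = zb := rfl

/-! ### the involution -/

theorem tE_ne_neg : tE ≠ negCo0 := by
  intro h
  have h1 := tE_u0
  rw [h, negCo0_smul] at h1
  exact u0_ne_neg h1.symm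

theorem orderOf_zb : orderOf zb = 2 := by
  apply orderOf_eq_prime
  · rw [pow_two]
    show ((tE * tE : ↥Co0) : ↥Co0 ⧸ Subgroup.center ↥Co0) = _
    rw [tE_mul_self]
    rfl
  · intro h
    have h1 : ((tE : ↥Co0) : ↥Co0 ⧸ Subgroup.center ↥Co0) = ((1 : ↥Co0) : _) := h
    rcases (mk_eq_iff tE 1).mp h1 with h2 | h2
    · exact tE_ne_one h2
    · rw [mul_one] at h2
      exact tE_ne_neg h2

/-! ### the kernel -/

theorem isPGroup_kerX : IsPGroup 2 ↥PsiX.ker := isPGroup_ker.of_equiv eQ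

theorem card_kerX : Nat.card ↥PsiX.ker = 2 ^ 9 := by
  rw [← Nat.card_congr eQ.toEquiv, card_ker]

theorem extraspecial_kerX : Cfsg.IsExtraspecial 2 ↥PsiX.ker :=
  Cfsg.Agent.Helper53.isExtraspecial_of_mulEquiv eQ ker_extraspecial

/-- commutators in the kernel -/
theorem comm_kerX (a : ↥X1) (ha : a ∈ PsiX.ker) (b : ↥X1) (hb : b ∈ PsiX.ker) :
    a * b = b * a ∨ a * b = zX * (b * a) := by
  obtain ⟨k, hk⟩ := eQ_surj ⟨a, ha⟩
  obtain ⟨k', hk'⟩ := eQ_surj ⟨b, hb⟩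
  have ea : a = piN (iotaN k) := by rw [← eQhom_val, hk]
  have eb : b = piN (iotaN k') := by rw [← eQhom_val, hk']
  obtain ⟨n, hn, e⟩ := exists_eN_of_ker (MonoidHom.mem_ker.mp k.2)
  obtain ⟨m, hm, e'⟩ := exists_eN_of_ker (MonoidHom.mem_ker.mp k'.2)
  have hx : (iotaN k).1 = eN n := e
  have hy : (iotaN k').1 = eN m := e'
  rw [ea, eb]
  rcases eN_comm hn hm with h | h
  · left
    have hN : iotaN k * iotaN k' = iotaN k' * iotaN k := by
      apply Subtype.ext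
      show (iotaN k).1 * (iotaN k').1 = (iotaN k').1 * (iotaN k).1
      rw [hx, hy]
      calc eN n * eN m = (eN n * eN m * (eN n)⁻¹ * (eN m)⁻¹) * (eN m * eN n) := by group
        _ = eN m * eN n := by rw [h, one_mul]
    calc piN (iotaN k) * piN (iotaN k') = piN (iotaN k * iotaN k') := (map_mul _ _ _).symm
      _ = piN (iotaN k' * iotaN k) := by rw [hN]
      _ = _ := map_mul _ _ _
  · right
    have hN : iotaN k * iotaN k' = ⟨tE, tE_mem_N⟩ * (iotaN k' * iotaN k) := by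
      apply Subtype.ext
      show (iotaN k).1 * (iotaN k').1 = tE * ((iotaN k').1 * (iotaN k).1)
      rw [hx, hy]
      calc eN n * eN m = (eN n * eN m * (eN n)⁻¹ * (eN m)⁻¹) * (eN m * eN n) := by group
        _ = tE * (eN m * eN n) := by rw [h]
    calc piN (iotaN k) * piN (iotaN k') = piN (iotaN k * iotaN k') := (map_mul _ _ _).symm
      _ = piN (⟨tE, tE_mem_N⟩ * (iotaN k' * iotaN k)) := by rw [hN]
      _ = zX * (piN (iotaN k') * piN (iotaN k)) := by
        rw [map_mul, map_mul]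
        rfl

/-! ### an element acting non-trivially on the kernel modulo the involution -/

set_option maxRecDepth 1000000 in
theorem ne_chk :
    (runW (WS 1 ++ gW1) (basisL 7)).getD 20 0 ≠ (runW (gW1 ++ WS 1) (basisL 7)).getD 20 0 ∧
    (runW (WS 1 ++ gW1) (basisL 0)).getD 16 0 ≠
      (runW (gW1 ++ WS 1 ++ negW) (basisL 0)).getD 16 0 ∧
    (runW (WS 1 ++ gW1) (basisL 3)).getD 10 0 ≠
      (runW (gW1 ++ WS 1 ++ tW) (basisL 3)).getD 10 0 ∧
    (runW (WS 1 ++ gW1) (basisL 0)).getD 16 0 ≠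
      (runW (gW1 ++ WS 1 ++ tW ++ negW) (basisL 0)).getD 16 0 := by decide +kernel

theorem exists_moving : ∃ x k : ↥X1, k ∈ PsiX.ker ∧ x * k ≠ k * x ∧ x * k ≠ zX * (k * x) := by
  have h1ok : okW gW1 = true := genW_ok 1 (by norm_num)
  obtain ⟨g, hgN, hact⟩ := exists_N_of_word gW1 h1ok (genW_comm 1 (by norm_num))
  have hs : (1 : ℕ) < 32 := by norm_num
  have hsok := WS_ok 1 hs
  have as := acts_sE hs
  obtain ⟨c1, c2, c3, c4⟩ := ne_chk
  refine ⟨piN ⟨g, hgN⟩, piN ⟨sE 1, sE_mem_N hs⟩, piN_mem_ker (psi0_sE hs), ?_, ?_⟩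
  · rw [← map_mul, ← map_mul]
    intro h
    rcases (piN_eq_iff _ _).mp h with h | h
    · exact Acts.ne (as.mul hact) (hact.mul as) (okW_append hsok h1ok) (okW_append h1ok hsok)
        (by norm_num) (by norm_num) c1 h
    · exact Acts.ne (as.mul hact) ((hact.mul as).mul acts_neg) (okW_append hsok h1ok)
        (okW_append (okW_append h1ok hsok) negW_ok) (by norm_num) (by norm_num) c2 h
  · show _ ≠ piN ⟨tE, tE_mem_N⟩ * _
    rw [← map_mul, ← map_mul, ← map_mul]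
    intro h
    rcases (piN_eq_iff _ _).mp h with h | h
    · exact Acts.ne (as.mul hact) ((hact.mul as).mul acts_tE) (okW_append hsok h1ok)
        (okW_append (okW_append h1ok hsok) tW_ok) (by norm_num) (by norm_num) c3 h
    · exact Acts.ne (as.mul hact) (((hact.mul as).mul acts_tE).mul acts_neg)
        (okW_append hsok h1ok)
        (okW_append (okW_append (okW_append h1ok hsok) tW_ok) negW_ok) (by norm_num) (by norm_num) c4 h

/-! ### the generalized Fitting subgroup -/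

theorem gfs_X1 : Cfsg.generalizedFittingSubgroup ↥X1 = PsiX.ker := by
  haveI : Finite ↥Co0 := Nat.finite_of_card_ne_zero (by rw [card_co0]; norm_num)
  obtain ⟨x, k, hk, h1, h2⟩ := exists_moving
  exact gfs_eq_ker PsiX PsiX_surj not_isPGroup_Om8 isPGroup_kerX zX (piN_mem_ker psi0_tE)
    comm_kerX x k hk h1 h2

/-! ### a conjugate of the involution in the kernel -/

set_option maxRecDepth 1000000 in
theorem rho_chk : ∀ k < 24,
    runW (tW ++ rhoW) (basisL k) = runW (rhoW ++ WS 1 ++ negW) (basisL k) := by decide +kernel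

set_option maxRecDepth 1000000 in
theorem sE_ne_chk : (runW (WS 1) (basisL 3)).getD 3 0 ≠ (runW tW (basisL 3)).getD 3 0 := by
  decide +kernel

theorem exists_conj : ∃ g : Cfsg.Spor.Co1,
    (∃ hq : g * zb * g⁻¹ ∈ X1, (⟨g * zb * g⁻¹, hq⟩ : ↥X1) ∈ PsiX.ker) ∧ g * zb * g⁻¹ ≠ zb := by
  obtain ⟨r, hr⟩ := exists_co0_word rhoW rhoW_ok
  have hact : Acts r rhoW := hr
  have hs : (1 : ℕ) < 32 := by norm_num
  have hsok := WS_ok 1 hs
  have as := acts_sE hs
  have e1 : r * tE = negCo0 * sE 1 * r :=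
    Acts.ext (acts_tE.mul hact) ((hact.mul as).mul acts_neg) (okW_append tW_ok rhoW_ok)
      (okW_append (okW_append rhoW_ok hsok) negW_ok) rho_chk |>.trans (mul_assoc _ _ _).symm
  have e2 : r * tE * r⁻¹ = negCo0 * sE 1 := by rw [e1, mul_inv_cancel_right]
  have e3 : (r : ↥Co0 ⧸ Subgroup.center ↥Co0) * zb * (r : ↥Co0 ⧸ Subgroup.center ↥Co0)⁻¹ =
      ((piN ⟨sE 1, sE_mem_N hs⟩ : ↥X1) : Cfsg.Spor.Co1) := by
    show ((r * tE * r⁻¹ : ↥Co0) : ↥Co0 ⧸ Subgroup.center ↥Co0) = ((sE 1 : ↥Co0) : _)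
    rw [e2, mk_eq_iff]
    right
    rfl
  have hq : (r : ↥Co0 ⧸ Subgroup.center ↥Co0) * zb * (r : ↥Co0 ⧸ Subgroup.center ↥Co0)⁻¹ ∈ X1 := by
    rw [e3]
    exact (piN ⟨sE 1, sE_mem_N hs⟩).2
  refine ⟨(r : ↥Co0 ⧸ Subgroup.center ↥Co0), ⟨hq, ?_⟩, ?_⟩
  · have : (⟨_, hq⟩ : ↥X1) = piN ⟨sE 1, sE_mem_N hs⟩ := Subtype.ext e3
    rw [this]
    exact piN_mem_ker (psi0_sE hs)
  · rw [e3]
    intro h
    have h1 : ((sE 1 : ↥Co0) : ↥Co0 ⧸ Subgroup.center ↥Co0) = ((tE : ↥Co0) : _) := h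
    rcases (mk_eq_iff _ _).mp h1 with h2 | h2
    · exact Acts.ne as acts_tE hsok tW_ok (by norm_num) (by norm_num) sE_ne_chk h2
    · have h3 : sE 1 • u0 = u0 := fix_of_tE_fixed (sE_tab hs).1 tE_u0
      rw [h2, mul_smul, tE_u0, negCo0_smul] at h3
      exact u0_ne_neg h3.symm

/-! ### the theorem -/

theorem main : ∃ z : Cfsg.Spor.Co1, orderOf z = 2 ∧ ∃ (Q : Subgroup (Subgroup.centralizer ({z} : Set Cfsg.Spor.Co1))) (_ : Q.Normal), Cfsg.generalizedFittingSubgroup (Subgroup.centralizer ({z} : Set Cfsg.Spor.Co1)) = Q ∧ Cfsg.IsExtraspecial 2 Q ∧ Nat.card Q = 2 ^ 9 ∧ Nonempty ((Subgroup.centralizer ({z} : Set Cfsg.Spor.Co1)) ⧸ Q ≃* Cfsg.Omega (ZMod 2) (Cfsg.quadFormPlus 4 (ZMod 2))) ∧ ∃ g : Cfsg.Spor.Co1, (∃ hq : g * z * g⁻¹ ∈ Subgroup.centralizer ({z} : Set Cfsg.Spor.Co1), (⟨g * z * g⁻¹, hq⟩ : Subgroup.centralizer ({z} : Set Cfsg.Spor.Co1)) ∈ Q) ∧ g * z * g⁻¹ ≠ z := by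
  refine ⟨zb, orderOf_zb, PsiX.ker, MonoidHom.normal_ker PsiX, gfs_X1, extraspecial_kerX,
    card_kerX, ⟨QuotientGroup.quotientKerEquivOfSurjective PsiX PsiX_surj⟩, exists_conj⟩

end Cfsg.Agent.Helper26.Co1Inv
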