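import Cfsg.Agent.Helper7.M24Octad
import Cfsg.Agent.Helper27.Octads
import Cfsg.Agent.Helper26.M24Homog

/-!
# The pointwise stabiliser of five points in `M24`

From the stabiliser chain of `Helper7`: the pointwise stabiliser of the base points `0,…,4` is
transitive on the three remaining points of the octad through them and on the 16 points off it.
Hence `M24` is transitive on the ordered 6-tuples of distinct points of each of the two kinds
(inside an octad / not inside an octad): `exists_map_six`.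
-/

set_option autoImplicit false

namespace Cfsg.Agent.Helper26

open Cfsg Helper7
open scoped Pointwise

def lvl5 : Level := mkLevel m24Tabs
  (5, [5, 6, 8, 9, 11, 13, 14, 15, 16, 17, 18, 19, 20, 21, 22, 23],
    [0, 131, 139, 127, 134, 138, 133, 137, 129, 136, 124, 132, 121, 135, 128, 130])

def lvl6 : Level := mkLevel m24Tabs (7, [7, 10, 12], [0, 141, 142])

theorem lvl5_mem : lvl5 ∈ m24Levels := by
  rw [m24Levels, List.mem_map]
  exact ⟨_, by simp [m24Specs], rfl⟩

theorem lvl6_mem : lvl6 ∈ m24Levels := by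
  rw [m24Levels, List.mem_map]
  exact ⟨_, by simp [m24Specs], rfl⟩

theorem lvl5_ok : lvl5.ok [4, 3, 2, 1, 0] = true := by decide +kernel

theorem lvl6_ok : lvl6.ok [4, 3, 2, 1, 0] = true := by decide +kernel

theorem fix5_trans_out : ∀ q ∈ [5, 6, 8, 9, 11, 13, 14, 15, 16, 17, 18, 19, 20, 21, 22, 23],
    ∃ t ∈ fixG M24 [4, 3, 2, 1, 0], t (pt 5) = pt q := by
  intro q hq
  obtain ⟨l, _, t, ht, _, htq⟩ := Level.cover (H := M24) (F := [4, 3, 2, 1, 0]) (L := lvl5)
    (tabled_m24Levels lvl5 lvl5_mem) lvl5_ok (by decide) q hq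
  exact ⟨t, ht, htq⟩

theorem fix5_trans_in : ∀ q ∈ [7, 10, 12],
    ∃ t ∈ fixG M24 [4, 3, 2, 1, 0], t (pt 7) = pt q := by
  intro q hq
  obtain ⟨l, _, t, ht, _, htq⟩ := Level.cover (H := M24) (F := [4, 3, 2, 1, 0]) (L := lvl6)
    (tabled_m24Levels lvl6 lvl6_mem) lvl6_ok (by decide) q hq
  exact ⟨t, ht, htq⟩

/-- The five-point stabiliser moves `x` to `x'` if both are off the base and on the same side of
the octad `5279`. -/
theorem exists_fix5_map (x x' : GolayPt) (hx : 5 ≤ idx x) (hx' : 5 ≤ idx x')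
    (h : (5279 : ℕ).testBit (idx x) = (5279 : ℕ).testBit (idx x')) :
    ∃ t ∈ fixG M24 [4, 3, 2, 1, 0], t x = x' := by
  have key : ∀ i < 24, 5 ≤ i → ((5279 : ℕ).testBit i = true → i ∈ [7, 10, 12]) ∧
      ((5279 : ℕ).testBit i = false →
        i ∈ [5, 6, 8, 9, 11, 13, 14, 15, 16, 17, 18, 19, 20, 21, 22, 23]) := by decide
  cases hb : (5279 : ℕ).testBit (idx x) with
  | true =>
    obtain ⟨t, ht, htx⟩ := fix5_trans_in _ ((key _ (idx_lt x) hx).1 hb)
    obtain ⟨t', ht', htx'⟩ := fix5_trans_in _ ((key _ (idx_lt x') hx').1 (h ▸ hb))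
    rw [pt_idx] at htx htx'
    refine ⟨t' * t⁻¹, (fixG M24 _).mul_mem ht' ((fixG M24 _).inv_mem ht), ?_⟩
    rw [Equiv.Perm.mul_apply, ← htx, ← htx']
    simp
  | false =>
    obtain ⟨t, ht, htx⟩ := fix5_trans_out _ ((key _ (idx_lt x) hx).2 hb)
    obtain ⟨t', ht', htx'⟩ := fix5_trans_out _ ((key _ (idx_lt x') hx').2 (h ▸ hb))
    rw [pt_idx] at htx htx'
    refine ⟨t' * t⁻¹, (fixG M24 _).mul_mem ht' ((fixG M24 _).inv_mem ht), ?_⟩
    rw [Equiv.Perm.mul_apply, ← htx, ← htx']
    simp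

theorem idx_eq_gIdx (p : GolayPt) : idx p = Helper27.gIdx p := by
  cases p <;> rfl

/-- The standard octad through the base points `0,…,4`. -/
theorem setOf_5279_mem_octads : Helper27.setOf 5279 ∈ octads := by
  rw [Helper27.setOf_mem_octads_iff (by norm_num)]
  decide +kernel

theorem mem_setOf_5279 (p : GolayPt) :
    p ∈ Helper27.setOf 5279 ↔ (5279 : ℕ).testBit (idx p) = true := by
  rw [Helper27.mem_setOf, idx_eq_gIdx]

/-- The base list. -/
def base5 : List GolayPt := [pt 0, pt 1, pt 2, pt 3, pt 4]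

theorem base5_nodup : base5.Nodup := by decide

theorem mem_base5_iff (p : GolayPt) : p ∈ base5 ↔ idx p < 5 := by
  constructor
  · intro h
    simp only [base5, List.mem_cons, List.not_mem_nil, or_false] at h
    rcases h with rfl | rfl | rfl | rfl | rfl <;> decide
  · intro h
    rw [← pt_idx p]
    have : ∀ i < 5, pt i ∈ base5 := by decide
    exact this _ h

theorem base5_subset : ∀ p ∈ base5, p ∈ Helper27.setOf 5279 := by decide

/-- A point is in an octad together with the base iff it lies in the standard octad. -/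
theorem base5_special_iff (x : GolayPt) :
    (∃ o ∈ octads, (∀ p ∈ base5, p ∈ o) ∧ x ∈ o) ↔ (5279 : ℕ).testBit (idx x) = true := by
  rw [← mem_setOf_5279]
  constructor
  · rintro ⟨o, ho, hb, hx⟩
    have : o = Helper27.setOf 5279 := by
      apply octad_eq_of_five setOf_5279_mem_octads ho base5.toFinset
      · rw [List.toFinset_card_of_nodup base5_nodup]; decide
      · intro p hp; exact base5_subset p (List.mem_toFinset.1 hp)
      · intro p hp; exact hb p (List.mem_toFinset.1 hp)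
    rw [← this]; exact hx
  · intro hx
    exact ⟨_, setOf_5279_mem_octads, base5_subset, hx⟩

/-- `M24` is transitive on ordered 6-tuples of distinct points lying in an octad, and on those
not lying in an octad. -/
theorem exists_map_six (F F' : List GolayPt) (hF : F.Nodup) (hF' : F'.Nodup)
    (hlen : F.length = 5) (hlen' : F'.length = 5) (x x' : GolayPt) (hx : x ∉ F) (hx' : x' ∉ F')
    (h : (∃ o ∈ octads, (∀ p ∈ F, p ∈ o) ∧ x ∈ o) ↔ (∃ o ∈ octads, (∀ p ∈ F', p ∈ o) ∧ x' ∈ o)) :
    ∃ g ∈ M24, F.map (⇑g) = F' ∧ g x = x' := by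
  -- transport to the base
  have tr : ∀ (E : List GolayPt) (z : GolayPt), E.Nodup → E.length = 5 → z ∉ E →
      ∃ g ∈ M24, E.map (⇑g) = base5 ∧ 5 ≤ idx (g z) ∧
        ((∃ o ∈ octads, (∀ p ∈ E, p ∈ o) ∧ z ∈ o) ↔ (5279 : ℕ).testBit (idx (g z)) = true) := by
    intro E z hE hl hz
    obtain ⟨g, hg, hgE⟩ := exists_map_list E base5 hE base5_nodup (by rw [hl]; rfl) (by omega)
    refine ⟨g, hg, hgE, ?_, ?_⟩
    · by_contra hlt
      have : g z ∈ base5 := (mem_base5_iff _).2 (by omega)
      rw [← hgE, List.mem_map] at this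
      obtain ⟨p, hp, hpz⟩ := this
      exact hz (g.injective hpz ▸ hp)
    · rw [← base5_special_iff]
      constructor
      · rintro ⟨o, ho, hEo, hzo⟩
        refine ⟨g • o, smul_mem_octads hg ho, ?_, ?_⟩
        · intro p hp
          rw [← hgE, List.mem_map] at hp
          obtain ⟨q, hq, rfl⟩ := hp
          exact Finset.smul_mem_smul_finset (a := g) (hEo q hq)
        · exact Finset.smul_mem_smul_finset (a := g) hzo
      · rintro ⟨o, ho, hbo, hzo⟩
        refine ⟨g⁻¹ • o, smul_mem_octads (M24.inv_mem hg) ho, ?_, ?_⟩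
        · intro p hp
          have : g p ∈ o := hbo _ (hgE ▸ List.mem_map.2 ⟨p, hp, rfl⟩)
          have := Finset.smul_mem_smul_finset (a := g⁻¹) this
          simpa using this
        · have := Finset.smul_mem_smul_finset (a := g⁻¹) hzo
          simpa using this
  obtain ⟨g₁, hg₁, hE₁, h5₁, hs₁⟩ := tr F x hF hlen hx
  obtain ⟨g₂, hg₂, hE₂, h5₂, hs₂⟩ := tr F' x' hF' hlen' hx'
  obtain ⟨t, ht, htx⟩ := exists_fix5_map (g₁ x) (g₂ x') h5₁ h5₂ (by
    have := hs₁.symm.trans (h.trans hs₂)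
    cases h1 : (5279 : ℕ).testBit (idx (g₁ x)) <;> cases h2 : (5279 : ℕ).testBit (idx (g₂ x')) <;>
      simp_all)
  have htb : base5.map (⇑t) = base5 := by
    have h0 := ht.2 0 (by simp)
    have h1 := ht.2 1 (by simp)
    have h2 := ht.2 2 (by simp)
    have h3 := ht.2 3 (by simp)
    have h4 := ht.2 4 (by simp)
    simp [base5, h0, h1, h2, h3, h4]
  refine ⟨g₂⁻¹ * t * g₁, M24.mul_mem (M24.mul_mem (M24.inv_mem hg₂) ht.1) hg₁, ?_, ?_⟩
  · have : F.map (⇑(g₂⁻¹ * t * g₁)) = ((F.map ⇑g₁).map ⇑t).map ⇑g₂⁻¹ := by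
      simp [List.map_map, Function.comp_def, Equiv.Perm.mul_apply]
    rw [this, hE₁, htb, ← hE₂]
    simp [List.map_map, Function.comp_def]
  · rw [Equiv.Perm.mul_apply, Equiv.Perm.mul_apply, htx]
    simp

end Cfsg.Agent.Helper26
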