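import Cfsg.Agent.Helper26.PairBase
import Cfsg.Agent.Helper26.FivePt
import Cfsg.Agent.Helper93.M24Cls

/-!
# Pairs of minimal vectors: the classes of second vectors under the monomial stabiliser
of `4 e_p - 4 e_q`
-/

set_option autoImplicit false

namespace Cfsg.Agent.Helper26

open Cfsg Cfsg.Agent.Helper8
open scoped Pointwise

variable {p q : GolayPt}

/-! ### vectors of odd shape -/

theorem mem_smul_iff_symm (σ : Equiv.Perm GolayPt) (C : Finset GolayPt) (i : GolayPt) :
    i ∈ σ • C ↔ σ.symm i ∈ C := by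
  rw [Finset.mem_smul_finset]
  constructor
  · rintro ⟨y, hy, rfl⟩
    simpa using hy
  · intro h
    exact ⟨σ.symm i, h, by simp⟩

/-- the image of a vector of odd shape under a signed coordinate permutation -/
theorem signedPerm_C (σ : Equiv.Perm GolayPt) (D C : Finset GolayPt) (k : GolayPt) :
    signedPerm σ D (signedPerm 1 C (oddBase k)) =
      signedPerm 1 (symmDiff (σ • C) D) (oddBase (σ k)) := by
  ext i
  have h1 := mem_smul_iff_symm σ C i
  have h2 : σ.symm i = k ↔ i = σ k := by rw [Equiv.symm_apply_eq]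
  have e : oddBase k (σ.symm i) = oddBase (σ k) i := by
    unfold oddBase
    by_cases hk : i = σ k
    · rw [if_pos hk, if_pos (h2.mpr hk)]
    · rw [if_neg hk, if_neg (fun h => hk (h2.mp h))]
  rw [signedPerm_one_apply]
  show (if i ∈ D then -(signedPerm 1 C (oddBase k)) (σ.symm i)
    else (signedPerm 1 C (oddBase k)) (σ.symm i)) = _
  rw [signedPerm_one_apply, e]
  by_cases hD : i ∈ D <;> by_cases hC : σ.symm i ∈ C
  · rw [if_pos hD, if_pos hC, if_neg (by rw [Finset.mem_symmDiff, h1]; tauto), neg_neg]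
  · rw [if_pos hD, if_neg hC, if_pos (by rw [Finset.mem_symmDiff, h1]; tauto)]
  · rw [if_neg hD, if_pos hC, if_pos (by rw [Finset.mem_symmDiff, h1]; tauto)]
  · rw [if_neg hD, if_neg hC, if_neg (by rw [Finset.mem_symmDiff, h1]; tauto)]

theorem oddC_mem {k : GolayPt} {C : Finset GolayPt}
    (hC : C ∈ supports (golayCode : Set (GolayPt → ZMod 2))) :
    signedPerm 1 C (oddBase k) ∈ leechLattice := (vrelC ⟨k, C, hC, rfl⟩).mem_right

/-- the action of the monomial stabiliser on vectors of odd shape -/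
theorem frel_C {v : IVec} (hv : v ∈ leechLattice) {σ : Equiv.Perm GolayPt} (hσ : σ ∈ M24)
    {D : Finset GolayPt} (hD : D ∈ supports (golayCode : Set (GolayPt → ZMod 2)))
    (hfix : signedPerm σ D v = v) {k : GolayPt} {C : Finset GolayPt}
    (hC : C ∈ supports (golayCode : Set (GolayPt → ZMod 2))) :
    FRel v (signedPerm 1 C (oddBase k)) (signedPerm 1 (symmDiff (σ • C) D) (oddBase (σ k))) := by
  have h := frel_mono hv (oddC_mem (k := k) hC) hσ hD hfix
  rwa [signedPerm_C] at h

/-- sign changes off `p`, `q` on vectors of odd shape -/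
theorem frel_C_signs (hpq : p ≠ q) {k : GolayPt} {C C' : Finset GolayPt}
    (hC : C ∈ supports (golayCode : Set (GolayPt → ZMod 2)))
    (hC' : C' ∈ supports (golayCode : Set (GolayPt → ZMod 2)))
    (hp : p ∈ C ↔ p ∈ C') (hq : q ∈ C ↔ q ∈ C') :
    FRel (vPQ p q) (signedPerm 1 C (oddBase k)) (signedPerm 1 C' (oddBase k)) := by
  have hD := golay_symmDiff hC hC'
  have hfix : signedPerm 1 (symmDiff C C') (vPQ p q) = vPQ p q := by
    apply signedPerm_vPQ_fix rfl rfl
    · rw [Finset.mem_symmDiff]; tauto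
    · rw [Finset.mem_symmDiff]; tauto
  have h := frel_C (vPQ_mem hpq) (Subgroup.one_mem _) hD hfix (k := k) hC
  have e : symmDiff ((1 : Equiv.Perm GolayPt) • C) (symmDiff C C') = C' := by
    rw [one_smul, ← symmDiff_assoc, symmDiff_self, bot_symmDiff]
  rwa [e, Equiv.Perm.one_apply] at h

/-- coordinate permutations fixing `p`, `q` on vectors of odd shape -/
theorem frel_C_perm (hpq : p ≠ q) {σ : Equiv.Perm GolayPt} (hσ : σ ∈ M24) (hp : σ p = p)
    (hq : σ q = q) {k : GolayPt} {C : Finset GolayPt}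
    (hC : C ∈ supports (golayCode : Set (GolayPt → ZMod 2))) :
    FRel (vPQ p q) (signedPerm 1 C (oddBase k)) (signedPerm 1 (σ • C) (oddBase (σ k))) := by
  have h := frel_C (vPQ_mem hpq) hσ Cfsg.Agent.S0390.empty_mem_supports
    (signedPerm_vPQ_fix hp hq (Finset.notMem_empty _) (Finset.notMem_empty _)) (k := k) hC
  rwa [← Finset.bot_eq_empty, symmDiff_bot] at h

/-- the negative of a coordinate permutation swapping `p`, `q` on vectors of odd shape -/
theorem frel_C_swap (hpq : p ≠ q) {σ : Equiv.Perm GolayPt} (hσ : σ ∈ M24) (hp : σ p = q)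
    (hq : σ q = p) {k : GolayPt} {C : Finset GolayPt}
    (hC : C ∈ supports (golayCode : Set (GolayPt → ZMod 2))) :
    FRel (vPQ p q) (signedPerm 1 C (oddBase k)) (signedPerm 1 (σ • C)ᶜ (oddBase (σ k))) := by
  have h := frel_C (vPQ_mem hpq) hσ Cfsg.Agent.S0390.univ_mem_supports
    (signedPerm_vPQ_swap hp hq) (k := k) hC
  have e : symmDiff (σ • C) Finset.univ = (σ • C)ᶜ := by
    rw [← Finset.top_eq_univ, symmDiff_top, hnot_eq_compl]
  rwa [e] at h

/-! ### vectors of octad shape -/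

/-- a code word with prescribed even intersection with an octad, avoiding a point off the octad -/
theorem exists_code_adjust {O : Finset GolayPt} (hO : O ∈ octads) {S : Finset GolayPt}
    (hS : S ⊆ O) (hev : Even S.card) (q : GolayPt) :
    ∃ D ∈ supports (golayCode : Set (GolayPt → ZMod 2)), D ∩ O = S ∧ (q ∉ O → q ∉ D) := by
  classical
  obtain ⟨D₀, hD₀, hDS⟩ := exists_code_inter_octad hO hS hev
  by_cases h : q ∈ D₀ ∧ q ∉ O
  · refine ⟨symmDiff D₀ Oᶜ, golay_symmDiff hD₀ (golay_compl hO.1), ?_, ?_⟩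
    · rw [← hDS]
      ext x
      simp only [Finset.mem_inter, Finset.mem_symmDiff, Finset.mem_compl]
      tauto
    · intro _
      rw [Finset.mem_symmDiff, Finset.mem_compl]
      tauto
  · exact ⟨D₀, hD₀, hDS, fun hq hq' => h ⟨hq', hq⟩⟩

/-- a code word changing a vector of octad shape to the positive one, avoiding `q` -/
theorem exists_code_normalise {w : IVec} (hw : w ∈ leechLattice) {O : Finset GolayPt}
    (hO : O ∈ octads) (h1 : ∀ i ∈ O, w i = 2 ∨ w i = -2) (h0 : ∀ i ∉ O, w i = 0) (q : GolayPt) :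
    ∃ D ∈ supports (golayCode : Set (GolayPt → ZMod 2)),
      (∀ i ∈ O, i ∈ D ↔ w i = -2) ∧ (q ∉ O → q ∉ D) := by
  classical
  have hev := even_minus_card hw hO.2 h1 h0
  obtain ⟨D, hD, hDS, hq⟩ := exists_code_adjust hO (Finset.filter_subset _ _) hev q
  refine ⟨D, hD, fun i hi => ?_, hq⟩
  have : i ∈ D ∩ O ↔ i ∈ O.filter fun i => w i = -2 := by rw [hDS]
  rw [Finset.mem_inter, Finset.mem_filter] at this
  constructor
  · intro h; exact (this.mp ⟨h, hi⟩).2
  · intro h; exact (this.mpr ⟨hi, h⟩).1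

/-- two vectors of octad shape with the same entries at `p`, `q` on octads related by a
permutation fixing `p`, `q` -/
theorem frel_B (hpq : p ≠ q) {w w' : IVec} (hw : w ∈ leechLattice) (hw' : w' ∈ leechLattice)
    {O O' : Finset GolayPt} (hO' : O' ∈ octads)
    (h1 : ∀ i ∈ O, w i = 2 ∨ w i = -2) (h0 : ∀ i ∉ O, w i = 0)
    (h1' : ∀ i ∈ O', w' i = 2 ∨ w' i = -2) (h0' : ∀ i ∉ O', w' i = 0)
    {σ : Equiv.Perm GolayPt} (hσ : σ ∈ M24) (hσp : σ p = p) (hσq : σ q = q) (hσO : σ • O = O')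
    (hpO : p ∈ O') (hp : w' p = w p) (hq : w' q = w q) : FRel (vPQ p q) w w' := by
  classical
  have r1 : FRel (vPQ p q) w (signedPerm σ ∅ w) :=
    frel_fix hpq hw hσ Cfsg.Agent.S0390.empty_mem_supports hσp hσq (Finset.notMem_empty _)
      (Finset.notMem_empty _)
  have hmem : ∀ i, i ∈ O' ↔ σ.symm i ∈ O := by
    intro i
    rw [← hσO]
    exact mem_smul_iff_symm σ O i
  have hw₁ := r1.mem_right
  have e1 : ∀ i, signedPerm σ ∅ w i = w (σ.symm i) := signedPerm_empty_apply σ w
  have hsp : σ.symm p = p := by rw [Equiv.symm_apply_eq, hσp]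
  have hsq : σ.symm q = q := by rw [Equiv.symm_apply_eq, hσq]
  have g1 : ∀ i ∈ O', signedPerm σ ∅ w i = 2 ∨ signedPerm σ ∅ w i = -2 := by
    intro i hi
    rw [e1]
    exact h1 _ ((hmem i).mp hi)
  have g0 : ∀ i ∉ O', signedPerm σ ∅ w i = 0 := by
    intro i hi
    rw [e1]
    exact h0 _ (fun h => hi ((hmem i).mpr h))
  obtain ⟨D₁, hD₁, hm₁, hq₁⟩ := exists_code_normalise hw₁ hO' g1 g0 q
  obtain ⟨D₂, hD₂, hm₂, hq₂⟩ := exists_code_normalise hw' hO' h1' h0' q
  have hpD : p ∉ symmDiff D₁ D₂ := by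
    rw [Finset.mem_symmDiff, hm₁ p hpO, hm₂ p hpO, e1, hsp, hp]
    tauto
  have hqD : q ∉ symmDiff D₁ D₂ := by
    by_cases hqO : q ∈ O'
    · rw [Finset.mem_symmDiff, hm₁ q hqO, hm₂ q hqO, e1, hsq, hq]
      tauto
    · rw [Finset.mem_symmDiff]
      have := hq₁ hqO
      have := hq₂ hqO
      tauto
  have r2 : FRel (vPQ p q) (signedPerm σ ∅ w) (signedPerm 1 (symmDiff D₁ D₂) (signedPerm σ ∅ w)) :=
    frel_fix hpq hw₁ (Subgroup.one_mem _) (golay_symmDiff hD₁ hD₂) rfl rfl hpD hqD
  have heq : signedPerm 1 (symmDiff D₁ D₂) (signedPerm σ ∅ w) = w' := by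
    ext i
    rw [signedPerm_one_apply]
    by_cases hi : i ∈ O'
    · have hiff : i ∈ symmDiff D₁ D₂ ↔ ¬ (signedPerm σ ∅ w i = -2 ↔ w' i = -2) := by
        rw [Finset.mem_symmDiff, hm₁ i hi, hm₂ i hi]
        tauto
      rcases g1 i hi with h | h <;> rcases h1' i hi with h' | h' <;> rw [h, h'] at hiff ⊢
      · rw [if_neg (by rw [hiff]; norm_num)]
      · rw [if_pos (by rw [hiff]; norm_num)]
      · rw [if_pos (by rw [hiff]; norm_num)]
        norm_num
      · rw [if_neg (by rw [hiff]; norm_num)]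
    · rw [g0 i hi, h0' i hi]
      split_ifs <;> norm_num
  rw [heq] at r2
  exact r1.trans r2

/-! ### permutations fixing two points and mapping octads -/

theorem exists_list_in_octad {O : Finset GolayPt} (hO : O ∈ octads) {p : GolayPt} (hp : p ∈ O) :
    ∃ l : List GolayPt, l.length = 4 ∧ (p :: l).Nodup ∧ ∀ x ∈ p :: l, x ∈ O := by
  classical
  refine ⟨(O.erase p).toList.take 4, ?_, ?_, ?_⟩
  · rw [List.length_take, Finset.length_toList, Finset.card_erase_of_mem hp, hO.2]
    norm_num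
  · rw [List.nodup_cons]
    refine ⟨fun h => ?_, (Finset.nodup_toList _).sublist (List.take_sublist _ _)⟩
    have := List.mem_of_mem_take h
    rw [Finset.mem_toList, Finset.mem_erase] at this
    exact this.1 rfl
  · intro x hx
    rcases List.mem_cons.mp hx with rfl | hx
    · exact hp
    · have := List.mem_of_mem_take hx
      rw [Finset.mem_toList, Finset.mem_erase] at this
      exact this.2

theorem octad_eq_of_list {O o : Finset GolayPt} (hO : O ∈ octads) (ho : o ∈ octads)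
    {l : List GolayPt} (hl : l.Nodup) (h5 : l.length = 5) (hlO : ∀ x ∈ l, x ∈ O)
    (hlo : ∀ x ∈ l, x ∈ o) : o = O := by
  classical
  by_contra hne
  have hle := Helper27.octad_inter_le ho hO hne
  have hsub : l.toFinset ⊆ o ∩ O := by
    intro x hx
    rw [List.mem_toFinset] at hx
    exact Finset.mem_inter.mpr ⟨hlo x hx, hlO x hx⟩
  have := Finset.card_le_card hsub
  rw [List.toFinset_card_of_nodup hl, h5] at this
  omega

/-- an element of `M24` fixing `p`, `q` and mapping an octad through `p` off `q` to another -/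
theorem exists_fix2_map_octad' (hpq : p ≠ q) {O O' : Finset GolayPt} (hO : O ∈ octads)
    (hO' : O' ∈ octads) (hp : p ∈ O) (hq : q ∉ O) (hp' : p ∈ O') (hq' : q ∉ O') :
    ∃ σ ∈ M24, σ p = p ∧ σ q = q ∧ σ • O = O' := by
  classical
  obtain ⟨l, hl4, hnd, hlO⟩ := exists_list_in_octad hO hp
  obtain ⟨l', hl4', hnd', hlO'⟩ := exists_list_in_octad hO' hp'
  have hno : ∀ {U : Finset GolayPt} {m : List GolayPt}, U ∈ octads → m.Nodup → m.length = 5 →
      (∀ x ∈ m, x ∈ U) → q ∉ U → ¬ ∃ o ∈ octads, (∀ x ∈ m, x ∈ o) ∧ q ∈ o := by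
    rintro U m hU hm h5 hmU hqU ⟨o, ho, hmo, hqo⟩
    rw [octad_eq_of_list hU ho hm h5 hmU hmo] at hqo
    exact hqU hqo
  obtain ⟨σ, hσ, hmap, hσq⟩ := exists_map_six (p :: l) (p :: l') hnd hnd'
    (by rw [List.length_cons, hl4]) (by rw [List.length_cons, hl4'])
    q q (fun h => hq (hlO q h)) (fun h => hq' (hlO' q h))
    (iff_of_false (hno hO hnd (by rw [List.length_cons, hl4]) hlO hq)
      (hno hO' hnd' (by rw [List.length_cons, hl4']) hlO' hq'))
  have hσp : σ p = p := by
    rw [List.map_cons, List.cons.injEq] at hmap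
    exact hmap.1
  refine ⟨σ, hσ, hσp, hσq, ?_⟩
  refine octad_eq_of_list hO' (Helper7.smul_mem_octads hσ hO) hnd'
    (by rw [List.length_cons, hl4']) hlO' ?_
  intro x hx
  rw [← hmap, List.mem_map] at hx
  obtain ⟨y, hy, rfl⟩ := hx
  exact Finset.smul_mem_smul_finset (hlO y hy)

end Cfsg.Agent.Helper26
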