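import Cfsg.Agent.Helper26.R5Cert
import Cfsg.Agent.Helper8.McL275a

/-!
# The generators used by the orbit certificates for the base pair `(v0L, w0L)`
-/

set_option autoImplicit false

namespace Cfsg.Agent.Helper26

open Cfsg Cfsg.Agent.Helper8 Cfsg.Agent.Helper27 Cfsg.Agent.Helper92
open scoped Pointwise

/-- a coordinate permutation given by tables, fixing two given lattice vectors -/
theorem hgen_perm_at {u x : ↥leechLattice} {t s : List ℕ} (h : isInvPair t s = true)
    (hc : checkM24 s = true)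
    (hu : ∀ i, actPerm s (u : IVec) i = (u : IVec) i)
    (hx : ∀ i, actPerm s (x : IVec) i = (x : IVec) i) :
    ∃ g : ↥Co0, g • u = u ∧ g • x = x ∧
      ∀ v : ↥leechLattice, ((g • v : ↥leechLattice) : IVec) = actPerm s (v : IVec) :=
  ⟨monoCo0 (permOfTabs_mem_M24 h hc) Cfsg.Agent.S0390.empty_mem_supports,
    Subtype.ext (by
      show signedPerm (permOfTabs t s) ∅ (u : IVec) = (u : IVec)
      rw [actPerm_eq h]
      exact funext hu),
    Subtype.ext (by
      show signedPerm (permOfTabs t s) ∅ (x : IVec) = (x : IVec)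
      rw [actPerm_eq h]
      exact funext hx),
    fun v => actPerm_eq h (v : IVec)⟩

/-- the conjugate by `xi` of a coordinate permutation given by tables, fixing two given lattice
vectors -/
theorem hgen_xmx_at {u x : ↥leechLattice} {t s : List ℕ} (h : isInvPair t s = true)
    (hc : checkM24 s = true)
    (hu : ∀ i, xmxFun s (u : IVec) i = (u : IVec) i)
    (hx : ∀ i, xmxFun s (x : IVec) i = (x : IVec) i) :
    ∃ g : ↥Co0, g • u = u ∧ g • x = x ∧
      ∀ v : ↥leechLattice, ((g • v : ↥leechLattice) : IVec) = xmxFun s (v : IVec) :=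
  ⟨xiCo0 * monoCo0 (permOfTabs_mem_M24 h hc) Cfsg.Agent.S0390.empty_mem_supports * xiCo0,
    Subtype.ext (by
      rw [mul_smul, mul_smul]
      show xiFun (signedPerm (permOfTabs t s) ∅ (xiFun (u : IVec))) = (u : IVec)
      rw [xmx_eq h]
      exact funext hu),
    Subtype.ext (by
      rw [mul_smul, mul_smul]
      show xiFun (signedPerm (permOfTabs t s) ∅ (xiFun (x : IVec))) = (x : IVec)
      rw [xmx_eq h]
      exact funext hx),
    fun v => by
      rw [mul_smul, mul_smul]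
      show xiFun (signedPerm (permOfTabs t s) ∅ (xiFun (v : IVec))) = xmxFun s (v : IVec)
      rw [xmx_eq h]⟩

def c2A : List ℕ := [0, 1, 11, 10, 2, 8, 21, 19, 15, 12, 13, 6, 14, 7, 4, 3, 5, 9, 23, 18, 17, 22, 20, 16]
def c2Ai : List ℕ := [0, 1, 4, 15, 14, 16, 11, 13, 5, 17, 3, 2, 9, 10, 12, 8, 23, 20, 19, 7, 22, 6, 21, 18]
def c2B : List ℕ := [0, 1, 22, 11, 15, 16, 14, 13, 7, 5, 8, 4, 20, 3, 18, 10, 23, 19, 9, 17, 2, 6, 12, 21]
def c2Bi : List ℕ := [0, 1, 20, 13, 11, 9, 21, 8, 10, 18, 15, 3, 22, 7, 6, 4, 5, 19, 14, 17, 12, 23, 2, 16]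
def c2T0 : List ℕ := [20, 1, 23, 15, 7, 9, 16, 18, 6, 5, 21, 13, 11, 22, 10, 12, 8, 0, 17, 19, 4, 14, 3, 2]
def c2S0 : List ℕ := [17, 1, 23, 22, 20, 9, 8, 4, 16, 5, 14, 12, 15, 11, 21, 3, 6, 18, 7, 19, 0, 10, 13, 2]

theorem c2A_inv : isInvPair c2A c2Ai = true := by decide +kernel

theorem c2Ai_inv : isInvPair c2Ai c2A = true := by decide +kernel

theorem c2B_inv : isInvPair c2B c2Bi = true := by decide +kernel

theorem c2Bi_inv : isInvPair c2Bi c2B = true := by decide +kernel

theorem c2T0_inv : isInvPair c2T0 c2S0 = true := by decide +kernel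

theorem c2A_chk : checkM24 c2A = true := by decide +kernel

theorem c2Ai_chk : checkM24 c2Ai = true := by decide +kernel

theorem c2B_chk : checkM24 c2B = true := by decide +kernel

theorem c2Bi_chk : checkM24 c2Bi = true := by decide +kernel

theorem c2S0_chk : checkM24 c2S0 = true := by decide +kernel

/-- the action of the generator with number `t` -/
def c2Act : ℕ → IVec → IVec
  | 0 => actPerm c2Ai
  | 1 => actPerm c2A
  | 2 => actPerm c2Bi
  | 3 => actPerm c2B
  | _ => xmxFun c2S0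

set_option maxRecDepth 100000 in
theorem c2_fixA : (∀ i, actPerm c2A vA0 i = vA0 i) ∧ ∀ i, actPerm c2A wB0 i = wB0 i := by
  decide +kernel

set_option maxRecDepth 100000 in
theorem c2_fixAi : (∀ i, actPerm c2Ai vA0 i = vA0 i) ∧ ∀ i, actPerm c2Ai wB0 i = wB0 i := by
  decide +kernel

set_option maxRecDepth 100000 in
theorem c2_fixB : (∀ i, actPerm c2B vA0 i = vA0 i) ∧ ∀ i, actPerm c2B wB0 i = wB0 i := by
  decide +kernel

set_option maxRecDepth 100000 in
theorem c2_fixBi : (∀ i, actPerm c2Bi vA0 i = vA0 i) ∧ ∀ i, actPerm c2Bi wB0 i = wB0 i := by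
  decide +kernel

set_option maxRecDepth 100000 in
theorem c2_fixG : (∀ i, xmxFun c2S0 vA0 i = vA0 i) ∧ ∀ i, xmxFun c2S0 wB0 i = wB0 i := by
  decide +kernel

/-- every generator fixes the base pair and acts by its table -/
theorem c2_hgen : ∀ t, ∃ g : ↥Co0, g • v0L = v0L ∧ g • w0L = w0L ∧
    ∀ v : ↥leechLattice, ((g • v : ↥leechLattice) : IVec) = c2Act t (v : IVec) := by
  intro t
  match t with
  | 0 => exact hgen_perm_at (u := v0L) (x := w0L) c2A_inv c2Ai_chk c2_fixAi.1 c2_fixAi.2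
  | 1 => exact hgen_perm_at (u := v0L) (x := w0L) c2Ai_inv c2A_chk c2_fixA.1 c2_fixA.2
  | 2 => exact hgen_perm_at (u := v0L) (x := w0L) c2B_inv c2Bi_chk c2_fixBi.1 c2_fixBi.2
  | 3 => exact hgen_perm_at (u := v0L) (x := w0L) c2Bi_inv c2B_chk c2_fixB.1 c2_fixB.2
  | (n + 4) => exact hgen_xmx_at (u := v0L) (x := w0L) c2T0_inv c2S0_chk c2_fixG.1 c2_fixG.2

end Cfsg.Agent.Helper26
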