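import Cfsg.Agent.Helper26.R6Cert

/-!
# A fast certificate checker

For the generators that are coordinate permutations the image of a packed vector is computed
on the code itself, nibble by nibble, with a handful of operations on naturals; only the other
generators go through the decoded vectors.
-/

set_option autoImplicit false

namespace Cfsg.Agent.Helper26

open Cfsg Cfsg.Agent.Helper8 Cfsg.Agent.Helper27 Cfsg.Agent.Helper92
open scoped Pointwise

/-- the `k`-th nibble of a code -/
def nib (c k : ℕ) : ℕ := Nat.land (Nat.shiftRight c (Nat.mul 4 k)) 15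

theorem nib_eq (c k : ℕ) : nib c k = c / 16 ^ k % 16 := by
  show (c >>> (4 * k)) &&& 15 = c / 16 ^ k % 16
  rw [Nat.shiftRight_eq_div_pow, pow_mul, show (15 : ℕ) = 2 ^ 4 - 1 from rfl,
    Nat.and_two_pow_sub_one_eq_mod]
  norm_num

theorem nib_lt (c k : ℕ) : nib c k < 16 := by
  rw [nib_eq]
  exact Nat.mod_lt _ (by norm_num)

theorem decV_apply (c : ℕ) (p : GolayPt) : decV c p = (nib c (gIdx p) : ℤ) - 4 := rfl

theorem testBit_nib (c k r : ℕ) (hr : r < 4) : (nib c k).testBit r = c.testBit (4 * k + r) := by
  show ((c >>> (4 * k)) &&& 15).testBit r = c.testBit (4 * k + r)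
  rw [Nat.testBit_and, Nat.testBit_shiftRight]
  have : (15 : ℕ).testBit r = true := by
    interval_cases r <;> rfl
  rw [this, Bool.and_true]

/-- codes below `2 ^ 96` are determined by their nibbles -/
theorem eq_of_nib_eq {c c' : ℕ} (hc : c < 2 ^ 96) (hc' : c' < 2 ^ 96)
    (h : ∀ k < 24, nib c k = nib c' k) : c = c' := by
  apply Nat.eq_of_testBit_eq
  intro i
  by_cases hi : i < 96
  · have e : i = 4 * (i / 4) + i % 4 := by omega
    rw [e, ← testBit_nib c (i / 4) (i % 4) (Nat.mod_lt _ (by norm_num)),
      ← testBit_nib c' (i / 4) (i % 4) (Nat.mod_lt _ (by norm_num)), h (i / 4) (by omega)]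
  · have h1 : c < 2 ^ i := lt_of_lt_of_le hc (Nat.pow_le_pow_right (by norm_num) (by omega))
    have h2 : c' < 2 ^ i := lt_of_lt_of_le hc' (Nat.pow_le_pow_right (by norm_num) (by omega))
    rw [Nat.testBit_lt_two_pow h1, Nat.testBit_lt_two_pow h2]

theorem decV_injective {c c' : ℕ} (hc : c < 2 ^ 96) (hc' : c' < 2 ^ 96)
    (h : decV c = decV c') : c = c' := by
  apply eq_of_nib_eq hc hc'
  intro k hk
  have := congrFun h (gPt k)
  rw [decV_apply, decV_apply, gIdx_gPt k hk] at this
  exact_mod_cast sub_left_injective this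

/-- permuting the nibbles of a code: the new `k`-th nibble is the old one at the `k`-th entry of
the table -/
def permCode : List ℕ → ℕ → ℕ
  | [], _ => 0
  | a :: rest, c => Nat.add (nib c a) (Nat.mul 16 (permCode rest c))

theorem nib_permCode (s : List ℕ) (c : ℕ) : ∀ k, k < s.length →
    nib (permCode s c) k = nib c (s.getD k 0) := by
  induction s with
  | nil => intro k hk; exact absurd hk (Nat.not_lt_zero k)
  | cons a rest ih =>
    intro k hk
    have hn := nib_lt c a
    show nib (nib c a + 16 * permCode rest c) k = _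
    cases k with
    | zero =>
      rw [nib_eq, pow_zero, Nat.div_one, List.getD_cons_zero]
      omega
    | succ k =>
      rw [List.getD_cons_succ, ← ih k (by simpa using hk)]
      generalize nib c a = m at hn ⊢
      rw [nib_eq, nib_eq, pow_succ', ← Nat.div_div_eq_div_mul]
      have : (m + 16 * permCode rest c) / 16 = permCode rest c := by omega
      rw [this]

theorem decV_permCode {s : List ℕ} (hlen : s.length = 24) (hs : ∀ k, k < 24 → s.getD k 0 < 24)
    (c : ℕ) : decV (permCode s c) = actPerm s (decV c) := by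
  funext p
  show decV (permCode s c) p = decV c (tabFun s p)
  rw [decV_apply, decV_apply, nib_permCode s c (gIdx p) (by rw [hlen]; exact gIdx_lt p)]
  unfold tabFun
  rw [gIdx_gPt _ (hs _ (gIdx_lt p))]

theorem getWd_lt (w M i : ℕ) : getWd w M i < 2 ^ w := by
  show (M >>> (w * i)) &&& (2 ^ w - 1) < 2 ^ w
  rw [Nat.and_two_pow_sub_one_eq_mod]
  exact Nat.mod_lt _ (Nat.two_pow_pos w)

theorem getCh_lt (w K M i : ℕ) : getCh w K M i < 2 ^ w := getWd_lt _ _ _

/-- all the entries of a table are below `24` -/
def permTabOK (s : List ℕ) : Bool := Nat.beq s.length 24 && s.all fun a => Nat.blt a 24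

theorem permTabOK_spec {s : List ℕ} (h : permTabOK s = true) :
    s.length = 24 ∧ ∀ k, k < 24 → s.getD k 0 < 24 := by
  unfold permTabOK at h
  rw [Bool.and_eq_true, List.all_eq_true] at h
  have hlen : s.length = 24 := Nat.eq_of_beq_eq_true h.1
  refine ⟨hlen, fun k hk => ?_⟩
  have hk' : k < s.length := by rw [hlen]; exact hk
  rw [List.getD_eq_getElem _ _ hk']
  have := h.2 _ (List.getElem_mem hk')
  rwa [Nat.blt_eq] at this

section CheckerP

variable (tabs : ℕ → List ℕ) (actG : ℕ → IVec → IVec)

/-- the check of the entry with number `i`; the generators with numbers below `4` are the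
coordinate permutations with the tables `tabs` -/
def entryOKP (n r0 : ℕ) (C P Gn D : ℕ → ℕ) (i : ℕ) : Bool :=
  (Nat.ble n (i + 1) || Nat.blt (C i) (C (i + 1))) &&
    (if Nat.beq i r0 then Nat.beq (D i) 0 else
      Nat.blt (P i) n && Nat.blt (D (P i)) (D i) &&
        (if Nat.blt (Gn i) 4 then Nat.beq (permCode (tabs (Gn i)) (C (P i))) (C i)
          else vecEqB (actG (Gn i) (decV (C (P i)))) (decV (C i))))

/-- the check of the certificate -/
def certOKP (n r0 : ℕ) (C P Gn D : ℕ → ℕ) : Bool :=
  allBelow n (entryOKP tabs actG n r0 C P Gn D)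

variable {tabs actG}

theorem cert_soundP {u x y : ↥leechLattice}
    (htab : ∀ t < 4, permTabOK (tabs t) = true ∧ ∀ w, actG t w = actPerm (tabs t) w)
    (hgen : ∀ t, ∃ h : ↥Co0, h • u = u ∧ h • x = x ∧
      ∀ v : ↥leechLattice, ((h • v : ↥leechLattice) : IVec) = actG t (v : IVec))
    {n r0 : ℕ} {C P Gn D : ℕ → ℕ} (hc : certOKP tabs actG n r0 C P Gn D = true)
    (hy : (y : IVec) = decV (C r0)) :
    ∀ i < n, ∃ z ∈ orbSet u x y, (z : IVec) = decV (C i) := by
  unfold certOKP at hc
  rw [allBelow_iff] at hc
  have key : ∀ d i, i < n → D i = d →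
      ∃ z ∈ orbSet u x y, (z : IVec) = decV (C i) := by
    intro d
    induction d using Nat.strong_induction_on with
    | _ d ih =>
      intro i hi hd
      have h := hc i hi
      unfold entryOKP at h
      rw [Bool.and_eq_true] at h
      obtain ⟨-, h3⟩ := h
      by_cases hr : i = r0
      · subst hr
        exact ⟨y, orbSet_self u x y, hy⟩
      · rw [if_neg (fun hb => hr (Nat.eq_of_beq_eq_true hb)), Bool.and_eq_true, Bool.and_eq_true,
          Nat.blt_eq, Nat.blt_eq] at h3
        obtain ⟨⟨hp, hdp⟩, hv⟩ := h3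
        obtain ⟨z, hz, hzv⟩ := ih _ (by rw [← hd]; exact hdp) _ hp rfl
        obtain ⟨g, g1, g2, g3⟩ := hgen (Gn i)
        refine ⟨g • z, orbSet_step hz g1 g2, ?_⟩
        rw [g3, hzv]
        by_cases ht : Gn i < 4
        · rw [if_pos (by rw [Nat.blt_eq]; exact ht)] at hv
          obtain ⟨hok, hact⟩ := htab (Gn i) ht
          obtain ⟨hlen, hs⟩ := permTabOK_spec hok
          rw [hact, ← decV_permCode hlen hs, Nat.eq_of_beq_eq_true hv]
        · rw [if_neg (by rw [Nat.blt_eq]; exact ht), vecEqB_iff] at hv
          exact hv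
  intro i hi
  exact key _ i hi rfl

theorem cert_strictMonoP {n r0 : ℕ} {C P Gn D : ℕ → ℕ}
    (hc : certOKP tabs actG n r0 C P Gn D = true) :
    ∀ i i', i < i' → i' < n → C i < C i' := by
  unfold certOKP at hc
  rw [allBelow_iff] at hc
  have step : ∀ i, i + 1 < n → C i < C (i + 1) := by
    intro i hi
    have h := hc i (Nat.lt_of_succ_lt hi)
    unfold entryOKP at h
    rw [Bool.and_eq_true, Bool.or_eq_true] at h
    rcases h.1 with h' | h'
    · rw [Nat.ble_eq] at h'
      omega
    · rwa [Nat.blt_eq] at h'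
  intro i i' hii'
  induction i', hii' using Nat.le_induction with
  | base => exact fun h => step i h
  | succ k hk ih =>
    intro h
    exact lt_trans (ih (Nat.lt_of_succ_lt h)) (step k h)

/-- the certificate bounds the orbit from below -/
theorem cert_ncardP {u x y : ↥leechLattice}
    (htab : ∀ t < 4, permTabOK (tabs t) = true ∧ ∀ w, actG t w = actPerm (tabs t) w)
    (hgen : ∀ t, ∃ h : ↥Co0, h • u = u ∧ h • x = x ∧
      ∀ v : ↥leechLattice, ((h • v : ↥leechLattice) : IVec) = actG t (v : IVec))
    {n r0 : ℕ} {C P Gn D : ℕ → ℕ} (hC : ∀ i, C i < 2 ^ 96)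
    (hc : certOKP tabs actG n r0 C P Gn D = true)
    (hy : (y : IVec) = decV (C r0)) (hfin : (orbSet u x y).Finite) :
    n ≤ (orbSet u x y).ncard := by
  classical
  have hs := cert_soundP htab hgen hc hy
  have hmono := cert_strictMonoP hc
  have hinj : ∀ i i', i < n → i' < n → decV (C i) = decV (C i') → i = i' := by
    intro i i' hi hi' he
    have hcode : C i = C i' := decV_injective (hC i) (hC i') he
    rcases Nat.lt_trichotomy i i' with h | h | h
    · exact absurd hcode (Nat.ne_of_lt (hmono i i' h hi'))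
    · exact h
    · exact absurd hcode.symm (Nat.ne_of_lt (hmono i' i h hi))
  let f : ℕ → ↥leechLattice := fun i => if h : i < n then Classical.choose (hs i h) else y
  have hf : ∀ i (h : i < n), f i ∈ orbSet u x y ∧ ((f i : ↥leechLattice) : IVec) =
      decV (C i) := by
    intro i h
    have := Classical.choose_spec (hs i h)
    simp only [f, dif_pos h]
    exact this
  have hsub : f '' (Set.Iio n) ⊆ orbSet u x y := by
    rintro _ ⟨i, hi, rfl⟩
    exact (hf i hi).1
  have hinjOn : Set.InjOn f (Set.Iio n) := by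
    intro i hi i' hi' he
    apply hinj i i' hi hi'
    rw [← (hf i hi).2, ← (hf i' hi').2, he]
  calc n = (Set.Iio n).ncard := by
        rw [← Finset.coe_Iio, Set.ncard_coe_finset, Nat.card_Iio]
    _ = (f '' Set.Iio n).ncard := (Set.InjOn.ncard_image hinjOn).symm
    _ ≤ (orbSet u x y).ncard := Set.ncard_le_ncard hsub hfin

end CheckerP

/-- the fast check of a certificate packed in four naturals, read through chunks of 128
entries -/
def certOKQ (tabs : ℕ → List ℕ) (actG : ℕ → IVec → IVec) (n r0 MC MP MG MD : ℕ) : Bool :=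
  certOKP tabs actG n r0 (getCh 96 128 MC) (getCh 16 128 MP) (getCh 8 128 MG) (getCh 8 128 MD)

theorem cert_ncardQ {tabs : ℕ → List ℕ} {actG : ℕ → IVec → IVec} {u x y : ↥leechLattice}
    (htab : ∀ t < 4, permTabOK (tabs t) = true ∧ ∀ w, actG t w = actPerm (tabs t) w)
    (hgen : ∀ t, ∃ h : ↥Co0, h • u = u ∧ h • x = x ∧
      ∀ v : ↥leechLattice, ((h • v : ↥leechLattice) : IVec) = actG t (v : IVec))
    {n r0 MC MP MG MD : ℕ} (hc : certOKQ tabs actG n r0 MC MP MG MD = true)
    (hy : (y : IVec) = decV (getCh 96 128 MC r0)) (hfin : (orbSet u x y).Finite) :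
    n ≤ (orbSet u x y).ncard :=
  cert_ncardP htab hgen (fun i => getCh_lt 96 128 MC i) hc hy hfin

/-! ### data given by chunk functions

Reading a word of a huge packed natural keeps, for every index, a number of the size of the
remaining data in the kernel's cache. With the chunks given by a function (a decision tree with
small literals at its leaves) nothing big is ever produced. -/

/-- the `i`-th word of width `w`, the chunks of `K` words being given by a function -/
def getT (w K : ℕ) (ch : ℕ → ℕ) (i : ℕ) : ℕ := getWd w (ch (Nat.div i K)) (Nat.mod i K)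

theorem getT_lt (w K : ℕ) (ch : ℕ → ℕ) (i : ℕ) : getT w K ch i < 2 ^ w := getWd_lt _ _ _

/-- the fast check of a certificate given by two chunk functions: the codes (96 bits each), and
words of 32 bits made of the parent (16 bits), the generator (8 bits) and the depth (8 bits) -/
def certOKT (tabs : ℕ → List ℕ) (actG : ℕ → IVec → IVec) (n r0 : ℕ) (chC chX : ℕ → ℕ) : Bool :=
  certOKP tabs actG n r0 (getT 96 128 chC)
    (fun i => Nat.land (getT 32 128 chX i) 65535)
    (fun i => Nat.land (Nat.shiftRight (getT 32 128 chX i) 16) 255)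
    (fun i => Nat.shiftRight (getT 32 128 chX i) 24)

theorem cert_ncardT {tabs : ℕ → List ℕ} {actG : ℕ → IVec → IVec} {u x y : ↥leechLattice}
    (htab : ∀ t < 4, permTabOK (tabs t) = true ∧ ∀ w, actG t w = actPerm (tabs t) w)
    (hgen : ∀ t, ∃ h : ↥Co0, h • u = u ∧ h • x = x ∧
      ∀ v : ↥leechLattice, ((h • v : ↥leechLattice) : IVec) = actG t (v : IVec))
    {n r0 : ℕ} {chC chX : ℕ → ℕ} (hc : certOKT tabs actG n r0 chC chX = true)
    (hy : (y : IVec) = decV (getT 96 128 chC r0)) (hfin : (orbSet u x y).Finite) :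
    n ≤ (orbSet u x y).ncard :=
  cert_ncardP htab hgen (fun i => getT_lt 96 128 chC i) hc hy hfin

end Cfsg.Agent.Helper26
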