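import Cfsg.Agent.Helper26.Co2Data
import Cfsg.Agent.Helper26.R7Cert

/-!
# The tables of the permutation generators for the fast checker
-/

set_option autoImplicit false

namespace Cfsg.Agent.Helper26

open Cfsg Cfsg.Agent.Helper8 Cfsg.Agent.Helper27 Cfsg.Agent.Helper92

/-- the tables of the four permutation generators -/
def c2Tabs : ℕ → List ℕ
  | 0 => c2Ai
  | 1 => c2A
  | 2 => c2Bi
  | 3 => c2B
  | _ => []

theorem c2_htab : ∀ t < 4, permTabOK (c2Tabs t) = true ∧ ∀ w, c2Act t w = actPerm (c2Tabs t) w := by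
  intro t ht
  interval_cases t
  · exact ⟨by decide, fun w => rfl⟩
  · exact ⟨by decide, fun w => rfl⟩
  · exact ⟨by decide, fun w => rfl⟩
  · exact ⟨by decide, fun w => rfl⟩

end Cfsg.Agent.Helper26
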