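import Cfsg.Agent.Helper26.Co2InvA
import Cfsg.Agent.Helper8.Co2Rep

/-!
# The centraliser of an involution of `Co2`: general lemmas and the involution

Elements of `Co0` acting as words, dot products with vectors given by lists, and the involution
`tE` (sign change on the complement of the octad `O`).
-/

set_option autoImplicit false

namespace Cfsg.Agent.Helper26.Co2Inv

open Cfsg Cfsg.Agent.Helper7 Cfsg.Agent.Helper8 Cfsg.Agent.Helper27 MulAction

/-! ### elements acting as words -/

/-- the element acts on the lattice as the word does on vectors -/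
def Acts (g : ↥Co0) (W : List Letter) : Prop :=
  ∀ v : ↥leechLattice, ((g • v : ↥leechLattice) : IVec) = semW W v.1

theorem semW_append (W W' : List Letter) (x : IVec) :
    semW (W ++ W') x = semW W' (semW W x) := by
  induction W generalizing x with
  | nil => rfl
  | cons a W ih => exact ih (a.sem x)

theorem Acts.mul {g g' : ↥Co0} {W W' : List Letter} (h : Acts g W) (h' : Acts g' W') :
    Acts (g' * g) (W ++ W') := by
  intro v
  rw [mul_smul, h', h, semW_append]

theorem Acts.run {g : ↥Co0} {W : List Letter} (h : Acts g W) (hW : okW W = true)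
    {v : ↥leechLattice} {l : List ℤ} (hv : (v : IVec) = vecOf l) :
    ((g • v : ↥leechLattice) : IVec) = vecOf (runW W l) := by
  rw [h, hv, vecOf_runW W hW]

/-- the list of `8 e_k` -/
def basisL (k : ℕ) : List ℤ := (List.range 24).map fun i => if i = k then 8 else 0

theorem gIdx_inj : Function.Injective gIdx :=
  Function.LeftInverse.injective gPt_gIdx

theorem vec8_eq_vecOf (p : GolayPt) :
    ((vec8 p : ↥leechLattice) : IVec) = vecOf (basisL (gIdx p)) := by
  funext q
  unfold basisL
  rw [vecOf_range_map, vec8_val]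
  by_cases h : q = p
  · subst h; rw [Pi.single_eq_same, if_pos rfl]
  · rw [Pi.single_eq_of_ne h, if_neg (fun h' => h (gIdx_inj h'))]

/-- an automorphism is determined by the images of the `8 e_i` -/
theorem co0_ext_vec8 {g h : ↥Co0} (H : ∀ i, g • vec8 i = h • vec8 i) : g = h := by
  apply Cfsg.Agent.Helper8.co0_ext
  intro y
  have hm : Co2Rep.matZ g.1 = Co2Rep.matZ h.1 := by
    funext j i
    exact congrArg (fun v : ↥leechLattice => (v : GolayPt → ℤ) j) (H i)
  have h1 := Co2Rep.matZ_mulVec g.2 y
  have h2 := Co2Rep.matZ_mulVec h.2 y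
  rw [hm, h2] at h1
  apply Subtype.ext
  funext j
  have h3 := congrFun h1 j
  rw [Pi.smul_apply, Pi.smul_apply, smul_eq_mul, smul_eq_mul] at h3
  have h4 : ((h.1 y : ↥leechLattice) : GolayPt → ℤ) j =
      ((g.1 y : ↥leechLattice) : GolayPt → ℤ) j := by
    omega
  exact h4.symm

theorem Acts.ext {g g' : ↥Co0} {W W' : List Letter} (h : Acts g W) (h' : Acts g' W')
    (hW : okW W = true) (hW' : okW W' = true)
    (H : ∀ k < 24, runW W (basisL k) = runW W' (basisL k)) : g = g' := by
  apply co0_ext_vec8
  intro p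
  apply Subtype.ext
  rw [h.run hW (vec8_eq_vecOf p), h'.run hW' (vec8_eq_vecOf p), H _ (gIdx_lt p)]

theorem okW_append {W W' : List Letter} (h : okW W = true) (h' : okW W' = true) :
    okW (W ++ W') = true := by
  unfold okW at *
  rw [List.all_append, h, h']
  rfl

theorem eq_vecOf_of_listOf {x : IVec} {l : List ℤ} (h : listOf x = l) : x = vecOf l := by
  rw [← h, vecOf_listOf]

/-! ### sums and dot products -/

theorem lsum_eq (n : ℕ) (f : ℕ → ℤ) : lsum n f = ∑ i ∈ Finset.range n, f i := by
  unfold lsum
  induction n with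
  | zero => rfl
  | succ n ih =>
    rw [List.range_succ, List.map_append, List.sum_append, ih, Finset.sum_range_succ]
    simp

theorem dotInt_vecOf_right (y : IVec) (l : List ℤ) :
    dotInt y (vecOf l) = ∑ i ∈ Finset.range 24, y (gPt i) * l.getD i 0 := by
  unfold dotInt
  rw [Cfsg.Agent.Helper27.sum_golayPt]
  refine Finset.sum_congr rfl fun i hi => ?_
  rw [Finset.mem_range] at hi
  show y (gPt i) * l.getD (gIdx (gPt i)) 0 = _
  rw [gIdx_gPt i hi]

theorem dotInt_vecOf_vecOf (l l' : List ℤ) :
    dotInt (vecOf l) (vecOf l') = lsum 24 (fun i => l.getD i 0 * l'.getD i 0) := by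
  rw [dotInt_vecOf_right, lsum_eq]
  refine Finset.sum_congr rfl fun i hi => ?_
  rw [Finset.mem_range] at hi
  show l.getD (gIdx (gPt i)) 0 * _ = _
  rw [gIdx_gPt i hi]

theorem dotInt_comm' (x y : IVec) : dotInt x y = dotInt y x := by
  unfold dotInt
  exact Finset.sum_congr rfl fun i _ => mul_comm _ _

/-! ### the vector and the involution -/

/-- the vector `(4, 4, 0^22)` -/
abbrev u0 : ↥leechLattice := Spor.leechU

set_option maxRecDepth 100000 in
theorem u0_list : (u0 : IVec) = vecOf lu :=
  eq_vecOf_of_listOf (show listOf Spor.vecU = lu by decide +kernel)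

/-- the involution -/
noncomputable def tE : ↥Co0 := Classical.choose (exists_co0_word tW tW_ok)

theorem acts_tE : Acts tE tW := Classical.choose_spec (exists_co0_word tW tW_ok)

theorem tE_apply (v : ↥leechLattice) (p : GolayPt) :
    ((tE • v : ↥leechLattice) : IVec) p = tS (gIdx p) (v.1 p) := by
  rw [acts_tE v]
  show signedPerm 1 (setOf Ocm) v.1 p = _
  rw [signedPerm_one_apply]
  unfold tS
  by_cases hb : Ocm.testBit (gIdx p) = true
  · rw [if_pos hb, if_pos ((mem_setOf Ocm p).mpr hb)]
  · rw [if_neg hb, if_neg (fun h' => hb ((mem_setOf Ocm p).mp h'))]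

theorem tS_tS (i : ℕ) (x : ℤ) : tS i (tS i x) = x := by
  unfold tS
  split_ifs <;> simp

theorem tE_tE (v : ↥leechLattice) : tE • (tE • v) = v := by
  apply Subtype.ext
  funext p
  rw [tE_apply, tE_apply, tS_tS]

theorem tE_mul_self : tE * tE = 1 := by
  apply Cfsg.Agent.Helper8.co0_ext
  intro v
  rw [mul_smul, tE_tE, one_smul]

/-- a vector is fixed by the involution iff it vanishes off the octad -/
theorem tE_fix_iff (y : ↥leechLattice) :
    tE • y = y ↔ ∀ i < 24, Ocm.testBit i = true → y.1 (gPt i) = 0 := by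
  constructor
  · intro h i hi hb
    have h1 := tE_apply y (gPt i)
    rw [h, gIdx_gPt i hi] at h1
    unfold tS at h1
    rw [if_pos hb] at h1
    omega
  · intro h
    apply Subtype.ext
    funext p
    rw [tE_apply]
    unfold tS
    by_cases hb : Ocm.testBit (gIdx p) = true
    · rw [if_pos hb]
      have := h (gIdx p) (gIdx_lt p) hb
      rw [gPt_gIdx] at this
      rw [this]
      rfl
    · rw [if_neg hb]

/-- the dot product of a fixed vector with `v + t v` is twice that with `v` -/
theorem dot_pre {y : ↥leechLattice} (hy : tE • y = y) (r v : List ℤ)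
    (hpre : ∀ i < 24, r.getD i 0 = v.getD i 0 + tS i (v.getD i 0)) :
    dotInt y.1 (vecOf r) = 2 * dotInt y.1 (vecOf v) := by
  rw [dotInt_vecOf_right, dotInt_vecOf_right, Finset.mul_sum]
  refine Finset.sum_congr rfl fun i hi => ?_
  rw [Finset.mem_range] at hi
  rw [hpre i hi]
  unfold tS
  by_cases hb : Ocm.testBit i = true
  · rw [if_pos hb, (tE_fix_iff y).mp hy i hi hb]
    ring
  · rw [if_neg hb]
    ring

theorem sixteen_dvd_of_pre {y : ↥leechLattice} (hy : tE • y = y) (r v : List ℤ)
    (hpre : ∀ i < 24, r.getD i 0 = v.getD i 0 + tS i (v.getD i 0))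
    (hv : vecOf v ∈ leechLattice) : (16 : ℤ) ∣ dotInt y.1 (vecOf r) := by
  rw [dot_pre hy r v hpre]
  obtain ⟨c, hc⟩ := eight_dvd_dotInt y.2 hv
  exact ⟨c, by rw [hc]; ring⟩

end Cfsg.Agent.Helper26.Co2Inv
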