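import Cfsg.Agent.Helper26.Co2InvB

/-!
# The centraliser of an involution of `Co2`: the roots

A minimal vector fixed by `tE` and orthogonal to `(4, 4, 0^22)` is one of the 126 listed vectors.
-/

set_option autoImplicit false

namespace Cfsg.Agent.Helper26.Co2Inv

open Cfsg Cfsg.Agent.Helper7 Cfsg.Agent.Helper8 Cfsg.Agent.Helper27 MulAction

/-- the list with given entries on the octad -/
def mk8 (a b c1 c2 c3 c4 c5 c6 : ℤ) : List ℤ :=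
  [b, c1, c2, 0, c3, 0, 0, 0, 0, 0, 0, 0, 0, c4, 0, 0, c5, 0, 0, 0, 0, 0, c6, a]

theorem lsum24 (f : ℕ → ℤ) : lsum 24 f = f 0 + f 1 + f 2 + f 3 + f 4 + f 5 + f 6 + f 7 + f 8 + f 9 + f 10 + f 11 + f 12 + f 13 + f 14 + f 15 + f 16 + f 17 + f 18 + f 19 + f 20 + f 21 + f 22 + f 23 := by
  rw [lsum_eq]
  simp only [Finset.sum_range_succ, Finset.sum_range_zero, zero_add]

theorem lsum_mk8 (a b c1 c2 c3 c4 c5 c6 : ℤ) (r : List ℤ) :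
    lsum 24 (fun i => (mk8 a b c1 c2 c3 c4 c5 c6).getD i 0 * r.getD i 0) =
      b * r.getD 0 0 + c1 * r.getD 1 0 + c2 * r.getD 2 0 + c3 * r.getD 4 0 + c4 * r.getD 13 0 +
        c5 * r.getD 16 0 + c6 * r.getD 22 0 + a * r.getD 23 0 := by
  rw [lsum24]
  simp only [mk8, List.getD_cons_zero, List.getD_cons_succ, zero_mul, add_zero]

/-! ### the arithmetic -/

/-- the check for the vectors with entries divisible by 4 -/
def chkE (a c1 c2 c3 c4 c5 c6 : ℤ) : Bool :=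
  !(2 * (a * a) + c1 * c1 + c2 * c2 + c3 * c3 + c4 * c4 + c5 * c5 + c6 * c6 == 2) ||
    rtT.contains (mk8 (4 * a) (-(4 * a)) (4 * c1) (4 * c2) (4 * c3) (4 * c4) (4 * c5) (4 * c6))

/-- the check for the vectors with entries `±2` -/
def chkD (a c1 c2 c3 c4 c5 c6 : ℤ) : Bool :=
  !((c1 + c2 + c3 + c4 + c5 + c6) % 4 == 0) ||
    rtT.contains (mk8 (2 * a) (-(2 * a)) (2 * c1) (2 * c2) (2 * c3) (2 * c4) (2 * c5) (2 * c6))

set_option maxRecDepth 1000000 in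
theorem chkE_all : ∀ a c1 c2 c3 c4 c5 c6 : Fin 3,
    chkE ((a.val : ℤ) - 1) ((c1.val : ℤ) - 1) ((c2.val : ℤ) - 1) ((c3.val : ℤ) - 1)
      ((c4.val : ℤ) - 1) ((c5.val : ℤ) - 1) ((c6.val : ℤ) - 1) = true := by decide +kernel

set_option maxRecDepth 1000000 in
theorem chkD_all : ∀ a c1 c2 c3 c4 c5 c6 : Fin 2,
    chkD (2 * (a.val : ℤ) - 1) (2 * (c1.val : ℤ) - 1) (2 * (c2.val : ℤ) - 1)
      (2 * (c3.val : ℤ) - 1) (2 * (c4.val : ℤ) - 1) (2 * (c5.val : ℤ) - 1)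
      (2 * (c6.val : ℤ) - 1) = true := by decide +kernel

theorem exists_fin3 (x : ℤ) (h1 : -1 ≤ x) (h2 : x ≤ 1) : ∃ k : Fin 3, ((k.val : ℤ)) - 1 = x := by
  refine ⟨⟨(x + 1).toNat, by omega⟩, ?_⟩
  show (((x + 1).toNat : ℕ) : ℤ) - 1 = x
  omega

theorem exists_fin2 (x : ℤ) (h : x = -1 ∨ x = 1) : ∃ k : Fin 2, 2 * ((k.val : ℤ)) - 1 = x := by
  rcases h with h | h
  · exact ⟨0, by rw [h]; rfl⟩
  · exact ⟨1, by rw [h]; rfl⟩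

theorem bnd5 (c s : ℤ) (hs : 0 ≤ s) (h : c ^ 2 + s = 32) : -5 ≤ c ∧ c ≤ 5 := by
  constructor <;> nlinarith

theorem cmodA (a c : ℤ) (hp : (16 : ℤ) ∣ 4 * a + 4 * c) (ha : a % 4 = 0)
    (h : -5 ≤ c ∧ c ≤ 5) : ∃ d : ℤ, c = 4 * d ∧ -1 ≤ d ∧ d ≤ 1 :=
  ⟨c / 4, by omega, by omega, by omega⟩

theorem cmodB (a c : ℤ) (hp : (16 : ℤ) ∣ 4 * a + 4 * c) (ha : a % 4 = 2)
    (h : -5 ≤ c ∧ c ≤ 5) : ∃ d : ℤ, c = 2 * d ∧ (d = -1 ∨ d = 1) :=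
  ⟨c / 2, by omega, by omega⟩

theorem root_cases (a b c1 c2 c3 c4 c5 c6 : ℤ)
    (hN : a ^ 2 + b ^ 2 + c1 ^ 2 + c2 ^ 2 + c3 ^ 2 + c4 ^ 2 + c5 ^ 2 + c6 ^ 2 = 32)
    (hX : 4 * a + 4 * b = 0)
    (hb : (16 : ℤ) ∣ 4 * a - 4 * b)
    (h1p : (16 : ℤ) ∣ 4 * a + 4 * c1)
    (h2p : (16 : ℤ) ∣ 4 * a + 4 * c2)
    (h3p : (16 : ℤ) ∣ 4 * a + 4 * c3)
    (h4p : (16 : ℤ) ∣ 4 * a + 4 * c4)
    (h5p : (16 : ℤ) ∣ 4 * a + 4 * c5)
    (h6p : (16 : ℤ) ∣ 4 * a + 4 * c6)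
    (hG : (16 : ℤ) ∣ 2 * a + 2 * b + 2 * c1 + 2 * c2 + 2 * c3 + 2 * c4 + 2 * c5 + 2 * c6) :
    mk8 a b c1 c2 c3 c4 c5 c6 ∈ rtT := by
  have hba : b = -a := by linarith
  subst hba
  have haE : a % 4 = 0 ∨ a % 4 = 2 := by
    clear hN hX h1p h2p h3p h4p h5p h6p hG
    omega
  have hba : -5 ≤ a ∧ a ≤ 5 := bnd5 a (a ^ 2 + c1 ^ 2 + c2 ^ 2 + c3 ^ 2 + c4 ^ 2 + c5 ^ 2 + c6 ^ 2)
    (by positivity) (by linarith)
  have hc1 := bnd5 c1 (a ^ 2 + a ^ 2 + c2 ^ 2 + c3 ^ 2 + c4 ^ 2 + c5 ^ 2 + c6 ^ 2)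
    (by positivity) (by linarith)
  have hc2 := bnd5 c2 (a ^ 2 + a ^ 2 + c1 ^ 2 + c3 ^ 2 + c4 ^ 2 + c5 ^ 2 + c6 ^ 2)
    (by positivity) (by linarith)
  have hc3 := bnd5 c3 (a ^ 2 + a ^ 2 + c1 ^ 2 + c2 ^ 2 + c4 ^ 2 + c5 ^ 2 + c6 ^ 2)
    (by positivity) (by linarith)
  have hc4 := bnd5 c4 (a ^ 2 + a ^ 2 + c1 ^ 2 + c2 ^ 2 + c3 ^ 2 + c5 ^ 2 + c6 ^ 2)
    (by positivity) (by linarith)
  have hc5 := bnd5 c5 (a ^ 2 + a ^ 2 + c1 ^ 2 + c2 ^ 2 + c3 ^ 2 + c4 ^ 2 + c6 ^ 2)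
    (by positivity) (by linarith)
  have hc6 := bnd5 c6 (a ^ 2 + a ^ 2 + c1 ^ 2 + c2 ^ 2 + c3 ^ 2 + c4 ^ 2 + c5 ^ 2)
    (by positivity) (by linarith)
  rcases haE with h4 | h4
  · -- entries divisible by 4
    obtain ⟨a', ha', ha1, ha2⟩ : ∃ d : ℤ, a = 4 * d ∧ -1 ≤ d ∧ d ≤ 1 :=
      ⟨a / 4, by omega, by omega, by omega⟩
    obtain ⟨d1, hd1, hd1a, hd1b⟩ := cmodA a c1 h1p h4 hc1
    obtain ⟨d2, hd2, hd2a, hd2b⟩ := cmodA a c2 h2p h4 hc2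
    obtain ⟨d3, hd3, hd3a, hd3b⟩ := cmodA a c3 h3p h4 hc3
    obtain ⟨d4, hd4, hd4a, hd4b⟩ := cmodA a c4 h4p h4 hc4
    obtain ⟨d5, hd5, hd5a, hd5b⟩ := cmodA a c5 h5p h4 hc5
    obtain ⟨d6, hd6, hd6a, hd6b⟩ := cmodA a c6 h6p h4 hc6
    subst ha' hd1 hd2 hd3 hd4 hd5 hd6
    obtain ⟨ka, hka⟩ := exists_fin3 a' ha1 ha2
    obtain ⟨k1, hk1⟩ := exists_fin3 d1 hd1a hd1b
    obtain ⟨k2, hk2⟩ := exists_fin3 d2 hd2a hd2b
    obtain ⟨k3, hk3⟩ := exists_fin3 d3 hd3a hd3b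
    obtain ⟨k4, hk4⟩ := exists_fin3 d4 hd4a hd4b
    obtain ⟨k5, hk5⟩ := exists_fin3 d5 hd5a hd5b
    obtain ⟨k6, hk6⟩ := exists_fin3 d6 hd6a hd6b
    have key := chkE_all ka k1 k2 k3 k4 k5 k6
    rw [hka, hk1, hk2, hk3, hk4, hk5, hk6] at key
    have hn : (2 * (a' * a') + d1 * d1 + d2 * d2 + d3 * d3 + d4 * d4 + d5 * d5 + d6 * d6 == 2)
        = true := by
      rw [beq_iff_eq]
      linarith
    unfold chkE at key
    rw [hn] at key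
    simp only [Bool.not_true, Bool.false_or] at key
    exact List.contains_iff_mem.mp key
  · -- entries `±2`
    obtain ⟨a', ha', ha1⟩ : ∃ d : ℤ, a = 2 * d ∧ (d = -1 ∨ d = 1) :=
      ⟨a / 2, by omega, by omega⟩
    obtain ⟨d1, hd1, hd1a⟩ := cmodB a c1 h1p h4 hc1
    obtain ⟨d2, hd2, hd2a⟩ := cmodB a c2 h2p h4 hc2
    obtain ⟨d3, hd3, hd3a⟩ := cmodB a c3 h3p h4 hc3
    obtain ⟨d4, hd4, hd4a⟩ := cmodB a c4 h4p h4 hc4
    obtain ⟨d5, hd5, hd5a⟩ := cmodB a c5 h5p h4 hc5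
    obtain ⟨d6, hd6, hd6a⟩ := cmodB a c6 h6p h4 hc6
    subst ha' hd1 hd2 hd3 hd4 hd5 hd6
    obtain ⟨ka, hka⟩ := exists_fin2 a' ha1
    obtain ⟨k1, hk1⟩ := exists_fin2 d1 hd1a
    obtain ⟨k2, hk2⟩ := exists_fin2 d2 hd2a
    obtain ⟨k3, hk3⟩ := exists_fin2 d3 hd3a
    obtain ⟨k4, hk4⟩ := exists_fin2 d4 hd4a
    obtain ⟨k5, hk5⟩ := exists_fin2 d5 hd5a
    obtain ⟨k6, hk6⟩ := exists_fin2 d6 hd6a
    have key := chkD_all ka k1 k2 k3 k4 k5 k6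
    rw [hka, hk1, hk2, hk3, hk4, hk5, hk6] at key
    have hn : ((d1 + d2 + d3 + d4 + d5 + d6) % 4 == 0) = true := by
      rw [beq_iff_eq]
      clear hN hX hb h1p h2p h3p h4p h5p h6p key hc1 hc2 hc3 hc4 hc5 hc6 hba
      omega
    unfold chkD at key
    rw [hn] at key
    simp only [Bool.not_true, Bool.false_or] at key
    exact List.contains_iff_mem.mp key

/-! ### the classification -/

theorem cong_of {y : ↥leechLattice} (hy : tE • y = y) {a b c1 c2 c3 c4 c5 c6 : ℤ}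
    (hl : y.1 = vecOf (mk8 a b c1 c2 c3 c4 c5 c6)) (r v : List ℤ)
    (hpre : ∀ i < 24, r.getD i 0 = v.getD i 0 + tS i (v.getD i 0))
    (hv : vecOf v ∈ leechLattice) :
    (16 : ℤ) ∣ b * r.getD 0 0 + c1 * r.getD 1 0 + c2 * r.getD 2 0 + c3 * r.getD 4 0 +
      c4 * r.getD 13 0 + c5 * r.getD 16 0 + c6 * r.getD 22 0 + a * r.getD 23 0 := by
  have h := sixteen_dvd_of_pre hy r v hpre hv
  rwa [hl, dotInt_vecOf_vecOf, lsum_mk8] at h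

/-- a fixed vector is given by its entries on the octad -/
theorem fixed_eq_mk8 {y : ↥leechLattice} (hy : tE • y = y) :
    y.1 = vecOf (mk8 (y.1 (gPt 23)) (y.1 (gPt 0)) (y.1 (gPt 1)) (y.1 (gPt 2)) (y.1 (gPt 4))
      (y.1 (gPt 13)) (y.1 (gPt 16)) (y.1 (gPt 22))) := by
  have hf := (tE_fix_iff y).mp hy
  apply eq_vecOf_of_listOf
  have e : listOf y.1 = [y.1 (gPt 0), y.1 (gPt 1), y.1 (gPt 2), y.1 (gPt 3), y.1 (gPt 4),
      y.1 (gPt 5), y.1 (gPt 6), y.1 (gPt 7), y.1 (gPt 8), y.1 (gPt 9), y.1 (gPt 10),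
      y.1 (gPt 11), y.1 (gPt 12), y.1 (gPt 13), y.1 (gPt 14), y.1 (gPt 15), y.1 (gPt 16),
      y.1 (gPt 17), y.1 (gPt 18), y.1 (gPt 19), y.1 (gPt 20), y.1 (gPt 21), y.1 (gPt 22),
      y.1 (gPt 23)] := by
    simp [listOf, List.range_succ]
  rw [e, hf 3 (by norm_num) (by decide), hf 5 (by norm_num) (by decide),
    hf 6 (by norm_num) (by decide), hf 7 (by norm_num) (by decide),
    hf 8 (by norm_num) (by decide), hf 9 (by norm_num) (by decide),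
    hf 10 (by norm_num) (by decide), hf 11 (by norm_num) (by decide),
    hf 12 (by norm_num) (by decide), hf 14 (by norm_num) (by decide),
    hf 15 (by norm_num) (by decide), hf 17 (by norm_num) (by decide),
    hf 18 (by norm_num) (by decide), hf 19 (by norm_num) (by decide),
    hf 20 (by norm_num) (by decide), hf 21 (by norm_num) (by decide)]
  rfl

theorem mem_rtT_of {y : ↥leechLattice} (hn : sqNorm y.1 = 32) (hy : tE • y = y)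
    (hu : dotInt (u0 : IVec) y.1 = 0) : ∃ l ∈ rtT, y.1 = vecOf l := by
  have hl := fixed_eq_mk8 hy
  generalize y.1 (gPt 23) = a at hl
  generalize y.1 (gPt 0) = b at hl
  generalize y.1 (gPt 1) = c1 at hl
  generalize y.1 (gPt 2) = c2 at hl
  generalize y.1 (gPt 4) = c3 at hl
  generalize y.1 (gPt 13) = c4 at hl
  generalize y.1 (gPt 16) = c5 at hl
  generalize y.1 (gPt 22) = c6 at hl
  refine ⟨_, ?_, hl⟩
  have hN : a ^ 2 + b ^ 2 + c1 ^ 2 + c2 ^ 2 + c3 ^ 2 + c4 ^ 2 + c5 ^ 2 + c6 ^ 2 = 32 := by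
    rw [← dotInt_self, hl, dotInt_vecOf_vecOf, lsum_mk8] at hn
    simp only [mk8, List.getD_cons_succ, List.getD_cons_zero] at hn
    linarith
  have hX : 4 * a + 4 * b = 0 := by
    rw [u0_list, dotInt_comm', hl, dotInt_vecOf_vecOf, lsum_mk8] at hu
    norm_num [lu, List.getD] at hu
    linarith
  have t1 := cong_of hy hl [-4, 0, 0, 0, 0, 0, 0, 0, 0, 0, 0, 0, 0, 0, 0, 0, 0, 0, 0, 0, 0, 0, 0, 4] (f1VT.getD 1 [])
    (by decide +kernel) (mem_of_leechChk (f1V_chk 1 (by norm_num)))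
  norm_num [List.getD] at t1
  have t2 := cong_of hy hl [0, 4, 0, 0, 0, 0, 0, 0, 0, 0, 0, 0, 0, 0, 0, 0, 0, 0, 0, 0, 0, 0, 0, 4] (f1VT.getD 2 [])
    (by decide +kernel) (mem_of_leechChk (f1V_chk 2 (by norm_num)))
  norm_num [List.getD] at t2
  have t4 := cong_of hy hl [0, 0, 4, 0, 0, 0, 0, 0, 0, 0, 0, 0, 0, 0, 0, 0, 0, 0, 0, 0, 0, 0, 0, 4] (f1VT.getD 4 [])
    (by decide +kernel) (mem_of_leechChk (f1V_chk 4 (by norm_num)))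
  norm_num [List.getD] at t4
  have t6 := cong_of hy hl [0, 0, 0, 0, 4, 0, 0, 0, 0, 0, 0, 0, 0, 0, 0, 0, 0, 0, 0, 0, 0, 0, 0, 4] (f1VT.getD 6 [])
    (by decide +kernel) (mem_of_leechChk (f1V_chk 6 (by norm_num)))
  norm_num [List.getD] at t6
  have t8 := cong_of hy hl [0, 0, 0, 0, 0, 0, 0, 0, 0, 0, 0, 0, 0, 4, 0, 0, 0, 0, 0, 0, 0, 0, 0, 4] (f1VT.getD 8 [])
    (by decide +kernel) (mem_of_leechChk (f1V_chk 8 (by norm_num)))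
  norm_num [List.getD] at t8
  have t10 := cong_of hy hl [0, 0, 0, 0, 0, 0, 0, 0, 0, 0, 0, 0, 0, 0, 0, 0, 4, 0, 0, 0, 0, 0, 0, 4] (f1VT.getD 10 [])
    (by decide +kernel) (mem_of_leechChk (f1V_chk 10 (by norm_num)))
  norm_num [List.getD] at t10
  have t12 := cong_of hy hl [0, 0, 0, 0, 0, 0, 0, 0, 0, 0, 0, 0, 0, 0, 0, 0, 0, 0, 0, 0, 0, 0, 4, 4] (f1VT.getD 12 [])
    (by decide +kernel) (mem_of_leechChk (f1V_chk 12 (by norm_num)))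
  norm_num [List.getD] at t12
  have t14 := cong_of hy hl [2, 2, 2, 0, 2, 0, 0, 0, 0, 0, 0, 0, 0, 2, 0, 0, 2, 0, 0, 0, 0, 0, 2, 2] (f1VT.getD 14 [])
    (by decide +kernel) (mem_of_leechChk (f1V_chk 14 (by norm_num)))
  norm_num [List.getD] at t14
  exact root_cases a b c1 c2 c3 c4 c5 c6 hN hX (by omega) (by omega) (by omega) (by omega)
    (by omega) (by omega) (by omega) (by omega)

end Cfsg.Agent.Helper26.Co2Inv
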