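import Cfsg.Agent.Helper26.Co2InvC
import Cfsg.Agent.Helper8.PairCensus2
import Cfsg.Agent.Helper13.SympGen2

/-!
# The centraliser of an involution of `Co2`: the homomorphism to `Sp(6, 2)`

The centraliser `CH` of the involution `tE` in the stabiliser of `u0 = (4, 4, 0^22)` permutes the
126 roots, linearly on their labels; this gives a homomorphism `phi` to the symplectic group.
-/

set_option autoImplicit false

namespace Cfsg.Agent.Helper26.Co2Inv

open Cfsg Cfsg.Agent.Helper7 Cfsg.Agent.Helper8 Cfsg.Agent.Helper27 MulAction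

/-! ### the roots as lattice vectors -/

/-- the root of index `k` -/
noncomputable def R (k : ℕ) : ↥leechLattice :=
  if h : k < 126 then ⟨vecOf (rtL k), mem_of_leechChk (rt_chk k h)⟩ else 0

theorem R_val {k : ℕ} (h : k < 126) : ((R k : ↥leechLattice) : IVec) = vecOf (rtL k) := by
  unfold R
  rw [dif_pos h]

theorem R_apply {k : ℕ} (h : k < 126) {i : ℕ} (hi : i < 24) :
    ((R k : ↥leechLattice) : IVec) (gPt i) = rtE k i := by
  rw [R_val h]
  show (rtL k).getD (gIdx (gPt i)) 0 = _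
  rw [gIdx_gPt i hi]
  rfl

theorem R_fix {k : ℕ} (h : k < 126) : tE • R k = R k := by
  rw [tE_fix_iff]
  intro i hi hb
  rw [R_apply h hi]
  exact rt_fix k h i hi hb

theorem dot_R_R {k l : ℕ} (hk : k < 126) (hl : l < 126) :
    dotInt (R k : IVec) (R l : IVec) = lsum 24 (fun i => rtE k i * rtE l i) := by
  rw [R_val hk, R_val hl, dotInt_vecOf_vecOf]
  rfl

theorem R_u {k : ℕ} (h : k < 126) : dotInt (u0 : IVec) (R k : IVec) = 0 := by
  rw [u0_list, R_val h, dotInt_vecOf_vecOf]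
  exact rt_u k h

theorem R_norm {k : ℕ} (h : k < 126) : sqNorm (R k : IVec) = 32 := by
  rw [← dotInt_self, dot_R_R h h]
  exact rt_norm k h

theorem xor_one_lt {k : ℕ} (h : k < 126) : k ^^^ 1 < 126 := by
  revert k
  decide

theorem R_neg {k : ℕ} (h : k < 126) : R (k ^^^ 1) = - R k := by
  apply Subtype.ext
  funext p
  rw [AddSubgroup.coe_neg, Pi.neg_apply, ← gPt_gIdx p, R_apply (xor_one_lt h) (gIdx_lt p),
    R_apply h (gIdx_lt p)]
  exact rt_neg k h _ (gIdx_lt p)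

theorem rtT_length : rtT.length = 126 := by decide +kernel

/-- the vectors in question -/
def InL (y : ↥leechLattice) : Prop := tE • y = y ∧ dotInt (u0 : IVec) (y : IVec) = 0

theorem R_inL {k : ℕ} (h : k < 126) : InL (R k) := ⟨R_fix h, R_u h⟩

/-- the classification of the roots -/
theorem exists_R {y : ↥leechLattice} (hn : sqNorm (y : IVec) = 32) (hy : InL y) :
    ∃ k < 126, y = R k := by
  obtain ⟨l, hl, e⟩ := mem_rtT_of hn hy.1 hy.2
  obtain ⟨k, hk, rfl⟩ := List.getElem_of_mem hl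
  rw [rtT_length] at hk
  refine ⟨k, hk, Subtype.ext ?_⟩
  rw [e, R_val hk]
  congr 1
  unfold rtL
  rw [List.getD_eq_getElem _ _ (by rw [rtT_length]; exact hk)]

/-! ### the subgroup -/

/-- the centraliser of the involution in the stabiliser of `u0` -/
noncomputable def CH : Subgroup ↥Co0 := stabilizer ↥Co0 u0 ⊓ Subgroup.centralizer {tE}

theorem mem_CH {g : ↥Co0} : g ∈ CH ↔ g • u0 = u0 ∧ tE * g = g * tE := by
  unfold CH
  rw [Subgroup.mem_inf, mem_stabilizer_iff, Subgroup.mem_centralizer_iff]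
  constructor
  · rintro ⟨h1, h2⟩
    exact ⟨h1, h2 tE rfl⟩
  · rintro ⟨h1, h2⟩
    refine ⟨h1, ?_⟩
    intro h hh
    rw [Set.mem_singleton_iff] at hh
    rw [hh]
    exact h2

theorem InL.smul {g : ↥Co0} (hg : g ∈ CH) {y : ↥leechLattice} (hy : InL y) : InL (g • y) := by
  obtain ⟨h1, h2⟩ := mem_CH.mp hg
  constructor
  · rw [← mul_smul, h2, mul_smul, hy.1]
  · have := co0_dotInt g u0 y
    rw [h1] at this
    rw [this]
    exact hy.2

/-- the elements permute the roots -/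
theorem exists_sig {g : ↥Co0} (hg : g ∈ CH) {k : ℕ} (hk : k < 126) :
    ∃ k' < 126, g • R k = R k' := by
  apply exists_R
  · rw [co0_sqNorm, R_norm hk]
  · exact (R_inL hk).smul hg

/-! ### the decomposition of the dot products -/

theorem dvd16 {y : ↥leechLattice} (hy : tE • y = y) {k : ℕ} (hk : k < 126) :
    (16 : ℤ) ∣ dotInt (y : IVec) (R k : IVec) := by
  rw [R_val hk]
  exact sixteen_dvd_of_pre hy (rtL k) (rtVT.getD k []) (rt_pre k hk)
    (mem_of_leechChk (rtV_chk k hk))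

theorem lsum6 (f : ℕ → ℤ) : lsum 6 f = f 0 + f 1 + f 2 + f 3 + f 4 + f 5 := by
  rw [lsum_eq]
  simp only [Finset.sum_range_succ, Finset.sum_range_zero, zero_add]

theorem dot_R_right (y : ↥leechLattice) {k : ℕ} (hk : k < 126) :
    dotInt (y : IVec) (R k : IVec) = ∑ i ∈ Finset.range 24, y.1 (gPt i) * rtE k i := by
  rw [R_val hk, dotInt_vecOf_right]
  rfl

theorem dec {y : ↥leechLattice} (hy : InL y) {k : ℕ} (hk : k < 126) :
    ∃ c : ℤ, dotInt (y : IVec) (R k : IVec) =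
      bitZ (k / 2 + 1) 0 * dotInt (y : IVec) (R (stdIdx 0) : IVec) +
      bitZ (k / 2 + 1) 1 * dotInt (y : IVec) (R (stdIdx 1) : IVec) +
      bitZ (k / 2 + 1) 2 * dotInt (y : IVec) (R (stdIdx 2) : IVec) +
      bitZ (k / 2 + 1) 3 * dotInt (y : IVec) (R (stdIdx 3) : IVec) +
      bitZ (k / 2 + 1) 4 * dotInt (y : IVec) (R (stdIdx 4) : IVec) +
      bitZ (k / 2 + 1) 5 * dotInt (y : IVec) (R (stdIdx 5) : IVec) + 32 * c := by
  obtain ⟨c, hc⟩ := sixteen_dvd_of_pre hy.1 (zT.getD k []) (zVT.getD k []) (z_pre k hk)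
    (mem_of_leechChk (zV_chk k hk))
  refine ⟨c, ?_⟩
  have hu : dotInt (y : IVec) (vecOf lu) = 0 := by
    rw [← u0_list, dotInt_comm']
    exact hy.2
  have e : dotInt (y : IVec) (R k : IVec) =
      bitZ (k / 2 + 1) 0 * dotInt (y : IVec) (R (stdIdx 0) : IVec) +
      bitZ (k / 2 + 1) 1 * dotInt (y : IVec) (R (stdIdx 1) : IVec) +
      bitZ (k / 2 + 1) 2 * dotInt (y : IVec) (R (stdIdx 2) : IVec) +
      bitZ (k / 2 + 1) 3 * dotInt (y : IVec) (R (stdIdx 3) : IVec) +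
      bitZ (k / 2 + 1) 4 * dotInt (y : IVec) (R (stdIdx 4) : IVec) +
      bitZ (k / 2 + 1) 5 * dotInt (y : IVec) (R (stdIdx 5) : IVec) +
      2 * dotInt (y : IVec) (vecOf (zT.getD k [])) - mE k * dotInt (y : IVec) (vecOf lu) := by
    rw [dot_R_right y hk, dot_R_right y (show stdIdx 0 < 126 by decide),
      dot_R_right y (show stdIdx 1 < 126 by decide), dot_R_right y (show stdIdx 2 < 126 by decide),
      dot_R_right y (show stdIdx 3 < 126 by decide), dot_R_right y (show stdIdx 4 < 126 by decide),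
      dot_R_right y (show stdIdx 5 < 126 by decide), dotInt_vecOf_right, dotInt_vecOf_right]
    simp only [Finset.mul_sum, ← Finset.sum_add_distrib, ← Finset.sum_sub_distrib]
    refine Finset.sum_congr rfl fun i hi => ?_
    rw [Finset.mem_range] at hi
    rw [rt_dec k hk i hi, lsum6]
    show _ = _ + 2 * (y.1 (gPt i) * zE k i) - mE k * (y.1 (gPt i) * luE i)
    ring
  rw [e, hu, hc]
  ring

/-! ### labels -/

/-- the label of a vector -/
noncomputable def lb (x : ↥leechLattice) (i : ℕ) : ZMod 2 :=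
  ((dotInt (x : IVec) (R (dualIdx i) : IVec) / 16 : ℤ) : ZMod 2)

theorem dualIdx_lt {i : ℕ} (hi : i < 6) : dualIdx i < 126 := by
  revert i
  decide

theorem stdIdx_lt {i : ℕ} (hi : i < 6) : stdIdx i < 126 := by
  revert i
  decide

theorem bitZ_cases (n j : ℕ) : bitZ n j = 0 ∨ bitZ n j = 1 := by
  unfold bitZ
  split_ifs
  · right; rfl
  · left; rfl

theorem lb_R {k : ℕ} (hk : k < 126) {i : ℕ} (hi : i < 6) :
    lb (R k) i = ((bitZ (k / 2 + 1) i : ℤ) : ZMod 2) := by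
  unfold lb
  rw [ZMod.intCast_eq_intCast_iff']
  have h := rt_lab k hk i hi
  rw [← dot_R_R hk (dualIdx_lt hi)] at h
  rcases bitZ_cases (k / 2 + 1) i with hb | hb <;> rw [hb] at h ⊢ <;> omega

theorem lb_eq_of {x : ↥leechLattice} {i : ℕ} {d : ℤ}
    (h : dotInt (x : IVec) (R (dualIdx i) : IVec) = 16 * d) : lb x i = ((d : ℤ) : ZMod 2) := by
  unfold lb
  rw [h, Int.mul_ediv_cancel_left _ (by norm_num)]

theorem two_zmod : (2 : ZMod 2) = 0 := rfl

/-- linearity of the labels of the images of the roots -/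
theorem lin {g : ↥Co0} (hg : g ∈ CH) {k : ℕ} (hk : k < 126) {i : ℕ} (hi : i < 6) :
    lb (g • R k) i =
      ((bitZ (k / 2 + 1) 0 : ℤ) : ZMod 2) * lb (g • R (stdIdx 0)) i +
      ((bitZ (k / 2 + 1) 1 : ℤ) : ZMod 2) * lb (g • R (stdIdx 1)) i +
      ((bitZ (k / 2 + 1) 2 : ℤ) : ZMod 2) * lb (g • R (stdIdx 2)) i +
      ((bitZ (k / 2 + 1) 3 : ℤ) : ZMod 2) * lb (g • R (stdIdx 3)) i +
      ((bitZ (k / 2 + 1) 4 : ℤ) : ZMod 2) * lb (g • R (stdIdx 4)) i +
      ((bitZ (k / 2 + 1) 5 : ℤ) : ZMod 2) * lb (g • R (stdIdx 5)) i := by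
  have hgi : g⁻¹ ∈ CH := CH.inv_mem hg
  have hy : InL (g⁻¹ • R (dualIdx i)) := (R_inL (dualIdx_lt hi)).smul hgi
  have tr : ∀ x : ↥leechLattice, dotInt ((g • x : ↥leechLattice) : IVec) (R (dualIdx i) : IVec) =
      dotInt ((g⁻¹ • R (dualIdx i) : ↥leechLattice) : IVec) (x : IVec) := by
    intro x
    have := co0_dotInt g⁻¹ (g • x) (R (dualIdx i))
    rw [inv_smul_smul] at this
    rw [← this, dotInt_comm']
  obtain ⟨c, hc⟩ := dec hy hk
  have fx : ∀ {l : ℕ}, l < 126 → ∃ d : ℤ,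
      dotInt ((g • R l : ↥leechLattice) : IVec) (R (dualIdx i) : IVec) = 16 * d := by
    intro l hl
    exact dvd16 ((R_inL hl).smul hg).1 (dualIdx_lt hi)
  obtain ⟨dk, hdk⟩ := fx hk
  obtain ⟨d0, hd0⟩ := fx (stdIdx_lt (show 0 < 6 by norm_num))
  obtain ⟨d1, hd1⟩ := fx (stdIdx_lt (show 1 < 6 by norm_num))
  obtain ⟨d2, hd2⟩ := fx (stdIdx_lt (show 2 < 6 by norm_num))
  obtain ⟨d3, hd3⟩ := fx (stdIdx_lt (show 3 < 6 by norm_num))
  obtain ⟨d4, hd4⟩ := fx (stdIdx_lt (show 4 < 6 by norm_num))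
  obtain ⟨d5, hd5⟩ := fx (stdIdx_lt (show 5 < 6 by norm_num))
  rw [lb_eq_of hdk, lb_eq_of hd0, lb_eq_of hd1, lb_eq_of hd2, lb_eq_of hd3, lb_eq_of hd4,
    lb_eq_of hd5]
  rw [← tr, ← tr, ← tr, ← tr, ← tr, ← tr, ← tr, hdk, hd0, hd1, hd2, hd3, hd4, hd5] at hc
  have e : dk = bitZ (k / 2 + 1) 0 * d0 + bitZ (k / 2 + 1) 1 * d1 + bitZ (k / 2 + 1) 2 * d2 +
      bitZ (k / 2 + 1) 3 * d3 + bitZ (k / 2 + 1) 4 * d4 + bitZ (k / 2 + 1) 5 * d5 + 2 * c := by
    linarith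
  rw [e]
  push_cast
  rw [two_zmod]
  ring

/-! ### the matrices -/

/-- the index of a coordinate -/
def eI : Fin 3 ⊕ Fin 3 → ℕ := Sum.elim (fun i => i.val) (fun i => i.val + 3)

theorem eI_lt (a : Fin 3 ⊕ Fin 3) : eI a < 6 := by
  rcases a with i | i <;> simp only [eI, Sum.elim_inl, Sum.elim_inr] <;> omega

/-- the vector of bits of a number -/
def bitsV (n : ℕ) : Fin 3 ⊕ Fin 3 → ZMod 2 := fun a => ((bitZ n (eI a) : ℤ) : ZMod 2)

/-- the matrix of an element -/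
noncomputable def Mx (g : ↥Co0) : Matrix (Fin 3 ⊕ Fin 3) (Fin 3 ⊕ Fin 3) (ZMod 2) :=
  Matrix.of fun a b => lb (g • R (stdIdx (eI b))) (eI a)

theorem Mx_mulVec {g : ↥Co0} (hg : g ∈ CH) {k : ℕ} (hk : k < 126) (a : Fin 3 ⊕ Fin 3) :
    (Mx g).mulVec (bitsV (k / 2 + 1)) a = lb (g • R k) (eI a) := by
  rw [lin hg hk (eI_lt a)]
  simp only [Matrix.mulVec, dotProduct, Fintype.sum_sum_type, Fin.sum_univ_three, Mx,
    Matrix.of_apply, bitsV]
  simp only [eI, Sum.elim_inl, Sum.elim_inr, Fin.val_zero, Fin.val_one, Fin.val_two, zero_add]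
  ring

/-- the label of the image of a root -/
theorem lb_smul_R {g : ↥Co0} {k k' : ℕ} (hk' : k' < 126) (e : g • R k = R k') (a : Fin 3 ⊕ Fin 3) :
    lb (g • R k) (eI a) = bitsV (k' / 2 + 1) a := by
  rw [e, lb_R hk' (eI_lt a)]
  rfl

theorem Mx_mulVec_bits {g : ↥Co0} (hg : g ∈ CH) {k k' : ℕ} (hk : k < 126) (hk' : k' < 126)
    (e : g • R k = R k') : (Mx g).mulVec (bitsV (k / 2 + 1)) = bitsV (k' / 2 + 1) := by
  funext a
  rw [Mx_mulVec hg hk, lb_smul_R hk' e]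

theorem bitsV_std (b : Fin 3 ⊕ Fin 3) : bitsV (stdIdx (eI b) / 2 + 1) = Pi.single b 1 := by
  revert b
  decide

theorem Mx_col {g : ↥Co0} {b : Fin 3 ⊕ Fin 3} {k' : ℕ} (hk' : k' < 126)
    (e : g • R (stdIdx (eI b)) = R k') : (Mx g).mulVec (Pi.single b 1) = bitsV (k' / 2 + 1) := by
  funext a
  rw [Matrix.mulVec_single_one]
  show lb (g • R (stdIdx (eI b))) (eI a) = _
  rw [lb_smul_R hk' e]

theorem Mx_one : Mx 1 = 1 := by
  ext a b
  show lb ((1 : ↥Co0) • R (stdIdx (eI b))) (eI a) = _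
  rw [one_smul, lb_R (stdIdx_lt (eI_lt b)) (eI_lt a)]
  have h := congrFun (bitsV_std b) a
  rw [Matrix.one_apply, ← Pi.single_apply]
  exact h

theorem Mx_mul {g h : ↥Co0} (hg : g ∈ CH) (hh : h ∈ CH) : Mx (g * h) = Mx g * Mx h := by
  ext a b
  obtain ⟨k', hk', e⟩ := exists_sig hh (stdIdx_lt (eI_lt b))
  have h1 : Mx (g * h) a b = lb (g • R k') (eI a) := by
    show lb ((g * h) • R (stdIdx (eI b))) (eI a) = _
    rw [mul_smul, e]
  rw [h1, ← Mx_mulVec hg hk', Matrix.mul_apply]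
  unfold Matrix.mulVec dotProduct
  refine Finset.sum_congr rfl fun c _ => ?_
  congr 1
  show _ = lb (h • R (stdIdx (eI b))) (eI c)
  rw [lb_smul_R hk' e]

/-! ### the matrices are symplectic -/

theorem neg_zmod (x : ZMod 2) : -x = x := ZMod.neg_eq_self_mod_two x

theorem cast_mod_two (x : ℤ) : ((x % 2 : ℤ) : ZMod 2) = (x : ZMod 2) := by
  have := ZMod.intCast_mod x 2
  simpa using this

theorem sympForm_bitsV (m n : ℕ) :
    Cfsg.sympForm 3 (ZMod 2) (bitsV m) (bitsV n) = ((bformN m n : ℤ) : ZMod 2) := by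
  rw [Cfsg.Agent.Helper13.sympForm_eq_sum, Fin.sum_univ_three]
  unfold bformN
  rw [cast_mod_two]
  simp only [bitsV, eI, Sum.elim_inl, Sum.elim_inr, Fin.val_zero, Fin.val_one, Fin.val_two,
    zero_add, sub_eq_add_neg, neg_zmod]
  push_cast
  ring

theorem J_apply (a b : Fin 3 ⊕ Fin 3) : Matrix.J (Fin 3) (ZMod 2) a b =
    ((bformN (stdIdx (eI a) / 2 + 1) (stdIdx (eI b) / 2 + 1) : ℤ) : ZMod 2) := by
  rcases a with i | i <;> rcases b with j | j <;> fin_cases i <;> fin_cases j <;>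
    simp [Matrix.J] <;> decide

theorem bformN_cases (m n : ℕ) : bformN m n = 0 ∨ bformN m n = 1 := by
  unfold bformN
  omega

theorem Mx_mem {g : ↥Co0} (hg : g ∈ CH) : Mx g ∈ Matrix.symplecticGroup (Fin 3) (ZMod 2) := by
  rw [SymplecticGroup.mem_iff']
  ext a b
  have h2 : ((Mx g).transpose * Matrix.J (Fin 3) (ZMod 2) * Mx g) a b =
      Cfsg.sympForm 3 (ZMod 2) ((Mx g).mulVec (Pi.single a 1)) ((Mx g).mulVec (Pi.single b 1)) := by
    rw [Cfsg.Agent.Helper13.sympForm_mulVec]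
    simp
  obtain ⟨ka, hka, ea⟩ := exists_sig hg (stdIdx_lt (eI_lt a))
  obtain ⟨kb, hkb, eb⟩ := exists_sig hg (stdIdx_lt (eI_lt b))
  rw [h2, Mx_col hka ea, Mx_col hkb eb, sympForm_bitsV, J_apply]
  have h3 := co0_dotInt g (R (stdIdx (eI a))) (R (stdIdx (eI b)))
  rw [ea, eb, dot_R_R hka hkb, dot_R_R (stdIdx_lt (eI_lt a)) (stdIdx_lt (eI_lt b))] at h3
  have h4 := rt_gram ka hka kb hkb
  have h5 := rt_gram _ (stdIdx_lt (eI_lt a)) _ (stdIdx_lt (eI_lt b))
  rw [h3, h5] at h4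
  have h6 : bformN (ka / 2 + 1) (kb / 2 + 1) =
      bformN (stdIdx (eI a) / 2 + 1) (stdIdx (eI b) / 2 + 1) := by omega
  rw [h6]

/-- the homomorphism to the symplectic group -/
noncomputable def phi : ↥CH →* Matrix.symplecticGroup (Fin 3) (ZMod 2) where
  toFun g := ⟨Mx g.1, Mx_mem g.2⟩
  map_one' := Subtype.ext Mx_one
  map_mul' g h := Subtype.ext (Mx_mul g.2 h.2)

theorem phi_val (g : ↥CH) : ((phi g : Matrix.symplecticGroup (Fin 3) (ZMod 2)) :
    Matrix (Fin 3 ⊕ Fin 3) (Fin 3 ⊕ Fin 3) (ZMod 2)) = Mx g.1 := rfl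

end Cfsg.Agent.Helper26.Co2Inv
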