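import Cfsg.Agent.Helper26.Co2InvD

/-!
# The centraliser of an involution of `Co2`: the homomorphism to `Sp(6, 2)` is onto

Four explicit elements: one mapping to a transvection, three whose images move its vector to every
nonzero vector.
-/

set_option autoImplicit false

namespace Cfsg.Agent.Helper26.Co2Inv

open Cfsg Cfsg.Agent.Helper7 Cfsg.Agent.Helper8 Cfsg.Agent.Helper27 MulAction

/-- the matrix with given columns -/
def colMx (c : ℕ → ℕ) : Matrix (Fin 3 ⊕ Fin 3) (Fin 3 ⊕ Fin 3) (ZMod 2) :=
  Matrix.of fun a b => bitsV (c (eI b) / 2 + 1) a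

/-- an element of `CH` from a word, with the images of the standard roots -/
theorem exists_CH_of_word (W : List Letter) (hW : okW W = true) (hu : runW W lu = lu)
    (hc : ∀ k < 24, runW (W ++ tW) (basisL k) = runW (tW ++ W) (basisL k))
    (c : ℕ → ℕ) (hlt : ∀ j < 6, c j < 126)
    (him : ∀ j < 6, runW W (rtL (stdIdx j)) = rtL (c j)) :
    ∃ g : ↥CH, Mx g.1 = colMx c := by
  obtain ⟨e, he⟩ := exists_co0_word W hW
  have hact : Acts e W := he
  have hu0 : e • u0 = u0 := by
    apply Subtype.ext
    rw [hact.run hW u0_list, hu]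
    exact u0_list.symm
  have hcomm : tE * e = e * tE :=
    Acts.ext (hact.mul acts_tE) (acts_tE.mul hact) (okW_append hW tW_ok) (okW_append tW_ok hW) hc
  refine ⟨⟨e, mem_CH.mpr ⟨hu0, hcomm⟩⟩, ?_⟩
  ext a b
  have hb := eI_lt b
  have e1 : e • R (stdIdx (eI b)) = R (c (eI b)) := by
    apply Subtype.ext
    rw [hact.run hW (R_val (stdIdx_lt hb)), him _ hb, R_val (hlt _ hb)]
  show lb (e • R (stdIdx (eI b))) (eI a) = _
  rw [lb_smul_R (hlt _ hb) e1]
  rfl

/-- the columns as a function -/
def colF (l : List ℕ) : ℕ → ℕ := fun j => l.getD j 0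

/-- a word -/
def g0W : List Letter := [
  .S 5628190]

set_option maxRecDepth 100000 in
theorem exists_g0 : ∃ g : ↥CH, Mx g.1 = colMx (colF [1, 3, 62, 15, 31, 6]) :=
  exists_CH_of_word g0W (by decide +kernel) (by decide +kernel) (by decide +kernel) _
    (by decide +kernel) (by decide +kernel)

/-- a word -/
def gAW : List Letter := [
  .X,
  .P [4, 0, 23, 20, 13, 7, 8, 21, 14, 10, 6, 12, 15, 1, 17, 5, 16, 18, 19, 9, 11, 3, 22, 2] [1, 13, 23, 21, 0, 15, 10, 5, 6, 19, 9, 20, 11, 4, 8, 12, 16, 14, 17, 18, 3, 7, 22, 2]]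

set_option maxRecDepth 100000 in
theorem exists_gA : ∃ g : ↥CH, Mx g.1 = colMx (colF [0, 8, 33, 92, 71, 36]) :=
  exists_CH_of_word gAW (by decide +kernel) (by decide +kernel) (by decide +kernel) _
    (by decide +kernel) (by decide +kernel)

/-- a word -/
def gBW : List Letter := [
  .P [23, 13, 22, 8, 16, 21, 10, 14, 3, 11, 6, 9, 20, 1, 7, 19, 4, 18, 17, 15, 12, 5, 2, 0] [23, 13, 22, 8, 16, 21, 10, 14, 3, 11, 6, 9, 20, 1, 7, 19, 4, 18, 17, 15, 12, 5, 2, 0]]

set_option maxRecDepth 100000 in
theorem exists_gB : ∃ g : ↥CH, Mx g.1 = colMx (colF [3, 1, 7, 34, 16, 63]) :=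
  exists_CH_of_word gBW (by decide +kernel) (by decide +kernel) (by decide +kernel) _
    (by decide +kernel) (by decide +kernel)

/-- a word -/
def gCW : List Letter := [
  .S 4845570]

set_option maxRecDepth 100000 in
theorem exists_gC : ∃ g : ↥CH, Mx g.1 = colMx (colF [1, 2, 10, 15, 103, 66]) :=
  exists_CH_of_word gCW (by decide +kernel) (by decide +kernel) (by decide +kernel) _
    (by decide +kernel) (by decide +kernel)

/-! ### transvections -/

local notation "Sp6" => Matrix.symplecticGroup (Fin 3) (ZMod 2)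

theorem transv_comm (A : Sp6) (v : Fin 3 ⊕ Fin 3 → ZMod 2) (c : ZMod 2) :
    A * Cfsg.Agent.Helper13.sympTransvectionElt v c =
      Cfsg.Agent.Helper13.sympTransvectionElt (A.1.mulVec v) c * A := by
  apply Subtype.ext
  show A.1 * Cfsg.sympTransvection 3 v c = Cfsg.sympTransvection 3 (A.1.mulVec v) c * A.1
  apply Cfsg.Agent.Helper13.matrix_eq_of_mulVec
  intro x
  have hpres := (Cfsg.Agent.Helper13.mem_symplecticGroup_iff_preserves A.1).mp A.2
  rw [← Matrix.mulVec_mulVec, ← Matrix.mulVec_mulVec, Cfsg.Agent.Helper13.sympTransvection_mulVec,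
    Cfsg.Agent.Helper13.sympTransvection_mulVec, Matrix.mulVec_add, Matrix.mulVec_smul, hpres]

theorem tv_step {S : Subgroup Sp6} {A : Sp6} (hA : A ∈ S) {v w : Fin 3 ⊕ Fin 3 → ZMod 2}
    (h : Cfsg.Agent.Helper13.sympTransvectionElt v 1 ∈ S) (hw : A.1.mulVec v = w) :
    Cfsg.Agent.Helper13.sympTransvectionElt w 1 ∈ S := by
  have e : Cfsg.Agent.Helper13.sympTransvectionElt w 1 =
      A * Cfsg.Agent.Helper13.sympTransvectionElt v 1 * A⁻¹ := by
    rw [transv_comm, hw, mul_inv_cancel_right]
  rw [e]
  exact S.mul_mem (S.mul_mem hA h) (S.inv_mem hA)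

theorem colMx_mem {c : ℕ → ℕ} (h : ∃ g : ↥CH, Mx g.1 = colMx c) :
    ∃ A : Sp6, A ∈ phi.range ∧ A.1 = colMx c := by
  obtain ⟨g, hg⟩ := h
  exact ⟨phi g, ⟨g, rfl⟩, hg⟩

set_option maxRecDepth 100000 in
theorem tv_base : Cfsg.Agent.Helper13.sympTransvectionElt (bitsV 36) 1 ∈ phi.range := by
  obtain ⟨g, hg⟩ := exists_g0
  refine ⟨g, Subtype.ext ?_⟩
  show Mx g.1 = Cfsg.sympTransvection 3 (bitsV 36) 1
  rw [hg]
  decide +kernel
set_option maxRecDepth 100000 in
theorem tv_all : ∀ n : ℕ, 1 ≤ n → n < 64 →
    Cfsg.Agent.Helper13.sympTransvectionElt (bitsV n) 1 ∈ phi.range := by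
  obtain ⟨gA, hgA, egA⟩ := colMx_mem exists_gA
  obtain ⟨gB, hgB, egB⟩ := colMx_mem exists_gB
  obtain ⟨gC, hgC, egC⟩ := colMx_mem exists_gC
  have t36 := tv_base
  have t2 := tv_step hgA t36 (w := bitsV 2) (by rw [egA]; decide +kernel)
  have t5 := tv_step hgA t2 (w := bitsV 5) (by rw [egA]; decide +kernel)
  have t1 := tv_step hgB t2 (w := bitsV 1) (by rw [egB]; decide +kernel)
  have t16 := tv_step hgA t5 (w := bitsV 16) (by rw [egA]; decide +kernel)
  have t6 := tv_step hgB t5 (w := bitsV 6) (by rw [egB]; decide +kernel)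
  have t7 := tv_step hgC t5 (w := bitsV 7) (by rw [egC]; decide +kernel)
  have t9 := tv_step hgB t16 (w := bitsV 9) (by rw [egB]; decide +kernel)
  have t52 := tv_step hgC t16 (w := bitsV 52) (by rw [egC]; decide +kernel)
  have t20 := tv_step hgA t6 (w := bitsV 20) (by rw [egA]; decide +kernel)
  have t4 := tv_step hgC t6 (w := bitsV 4) (by rw [egC]; decide +kernel)
  have t21 := tv_step hgA t7 (w := bitsV 21) (by rw [egA]; decide +kernel)
  have t46 := tv_step hgA t9 (w := bitsV 46) (by rw [egA]; decide +kernel)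
  have t38 := tv_step hgA t52 (w := bitsV 38) (by rw [egA]; decide +kernel)
  have t45 := tv_step hgB t52 (w := bitsV 45) (by rw [egB]; decide +kernel)
  have t53 := tv_step hgA t20 (w := bitsV 53) (by rw [egA]; decide +kernel)
  have t13 := tv_step hgB t20 (w := bitsV 13) (by rw [egB]; decide +kernel)
  have t50 := tv_step hgC t20 (w := bitsV 50) (by rw [egC]; decide +kernel)
  have t17 := tv_step hgA t4 (w := bitsV 17) (by rw [egA]; decide +kernel)
  have t15 := tv_step hgB t21 (w := bitsV 15) (by rw [egB]; decide +kernel)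
  have t51 := tv_step hgC t21 (w := bitsV 51) (by rw [egC]; decide +kernel)
  have t40 := tv_step hgA t46 (w := bitsV 40) (by rw [egA]; decide +kernel)
  have t55 := tv_step hgB t46 (w := bitsV 55) (by rw [egB]; decide +kernel)
  have t37 := tv_step hgB t38 (w := bitsV 37) (by rw [egB]; decide +kernel)
  have t44 := tv_step hgA t45 (w := bitsV 44) (by rw [egA]; decide +kernel)
  have t39 := tv_step hgA t53 (w := bitsV 39) (by rw [egA]; decide +kernel)
  have t47 := tv_step hgB t53 (w := bitsV 47) (by rw [egB]; decide +kernel)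
  have t63 := tv_step hgA t13 (w := bitsV 63) (by rw [egA]; decide +kernel)
  have t11 := tv_step hgB t17 (w := bitsV 11) (by rw [egB]; decide +kernel)
  have t58 := tv_step hgA t15 (w := bitsV 58) (by rw [egA]; decide +kernel)
  have t42 := tv_step hgB t51 (w := bitsV 42) (by rw [egB]; decide +kernel)
  have t60 := tv_step hgA t40 (w := bitsV 60) (by rw [egA]; decide +kernel)
  have t34 := tv_step hgA t55 (w := bitsV 34) (by rw [egA]; decide +kernel)
  have t19 := tv_step hgC t55 (w := bitsV 19) (by rw [egC]; decide +kernel)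
  have t3 := tv_step hgA t37 (w := bitsV 3) (by rw [egA]; decide +kernel)
  have t54 := tv_step hgB t44 (w := bitsV 54) (by rw [egB]; decide +kernel)
  have t41 := tv_step hgA t47 (w := bitsV 41) (by rw [egA]; decide +kernel)
  have t27 := tv_step hgC t63 (w := bitsV 27) (by rw [egC]; decide +kernel)
  have t43 := tv_step hgA t11 (w := bitsV 43) (by rw [egA]; decide +kernel)
  have t29 := tv_step hgA t58 (w := bitsV 29) (by rw [egA]; decide +kernel)
  have t28 := tv_step hgC t58 (w := bitsV 28) (by rw [egC]; decide +kernel)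
  have t57 := tv_step hgA t42 (w := bitsV 57) (by rw [egA]; decide +kernel)
  have t24 := tv_step hgC t60 (w := bitsV 24) (by rw [egC]; decide +kernel)
  have t22 := tv_step hgA t34 (w := bitsV 22) (by rw [egA]; decide +kernel)
  have t33 := tv_step hgB t34 (w := bitsV 33) (by rw [egB]; decide +kernel)
  have t32 := tv_step hgC t34 (w := bitsV 32) (by rw [egC]; decide +kernel)
  have t10 := tv_step hgB t19 (w := bitsV 10) (by rw [egB]; decide +kernel)
  have t35 := tv_step hgA t54 (w := bitsV 35) (by rw [egA]; decide +kernel)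
  have t18 := tv_step hgC t54 (w := bitsV 18) (by rw [egC]; decide +kernel)
  have t61 := tv_step hgA t41 (w := bitsV 61) (by rw [egA]; decide +kernel)
  have t48 := tv_step hgB t41 (w := bitsV 48) (by rw [egB]; decide +kernel)
  have t56 := tv_step hgA t43 (w := bitsV 56) (by rw [egA]; decide +kernel)
  have t49 := tv_step hgB t43 (w := bitsV 49) (by rw [egB]; decide +kernel)
  have t59 := tv_step hgC t29 (w := bitsV 59) (by rw [egC]; decide +kernel)
  have t26 := tv_step hgA t28 (w := bitsV 26) (by rw [egA]; decide +kernel)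
  have t31 := tv_step hgB t28 (w := bitsV 31) (by rw [egB]; decide +kernel)
  have t25 := tv_step hgA t57 (w := bitsV 25) (by rw [egA]; decide +kernel)
  have t12 := tv_step hgB t22 (w := bitsV 12) (by rw [egB]; decide +kernel)
  have t23 := tv_step hgA t35 (w := bitsV 23) (by rw [egA]; decide +kernel)
  have t8 := tv_step hgB t18 (w := bitsV 8) (by rw [egB]; decide +kernel)
  have t30 := tv_step hgC t56 (w := bitsV 30) (by rw [egC]; decide +kernel)
  have t14 := tv_step hgA t26 (w := bitsV 14) (by rw [egA]; decide +kernel)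
  have t62 := tv_step hgC t26 (w := bitsV 62) (by rw [egC]; decide +kernel)
  intro n h1 h2
  interval_cases n
  · exact t1
  · exact t2
  · exact t3
  · exact t4
  · exact t5
  · exact t6
  · exact t7
  · exact t8
  · exact t9
  · exact t10
  · exact t11
  · exact t12
  · exact t13
  · exact t14
  · exact t15
  · exact t16
  · exact t17
  · exact t18
  · exact t19
  · exact t20
  · exact t21
  · exact t22
  · exact t23
  · exact t24
  · exact t25
  · exact t26
  · exact t27
  · exact t28
  · exact t29
  · exact t30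
  · exact t31
  · exact t32
  · exact t33
  · exact t34
  · exact t35
  · exact t36
  · exact t37
  · exact t38
  · exact t39
  · exact t40
  · exact t41
  · exact t42
  · exact t43
  · exact t44
  · exact t45
  · exact t46
  · exact t47
  · exact t48
  · exact t49
  · exact t50
  · exact t51
  · exact t52
  · exact t53
  · exact t54
  · exact t55
  · exact t56
  · exact t57
  · exact t58
  · exact t59
  · exact t60
  · exact t61
  · exact t62
  · exact t63

theorem exists_bitsV : ∀ w : Fin 3 ⊕ Fin 3 → ZMod 2, ∃ n < 64, w = bitsV n := by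
  decide +kernel

theorem bitsV_zero : bitsV 0 = 0 := by decide

/-- the homomorphism is onto -/
theorem phi_surjective : Function.Surjective phi := by
  rw [← MonoidHom.range_eq_top, eq_top_iff, ← Cfsg.Agent.Helper13.sympTransvectionSubgroup_eq_top]
  unfold Cfsg.Agent.Helper13.sympTransvectionSubgroup
  rw [Subgroup.closure_le]
  rintro A ⟨w, c, hA⟩
  have hc : c = 0 ∨ c = 1 := by
    have : ∀ c : ZMod 2, c = 0 ∨ c = 1 := by decide
    exact this c
  obtain ⟨n, hn, hw⟩ := exists_bitsV w
  rcases hc with hc | hc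
  · have : A = 1 := by
      apply Subtype.ext
      rw [hA, hc, Cfsg.Agent.Helper13.sympTransvection_zero]
      rfl
    rw [this]
    exact Subgroup.one_mem _
  · rcases Nat.eq_zero_or_pos n with hn0 | hn0
    · have : A = 1 := by
        apply Subtype.ext
        rw [hA, hw, hn0, bitsV_zero]
        simp [Cfsg.sympTransvection]
      rw [this]
      exact Subgroup.one_mem _
    · have : A = Cfsg.Agent.Helper13.sympTransvectionElt (bitsV n) 1 := by
        apply Subtype.ext
        rw [hA, hw, hc]
        rfl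
      rw [this]
      exact tv_all n hn0 hn

end Cfsg.Agent.Helper26.Co2Inv
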