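import Cfsg.Agent.Helper26.Co2InvE

/-!
# The centraliser of an involution of `Co2`: the kernel of the homomorphism to `Sp(6, 2)`

An element of `CH` is in the kernel iff it maps every root to itself or its negative.
-/

set_option autoImplicit false

namespace Cfsg.Agent.Helper26.Co2Inv

open Cfsg Cfsg.Agent.Helper7 Cfsg.Agent.Helper8 Cfsg.Agent.Helper27 MulAction

theorem bitsV_inj : ∀ m < 64, ∀ n < 64, bitsV m = bitsV n → m = n := by decide +kernel

theorem idx_cases : ∀ k < 126, ∀ k' < 126, k / 2 = k' / 2 → k' = k ∨ k' = k ^^^ 1 := by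
  decide +kernel

theorem xor_half : ∀ k < 126, (k ^^^ 1) / 2 = k / 2 := by decide +kernel

theorem phi_eq_one_iff (g : ↥CH) :
    phi g = 1 ↔ ∀ k < 126, g.1 • R k = R k ∨ g.1 • R k = - R k := by
  constructor
  · intro h k hk
    have hM : Mx g.1 = 1 := congrArg Subtype.val h
    obtain ⟨k', hk', e⟩ := exists_sig g.2 hk
    have h1 := Mx_mulVec_bits g.2 hk hk' e
    rw [hM, Matrix.one_mulVec] at h1
    have h2 := bitsV_inj _ (by omega) _ (by omega) h1
    rcases idx_cases k hk k' hk' (by omega) with h3 | h3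
    · left; rw [e, h3]
    · right; rw [e, h3, R_neg hk]
  · intro h
    apply Subtype.ext
    show Mx g.1 = 1
    ext a b
    have hb := stdIdx_lt (eI_lt b)
    have key : ∃ k' < 126, g.1 • R (stdIdx (eI b)) = R k' ∧ k' / 2 = stdIdx (eI b) / 2 := by
      rcases h _ hb with h1 | h1
      · exact ⟨_, hb, h1, rfl⟩
      · refine ⟨stdIdx (eI b) ^^^ 1, xor_one_lt hb, ?_, xor_half _ hb⟩
        rw [h1, R_neg hb]
    obtain ⟨k', hk', e, hh⟩ := key
    show lb (g.1 • R (stdIdx (eI b))) (eI a) = _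
    rw [lb_smul_R hk' e, hh]
    have h4 := congrFun (bitsV_std b) a
    rw [Matrix.one_apply, ← Pi.single_apply]
    exact h4

/-- the involution lies in the subgroup -/
theorem tE_mem_CH : tE ∈ CH := by
  rw [mem_CH]
  refine ⟨?_, rfl⟩
  rw [tE_fix_iff]
  intro i hi hb
  have : ((u0 : ↥leechLattice) : IVec) (gPt i) = lu.getD i 0 := by
    rw [u0_list]
    show lu.getD (gIdx (gPt i)) 0 = _
    rw [gIdx_gPt i hi]
  rw [this]
  revert i
  decide

/-- the involution fixes the roots -/
theorem phi_tE : phi ⟨tE, tE_mem_CH⟩ = 1 := by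
  rw [phi_eq_one_iff]
  intro k hk
  left
  exact R_fix hk

end Cfsg.Agent.Helper26.Co2Inv
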