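import Cfsg.Agent.Helper26.Co2InvF
import Cfsg.Agent.Helper90.MonFrame
import Cfsg.Agent.Helper93.M23IdxB

/-!
# The centraliser of an involution of `Co2`: the kernel is a `2`-group

An element fixing all the roots fixes the vectors `8 e_p` for `p` in the octad, hence is monomial,
with permutation part fixing the octad pointwise; such a permutation is one of 16 involutions.
-/

set_option autoImplicit false

namespace Cfsg.Agent.Helper26.Co2Inv

open Cfsg Cfsg.Agent.Helper7 Cfsg.Agent.Helper8 Cfsg.Agent.Helper27 Cfsg.Agent.Helper90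
  Cfsg.Agent.Helper92 MulAction

/-- the tables of the elements of `M24` fixing the octad pointwise, by the image of the point `3` -/
def fixT : List (List ℕ) := [
  [0, 1, 2, 3, 4, 5, 6, 7, 8, 9, 10, 11, 12, 13, 14, 15, 16, 17, 18, 19, 20, 21, 22, 23],
  [0, 1, 2, 3, 4, 5, 6, 7, 8, 9, 10, 11, 12, 13, 14, 15, 16, 17, 18, 19, 20, 21, 22, 23],
  [0, 1, 2, 3, 4, 5, 6, 7, 8, 9, 10, 11, 12, 13, 14, 15, 16, 17, 18, 19, 20, 21, 22, 23],
  [0, 1, 2, 3, 4, 5, 6, 7, 8, 9, 10, 11, 12, 13, 14, 15, 16, 17, 18, 19, 20, 21, 22, 23],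
  [0, 1, 2, 3, 4, 5, 6, 7, 8, 9, 10, 11, 12, 13, 14, 15, 16, 17, 18, 19, 20, 21, 22, 23],
  [0, 1, 2, 5, 4, 3, 21, 19, 11, 10, 9, 8, 18, 13, 17, 20, 16, 14, 12, 7, 15, 6, 22, 23],
  [0, 1, 2, 6, 4, 21, 3, 14, 10, 11, 8, 9, 20, 13, 7, 18, 16, 19, 15, 17, 12, 5, 22, 23],
  [0, 1, 2, 7, 4, 19, 14, 3, 20, 18, 12, 15, 10, 13, 6, 11, 16, 21, 9, 5, 8, 17, 22, 23],
  [0, 1, 2, 8, 4, 11, 10, 20, 3, 21, 6, 5, 14, 13, 12, 19, 16, 18, 17, 15, 7, 9, 22, 23],
  [0, 1, 2, 9, 4, 10, 11, 18, 21, 3, 5, 6, 19, 13, 15, 14, 16, 20, 7, 12, 17, 8, 22, 23],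
  [0, 1, 2, 10, 4, 9, 8, 12, 6, 5, 3, 21, 7, 13, 20, 17, 16, 15, 19, 18, 14, 11, 22, 23],
  [0, 1, 2, 11, 4, 8, 9, 15, 5, 6, 21, 3, 17, 13, 18, 7, 16, 12, 14, 20, 19, 10, 22, 23],
  [0, 1, 2, 12, 4, 18, 20, 10, 14, 19, 7, 17, 3, 13, 8, 21, 16, 11, 5, 9, 6, 15, 22, 23],
  [0, 1, 2, 3, 4, 5, 6, 7, 8, 9, 10, 11, 12, 13, 14, 15, 16, 17, 18, 19, 20, 21, 22, 23],
  [0, 1, 2, 14, 4, 17, 7, 6, 12, 15, 20, 18, 8, 13, 3, 9, 16, 5, 11, 21, 10, 19, 22, 23],
  [0, 1, 2, 15, 4, 20, 18, 11, 19, 14, 17, 7, 21, 13, 9, 3, 16, 10, 6, 8, 5, 12, 22, 23],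
  [0, 1, 2, 3, 4, 5, 6, 7, 8, 9, 10, 11, 12, 13, 14, 15, 16, 17, 18, 19, 20, 21, 22, 23],
  [0, 1, 2, 17, 4, 14, 19, 21, 18, 20, 15, 12, 11, 13, 5, 10, 16, 3, 8, 6, 9, 7, 22, 23],
  [0, 1, 2, 18, 4, 12, 15, 9, 17, 7, 19, 14, 5, 13, 11, 6, 16, 8, 3, 10, 21, 20, 22, 23],
  [0, 1, 2, 19, 4, 7, 17, 5, 15, 12, 18, 20, 9, 13, 21, 8, 16, 6, 10, 3, 11, 14, 22, 23],
  [0, 1, 2, 20, 4, 15, 12, 8, 7, 17, 14, 19, 6, 13, 10, 5, 16, 9, 21, 11, 3, 18, 22, 23],
  [0, 1, 2, 21, 4, 6, 5, 17, 9, 8, 11, 10, 15, 13, 19, 12, 16, 7, 20, 14, 18, 3, 22, 23],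
  [0, 1, 2, 3, 4, 5, 6, 7, 8, 9, 10, 11, 12, 13, 14, 15, 16, 17, 18, 19, 20, 21, 22, 23],
  [0, 1, 2, 3, 4, 5, 6, 7, 8, 9, 10, 11, 12, 13, 14, 15, 16, 17, 18, 19, 20, 21, 22, 23]]

/-- the decompositions of the vectors `8 e_p` for `p` in the octad -/
def octDec : List (ℕ × ℕ × ℕ) := [(23, 71, 126), (0, 70, 126), (1, 102, 30), (2, 102, 31), (4, 106, 35), (13, 4, 77), (16, 20, 93), (22, 18, 91)]

/-- the points of the octad -/
def octL : List ℕ := [23, 0, 1, 2, 4, 13, 16, 22]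

/-! ### elements fixing the roots fix the vectors `8 e_p` of the octad -/

/-- the elements fixing `u0` and the roots -/
def FixR (g : ↥Co0) : Prop := g • u0 = u0 ∧ ∀ k < 126, g • R k = R k

/-- a root, or `u0` for the index 126 -/
noncomputable def RU (k : ℕ) : ↥leechLattice := if k = 126 then u0 else R k

/-- its entries -/
def rtEU (k i : ℕ) : ℤ := if k = 126 then luE i else rtE k i

theorem RU_apply {k : ℕ} (hk : k ≤ 126) {i : ℕ} (hi : i < 24) :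
    ((RU k : ↥leechLattice) : IVec) (gPt i) = rtEU k i := by
  unfold RU rtEU
  by_cases h : k = 126
  · rw [if_pos h, if_pos h, u0_list]
    show lu.getD (gIdx (gPt i)) 0 = _
    rw [gIdx_gPt i hi]
    rfl
  · rw [if_neg h, if_neg h]
    exact R_apply (by omega) hi

theorem FixR.fixRU {g : ↥Co0} (hg : FixR g) {k : ℕ} (hk : k ≤ 126) : g • RU k = RU k := by
  unfold RU
  by_cases h : k = 126
  · rw [if_pos h]; exact hg.1
  · rw [if_neg h]; exact hg.2 k (by omega)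

theorem octDec_ok : ∀ x ∈ octDec, x.2.1 ≤ 126 ∧ x.2.2 ≤ 126 ∧
    ∀ i < 24, (basisL x.1).getD i 0 = rtEU x.2.1 i + rtEU x.2.2 i := by decide +kernel

theorem octDec_all : ∀ p ∈ octL, ∃ x ∈ octDec, x.1 = p := by decide

theorem vec8_eq_of {p a b : ℕ} (hp : p < 24) (ha : a ≤ 126) (hb : b ≤ 126)
    (h : ∀ i < 24, (basisL p).getD i 0 = rtEU a i + rtEU b i) : vec8 (gPt p) = RU a + RU b := by
  apply Subtype.ext
  funext q
  rw [AddSubgroup.coe_add, Pi.add_apply, ← gPt_gIdx q, RU_apply ha (gIdx_lt q),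
    RU_apply hb (gIdx_lt q), ← h _ (gIdx_lt q), vec8_eq_vecOf, gIdx_gPt p hp]
  show (basisL p).getD (gIdx (gPt (gIdx q))) 0 = _
  rw [gIdx_gPt _ (gIdx_lt q)]

theorem octL_lt : ∀ p ∈ octL, p < 24 := by decide

theorem FixR.fix8 {g : ↥Co0} (hg : FixR g) {p : ℕ} (hp : p ∈ octL) :
    g • vec8 (gPt p) = vec8 (gPt p) := by
  obtain ⟨x, hx, rfl⟩ := octDec_all p hp
  obtain ⟨ha, hb, h⟩ := octDec_ok x hx
  rw [vec8_eq_of (octL_lt _ hp) ha hb h, co0_smul_add, hg.fixRU ha, hg.fixRU hb]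

/-! ### such elements are monomial -/

theorem gPt_23 : gPt 23 = none := by decide

theorem FixR.mono {g : ↥Co0} (hg : FixR g) :
    ∃ σ ∈ M24, ∃ c ∈ supports (golayCode : Set (GolayPt → ZMod 2)),
      (∀ v : ↥leechLattice, ((g • v : ↥leechLattice) : GolayPt → ℤ) = signedPerm σ c v.1) ∧
      ∀ p ∈ octL, σ (gPt p) = gPt p := by
  have h23 : g • vec8 none = vec8 none := by
    have := hg.fix8 (show 23 ∈ octL by decide)
    rwa [gPt_23] at this
  have hcs : g ∈ classStab (vec8 none) := ⟨0, by rw [h23]; simp⟩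
  obtain ⟨σ, hσ, c, hc, hact⟩ := exists_mono_of_fixesCross g (fixesCross_of_mem_classStab hcs)
  refine ⟨σ, hσ, c, hc, hact, ?_⟩
  intro p hp
  have h1 := hact (vec8 (gPt p))
  rw [hg.fix8 hp, vec8_val, signedPerm_single] at h1
  have h2 := congrFun h1 (σ (gPt p))
  rw [Pi.single_eq_same] at h2
  by_contra hne
  rw [Pi.single_eq_of_ne hne] at h2
  split_ifs at h2 <;> omega

/-! ### permutations fixing the octad pointwise -/

theorem fixT_ok : ∀ q < 24, Ocm.testBit q = true →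
    isInvPair (fixT.getD q []) (fixT.getD q []) = true ∧ checkM24 (fixT.getD q []) = true ∧
    (fixT.getD q []).getD 3 0 = q ∧ (∀ p ∈ octL, (fixT.getD q []).getD p 0 = p) ∧
    ∀ i < 24, (fixT.getD q []).getD ((fixT.getD q []).getD i 0) 0 = i := by decide +kernel

/-- the nine points -/
def nineL : List ℕ := [23, 0, 1, 2, 4, 13, 16, 22, 3]

theorem nine_card : (nineL.map gPt).toFinset.card = 9 := by decide

theorem octL_testBit : ∀ p < 24, Ocm.testBit p = false → p ∈ octL := by decide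

theorem sq_eq_one_of_fix {σ : Equiv.Perm GolayPt} (hσ : σ ∈ M24)
    (hfix : ∀ p ∈ octL, σ (gPt p) = gPt p) : σ * σ = 1 := by
  have hq : Ocm.testBit (gIdx (σ (gPt 3))) = true := by
    by_contra hb
    rw [Bool.not_eq_true] at hb
    have hm := octL_testBit _ (gIdx_lt _) hb
    have h1 := hfix _ hm
    rw [gPt_gIdx] at h1
    have h2 : σ (gPt 3) = gPt 3 := σ.injective h1
    rw [h2] at hm
    revert hm
    decide
  obtain ⟨hinv, hchk, h3, ho, hsq⟩ := fixT_ok _ (gIdx_lt _) hq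
  set t := fixT.getD (gIdx (σ (gPt 3))) [] with ht
  have hπ : permOfTabs t t ∈ M24 := permOfTabs_mem_M24 hinv hchk
  have hτ : (permOfTabs t t)⁻¹ * σ ∈ M24 := M24.mul_mem (M24.inv_mem hπ) hσ
  have hone : (permOfTabs t t)⁻¹ * σ = 1 := by
    apply Cfsg.Agent.Helper93.M23Idx.eq_one_of_fixes hτ (nineL.map gPt).toFinset
    · intro y hy
      rw [List.mem_toFinset, List.mem_map] at hy
      obtain ⟨p, hp, rfl⟩ := hy
      rw [Equiv.Perm.mul_apply, Equiv.Perm.inv_eq_iff_eq]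
      have hp' : p ∈ octL ∨ p = 3 := by
        revert p
        decide
      rcases hp' with hp' | rfl
      · rw [hfix p hp', permOfTabs_gPt hinv p (octL_lt p hp'), ho p hp']
      · rw [permOfTabs_gPt hinv 3 (by norm_num), h3, gPt_gIdx]
    · rw [nine_card]
  have e : σ = permOfTabs t t := by
    have := congrArg (fun x => permOfTabs t t * x) hone
    simpa using this
  rw [e]
  apply Equiv.ext
  intro p
  rw [Equiv.Perm.mul_apply, Equiv.Perm.one_apply, ← gPt_gIdx p, permOfTabs_gPt hinv _ (gIdx_lt p),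
    permOfTabs_gPt hinv _ (isInvPair_spec hinv _ (gIdx_lt p)).1, hsq _ (gIdx_lt p)]

/-! ### the fourth power -/

theorem signedPerm_one_one (c : Finset GolayPt) (x : GolayPt → ℤ) :
    signedPerm 1 c (signedPerm 1 c x) = x := by
  funext i
  rw [signedPerm_one_apply, signedPerm_one_apply]
  split_ifs <;> simp

theorem FixR.pow_four {g : ↥Co0} (hg : FixR g) : g * g * (g * g) = 1 := by
  obtain ⟨σ, hσ, c, hc, hact, hfix⟩ := hg.mono
  have hsq := sq_eq_one_of_fix hσ hfix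
  have h2 : ∀ v : ↥leechLattice, (((g * g) • v : ↥leechLattice) : GolayPt → ℤ) =
      signedPerm 1 (Finset.univ.filter fun i => Xor (i ∈ c) (σ.symm i ∈ c)) v.1 := by
    intro v
    rw [mul_smul, hact, hact, signedPerm_comp, hsq]
  apply co0_ext
  intro v
  apply Subtype.ext
  rw [mul_smul, h2, h2, signedPerm_one_one, one_smul]

/-! ### the kernel is a `2`-group -/

theorem fixR_sq_of_ker {g : ↥CH} (hg : phi g = 1) : FixR (g.1 * g.1) := by
  rw [phi_eq_one_iff] at hg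
  refine ⟨?_, ?_⟩
  · rw [mul_smul, (mem_CH.mp g.2).1, (mem_CH.mp g.2).1]
  · intro k hk
    rw [mul_smul]
    rcases hg k hk with h | h
    · rw [h, h]
    · rw [h, co0_smul_neg, h, neg_neg]

theorem pow_eight_of_ker {g : ↥CH} (hg : phi g = 1) : g ^ 2 ^ 3 = 1 := by
  apply Subtype.ext
  have h := (fixR_sq_of_ker hg).pow_four
  show (g.1) ^ 2 ^ 3 = 1
  have e : g.1 ^ 2 ^ 3 = g.1 * g.1 * (g.1 * g.1) * (g.1 * g.1 * (g.1 * g.1)) := by
    rw [show (2 : ℕ) ^ 3 = 8 from rfl]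
    simp only [pow_succ, pow_zero, one_mul, mul_assoc]
  rw [e]
  exact h

theorem isPGroup_ker : IsPGroup 2 ↥phi.ker := by
  intro g
  refine ⟨3, ?_⟩
  apply Subtype.ext
  exact pow_eight_of_ker g.2

end Cfsg.Agent.Helper26.Co2Inv
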