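import Cfsg.Agent.Helper26.NormalOrbit

/-!
# Simplicity from subdegrees, second form

The orbits of a normal subgroup of a transitive group are blocks, so their size divides the
degree; and a transitive action with a simple point stabiliser that moves a point is faithful.
-/

set_option autoImplicit false

namespace Cfsg.Agent.Helper26

open MulAction
open scoped Function

section Subdegrees2

variable {G X ι : Type*} [Group G] [MulAction G X] [Fintype ι] [DecidableEq ι]
  (x₀ : X) (O : ι → Set X) (d : ι → ℕ)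

/-- the orbits of a normal subgroup of a transitive group have a size dividing the degree -/
theorem ncard_orbit_normal_dvd [IsPretransitive G X] (N : Subgroup G) [N.Normal] (x : X) :
    (orbit N x).ncard ∣ Nat.card X :=
  (IsBlock.orbit_of_normal (G := G) (N := N) x).ncard_dvd_card ⟨x, mem_orbit_self x⟩

/-- a transitive action whose point stabiliser is simple and moves a point is faithful -/
theorem faithful_of_simple_stabilizer [IsPretransitive G X]
    (hM : IsSimpleGroup (stabilizer G x₀))
    (hmove : ∃ m : G, m • x₀ = x₀ ∧ ∃ y : X, m • y ≠ y) : FaithfulSMul G X := by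
  -- the kernel
  let K : Subgroup G :=
    { carrier := {g | ∀ y : X, g • y = y}
      one_mem' := fun y => one_smul _ y
      mul_mem' := fun {a b} ha hb y => by rw [mul_smul, hb y, ha y]
      inv_mem' := fun {a} ha y => by rw [inv_smul_eq_iff, ha y] }
  have hKn : K.Normal := ⟨fun n hn g y => by
    show (g * n * g⁻¹) • y = y
    rw [mul_smul, mul_smul, hn (g⁻¹ • y), smul_inv_smul]⟩
  have hKH : K ≤ stabilizer G x₀ := fun g hg => hg x₀
  have hcase := hM.eq_bot_or_eq_top_of_normal (K.subgroupOf (stabilizer G x₀)) inferInstance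
  have hKbot : K = ⊥ := by
    rcases hcase with h | h
    · rw [Subgroup.subgroupOf_eq_bot] at h
      rw [eq_bot_iff]
      intro g hg
      have : g ∈ K ⊓ stabilizer G x₀ := ⟨hg, hKH hg⟩
      rw [disjoint_iff.mp h] at this
      exact this
    · exfalso
      rw [Subgroup.subgroupOf_eq_top] at h
      obtain ⟨m, hm, y, hy⟩ := hmove
      exact hy (h (mem_stabilizer_iff.mpr hm) y)
  refine ⟨fun {a b} hab => ?_⟩
  have : b⁻¹ * a ∈ K := fun y => by
    show (b⁻¹ * a) • y = y
    rw [mul_smul, hab y, inv_smul_smul]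
  rw [hKbot, Subgroup.mem_bot, inv_mul_eq_one] at this
  exact this.symm

variable [Finite G]

/-- simplicity from the subdegrees, with any common multiple `D` of the sizes of the orbits of
the normal subgroups -/
theorem simple_of_subdegrees_dvd [FaithfulSMul G X] [IsPretransitive G X] (D : ℕ)
    (hdiv : ∀ N : Subgroup G, N.Normal → (orbit N x₀).ncard ∣ D)
    (hcover : ∀ y, y = x₀ ∨ ∃ i, y ∈ O i) (hx₀ : ∀ i, x₀ ∉ O i)
    (hdisj : Pairwise (Disjoint on O))
    (hcard : ∀ i, (O i).ncard = d i) (hpos : ∀ i, d i ≠ 0)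
    (htrans : ∀ i, ∀ q ∈ O i, ∀ q' ∈ O i, ∃ m : G, m • x₀ = x₀ ∧ m • q = q')
    (hM : IsSimpleGroup (stabilizer G x₀))
    (hblock : ∀ S : Finset ι, S ≠ ∅ → S ≠ Finset.univ → ¬ (1 + ∑ i ∈ S, d i) ∣ D)
    (p : ℕ) (hp : p.Prime) (hp1 : p ∣ 1 + ∑ i, d i) (hp2 : ¬ p ^ 2 ∣ 1 + ∑ i, d i)
    (hreg : ∀ m, m % p = 1 → m ∣ (1 + ∑ i, d i) / p → ∀ S : Finset ι,
      (p - 1) * m ≠ ∑ i ∈ S, d i) :
    IsSimpleGroup G := by
  classical
  have : Fact p.Prime := ⟨hp⟩
  have hinv := exists_finset_of_invariant x₀ O d hcover hx₀ hdisj hcard hpos htrans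
  have hfin : ∀ i, (O i).Finite := fun i =>
    Set.finite_of_ncard_ne_zero (by rw [hcard i]; exact hpos i)
  -- the degree
  have hXfin : (Set.univ : Set X).Finite := by
    have : (Set.univ : Set X) = {x₀} ∪ ⋃ i, O i := by
      ext y
      simp only [Set.mem_univ, Set.mem_union, Set.mem_singleton_iff, Set.mem_iUnion, true_iff]
      exact hcover y
    rw [this]
    exact (Set.finite_singleton x₀).union (Set.finite_iUnion hfin)
  have : Finite X := Set.finite_univ_iff.mp hXfin
  have hdeg : Nat.card X = 1 + ∑ i, d i := by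
    obtain ⟨S, hS, hSn⟩ := hinv Set.univ (fun _ _ _ _ => Set.mem_univ _)
    have hall : S = Finset.univ := by
      apply Finset.eq_univ_of_forall
      intro i
      obtain ⟨q, hq⟩ : (O i).Nonempty := by
        rw [← Set.ncard_pos (hfin i), hcard i]
        exact Nat.pos_of_ne_zero (hpos i)
      have : q ∈ Set.univ \ {x₀} := ⟨Set.mem_univ _, by rintro rfl; exact hx₀ i hq⟩
      rw [hS] at this
      simp only [Set.mem_iUnion, exists_prop] at this
      obtain ⟨j, hj, hqj⟩ := this
      by_cases hij : i = j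
      · rwa [hij]
      · exact absurd hqj (Set.disjoint_left.mp (hdisj hij) hq)
    rw [hall, Set.ncard_diff_singleton_of_mem (Set.mem_univ x₀), Set.ncard_univ] at hSn
    have : 0 < Nat.card X := Nat.card_pos_iff.mpr ⟨⟨x₀⟩, inferInstance⟩
    omega
  have hnontriv : Nontrivial G := by
    by_contra h
    rw [not_nontrivial_iff_subsingleton] at h
    have hX : ∀ y : X, y = x₀ := by
      intro y
      obtain ⟨g, rfl⟩ := exists_smul_eq G x₀ y
      rw [Subsingleton.elim g 1, one_smul]
    have : Nat.card X = 1 := by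
      have : Subsingleton X := ⟨fun a b => (hX a).trans (hX b).symm⟩
      exact Nat.card_of_subsingleton x₀
    rw [hdeg] at this
    have hz : ∑ i, d i = 0 := by omega
    have hp1' := hp1
    rw [hz] at hp1'
    exact hp.one_lt.ne' (Nat.dvd_one.mp hp1')
  refine ⟨fun N hN => ?_⟩
  by_contra hcon
  rw [not_or] at hcon
  obtain ⟨hbot, htop⟩ := hcon
  -- `N` is transitive
  have hO : orbit N x₀ = Set.univ := by
    obtain ⟨S, hS, hSn⟩ := hinv (orbit N x₀) (fun m hm y hy => orbit_normal_stable x₀ N hm hy)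
    have hmem : x₀ ∈ orbit N x₀ := mem_orbit_self _
    have hfinO : (orbit N x₀).Finite := Set.toFinite _
    have hn : (orbit N x₀).ncard = 1 + ∑ i ∈ S, d i := by
      rw [← hSn, Set.ncard_diff_singleton_of_mem hmem]
      have : 0 < (orbit N x₀).ncard := (Set.ncard_pos hfinO).mpr ⟨x₀, hmem⟩
      omega
    have hdvd := hdiv N hN
    rw [hn] at hdvd
    by_cases hS0 : S = ∅
    · exfalso
      -- `N` fixes `x₀`, hence everything
      have hfix : ∀ n : N, (n : G) • x₀ = x₀ := by
        intro n
        by_contra hne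
        have : (n : G) • x₀ ∈ orbit N x₀ \ {x₀} := ⟨⟨n, rfl⟩, hne⟩
        rw [hS, hS0] at this
        simp at this
      apply hbot
      rw [Subgroup.eq_bot_iff_forall]
      intro n hn
      apply FaithfulSMul.eq_of_smul_eq_smul (α := X)
      intro y
      obtain ⟨h, rfl⟩ := exists_smul_eq G x₀ y
      rw [one_smul, ← mul_smul]
      have e : n * h = h * (h⁻¹ * n * h) := by group
      rw [e, mul_smul]
      congr 1
      have hconj : h⁻¹ * n * h ∈ N := by
        have := Subgroup.Normal.conj_mem hN n hn h⁻¹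
        simpa using this
      exact hfix ⟨_, hconj⟩
    · by_cases hS1 : S = Finset.univ
      · apply Set.eq_univ_of_forall
        intro y
        rcases hcover y with rfl | ⟨i, hi⟩
        · exact hmem
        · have : y ∈ ⋃ i ∈ S, O i := by
            rw [hS1]
            simp only [Finset.mem_univ, Set.iUnion_true, Set.mem_iUnion]
            exact ⟨i, hi⟩
          rw [← hS] at this
          exact this.1
      · exact absurd hdvd (hblock S hS0 hS1)
  have htr : ∀ y : X, ∃ n ∈ N, n • x₀ = y := by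
    intro y
    have : y ∈ orbit N x₀ := by rw [hO]; exact Set.mem_univ y
    obtain ⟨n, rfl⟩ := this
    exact ⟨n.1, n.2, rfl⟩
  have hK := hM.eq_bot_or_eq_top_of_normal (N.subgroupOf (stabilizer G x₀)) inferInstance
  rcases hK with hK | hK
  · -- the regular case
    have hreg' : ∀ a ∈ N, a • x₀ = x₀ → a = 1 := by
      intro a haN hax
      have : (⟨a, hax⟩ : stabilizer G x₀) ∈ N.subgroupOf (stabilizer G x₀) :=
        Subgroup.mem_subgroupOf.mpr haN
      rw [hK, Subgroup.mem_bot] at this
      exact congrArg Subtype.val this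
    have hinjN : ∀ a ∈ N, ∀ b ∈ N, a • x₀ = b • x₀ → a = b := by
      intro a ha b hb hab
      have : (b⁻¹ * a) • x₀ = x₀ := by rw [mul_smul, hab, inv_smul_smul]
      have := hreg' _ (N.mul_mem (N.inv_mem hb) ha) this
      rw [inv_mul_eq_one] at this
      exact this.symm
    have hcardN : Nat.card N = 1 + ∑ i, d i := by
      rw [← hdeg]
      apply Nat.card_congr
      refine Equiv.ofBijective (fun n : N => (n : G) • x₀) ⟨?_, ?_⟩
      · intro a b hab
        exact Subtype.ext (hinjN a.1 a.2 b.1 b.2 hab)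
      · intro y
        obtain ⟨n, hn, rfl⟩ := htr y
        exact ⟨⟨n, hn⟩, rfl⟩
    -- the elements of order `p`
    have hcount := ncard_orderOf_eq_prime (N := N) (p := p) (by rw [hcardN]; exact hp1)
      (by rw [hcardN]; exact hp2)
    set T : Set N := {a : N | orderOf a = p} with hTdef
    set A : Set X := (fun a : N => (a : G) • x₀) '' T with hAdef
    have hAcard : A.ncard = T.ncard := by
      apply Set.ncard_image_of_injective
      intro a b hab
      exact Subtype.ext (hinjN a.1 a.2 b.1 b.2 hab)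
    have hxA : x₀ ∉ A := by
      rintro ⟨a, ha, hax⟩
      have h1 : (a : G) = 1 := hreg' a.1 a.2 hax
      have h2 : a = 1 := Subtype.ext h1
      rw [hTdef, Set.mem_setOf_eq, h2, orderOf_one] at ha
      exact hp.one_lt.ne ha
    have hAinv : ∀ m : G, m • x₀ = x₀ → ∀ y ∈ A, m • y ∈ A := by
      rintro m hm _ ⟨a, ha, rfl⟩
      refine ⟨⟨m * a * m⁻¹, Subgroup.Normal.conj_mem hN a.1 a.2 m⟩, ?_, ?_⟩
      · rw [hTdef, Set.mem_setOf_eq] at ha ⊢
        rw [← ha, ← Subgroup.orderOf_coe, ← Subgroup.orderOf_coe]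
        show orderOf (m * (a : G) * m⁻¹) = orderOf (a : G)
        have hs : SemiconjBy m (a : G) (m * (a : G) * m⁻¹) := by
          unfold SemiconjBy
          group
        exact (hs.orderOf_eq m).symm
      · show (m * (a : G) * m⁻¹) • x₀ = m • (a : G) • x₀
        rw [mul_smul, mul_smul]
        congr 2
        rw [inv_smul_eq_iff, hm]
    obtain ⟨S, -, hSn⟩ := hinv A hAinv
    rw [Set.diff_singleton_eq_self hxA, hAcard, hcount] at hSn
    obtain P : Sylow p N := default
    have hmod : Nat.card (Sylow p N) % p = 1 := by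
      have := card_sylow_modEq_one p N
      rw [Nat.ModEq, Nat.mod_eq_of_lt hp.one_lt] at this
      exact this
    have hdvd : Nat.card (Sylow p N) ∣ (1 + ∑ i, d i) / p := by
      have h1 := Sylow.card_dvd_index P
      have hcP : Nat.card P = p := by
        have hn0 : Nat.card N ≠ 0 := Nat.card_pos.ne'
        have a1 : 1 ≤ (Nat.card N).factorization p :=
          (hp.pow_dvd_iff_le_factorization hn0).mp (by rw [pow_one, hcardN]; exact hp1)
        have a2 : ¬ 2 ≤ (Nat.card N).factorization p := fun h =>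
          hp2 (by rw [← hcardN]; exact (hp.pow_dvd_iff_le_factorization hn0).mpr h)
        rw [Sylow.card_eq_multiplicity, show (Nat.card N).factorization p = 1 by omega, pow_one]
      have h2 := (P : Subgroup N).index_mul_card
      rw [hcardN] at h2
      have h3 : Nat.card (P : Subgroup N) = p := hcP
      rw [h3] at h2
      have : (P : Subgroup N).index = (1 + ∑ i, d i) / p := by
        rw [← h2, Nat.mul_div_cancel _ hp.pos]
      rwa [this] at h1
    exact hreg _ hmod hdvd S hSn
  · -- the stabiliser lies in `N`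
    apply htop
    rw [eq_top_iff]
    intro g _
    obtain ⟨n, hn, hng⟩ := htr (g • x₀)
    have hs : n⁻¹ * g ∈ stabilizer G x₀ := by
      rw [mem_stabilizer_iff, mul_smul, ← hng, inv_smul_smul]
    have : (⟨n⁻¹ * g, hs⟩ : stabilizer G x₀) ∈ N.subgroupOf (stabilizer G x₀) := by
      rw [hK]
      exact Subgroup.mem_top _
    have h2 : n⁻¹ * g ∈ N := Subgroup.mem_subgroupOf.mp this
    have := N.mul_mem hn h2
    rwa [mul_inv_cancel_left] at this


/-- simplicity from the subdegrees: the block form, faithfulness coming from the simple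
stabiliser -/
theorem simple_of_subdegrees_block [IsPretransitive G X]
    (hcover : ∀ y, y = x₀ ∨ ∃ i, y ∈ O i) (hx₀ : ∀ i, x₀ ∉ O i)
    (hdisj : Pairwise (Disjoint on O))
    (hcard : ∀ i, (O i).ncard = d i) (hpos : ∀ i, d i ≠ 0) (hbig : ∃ i, 1 < d i)
    (htrans : ∀ i, ∀ q ∈ O i, ∀ q' ∈ O i, ∃ m : G, m • x₀ = x₀ ∧ m • q = q')
    (hM : IsSimpleGroup (stabilizer G x₀))
    (hblock : ∀ S : Finset ι, S ≠ ∅ → S ≠ Finset.univ → ¬ (1 + ∑ i ∈ S, d i) ∣ Nat.card X)
    (p : ℕ) (hp : p.Prime) (hp1 : p ∣ 1 + ∑ i, d i) (hp2 : ¬ p ^ 2 ∣ 1 + ∑ i, d i)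
    (hreg : ∀ m, m % p = 1 → m ∣ (1 + ∑ i, d i) / p → ∀ S : Finset ι,
      (p - 1) * m ≠ ∑ i ∈ S, d i) :
    IsSimpleGroup G := by
  have hfaith : FaithfulSMul G X := by
    apply faithful_of_simple_stabilizer x₀ hM
    obtain ⟨i, hi⟩ := hbig
    have hfin : (O i).Finite := Set.finite_of_ncard_ne_zero (by rw [hcard i]; exact hpos i)
    have h1 : 1 < (O i).ncard := by rw [hcard i]; exact hi
    obtain ⟨q, hq, q', hq', hne⟩ := (Set.one_lt_ncard hfin).mp h1
    obtain ⟨m, hm, hmq⟩ := htrans i q hq q' hq'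
    exact ⟨m, hm, q, by rw [hmq]; exact fun h => hne h.symm⟩
  exact simple_of_subdegrees_dvd x₀ O d (Nat.card X)
    (fun N hN => ncard_orbit_normal_dvd N x₀) hcover hx₀ hdisj hcard hpos htrans hM hblock
    p hp hp1 hp2 hreg

end Subdegrees2

end Cfsg.Agent.Helper26
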