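import Cfsg.Agent.Helper26.Co2Main
import Cfsg.Agent.Helper26.NormalOrbit2
import Cfsg.Agent.Helper8.Co0Order

/-!
# The stabiliser of a minimal vector is simple of order 42305421312000,
as soon as the joint stabilisers of the pairs of type `(32, 32, -8)` are simple
-/

set_option autoImplicit false

namespace Cfsg.Agent.Helper26

open Cfsg Cfsg.Agent.Helper8 Cfsg.Agent.Helper27 Cfsg.Agent.Helper92
open scoped Pointwise Function

/-- the action of the stabiliser of `v` on the 47104 -/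
def tAct2 (v : ↥leechLattice) : SubMulAction ↥(MulAction.stabilizer ↥Co0 v) ↥leechLattice where
  carrier := shellDot 32 (-8) v
  smul_mem' := by
    intro g x hx
    have hgv : (g : ↥Co0) • v = v := g.2
    have := co0_dotInt (g : ↥Co0) v x
    rw [hgv] at this
    exact ⟨(co0_sqNorm (g : ↥Co0) x).trans hx.1, this.trans hx.2⟩

theorem tAct2_trans (v : ↥leechLattice) (hv : sqNorm (v : IVec) = 32) :
    MulAction.IsPretransitive ↥(MulAction.stabilizer ↥Co0 v) ↥(tAct2 v) := by
  refine ⟨fun x y => ?_⟩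
  obtain ⟨g, hgv, hgx⟩ := trans_of_base (vPQ_mem pp_ne_qq) (sqNorm_vPQ pp_ne_qq) (-8) base8
    v x.1 y.1 hv x.2.1 y.2.1 x.2.2 y.2.2
  exact ⟨⟨g, hgv⟩, Subtype.ext hgx⟩

theorem card_tAct2 (v : ↥leechLattice) (hv : sqNorm (v : IVec) = 32) :
    Nat.card ↥(tAct2 v) = 47104 := by
  rw [← ncard_shellDot_min8 v hv]
  exact Nat.card_coe_set_eq (shellDot 32 (-8) v)

/-- the order of the stabiliser of a minimal vector -/
theorem card_stab32 (v : ↥leechLattice) (hv : sqNorm (v : IVec) = 32) :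
    Nat.card ↥(MulAction.stabilizer ↥Co0 v) = 42305421312000 := by
  have h1 := card_fiber_set (G := ↥Co0) v
    {u : ↥leechLattice | u.1 ∈ leechLattice ∧ sqNorm u.1 = 32}
    (fun s hs => co0_transitive_min32 v s hv hs.2)
  have e1 : Nat.card {g : ↥Co0 // g • v ∈
      {u : ↥leechLattice | u.1 ∈ leechLattice ∧ sqNorm u.1 = 32}} = Nat.card ↥Co0 :=
    Nat.card_congr (Equiv.subtypeUnivEquiv fun g =>
      ⟨(g • v).2, by rw [co0_sqNorm]; exact hv⟩)
  have c1 : Nat.card ↥{u : ↥leechLattice | u.1 ∈ leechLattice ∧ sqNorm u.1 = 32} = 196560 := by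
    have h := card_subtype_lattice (fun x => x ∈ leechLattice ∧ sqNorm x = 32) (fun x hx => hx.1)
    have h' := ncard_leech 32 (by norm_num)
    have e : leechCount 32 = 196560 := by decide +kernel
    rw [e] at h'
    have h'' : {x : IVec | x ∈ leechLattice ∧ sqNorm x = 32}.ncard = 196560 := by
      exact_mod_cast h'
    rw [← h'']
    exact h
  rw [e1, c1, card_co0] at h1
  omega

theorem c2deg_pos : ∀ i : Fin 5, c2deg i ≠ 0 := by decide

theorem c2_block : ∀ S : Finset (Fin 5), S ≠ ∅ → S ≠ Finset.univ →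
    ¬ (1 + ∑ i ∈ S, c2deg i) ∣ 47104 := by decide

theorem c2_reg : ∀ m ∈ Nat.divisors 2048, m % 23 = 1 → ∀ S : Finset (Fin 5),
    (23 - 1) * m ≠ ∑ i ∈ S, c2deg i := by decide +kernel

/-- simplicity of the stabiliser of a minimal vector -/
theorem co2_simple
    (hMcL : ∀ v w : ↥leechLattice, sqNorm (v : IVec) = 32 → sqNorm (w : IVec) = 32 →
      dotInt (v : IVec) (w : IVec) = -8 →
      IsSimpleGroup ↥(MulAction.stabilizer ↥Co0 v ⊓ MulAction.stabilizer ↥Co0 w))
    (v : ↥leechLattice) (hv : sqNorm (v : IVec) = 32) :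
    IsSimpleGroup ↥(MulAction.stabilizer ↥Co0 v) := by
  have hcard := card_stab32 v hv
  have hfinG : Finite ↥(MulAction.stabilizer ↥Co0 v) :=
    Nat.finite_of_card_ne_zero (by rw [hcard]; norm_num)
  have htransG := tAct2_trans v hv
  -- a point
  obtain ⟨x, hx⟩ : (shellDot 32 (-8) v).Nonempty := by
    apply Set.nonempty_of_ncard_ne_zero
    rw [ncard_shellDot_min8 v hv]
    norm_num
  obtain ⟨y, hy, hyn, hyd, hU⟩ := c2_main v x hv hx
  have hxx : dotInt (x : IVec) (x : IVec) = 32 := by rw [dotInt_self, hx.1]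
  have hsub : ∀ i, orbSet v x (y i) ⊆ shellDot 32 (-8) v := by
    intro i z hz
    rw [hU]
    exact Or.inr (Set.mem_iUnion.mpr ⟨i, hz⟩)
  have hsimple : IsSimpleGroup ↥(MulAction.stabilizer ↥Co0 v ⊓ MulAction.stabilizer ↥Co0 x) :=
    hMcL v x hv hx.1 hx.2
  have hM : IsSimpleGroup ↥(MulAction.stabilizer ↥(MulAction.stabilizer ↥Co0 v)
      (⟨x, hx⟩ : ↥(tAct2 v))) := by
    let e : ↥(MulAction.stabilizer ↥(MulAction.stabilizer ↥Co0 v) (⟨x, hx⟩ : ↥(tAct2 v))) ≃*
        ↥(MulAction.stabilizer ↥Co0 v ⊓ MulAction.stabilizer ↥Co0 x) :=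
      { toFun := fun m => ⟨m.1.1, Subgroup.mem_inf.mpr ⟨m.1.2,
          MulAction.mem_stabilizer_iff.mpr (congrArg Subtype.val
            (MulAction.mem_stabilizer_iff.mp m.2))⟩⟩
        invFun := fun k => ⟨⟨k.1, (Subgroup.mem_inf.mp k.2).1⟩,
          MulAction.mem_stabilizer_iff.mpr (Subtype.ext
            (MulAction.mem_stabilizer_iff.mp (Subgroup.mem_inf.mp k.2).2))⟩
        left_inv := fun m => rfl
        right_inv := fun k => rfl
        map_mul' := fun a b => rfl }
    exact e.isSimpleGroup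
  refine simple_of_subdegrees_block (G := ↥(MulAction.stabilizer ↥Co0 v)) (X := ↥(tAct2 v))
    (⟨x, hx⟩ : ↥(tAct2 v)) (fun i => {z : ↥(tAct2 v) | (z : ↥leechLattice) ∈ orbSet v x (y i)})
    c2deg ?_ ?_ ?_ ?_ c2deg_pos ⟨0, by decide⟩ ?_ hM ?_ 23 (by norm_num) ?_ ?_ ?_
  · -- cover
    intro z
    have hz : (z : ↥leechLattice) ∈ shellDot 32 (-8) v := z.2
    rw [hU] at hz
    rcases hz with hz | hz
    · exact Or.inl (Subtype.ext hz)
    · obtain ⟨i, hi⟩ := Set.mem_iUnion.mp hz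
      exact Or.inr ⟨i, hi⟩
  · -- the point is in no suborbit
    intro i hi
    have := (orbSet_dot (show x ∈ orbSet v x (y i) from hi)).1
    rw [hxx, hyd i] at this
    exact c2dot_ne i this.symm
  · -- disjoint
    intro i j hij
    rw [Function.onFun, Set.disjoint_left]
    intro z hzi hzj
    apply hij
    apply c2dot_inj
    rw [← hyd i, ← hyd j, ← (orbSet_dot (show (z : ↥leechLattice) ∈ orbSet v x (y i) from hzi)).1,
      ← (orbSet_dot (show (z : ↥leechLattice) ∈ orbSet v x (y j) from hzj)).1]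
  · -- sizes
    intro i
    rw [← hyn i]
    have : {z : ↥(tAct2 v) | (z : ↥leechLattice) ∈ orbSet v x (y i)} =
        (Subtype.val : ↥(tAct2 v) → ↥leechLattice) ⁻¹' orbSet v x (y i) := rfl
    rw [this]
    apply Set.ncard_preimage_of_injective_subset_range Subtype.val_injective
    intro z hz
    exact ⟨⟨z, hsub i hz⟩, rfl⟩
  · -- transitivity on the suborbits
    intro i q hq q' hq'
    obtain ⟨h, h1, h2, h3⟩ := hq
    obtain ⟨h', h1', h2', h3'⟩ := hq'
    refine ⟨⟨h' * h⁻¹, ?_⟩, ?_, ?_⟩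
    · rw [MulAction.mem_stabilizer_iff, mul_smul, inv_smul_eq_iff.mpr h1.symm, h1']
    · apply Subtype.ext
      show (h' * h⁻¹) • x = x
      rw [mul_smul, inv_smul_eq_iff.mpr h2.symm, h2']
    · apply Subtype.ext
      show (h' * h⁻¹) • (q : ↥leechLattice) = q'
      rw [mul_smul, ← h3, inv_smul_smul, h3']
  · rw [card_tAct2 v hv]
    exact c2_block
  · rw [c2deg_sum]
    norm_num
  · rw [c2deg_sum]
    norm_num
  · rw [c2deg_sum]
    intro m hm hd S
    exact c2_reg m (Nat.mem_divisors.mpr ⟨by norm_num at hd ⊢; exact hd, by norm_num⟩) hm S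

end Cfsg.Agent.Helper26
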