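import Cfsg.Agent.Helper26.Co2InvG
import Cfsg.Agent.Helper26.Co2Simple
import Cfsg.Agent.Helper5.SpCard

/-!
# The centraliser of an involution of `Co2`: the order of the kernel divides `2 ^ 9`
-/

set_option autoImplicit false

namespace Cfsg.Agent.Helper26.Co2Inv

open Cfsg Cfsg.Agent.Helper7 Cfsg.Agent.Helper8 Cfsg.Agent.Helper27 MulAction

theorem card_sp6 : Nat.card (Matrix.symplecticGroup (Fin 3) (ZMod 2)) = 1451520 := by
  rw [Cfsg.Agent.Helper5.card_sp 3, ZMod.card]
  norm_num [Finset.prod_range_succ]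

theorem u0_norm : sqNorm ((u0 : ↥leechLattice) : IVec) = 32 := by
  rw [← dotInt_self, u0_list, dotInt_vecOf_vecOf]
  decide +kernel

instance finite_CH : Finite ↥CH := by
  have : Finite ↥(stabilizer ↥Co0 u0) :=
    Nat.finite_of_card_ne_zero (by rw [Cfsg.Agent.Helper26.card_stab32 u0 u0_norm]; norm_num)
  exact Finite.of_injective (Subgroup.inclusion (inf_le_left : CH ≤ stabilizer ↥Co0 u0))
    (Subgroup.inclusion_injective _)

theorem card_CH_dvd : Nat.card ↥CH ∣ 42305421312000 := by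
  rw [← Cfsg.Agent.Helper26.card_stab32 u0 u0_norm]
  exact Subgroup.card_dvd_of_le (inf_le_left : CH ≤ stabilizer ↥Co0 u0)

theorem card_CH_eq : Nat.card ↥CH = Nat.card ↥phi.ker * 1451520 := by
  rw [← card_sp6, Subgroup.card_eq_card_quotient_mul_card_subgroup phi.ker, mul_comm]
  congr 1
  exact Nat.card_congr (QuotientGroup.quotientKerEquivOfSurjective phi phi_surjective).toEquiv

theorem card_ker_dvd : Nat.card ↥phi.ker ∣ 2 ^ 9 := by
  haveI : Fact (Nat.Prime 2) := ⟨Nat.prime_two⟩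
  obtain ⟨j, hj⟩ := isPGroup_ker.exists_card_eq
  rw [hj]
  apply Nat.pow_dvd_pow
  by_contra hlt
  rw [not_le] at hlt
  have h1 : 2 ^ 10 ∣ Nat.card ↥phi.ker := by
    rw [hj]
    exact Nat.pow_dvd_pow 2 hlt
  have h2 := card_CH_dvd
  rw [card_CH_eq] at h2
  have h3 : 2 ^ 10 * 1451520 ∣ 42305421312000 :=
    Dvd.dvd.trans (Nat.mul_dvd_mul_right h1 _) h2
  revert h3
  norm_num

end Cfsg.Agent.Helper26.Co2Inv
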