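import Cfsg.Agent.Helper26.Co2InvI
import Cfsg.Agent.Helper90.ExtraCrit

/-!
# The centraliser of an involution of `Co2`: the kernel is extraspecial
-/

set_option autoImplicit false

namespace Cfsg.Agent.Helper26.Co2Inv

open Cfsg Cfsg.Agent.Helper7 Cfsg.Agent.Helper8 Cfsg.Agent.Helper27 Cfsg.Agent.Helper90
  Cfsg.Agent.Helper92 MulAction

/-! ### the tables of `1` and of the involution -/

theorem hasTab_one : HasTab 1 (fun k => 2 * k) := by
  refine ⟨fun p _ => one_smul _ _, ?_⟩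
  intro k hk
  show 2 * k < 32 ∧ (1 : ↥Co0) • vec8 (gPt (oc k)) = sgnv (2 * k) (vec8 (gPt (oc (2 * k / 2))))
  refine ⟨by omega, ?_⟩
  rw [one_smul]
  unfold sgnv
  rw [if_neg (by omega), Nat.mul_div_cancel_left _ (by norm_num : 0 < 2)]

theorem octL_bit : ∀ p ∈ octL, Ocm.testBit p = false := by decide

theorem hasTab_tE : HasTab tE (fun k => 2 * k + 1) := by
  refine ⟨fun p hp => tE_vec8_on (octL_lt p hp) (octL_bit p hp), ?_⟩
  intro k hk
  show 2 * k + 1 < 32 ∧
    tE • vec8 (gPt (oc k)) = sgnv (2 * k + 1) (vec8 (gPt (oc ((2 * k + 1) / 2))))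
  refine ⟨by omega, ?_⟩
  unfold sgnv
  rw [if_pos (by omega), show (2 * k + 1) / 2 = k by omega]
  exact tE_vec8_off (oc_lt k hk).1 (oc_lt k hk).2

theorem neg_comp : ∀ a < 32, (2 * (a / 2) + 1) ^^^ (a % 2) = a ^^^ 1 := by decide

theorem HasTab.tE_mul {g : ↥Co0} {τ : ℕ → ℕ} (h : HasTab g τ) :
    HasTab (tE * g) (fun k => τ k ^^^ 1) := by
  apply (h.mul hasTab_tE).congr
  intro k hk
  exact neg_comp _ (h.2 k hk).1

/-! ### equality up to the involution -/

/-- equal, or differing by the involution -/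
def Rel (x y : ↥Co0) : Prop := x = y ∨ x = tE * y

/-- the tables agree up to a sign -/
def tabRel (τ τ' : ℕ → ℕ) : Prop :=
  (∀ k < 16, τ k = τ' k) ∨ (∀ k < 16, τ k = τ' k ^^^ 1)

instance (τ τ' : ℕ → ℕ) : Decidable (tabRel τ τ') := by
  unfold tabRel
  infer_instance

theorem rel_of_tabRel {g h : ↥Co0} {τ τ' : ℕ → ℕ} (hg : HasTab g τ) (hh : HasTab h τ')
    (e : tabRel τ τ') : Rel g h := by
  rcases e with e | e
  · exact Or.inl (hg.ext hh e)
  · exact Or.inr (hg.ext hh.tE_mul e)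

/-! ### the checks on the tables -/

set_option maxRecDepth 100000 in
theorem chk_ss : ∀ j < 32, ∀ j' < 32, ∀ k < 16,
    compT (dig (tabS.getD j 0)) (dig (tabS.getD j' 0)) k =
      compT (dig (tabS.getD j' 0)) (dig (tabS.getD j 0)) k := by decide +kernel

set_option maxRecDepth 100000 in
theorem chk_pp : ∀ i < 16, ∀ i' < 16, ∀ k < 16,
    compT (dig (tabP.getD i 0)) (dig (tabP.getD i' 0)) k =
      compT (dig (tabP.getD i' 0)) (dig (tabP.getD i 0)) k := by decide +kernel

set_option maxRecDepth 100000 in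
theorem chk_sp : ∀ j < 32, ∀ i < 16,
    tabRel (compT (dig (tabS.getD j 0)) (dig (tabP.getD i 0)))
      (compT (dig (tabP.getD i 0)) (dig (tabS.getD j 0))) := by decide +kernel

set_option maxRecDepth 100000 in
theorem sq_all : ∀ x ∈ tabL, (∀ k < 16, compT (dig x) (dig x) k = 2 * k) ∨
    (∀ k < 16, compT (dig x) (dig x) k = 2 * k + 1) := by decide +kernel

set_option maxRecDepth 100000 in
theorem cen_all : ∀ x ∈ tabL, (∀ k < 16, dig x k = 2 * k) ∨ (∀ k < 16, dig x k = 2 * k + 1) ∨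
    ∃ y ∈ tabL, ∃ k < 16, compT (dig x) (dig y) k ≠ compT (dig y) (dig x) k := by decide +kernel

/-! ### commutation of the generators -/

theorem sE_comm {j j' : ℕ} (hj : j < 32) (hj' : j' < 32) : sE j * sE j' = sE j' * sE j :=
  ((sE_tab hj').mul (sE_tab hj)).ext ((sE_tab hj).mul (sE_tab hj')) (chk_ss j hj j' hj')

theorem pE_comm {i i' : ℕ} (hi : i < 16) (hi' : i' < 16) : pE i * pE i' = pE i' * pE i :=
  ((pE_tab hi').mul (pE_tab hi)).ext ((pE_tab hi).mul (pE_tab hi')) (chk_pp i hi i' hi')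

theorem sp_rel {j i : ℕ} (hj : j < 32) (hi : i < 16) : Rel (sE j * pE i) (pE i * sE j) :=
  rel_of_tabRel ((pE_tab hi).mul (sE_tab hj)) ((sE_tab hj).mul (pE_tab hi)) (chk_sp j hj i hi)

theorem comm_aux {G : Type*} [Group G] {p s p' s' c1 c2 : G}
    (hc1 : c1 * p = p * c1) (hc2 : c2 * p' = p' * c2)
    (hpp : p * p' = p' * p) (hss : s * s' = s' * s)
    (e1 : s * p' = c1 * (p' * s)) (e2 : s' * p = c2 * (p * s')) :
    (p * s) * (p' * s') * (p * s)⁻¹ * (p' * s')⁻¹ = c1 * c2⁻¹ := by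
  have A : (p * s) * (p' * s') = c1 * (p * p' * (s * s')) := by
    calc (p * s) * (p' * s') = p * (s * p') * s' := by group
      _ = p * (c1 * (p' * s)) * s' := by rw [e1]
      _ = (p * c1) * (p' * s * s') := by group
      _ = (c1 * p) * (p' * s * s') := by rw [hc1]
      _ = c1 * (p * p' * (s * s')) := by group
  have B : (p' * s') * (p * s) = c2 * (p * p' * (s * s')) := by
    calc (p' * s') * (p * s) = p' * (s' * p) * s := by group
      _ = p' * (c2 * (p * s')) * s := by rw [e2]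
      _ = (p' * c2) * (p * s' * s) := by group
      _ = (c2 * p') * (p * s' * s) := by rw [hc2]
      _ = c2 * ((p' * p) * (s' * s)) := by group
      _ = c2 * (p * p' * (s * s')) := by rw [← hpp, ← hss]
  calc (p * s) * (p' * s') * (p * s)⁻¹ * (p' * s')⁻¹
      = ((p * s) * (p' * s')) * ((p' * s') * (p * s))⁻¹ := by group
    _ = c1 * c2⁻¹ := by rw [A, B]; group

theorem tE_inv : tE⁻¹ = tE := inv_eq_of_mul_eq_one_left tE_mul_self

theorem eN_comm {n m : ℕ} (hn : n < 512) (hm : m < 512) :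
    eN n * eN m * (eN n)⁻¹ * (eN m)⁻¹ = 1 ∨ eN n * eN m * (eN n)⁻¹ * (eN m)⁻¹ = tE := by
  have hi : n / 32 < 16 := by omega
  have hj : n % 32 < 32 := Nat.mod_lt _ (by norm_num)
  have hi' : m / 32 < 16 := by omega
  have hj' : m % 32 < 32 := Nat.mod_lt _ (by norm_num)
  have hpp := pE_comm hi hi'
  have hss := sE_comm hj hj'
  have ht1 : tE * pE (n / 32) = pE (n / 32) * tE := (pE_tab hi).comm
  have ht2 : tE * pE (m / 32) = pE (m / 32) * tE := (pE_tab hi').comm
  unfold eN
  rcases sp_rel hj hi' with e1 | e1 <;> rcases sp_rel hj' hi with e2 | e2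
  · left
    rw [comm_aux (c1 := 1) (c2 := 1) (by simp) (by simp) hpp hss (by rw [one_mul]; exact e1)
      (by rw [one_mul]; exact e2)]
    simp
  · right
    rw [comm_aux (c1 := 1) (c2 := tE) (by simp) ht2 hpp hss (by rw [one_mul]; exact e1) e2,
      tE_inv, one_mul]
  · right
    rw [comm_aux (c1 := tE) (c2 := 1) ht1 (by simp) hpp hss e1 (by rw [one_mul]; exact e2)]
    simp
  · left
    rw [comm_aux (c1 := tE) (c2 := tE) ht1 ht2 hpp hss e1 e2, tE_inv, tE_mul_self]

/-! ### squares and the centre -/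

theorem mem_tabL {n : ℕ} (hn : n < 512) : tabL.getD n 0 ∈ tabL := by
  have hn' : n < tabL.length := by rw [tabL_length]; exact hn
  rw [List.getD_eq_getElem _ _ hn']
  exact List.getElem_mem hn'

theorem exists_of_mem_tabL {y : ℕ} (hy : y ∈ tabL) : ∃ m < 512, tabL.getD m 0 = y := by
  obtain ⟨m, hm, rfl⟩ := List.getElem_of_mem hy
  refine ⟨m, by rwa [tabL_length] at hm, ?_⟩
  rw [List.getD_eq_getElem _ _ hm]

theorem eN_sq {n : ℕ} (hn : n < 512) : eN n * eN n = 1 ∨ eN n * eN n = tE := by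
  have h := (eN_tab hn).mul (eN_tab hn)
  rcases sq_all _ (mem_tabL hn) with e | e
  · left
    exact h.ext hasTab_one e
  · right
    exact h.ext hasTab_tE e

theorem tE_ne_one : tE ≠ 1 := by
  intro h
  have h1 := hasTab_tE
  rw [h] at h1
  have := h1.unique hasTab_one 0 (by norm_num)
  norm_num at this

theorem eN_central {n : ℕ} (hn : n < 512) (hc : ∀ m < 512, eN m * eN n = eN n * eN m) :
    eN n = 1 ∨ eN n = tE := by
  rcases cen_all _ (mem_tabL hn) with e | e | ⟨y, hy, k, hk, hne⟩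
  · left
    exact (eN_tab hn).ext hasTab_one e
  · right
    exact (eN_tab hn).ext hasTab_tE e
  · exfalso
    obtain ⟨m, hm, rfl⟩ := exists_of_mem_tabL hy
    have h1 := (eN_tab hm).mul (eN_tab hn)
    have h2 := (eN_tab hn).mul (eN_tab hm)
    rw [← hc m hm] at h1
    exact hne (h1.unique h2 k hk)

theorem exists_noncomm : ∃ n < 512, ∃ m < 512, eN n * eN m ≠ eN m * eN n := by
  by_contra hall
  push Not at hall
  have h1 : eN 1 = 1 ∨ eN 1 = tE := eN_central (by norm_num) fun m hm => hall m hm 1 (by norm_num)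
  have ht := eN_tab (show 1 < 512 by norm_num)
  rcases h1 with h1 | h1
  · rw [h1] at ht
    have := ht.unique hasTab_one
    revert this
    decide +kernel
  · rw [h1] at ht
    have := ht.unique hasTab_tE
    revert this
    decide +kernel

/-! ### the kernel is extraspecial -/

theorem ker_extraspecial : Cfsg.IsExtraspecial 2 ↥phi.ker := by
  apply isExtraspecial_of_data (G := ↥CH) phi.ker ⟨tE, tE_mem_CH⟩
  · exact phi_tE
  · intro h
    exact tE_ne_one (congrArg Subtype.val h)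
  · exact isPGroup_ker
  · intro x hx hc
    obtain ⟨n, hn, e⟩ := exists_eN_of_ker (MonoidHom.mem_ker.mp hx)
    have h1 : eN n = 1 ∨ eN n = tE := by
      apply eN_central hn
      intro m hm
      have hm' := hc _ (eK ⟨m, hm⟩).2
      have := congrArg Subtype.val hm'
      rw [← e]
      exact this
    rcases h1 with h1 | h1
    · left; apply Subtype.ext; rw [e, h1]; rfl
    · right; apply Subtype.ext; rw [e, h1]
  · intro d _
    apply Subtype.ext
    exact ((mem_CH.mp d.2).2).symm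
  · intro x hx y hy
    obtain ⟨n, hn, e⟩ := exists_eN_of_ker (MonoidHom.mem_ker.mp hx)
    obtain ⟨m, hm, e'⟩ := exists_eN_of_ker (MonoidHom.mem_ker.mp hy)
    rcases eN_comm hn hm with h | h
    · left; apply Subtype.ext
      show x.1 * y.1 * x.1⁻¹ * y.1⁻¹ = 1
      rw [e, e', h]
    · right; apply Subtype.ext
      show x.1 * y.1 * x.1⁻¹ * y.1⁻¹ = tE
      rw [e, e', h]
  · intro x hx
    obtain ⟨n, hn, e⟩ := exists_eN_of_ker (MonoidHom.mem_ker.mp hx)
    rcases eN_sq hn with h | h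
    · left; apply Subtype.ext
      show x.1 * x.1 = 1
      rw [e, h]
    · right; apply Subtype.ext
      show x.1 * x.1 = tE
      rw [e, h]
  · obtain ⟨n, hn, m, hm, hne⟩ := exists_noncomm
    refine ⟨(eK ⟨n, hn⟩).1, (eK ⟨n, hn⟩).2, (eK ⟨m, hm⟩).1, (eK ⟨m, hm⟩).2, ?_⟩
    intro h
    exact hne (congrArg Subtype.val h)

end Cfsg.Agent.Helper26.Co2Inv
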