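import Cfsg.Agent.Helper26.Co2InvJ
import Cfsg.Agent.S0270
import Cfsg.Agent.S0246
import Cfsg.Agent.Helper47.Basic
import Cfsg.Agent.Helper51.WGT
import Cfsg.Agent.Helper53.Heis

/-!
# The centraliser of an involution of `Co2`: the largest normal `2`-subgroup and the transport
-/

set_option autoImplicit false

namespace Cfsg.Agent.Helper26.Co2Inv

open Cfsg Cfsg.Agent.Helper7 Cfsg.Agent.Helper8 Cfsg.Agent.Helper27 MulAction

/-! ### the symplectic group is simple -/

theorem center_sp6 : Subgroup.center (Matrix.symplecticGroup (Fin 3) (ZMod 2)) = ⊥ := by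
  rw [← Subgroup.card_eq_one]
  have := Cfsg.Agent.S0246.result (F := ZMod 2) (q := 2) (ZMod.card 2) 3 (by norm_num)
  simpa using this

/-- the symplectic group as the projective symplectic group -/
noncomputable def sp6Equiv : Matrix.symplecticGroup (Fin 3) (ZMod 2) ≃* Cfsg.PSp 3 (ZMod 2) :=
  (QuotientGroup.quotientBot (G := Matrix.symplecticGroup (Fin 3) (ZMod 2))).symm.trans
    (QuotientGroup.quotientMulEquivOfEq center_sp6.symm)

instance simple_sp6 : IsSimpleGroup (Matrix.symplecticGroup (Fin 3) (ZMod 2)) := by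
  have : IsSimpleGroup (Cfsg.PSp 3 (ZMod 2)) :=
    Cfsg.Agent.S0270.result (F := ZMod 2) 3 (by norm_num) (by intro h; norm_num at h)
  exact sp6Equiv.isSimpleGroup

theorem not_isPGroup_sp6 : ¬ IsPGroup 2 (Matrix.symplecticGroup (Fin 3) (ZMod 2)) := by
  intro hp
  have : Finite (Matrix.symplecticGroup (Fin 3) (ZMod 2)) :=
    Nat.finite_of_card_ne_zero (by rw [card_sp6]; norm_num)
  obtain ⟨k, hk⟩ := hp.exists_card_eq
  rw [card_sp6] at hk
  have h3 : (3 : ℕ) ∣ 2 ^ k := by rw [← hk]; norm_num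
  have := Nat.Prime.dvd_of_dvd_pow Nat.prime_three h3
  omega

/-! ### the largest normal `2`-subgroup -/

theorem pCore_eq_ker {H S : Type*} [Group H] [Group S] [IsSimpleGroup S] (f : H →* S)
    (hf : Function.Surjective f) (hS : ¬ IsPGroup 2 S) (hK : IsPGroup 2 ↥f.ker) :
    Cfsg.pCore 2 H = f.ker := by
  apply le_antisymm
  · have hP := Cfsg.Agent.Helper47.isPGroup_pCore 2 H
    have hN := Cfsg.Agent.Helper51.pCore_normal' 2 H
    have hmapN : ((Cfsg.pCore 2 H).map f).Normal := Subgroup.Normal.map hN f hf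
    rcases hmapN.eq_bot_or_eq_top with h | h
    · exact (Subgroup.map_eq_bot_iff _).mp h
    · exfalso
      apply hS
      have h1 := hP.map f
      rw [h] at h1
      exact h1.of_equiv Subgroup.topEquiv
  · exact Cfsg.Agent.Helper47.le_pCore (MonoidHom.normal_ker f) hK

/-! ### the transport to `Co2` -/

/-- the involution as an element of `Co2` -/
noncomputable def tC : ↥Spor.Co2 :=
  ⟨tE.1, ⟨tE.2, MulAction.mem_stabilizer_iff.mpr tE_u0⟩⟩

/-- the centraliser of the involution in `Co2` -/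
noncomputable def chEquiv : ↥(Subgroup.centralizer ({tC} : Set ↥Spor.Co2)) ≃* ↥CH where
  toFun c := ⟨⟨c.1.1, c.1.2.1⟩, mem_CH.mpr ⟨MulAction.mem_stabilizer_iff.mp c.1.2.2, by
    have h := Subgroup.mem_centralizer_singleton_iff.mp c.2
    apply Subtype.ext
    exact (congrArg (fun x : ↥Spor.Co2 => (x : Equiv.Perm ↥leechLattice)) h).symm⟩⟩
  invFun g := ⟨⟨g.1.1, ⟨g.1.2, MulAction.mem_stabilizer_iff.mpr (mem_CH.mp g.2).1⟩⟩, by
    rw [Subgroup.mem_centralizer_singleton_iff]
    apply Subtype.ext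
    exact (congrArg (fun x : ↥Co0 => (x : Equiv.Perm ↥leechLattice)) (mem_CH.mp g.2).2).symm⟩
  left_inv _ := rfl
  right_inv _ := rfl
  map_mul' _ _ := rfl

theorem orderOf_tC : orderOf tC = 2 := by
  apply orderOf_eq_prime
  · rw [pow_two]
    apply Subtype.ext
    exact congrArg (fun x : ↥Co0 => (x : Equiv.Perm ↥leechLattice)) tE_mul_self
  · intro h
    apply tE_ne_one
    apply Subtype.ext
    exact congrArg (fun x : ↥Spor.Co2 => (x : Equiv.Perm ↥leechLattice)) h

/-- the homomorphism on the centraliser -/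
noncomputable def phiC : ↥(Subgroup.centralizer ({tC} : Set ↥Spor.Co2)) →*
    Matrix.symplecticGroup (Fin 3) (ZMod 2) := phi.comp chEquiv.toMonoidHom

theorem phiC_surjective : Function.Surjective phiC :=
  phi_surjective.comp chEquiv.surjective

/-- the kernels correspond -/
noncomputable def kerEquiv : ↥phiC.ker ≃* ↥phi.ker where
  toFun x := ⟨chEquiv x.1, x.2⟩
  invFun y := ⟨chEquiv.symm y.1, by
    rw [MonoidHom.mem_ker]
    show phi (chEquiv (chEquiv.symm y.1)) = 1
    rw [MulEquiv.apply_symm_apply]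
    exact y.2⟩
  left_inv x := Subtype.ext (chEquiv.symm_apply_apply x.1)
  right_inv y := Subtype.ext (chEquiv.apply_symm_apply y.1)
  map_mul' x y := Subtype.ext (map_mul chEquiv x.1 y.1)

theorem pCore_centralizer :
    Cfsg.pCore 2 ↥(Subgroup.centralizer ({tC} : Set ↥Spor.Co2)) = phiC.ker :=
  pCore_eq_ker phiC phiC_surjective not_isPGroup_sp6 (isPGroup_ker.of_equiv kerEquiv.symm)

theorem main : ∃ t : ↥Cfsg.Spor.Co2, orderOf t = 2 ∧
    Cfsg.IsExtraspecial 2 (Cfsg.pCore 2 ↥(Subgroup.centralizer ({t} : Set ↥Cfsg.Spor.Co2))) ∧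
    Nat.card (Cfsg.pCore 2 ↥(Subgroup.centralizer ({t} : Set ↥Cfsg.Spor.Co2))) = 2 ^ 9 ∧
    Nonempty (↥(Subgroup.centralizer ({t} : Set ↥Cfsg.Spor.Co2)) ⧸
      Cfsg.pCore 2 ↥(Subgroup.centralizer ({t} : Set ↥Cfsg.Spor.Co2)) ≃*
      Matrix.symplecticGroup (Fin 3) (ZMod 2)) := by
  refine ⟨tC, orderOf_tC, ?_, ?_, ?_⟩
  · rw [pCore_centralizer]
    exact Cfsg.Agent.Helper53.isExtraspecial_of_mulEquiv kerEquiv.symm ker_extraspecial
  · rw [pCore_centralizer, Nat.card_congr kerEquiv.toEquiv, card_ker]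
  · exact ⟨(QuotientGroup.quotientMulEquivOfEq pCore_centralizer).trans
      (QuotientGroup.quotientKerEquivOfSurjective phiC phiC_surjective)⟩

end Cfsg.Agent.Helper26.Co2Inv
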