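import Cfsg.Agent.Helper26.PairClasses2

/-!
# Pairs of minimal vectors: explicit links between the classes
-/

set_option autoImplicit false

namespace Cfsg.Agent.Helper26

open Cfsg Cfsg.Agent.Helper8 Cfsg.Agent.Helper27
open scoped Pointwise

/-- the first base point -/
abbrev pp : GolayPt := gPt 4
/-- the second base point, in the same block -/
abbrev qq : GolayPt := gPt 13

theorem pp_ne_qq : pp ≠ qq := by decide

set_option maxRecDepth 100000 in
theorem xi_vPQ_entries : ∀ i : GolayPt, xiFun (vPQ pp qq) i = vPQ pp qq i := by decide +kernel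

theorem xi_vPQ : xiFun (vPQ pp qq) = vPQ pp qq := funext xi_vPQ_entries

/-- an explicit vector of octad shape: octad with mask `mO`, negative entries on the mask `mM` -/
def octVec (mO mM : ℕ) : IVec := fun i =>
  if i ∈ setOf mO then (if i ∈ setOf mM then -2 else 2) else 0

theorem octVec_in (mO mM : ℕ) : ∀ i ∈ setOf mO, octVec mO mM i = 2 ∨ octVec mO mM i = -2 := by
  intro i hi
  unfold octVec
  rw [if_pos hi]
  split_ifs
  · right; rfl
  · left; rfl

theorem octVec_out (mO mM : ℕ) : ∀ i ∉ setOf mO, octVec mO mM i = 0 := by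
  intro i hi
  unfold octVec
  rw [if_neg hi]

/-! ### inner product `-16` -/

/-- the representative of shape A -/
def wA16 : IVec := Pi.single pp (-4) + Pi.single (gPt 3) 4

theorem isA_wA16 : IsA wA16 :=
  ⟨pp, gPt 3, -4, 4, by decide, Or.inr rfl, Or.inl rfl, rfl⟩

/-- the octad carrying the image of `wA16` -/
def octA16 : Finset GolayPt := setOf 4415544

theorem octA16_mem : octA16 ∈ octads := by
  unfold octA16
  rw [setOf_mem_octads_iff (by norm_num)]
  decide +kernel

set_option maxRecDepth 100000 in
theorem xi_wA16_entries : ∀ i : GolayPt,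
    (i ∈ octA16 → xiFun wA16 i = 2 ∨ xiFun wA16 i = -2) ∧ (i ∉ octA16 → xiFun wA16 i = 0) := by
  decide +kernel

theorem isB_xi_wA16 : IsB (xiFun wA16) :=
  ⟨octA16, octA16_mem, fun i hi => (xi_wA16_entries i).1 hi, fun i hi => (xi_wA16_entries i).2 hi⟩

set_option maxRecDepth 100000 in
theorem xi_wA16_pq : xiFun wA16 pp - xiFun wA16 qq = -4 := by decide +kernel

/-- the representative of shape B -/
def wB16 : IVec := octVec 10170384 4112

set_option maxRecDepth 100000 in
theorem wB16_chk : leechChk wB16 = true := by decide +kernel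

theorem wB16_mem : wB16 ∈ leechLattice := mem_of_leechChk wB16_chk

theorem isB_wB16 : IsB wB16 := by
  refine ⟨setOf 10170384, ?_, octVec_in _ _, octVec_out _ _⟩
  rw [setOf_mem_octads_iff (by norm_num)]
  decide +kernel

set_option maxRecDepth 100000 in
theorem wB16_pq : wB16 pp - wB16 qq = -4 := by decide +kernel

set_option maxRecDepth 100000 in
theorem xi_wB16_eq : ∀ i : GolayPt,
    xiFun wB16 i = signedPerm 1 (setOf 14735080) (oddBase pp) i := by
  decide +kernel

theorem isC_xi_wB16 : IsC (xiFun wB16) :=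
  ⟨pp, setOf 14735080, setOf_mem_supports (by norm_num) (by decide +kernel), funext xi_wB16_eq⟩

set_option maxRecDepth 100000 in
theorem xi_wB16_pq : xiFun wB16 pp - xiFun wB16 qq = -4 := by decide +kernel

/-- all minimal vectors of inner product `-16` with the base vector are related to one of them -/
theorem base16 : ∀ w ∈ leechLattice, sqNorm w = 32 → dotInt (vPQ pp qq) w = -16 →
    FRel (vPQ pp qq) w (oddBase pp) := by
  intro w hw hn hd
  rw [dotInt_vPQ] at hd
  have hd' : w pp - w qq = -4 := by omega
  have hv := vPQ_mem pp_ne_qq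
  have lBC : FRel (vPQ pp qq) wB16 (oddBase pp) :=
    (frel_xi hv wB16_mem xi_vPQ).trans (classC16 pp_ne_qq isC_xi_wB16 xi_wB16_pq)
  have hB : ∀ u ∈ leechLattice, IsB u → u pp - u qq = -4 → FRel (vPQ pp qq) u (oddBase pp) :=
    fun u hu hBu hdu => (classB16 pp_ne_qq hu wB16_mem hBu isB_wB16 hdu wB16_pq).trans lBC
  have hAmem : wA16 ∈ leechLattice := (vrelA isA_wA16).mem_right
  have lA : FRel (vPQ pp qq) wA16 (oddBase pp) :=
    (frel_xi hv hAmem xi_vPQ).trans (hB _ (xiFun_mem hAmem) isB_xi_wA16 xi_wA16_pq)
  rcases min_cases hw hn with h | h | h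
  · exact (classA16 pp_ne_qq h hd' (j0 := gPt 3) (by decide)).trans lA
  · exact hB w hw h hd'
  · exact classC16 pp_ne_qq h hd'

/-! ### inner product `-8` -/

/-- the sign set of the representative of the first odd class -/
def cC0 : Finset GolayPt := setOf 13938692
/-- the sign set of the representative of the second odd class -/
def cC1 : Finset GolayPt := setOf 4182267

theorem cC0_mem : cC0 ∈ supports (golayCode : Set (GolayPt → ZMod 2)) :=
  setOf_mem_supports (by norm_num) (by decide +kernel)

theorem cC1_mem : cC1 ∈ supports (golayCode : Set (GolayPt → ZMod 2)) :=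
  setOf_mem_supports (by norm_num) (by decide +kernel)

set_option maxRecDepth 100000 in
theorem xi_C0_eq : ∀ i : GolayPt,
    xiFun (signedPerm 1 cC0 (oddBase pp)) i = signedPerm 1 cC1 (oddBase (gPt 16)) i := by
  decide +kernel

/-- the representative of shape B -/
def wB8 : IVec := octVec 5210132 65552

set_option maxRecDepth 100000 in
theorem wB8_chk : leechChk wB8 = true := by decide +kernel

theorem wB8_mem : wB8 ∈ leechLattice := mem_of_leechChk wB8_chk

theorem bnorm_wB8 : BNorm pp qq wB8 := by
  refine ⟨setOf 5210132, ?_, octVec_in _ _, octVec_out _ _, by decide +kernel, by decide +kernel,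
    by decide +kernel⟩
  rw [setOf_mem_octads_iff (by norm_num)]
  decide +kernel

set_option maxRecDepth 100000 in
theorem xi_wB8_eq : ∀ i : GolayPt,
    xiFun wB8 i = signedPerm 1 (setOf 7430140) (oddBase (gPt 22)) i := by
  decide +kernel

theorem isC_xi_wB8 : IsC (xiFun wB8) :=
  ⟨gPt 22, setOf 7430140, setOf_mem_supports (by norm_num) (by decide +kernel), funext xi_wB8_eq⟩

set_option maxRecDepth 100000 in
theorem xi_wB8_pq : xiFun wB8 pp - xiFun wB8 qq = -2 := by decide +kernel

theorem four_dvd_of_isA {w : IVec} (h : IsA w) (x : GolayPt) : (4 : ℤ) ∣ w x := by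
  obtain ⟨i, j, s, t, -, hs, ht, rfl⟩ := h
  simp only [Pi.add_apply, Pi.single_apply]
  rcases hs with rfl | rfl <;> rcases ht with rfl | rfl <;> split_ifs <;> norm_num

/-- all minimal vectors of inner product `-8` with the base vector are related to one of them -/
theorem base8 : ∀ w ∈ leechLattice, sqNorm w = 32 → dotInt (vPQ pp qq) w = -8 →
    FRel (vPQ pp qq) w (signedPerm 1 cC1 (oddBase (gPt 16))) := by
  intro w hw hn hd
  rw [dotInt_vPQ] at hd
  have hd' : w pp - w qq = -2 := by omega
  have hv := vPQ_mem pp_ne_qq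
  have hC0mem : signedPerm 1 cC0 (oddBase pp) ∈ leechLattice := oddC_mem cC0_mem
  have hlink : FRel (vPQ pp qq) (signedPerm 1 cC0 (oddBase pp))
      (signedPerm 1 cC1 (oddBase (gPt 16))) := by
    have := frel_xi hv hC0mem xi_vPQ
    rwa [funext xi_C0_eq] at this
  have hC : ∀ u : IVec, IsC u → u pp - u qq = -2 →
      FRel (vPQ pp qq) u (signedPerm 1 cC1 (oddBase (gPt 16))) := fun u hu hdu =>
    classC8 pp_ne_qq hu hdu (k₁ := gPt 16) (C₁ := cC1) (by decide) cC1_mem (by decide +kernel)
      (by decide +kernel) cC0_mem (by decide +kernel) (by decide +kernel) hlink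
  rcases min_cases hw hn with h | h | h
  · exfalso
    have h1 := four_dvd_of_isA h pp
    have h2 := four_dvd_of_isA h qq
    omega
  · exact (classB8 pp_ne_qq hw wB8_mem h hd' bnorm_wB8).trans
      ((frel_xi hv wB8_mem xi_vPQ).trans (hC _ isC_xi_wB8 xi_wB8_pq))
  · exact hC w h hd'

end Cfsg.Agent.Helper26
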