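import Cfsg.Agent.Helper26.R7Cert
import Cfsg.Agent.Helper26.Co2CertA
import Cfsg.Agent.Helper26.Co2CertB
import Cfsg.Agent.Helper26.Co2CertC
import Cfsg.Agent.Helper26.Co2CertD
import Cfsg.Agent.Helper26.Co2CertE
import Cfsg.Agent.Helper26.PairData
import Cfsg.Agent.Helper26.Census48b

/-!
# The joint stabiliser of the base pair `(v0L, w0L)` has orbits of sizes
275, 2025, 7128, 15400, 22275 on the 47104
-/

set_option autoImplicit false

namespace Cfsg.Agent.Helper26

open Cfsg Cfsg.Agent.Helper8 Cfsg.Agent.Helper27 Cfsg.Agent.Helper92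
open scoped Pointwise Function

/-- a family of sets squeezed into a set of the right size -/
theorem squeeze_family {α ι : Type*} [Fintype ι] {T : Set α} {O : ι → Set α} {x : α}
    {d : ι → ℕ} (f : α → ℤ) {c0 : ℤ} {c : ι → ℤ}
    (hT : T.Finite) (hcard : T.ncard = 1 + ∑ i, d i) (hx : x ∈ T)
    (hsub : ∀ i, O i ⊆ T) (f0 : f x = c0) (fO : ∀ i, ∀ z ∈ O i, f z = c i)
    (hc0 : ∀ i, c i ≠ c0) (hc : Function.Injective c)
    (hb : ∀ i, d i ≤ (O i).ncard) :
    (∀ i, (O i).ncard = d i) ∧ T = {x} ∪ ⋃ i, O i := by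
  classical
  have finO : ∀ i, (O i).Finite := fun i => hT.subset (hsub i)
  have hdisj : Pairwise (Disjoint on O) := by
    intro i j hij
    rw [Function.onFun, Set.disjoint_left]
    intro z hzi hzj
    exact hij (hc ((fO i z hzi).symm.trans (fO j z hzj)))
  have hU : (⋃ i, O i).ncard = ∑ i, (O i).ncard := by
    rw [Set.ncard_iUnion_of_finite finO hdisj, finsum_eq_sum_of_fintype]
  have hxU : x ∉ ⋃ i, O i := by
    intro h
    obtain ⟨i, hi⟩ := Set.mem_iUnion.mp h
    exact hc0 i ((fO i x hi).symm.trans f0)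
  have finU : (⋃ i, O i).Finite := Set.finite_iUnion finO
  have hall : ({x} ∪ ⋃ i, O i : Set α).ncard = 1 + ∑ i, (O i).ncard := by
    rw [Set.ncard_union_eq (Set.disjoint_singleton_left.mpr hxU) (Set.finite_singleton x) finU,
      Set.ncard_singleton, hU]
  have hsubU : ({x} ∪ ⋃ i, O i : Set α) ⊆ T := by
    rintro z (rfl | h)
    · exact hx
    · obtain ⟨i, hi⟩ := Set.mem_iUnion.mp h
      exact hsub i hi
  have hle := Set.ncard_le_ncard hsubU hT
  have hsum : ∑ i, d i ≤ ∑ i, (O i).ncard := Finset.sum_le_sum fun i _ => hb i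
  have hsumeq : ∑ i, d i = ∑ i, (O i).ncard := by omega
  refine ⟨fun i => ?_, (Set.eq_of_subset_of_ncard_le hsubU (by omega) hT).symm⟩
  exact ((Finset.sum_eq_sum_iff_of_le fun i _ => hb i).mp hsumeq i (Finset.mem_univ i)).symm

/-! ### the roots of the certificates -/

def c2yA : IVec := decV (getT 96 128 c2chCA c2rA)
def c2yB : IVec := decV (getT 96 128 c2chCB c2rB)
def c2yC : IVec := decV (getT 96 128 c2chCC c2rC)
def c2yD : IVec := decV (getT 96 128 c2chCD c2rD)
def c2yE : IVec := decV (getT 96 128 c2chCE c2rE)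

set_option maxRecDepth 100000 in
theorem c2yA_chk : leechChk c2yA = true := by decide +kernel

set_option maxRecDepth 100000 in
theorem c2yB_chk : leechChk c2yB = true := by decide +kernel

set_option maxRecDepth 100000 in
theorem c2yC_chk : leechChk c2yC = true := by decide +kernel

set_option maxRecDepth 100000 in
theorem c2yD_chk : leechChk c2yD = true := by decide +kernel

set_option maxRecDepth 100000 in
theorem c2yE_chk : leechChk c2yE = true := by decide +kernel

set_option maxRecDepth 100000 in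
theorem c2yA_facts : sqNorm c2yA = 32 ∧ dotInt vA0 c2yA = -8 ∧ dotInt wB0 c2yA = -16 := by
  decide +kernel

set_option maxRecDepth 100000 in
theorem c2yB_facts : sqNorm c2yB = 32 ∧ dotInt vA0 c2yB = -8 ∧ dotInt wB0 c2yB = 16 := by
  decide +kernel

set_option maxRecDepth 100000 in
theorem c2yC_facts : sqNorm c2yC = 32 ∧ dotInt vA0 c2yC = -8 ∧ dotInt wB0 c2yC = -8 := by
  decide +kernel

set_option maxRecDepth 100000 in
theorem c2yD_facts : sqNorm c2yD = 32 ∧ dotInt vA0 c2yD = -8 ∧ dotInt wB0 c2yD = 8 := by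
  decide +kernel

set_option maxRecDepth 100000 in
theorem c2yE_facts : sqNorm c2yE = 32 ∧ dotInt vA0 c2yE = -8 ∧ dotInt wB0 c2yE = 0 := by
  decide +kernel

set_option maxRecDepth 100000 in
theorem c2_base_facts : sqNorm vA0 = 32 ∧ sqNorm wB0 = 32 ∧ dotInt vA0 wB0 = -8 := by
  decide +kernel

/-- the roots of the five suborbits at the base pair -/
def c2Y : Fin 5 → ↥leechLattice :=
  ![⟨c2yA, mem_of_leechChk c2yA_chk⟩, ⟨c2yB, mem_of_leechChk c2yB_chk⟩,
    ⟨c2yC, mem_of_leechChk c2yC_chk⟩, ⟨c2yD, mem_of_leechChk c2yD_chk⟩,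
    ⟨c2yE, mem_of_leechChk c2yE_chk⟩]

/-- the subdegrees -/
def c2deg : Fin 5 → ℕ := ![275, 2025, 7128, 15400, 22275]

/-- the inner products with the base point on the suborbits -/
def c2dot : Fin 5 → ℤ := ![-16, 16, -8, 8, 0]

theorem c2Y_facts (i : Fin 5) : sqNorm (c2Y i : IVec) = 32 ∧ dotInt vA0 (c2Y i : IVec) = -8 ∧
    dotInt wB0 (c2Y i : IVec) = c2dot i := by
  fin_cases i
  · exact c2yA_facts
  · exact c2yB_facts
  · exact c2yC_facts
  · exact c2yD_facts
  · exact c2yE_facts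

/-- every minimal vector has inner product `-8` with exactly 47104 minimal vectors -/
theorem ncard_shellDot_min8 (v : ↥leechLattice) (hv : sqNorm (v : IVec) = 32) :
    (shellDot 32 (-8) v).ncard = 47104 := by
  rw [← censusNum_neg2, ← census_min32 (v : IVec) v.2 hv (-8) (-2) (by norm_num),
    ← Set.ncard_image_of_injective _ Subtype.val_injective]
  congr 1
  ext w
  unfold shellDot
  simp only [Set.mem_image, Set.mem_ofPred_eq]
  constructor
  · rintro ⟨w', ⟨h2, h3⟩, rfl⟩
    exact ⟨w'.2, h2, h3⟩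
  · rintro ⟨h1, h2, h3⟩
    exact ⟨⟨w, h1⟩, ⟨h2, h3⟩, rfl⟩

theorem orbSet_sub2 {y : ↥leechLattice} (hy : sqNorm (y : IVec) = 32)
    (hd : dotInt vA0 (y : IVec) = -8) : orbSet v0L w0L y ⊆ shellDot 32 (-8) v0L := by
  intro z hz
  obtain ⟨-, h2, h3⟩ := orbSet_dot hz
  exact ⟨h3.trans hy, h2.trans hd⟩

theorem c2deg_sum : 1 + ∑ i, c2deg i = 47104 := by decide

theorem c2dot_inj : Function.Injective c2dot := by decide

theorem c2dot_ne : ∀ i, c2dot i ≠ 32 := by decide

/-- the base case -/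
theorem c2_base : (∀ i, (orbSet v0L w0L (c2Y i)).ncard = c2deg i) ∧
    shellDot 32 (-8) v0L = {w0L} ∪ ⋃ i, orbSet v0L w0L (c2Y i) := by
  have hcard := ncard_shellDot_min8 v0L c2_base_facts.1
  have hT : (shellDot 32 (-8) v0L).Finite :=
    Set.finite_of_ncard_ne_zero (by rw [hcard]; norm_num)
  have hsub : ∀ i, orbSet v0L w0L (c2Y i) ⊆ shellDot 32 (-8) v0L := fun i =>
    orbSet_sub2 (c2Y_facts i).1 (c2Y_facts i).2.1
  refine squeeze_family (fun z : ↥leechLattice => dotInt wB0 (z : IVec)) (c0 := 32) (c := c2dot)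
    hT (by rw [hcard, c2deg_sum]) ⟨c2_base_facts.2.1, c2_base_facts.2.2⟩ hsub ?_ ?_ c2dot_ne
    c2dot_inj ?_
  · show dotInt wB0 wB0 = 32
    rw [dotInt_self, c2_base_facts.2.1]
  · intro i z hz
    exact (orbSet_dot hz).1.trans (c2Y_facts i).2.2
  · intro i
    have hfin := hT.subset (hsub i)
    fin_cases i
    · exact cert_ncardT c2_htab c2_hgen c2certA rfl hfin
    · exact cert_ncardT c2_htab c2_hgen c2certB rfl hfin
    · exact cert_ncardT c2_htab c2_hgen c2certC rfl hfin
    · exact cert_ncardT c2_htab c2_hgen c2certD rfl hfin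
    · exact cert_ncardT c2_htab c2_hgen c2certE rfl hfin

/-- every pair of minimal vectors with inner product `-8` is conjugate to the base pair -/
theorem exists_to_base2 (v w : ↥leechLattice) (hv : sqNorm (v : IVec) = 32)
    (hw : w ∈ shellDot 32 (-8) v) : ∃ g : ↥Co0, g • v0L = v ∧ g • w0L = w := by
  obtain ⟨g₀, hg₀⟩ := co0_transitive_min32 v0L v c2_base_facts.1 hv
  have hw' : g₀⁻¹ • w ∈ shellDot 32 (-8) v0L := by
    refine ⟨(co0_sqNorm _ _).trans hw.1, ?_⟩
    rw [← co0_dotInt g₀, hg₀, smul_inv_smul]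
    exact hw.2
  obtain ⟨h, hh1, hh2⟩ := trans_of_base (vPQ_mem pp_ne_qq) (sqNorm_vPQ pp_ne_qq) (-8) base8
    v0L w0L (g₀⁻¹ • w) c2_base_facts.1 c2_base_facts.2.1 hw'.1 c2_base_facts.2.2 hw'.2
  exact ⟨g₀ * h, by rw [mul_smul, hh1, hg₀], by rw [mul_smul, hh2, smul_inv_smul]⟩

/-- the general case, indexed -/
theorem c2_main (v w : ↥leechLattice) (hv : sqNorm (v : IVec) = 32)
    (hw : w ∈ shellDot 32 (-8) v) :
    ∃ y : Fin 5 → ↥leechLattice, (∀ i, y i ∈ shellDot 32 (-8) v) ∧
      (∀ i, (orbSet v w (y i)).ncard = c2deg i) ∧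
      (∀ i, dotInt (w : IVec) (y i : IVec) = c2dot i) ∧
      shellDot 32 (-8) v = {w} ∪ ⋃ i, orbSet v w (y i) := by
  obtain ⟨g, hgv, hgw⟩ := exists_to_base2 v w hv hw
  have hinj : Function.Injective fun z : ↥leechLattice => g • z := MulAction.injective g
  have hsh : shellDot 32 (-8) v =
      (fun z : ↥leechLattice => g • z) '' shellDot 32 (-8) v0L := by
    rw [← shellDot_smul, hgv]
  have horb : ∀ y : ↥leechLattice, orbSet v w (g • y) =
      (fun z : ↥leechLattice => g • z) '' orbSet v0L w0L y := by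
    intro y
    rw [← orbSet_smul, hgv, hgw]
  refine ⟨fun i => g • c2Y i, ?_, ?_, ?_, ?_⟩
  · intro i
    rw [hsh]
    exact Set.mem_image_of_mem _ ⟨(c2Y_facts i).1, (c2Y_facts i).2.1⟩
  · intro i
    rw [horb, Set.ncard_image_of_injective _ hinj, c2_base.1 i]
  · intro i
    rw [← hgw, co0_dotInt]
    exact (c2Y_facts i).2.2
  · rw [hsh, c2_base.2, Set.image_union, Set.image_singleton, hgw, Set.image_iUnion]
    congr 1
    apply Set.iUnion_congr
    intro i
    rw [horb]

end Cfsg.Agent.Helper26
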