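import Cfsg.Agent.Helper26.Co3Base

/-!
# The stabiliser of the vector `(5, 1, …, 1)`: the classes of shape B
-/

set_option autoImplicit false

namespace Cfsg.Agent.Helper26

open Cfsg Cfsg.Agent.Helper8
open scoped Pointwise

variable {k : GolayPt}

/-- an element of `M24` mapping an octad with a point on it and a point off it to another -/
theorem exists_map_octad_pt {O O' : Finset GolayPt} (hO : O ∈ octads) (hO' : O' ∈ octads)
    {j j' : GolayPt} (hj : j ∈ O) (hj' : j' ∈ O') {q q' : GolayPt} (hq : q ∉ O) (hq' : q' ∉ O') :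
    ∃ σ ∈ M24, σ j = j' ∧ σ q = q' ∧ σ • O = O' := by
  classical
  obtain ⟨l, hl4, hnd, hlO⟩ := exists_list_in_octad hO hj
  obtain ⟨l', hl4', hnd', hlO'⟩ := exists_list_in_octad hO' hj'
  have hno : ∀ {U : Finset GolayPt} {m : List GolayPt} {z : GolayPt}, U ∈ octads → m.Nodup →
      m.length = 5 → (∀ x ∈ m, x ∈ U) → z ∉ U →
      ¬ ∃ o ∈ octads, (∀ x ∈ m, x ∈ o) ∧ z ∈ o := by
    rintro U m z hU hm h5 hmU hzU ⟨o, ho, hmo, hzo⟩
    rw [octad_eq_of_list hU ho hm h5 hmU hmo] at hzo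
    exact hzU hzo
  obtain ⟨σ, hσ, hmap, hσq⟩ := exists_map_six (j :: l) (j' :: l') hnd hnd'
    (by rw [List.length_cons, hl4]) (by rw [List.length_cons, hl4'])
    q q' (fun h => hq (hlO q h)) (fun h => hq' (hlO' q' h))
    (iff_of_false (hno hO hnd (by rw [List.length_cons, hl4]) hlO hq)
      (hno hO' hnd' (by rw [List.length_cons, hl4']) hlO' hq'))
  have hσj : σ j = j' := by
    rw [List.map_cons, List.cons.injEq] at hmap
    exact hmap.1
  refine ⟨σ, hσ, hσj, hσq, ?_⟩
  refine octad_eq_of_list hO' (Helper7.smul_mem_octads hσ hO) hnd'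
    (by rw [List.length_cons, hl4']) hlO' ?_
  intro x hx
  rw [← hmap, List.mem_map] at hx
  obtain ⟨y, hy, rfl⟩ := hx
  exact Finset.smul_mem_smul_finset (hlO y hy)

/-- two vectors supported on octads and related by a coordinate permutation fixing `k` -/
theorem co3_frel_B (hu : fiveVec k ∈ leechLattice) {x x' : IVec} (hx : x ∈ leechLattice)
    {O O' : Finset GolayPt} (h0 : ∀ i ∉ O, x i = 0) (h0' : ∀ i ∉ O', x' i = 0)
    {σ : Equiv.Perm GolayPt} (hσ : σ ∈ M24) (hk : σ k = k) (hσO : σ • O = O')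
    (hval : ∀ i ∈ O, x' (σ i) = x i) : FRel (fiveVec k) x x' := by
  have r := frel_m23 hu hx hσ hk
  have e : signedPerm σ ∅ x = x' := by
    ext i
    rw [signedPerm_empty_apply]
    by_cases hi : σ.symm i ∈ O
    · have := hval _ hi
      rw [Equiv.apply_symm_apply] at this
      exact this.symm
    · rw [h0 _ hi, h0' i (fun h => hi ((mem_smul_iff_symm σ O i).mp (hσO ▸ h)))]
  rwa [e] at r

theorem sum_eq_sum_octad {x : IVec} {O : Finset GolayPt} (h0 : ∀ i ∉ O, x i = 0) :
    ∑ i, x i = ∑ i ∈ O, x i :=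
  (Finset.sum_subset (Finset.subset_univ O) (fun i _ hi => h0 i hi)).symm

/-- shape B, the octad not through `k` -/
theorem co3_classB0 (hu : fiveVec k ∈ leechLattice) {x x' : IVec} (hx : x ∈ leechLattice)
    (hB : IsB x) (hB' : IsB x') (hk : x k = 0) (hk' : x' k = 0)
    (hd : dotInt (fiveVec k) x = -16) (hd' : dotInt (fiveVec k) x' = -16) :
    FRel (fiveVec k) x x' := by
  classical
  have key : ∀ {y : IVec} {U : Finset GolayPt}, U ∈ octads → (∀ i ∈ U, y i = 2 ∨ y i = -2) →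
      (∀ i ∉ U, y i = 0) → y k = 0 → dotInt (fiveVec k) y = -16 →
      k ∉ U ∧ ∀ i ∈ U, y i = -2 := by
    intro y U hU g1 g0 gk gd
    have hkU : k ∉ U := by
      intro h
      rcases g1 k h with h' | h' <;> omega
    refine ⟨hkU, ?_⟩
    rw [dotInt_fiveVec, sum_eq_sum_octad g0, gk] at gd
    have hs : ∑ i ∈ U, (y i + 2) = 0 := by
      rw [Finset.sum_add_distrib, Finset.sum_const, hU.2]
      simp only [nsmul_eq_mul, Nat.cast_ofNat]
      omega
    have hnn : ∀ i ∈ U, 0 ≤ y i + 2 := by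
      intro i hi
      rcases g1 i hi with h' | h' <;> omega
    intro i hi
    have := (Finset.sum_eq_zero_iff_of_nonneg hnn).mp hs i hi
    omega
  obtain ⟨O, hO, h1, h0⟩ := hB
  obtain ⟨O', hO', h1', h0'⟩ := hB'
  obtain ⟨hkO, hv⟩ := key hO h1 h0 hk hd
  obtain ⟨hkO', hv'⟩ := key hO' h1' h0' hk' hd'
  have hne : O.Nonempty := by
    rw [← Finset.card_pos, hO.2]; norm_num
  have hne' : O'.Nonempty := by
    rw [← Finset.card_pos, hO'.2]; norm_num
  obtain ⟨j, hj⟩ := hne
  obtain ⟨j', hj'⟩ := hne'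
  obtain ⟨σ, hσ, -, hσk, hσO⟩ := exists_map_octad_pt hO hO' hj hj' hkO hkO'
  refine co3_frel_B hu hx h0 h0' hσ hσk hσO fun i hi => ?_
  rw [hv i hi, hv' (σ i) (by rw [← hσO]; exact Finset.smul_mem_smul_finset hi)]

/-- the normal form of the vectors of shape B with the octad through `k` -/
theorem co3_B1_form {x : IVec} (hB : IsB x) (hk : x k ≠ 0)
    (hd : dotInt (fiveVec k) x = -16) :
    ∃ O ∈ octads, (∀ i ∉ O, x i = 0) ∧ k ∈ O ∧ ∃ a b : GolayPt, a ≠ b ∧ a ∈ O ∧ b ∈ O ∧
      a ≠ k ∧ b ≠ k ∧ ∀ i ∈ O, x i = if i = a ∨ i = b then 2 else -2 := by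
  classical
  obtain ⟨O, hO, h1, h0⟩ := hB
  have hkO : k ∈ O := by
    by_contra h
    exact hk (h0 k h)
  refine ⟨O, hO, h0, hkO, ?_⟩
  rw [dotInt_fiveVec, sum_eq_sum_octad h0] at hd
  have hterm : ∀ i ∈ O, x i = (if x i = 2 then 4 else 0) + (-2 : ℤ) := by
    intro i hi
    rcases h1 i hi with h' | h' <;> rw [h'] <;> norm_num
  have hsum : ∑ i ∈ O, x i = 4 * ((O.filter fun i => x i = 2).card : ℤ) - 16 := by
    rw [Finset.sum_congr rfl hterm, Finset.sum_add_distrib, Finset.sum_const, hO.2,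
      ← Finset.sum_filter, Finset.sum_const]
    simp only [nsmul_eq_mul, Nat.cast_ofNat]
    ring
  rw [hsum] at hd
  have hxk : x k = -2 := by
    rcases h1 k hkO with h' | h'
    · exfalso
      have : (0 : ℤ) ≤ ((O.filter fun i => x i = 2).card : ℤ) := Int.natCast_nonneg _
      omega
    · exact h'
  have hcard : (O.filter fun i => x i = 2).card = 2 := by
    have : ((O.filter fun i => x i = 2).card : ℤ) = 2 := by omega
    exact_mod_cast this
  obtain ⟨a, b, hab, hP⟩ := Finset.card_eq_two.mp hcard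
  have hmem : ∀ i, (i ∈ O ∧ x i = 2) ↔ (i = a ∨ i = b) := by
    intro i
    have := Finset.ext_iff.mp hP i
    rw [Finset.mem_filter, Finset.mem_insert, Finset.mem_singleton] at this
    exact this
  have ha := (hmem a).mpr (Or.inl rfl)
  have hb := (hmem b).mpr (Or.inr rfl)
  refine ⟨a, b, hab, ha.1, hb.1, ?_, ?_, ?_⟩
  · rintro rfl
    rw [hxk] at ha
    omega
  · rintro rfl
    rw [hxk] at hb
    omega
  · intro i hi
    by_cases h : i = a ∨ i = b
    · rw [if_pos h]
      exact ((hmem i).mpr h).2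
    · rw [if_neg h]
      rcases h1 i hi with h' | h'
      · exact absurd ((hmem i).mp ⟨hi, h'⟩) h
      · exact h'

/-- two further points of an octad -/
theorem exists_two_more {O : Finset GolayPt} (hO : O ∈ octads) {p a b : GolayPt} (hp : p ∈ O)
    (ha : a ∈ O) (hb : b ∈ O) (hap : a ≠ p) (hbp : b ≠ p) (hab : a ≠ b) :
    ∃ c d : GolayPt, c ∈ O ∧ d ∈ O ∧ [p, a, b, c, d].Nodup := by
  classical
  have h5 : 2 ≤ (((O.erase p).erase a).erase b).card := by
    rw [Finset.card_erase_of_mem (Finset.mem_erase.2 ⟨Ne.symm hab, Finset.mem_erase.2 ⟨hbp, hb⟩⟩),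
      Finset.card_erase_of_mem (Finset.mem_erase.2 ⟨hap, ha⟩), Finset.card_erase_of_mem hp, hO.2]
    norm_num
  obtain ⟨t, ht, ht2⟩ := Finset.exists_subset_card_eq h5
  obtain ⟨c, d, hcd, rfl⟩ := Finset.card_eq_two.1 ht2
  have hc := ht (by simp : c ∈ ({c, d} : Finset GolayPt))
  have hd := ht (by simp : d ∈ ({c, d} : Finset GolayPt))
  simp only [Finset.mem_erase] at hc hd
  refine ⟨c, d, hc.2.2.2, hd.2.2.2, ?_⟩
  simp only [List.nodup_cons, List.mem_cons, List.not_mem_nil, or_false, not_or,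
    List.nodup_nil, and_true, not_false_eq_true]
  exact ⟨⟨Ne.symm hap, Ne.symm hbp, Ne.symm hc.2.2.1, Ne.symm hd.2.2.1⟩,
    ⟨hab, Ne.symm hc.2.1, Ne.symm hd.2.1⟩, ⟨Ne.symm hc.1, Ne.symm hd.1⟩, hcd⟩

/-- shape B, the octad through `k` -/
theorem co3_classB1 (hu : fiveVec k ∈ leechLattice) {x x' : IVec} (hx : x ∈ leechLattice)
    (hB : IsB x) (hB' : IsB x') (hk : x k ≠ 0) (hk' : x' k ≠ 0)
    (hd : dotInt (fiveVec k) x = -16) (hd' : dotInt (fiveVec k) x' = -16) :
    FRel (fiveVec k) x x' := by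
  classical
  obtain ⟨O, hO, h0, hkO, a, b, hab, haO, hbO, hak, hbk, hv⟩ := co3_B1_form hB hk hd
  obtain ⟨O', hO', h0', hkO', a', b', hab', haO', hbO', hak', hbk', hv'⟩ :=
    co3_B1_form hB' hk' hd'
  obtain ⟨c, d, hc, hd₂, hnd⟩ := exists_two_more hO hkO haO hbO hak hbk hab
  obtain ⟨c', d', hc', hd₂', hnd'⟩ := exists_two_more hO' hkO' haO' hbO' hak' hbk' hab'
  obtain ⟨σ, hσ, hmap⟩ := exists_map_list _ _ hnd hnd' rfl (by norm_num)
  simp only [List.map_cons, List.map_nil, List.cons.injEq, and_true] at hmap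
  obtain ⟨e1, e2, e3, e4, e5⟩ := hmap
  have hσO : σ • O = O' := by
    refine octad_eq_of_list hO' (Helper7.smul_mem_octads hσ hO) hnd' rfl ?_ ?_
    · intro y hy
      simp only [List.mem_cons, List.not_mem_nil, or_false] at hy
      rcases hy with rfl | rfl | rfl | rfl | rfl
      exacts [hkO', haO', hbO', hc', hd₂']
    · intro y hy
      simp only [List.mem_cons, List.not_mem_nil, or_false] at hy
      rcases hy with rfl | rfl | rfl | rfl | rfl
      · rw [← e1]; exact Finset.smul_mem_smul_finset hkO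
      · rw [← e2]; exact Finset.smul_mem_smul_finset haO
      · rw [← e3]; exact Finset.smul_mem_smul_finset hbO
      · rw [← e4]; exact Finset.smul_mem_smul_finset hc
      · rw [← e5]; exact Finset.smul_mem_smul_finset hd₂
  refine co3_frel_B hu hx h0 h0' hσ e1 hσO fun i hi => ?_
  have hi' : σ i ∈ O' := by rw [← hσO]; exact Finset.smul_mem_smul_finset hi
  rw [hv i hi, hv' (σ i) hi']
  have h1 : σ i = a' ↔ i = a := by rw [← e2]; exact σ.injective.eq_iff
  have h2 : σ i = b' ↔ i = b := by rw [← e3]; exact σ.injective.eq_iff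
  simp only [h1, h2]

end Cfsg.Agent.Helper26
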