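import Cfsg.Agent.Helper26.PairData
import Cfsg.Agent.Helper26.Census48b
import Cfsg.Agent.Helper7.DodecadPoint

/-!
# The stabiliser of the vector `(5, 1, …, 1)`: general lemmas and the classes of shape A and B
-/

set_option autoImplicit false

namespace Cfsg.Agent.Helper26

open Cfsg Cfsg.Agent.Helper8
open scoped Pointwise

/-- conjugates by `xi` of signed coordinate permutations -/
theorem frel_xmx {v w : IVec} (hv : v ∈ leechLattice) (hw : w ∈ leechLattice)
    {σ : Equiv.Perm GolayPt} (hσ : σ ∈ M24) {D : Finset GolayPt}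
    (hD : D ∈ supports (golayCode : Set (GolayPt → ZMod 2)))
    (hfix : xiFun (signedPerm σ D (xiFun v)) = v) :
    FRel v w (xiFun (signedPerm σ D (xiFun w))) :=
  ⟨hv, hw, xiCo0 * monoCo0 hσ hD * xiCo0, Subtype.ext (by
    rw [mul_smul, mul_smul]
    exact hfix), by
    rw [mul_smul, mul_smul]
    rfl⟩

/-- transport of a transitivity statement from a base vector of any norm -/
theorem trans_of_base' {N : ℤ}
    (htr : ∀ a b : ↥leechLattice, sqNorm (a : IVec) = N → sqNorm (b : IVec) = N →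
      ∃ g : ↥Co0, g • a = b)
    {v₁ w₀ : IVec} (hv₁ : v₁ ∈ leechLattice) (hn₁ : sqNorm v₁ = N) (c : ℤ)
    (hbase : ∀ w ∈ leechLattice, sqNorm w = 32 → dotInt v₁ w = c → FRel v₁ w w₀)
    (v w w' : ↥leechLattice) (hv : sqNorm (v : IVec) = N) (hw : sqNorm (w : IVec) = 32)
    (hw' : sqNorm (w' : IVec) = 32) (hd : dotInt (v : IVec) (w : IVec) = c)
    (hd' : dotInt (v : IVec) (w' : IVec) = c) : ∃ g : ↥Co0, g • v = v ∧ g • w = w' := by
  obtain ⟨g₀, hg₀⟩ := htr v ⟨v₁, hv₁⟩ hv hn₁
  have e1 : ((g₀ • v : ↥leechLattice) : IVec) = v₁ := congrArg Subtype.val hg₀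
  have r1 := hbase _ (g₀ • w).2 (by rw [co0_sqNorm, hw]) (by rw [← e1, co0_dotInt, hd])
  have r2 := hbase _ (g₀ • w').2 (by rw [co0_sqNorm, hw']) (by rw [← e1, co0_dotInt, hd'])
  obtain ⟨h, hh1, hh2⟩ := exists_smul_of_frel (v := ⟨v₁, hv₁⟩) (w := g₀ • w) (w' := g₀ • w')
    (r1.trans r2.symm)
  refine ⟨g₀⁻¹ * h * g₀, ?_, ?_⟩
  · rw [mul_smul, mul_smul, hg₀, hh1, inv_smul_eq_iff, hg₀]
  · rw [mul_smul, mul_smul, hh2, inv_smul_smul]

variable {k : GolayPt}

theorem fiveVec_apply (k i : GolayPt) : fiveVec k i = if i = k then 5 else 1 := rfl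

/-- coordinate permutations fixing `k` fix the vector `(5, 1, …, 1)` -/
theorem signedPerm_fiveVec {σ : Equiv.Perm GolayPt} (hk : σ k = k) :
    signedPerm σ ∅ (fiveVec k) = fiveVec k := by
  ext i
  rw [signedPerm_empty_apply, fiveVec_apply, fiveVec_apply]
  have : σ.symm i = k ↔ i = k := by rw [Equiv.symm_apply_eq, hk]
  by_cases h : i = k
  · rw [if_pos h, if_pos (this.mpr h)]
  · rw [if_neg h, if_neg (fun h' => h (this.mp h'))]

theorem frel_m23 (hu : fiveVec k ∈ leechLattice) {x : IVec} (hx : x ∈ leechLattice)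
    {σ : Equiv.Perm GolayPt} (hσ : σ ∈ M24) (hk : σ k = k) :
    FRel (fiveVec k) x (signedPerm σ ∅ x) :=
  frel_mono hu hx hσ Cfsg.Agent.S0390.empty_mem_supports (signedPerm_fiveVec hk)

/-- the inner product with `(5, 1, …, 1)` -/
theorem dotInt_fiveVec (k : GolayPt) (x : IVec) :
    dotInt (fiveVec k) x = (∑ i, x i) + 4 * x k := by
  unfold dotInt
  have h : ∀ i, fiveVec k i * x i = x i + (if i = k then 4 * x k else 0) := by
    intro i
    rw [fiveVec_apply]
    by_cases hi : i = k
    · rw [if_pos hi, if_pos hi, hi]; ring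
    · rw [if_neg hi, if_neg hi]; ring
  rw [Finset.sum_congr rfl (fun i _ => h i), Finset.sum_add_distrib,
    Finset.sum_ite_eq' Finset.univ k, if_pos (Finset.mem_univ _)]

/-! ### shape A -/

theorem sum_single (i : GolayPt) (s : ℤ) : ∑ j, (Pi.single i s : IVec) j = s := by
  rw [Finset.sum_eq_single i]
  · rw [Pi.single_eq_same]
  · intro j _ hj
    rw [Pi.single_eq_of_ne hj]
  · intro h
    exact absurd (Finset.mem_univ i) h

/-- shape A -/
theorem co3_classA (hu : fiveVec k ∈ leechLattice) {x : IVec} (hA : IsA x)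
    (hd : dotInt (fiveVec k) x = -16) {j0 : GolayPt} (hj0 : j0 ≠ k) :
    FRel (fiveVec k) x (Pi.single k (-4) + Pi.single j0 4) := by
  classical
  have form : ∀ j : GolayPt, j ≠ k →
      FRel (fiveVec k) (Pi.single k (-4) + Pi.single j 4) (Pi.single k (-4) + Pi.single j0 4) := by
    intro j hj
    have hmem : (Pi.single k (-4) + Pi.single j 4 : IVec) ∈ leechLattice :=
      (vrelA ⟨k, j, -4, 4, Ne.symm hj, Or.inr rfl, Or.inl rfl, rfl⟩).mem_right
    obtain ⟨σ, hσ, hmap⟩ := exists_map_list [k, j] [k, j0] (by simp [Ne.symm hj])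
      (by simp [Ne.symm hj0]) rfl (by norm_num)
    simp only [List.map_cons, List.map_nil, List.cons.injEq, and_true] at hmap
    have r1 := frel_m23 hu hmem hσ hmap.1
    rwa [signedPerm_add, signedPerm_empty_single, signedPerm_empty_single, hmap.1, hmap.2] at r1
  obtain ⟨i, j, s, t, hij, hs, ht, rfl⟩ := hA
  rw [dotInt_fiveVec] at hd
  have hsum : ∑ a, (Pi.single i s + Pi.single j t : IVec) a = s + t := by
    simp only [Pi.add_apply]
    rw [Finset.sum_add_distrib, sum_single, sum_single]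
  have hk : (Pi.single i s + Pi.single j t : IVec) k =
      (if k = i then s else 0) + (if k = j then t else 0) := by
    simp only [Pi.add_apply, Pi.single_apply]
  rw [hsum, hk] at hd
  by_cases hi : k = i
  · have hj : k ≠ j := fun h => hij (hi.symm.trans h)
    rw [if_pos hi, if_neg hj] at hd
    have hs4 : s = -4 := by rcases hs with rfl | rfl <;> rcases ht with rfl | rfl <;> omega
    have ht4 : t = 4 := by rcases hs with rfl | rfl <;> rcases ht with rfl | rfl <;> omega
    rw [hs4, ht4, ← hi]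
    exact form j (Ne.symm hj)
  · by_cases hj : k = j
    · rw [if_neg hi, if_pos hj] at hd
      have hs4 : s = 4 := by rcases hs with rfl | rfl <;> rcases ht with rfl | rfl <;> omega
      have ht4 : t = -4 := by rcases hs with rfl | rfl <;> rcases ht with rfl | rfl <;> omega
      rw [hs4, ht4, ← hj, add_comm]
      exact form i (Ne.symm hi)
    · exfalso
      rw [if_neg hi, if_neg hj] at hd
      rcases hs with rfl | rfl <;> rcases ht with rfl | rfl <;> omega

end Cfsg.Agent.Helper26
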