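import Mathlib

/-!
# A maximality criterion for point stabilisers from suborbit sizes

`isCoatom_stabilizer_of_classes`: if the orbit of `x` under a finite group `G` is cut by a class
function `c` into classes on each of which the stabiliser of `x` is transitive, the class of `x` is
`{x}`, and no partial sum of class sizes through the class of `x` other than the trivial ones
divides the orbit length, then the stabiliser of `x` is a maximal subgroup.
-/

namespace Cfsg.Agent.Helper26

open MulAction

theorem stabilizer_subgroup_eq_subgroupOf {G α : Type*} [Group G] [MulAction G α]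
    (K : Subgroup G) (x : α) : stabilizer K x = (stabilizer G x).subgroupOf K := by
  ext k
  simp [Subgroup.mem_subgroupOf, mem_stabilizer_iff, Subgroup.smul_def]

theorem ncard_orbit_subgroup_dvd {G α : Type*} [Group G] [MulAction G α]
    (K : Subgroup G) (x : α) (hK : stabilizer G x ≤ K) :
    (orbit K x).ncard ∣ (orbit G x).ncard := by
  rw [← index_stabilizer, ← index_stabilizer, stabilizer_subgroup_eq_subgroupOf,
    ← Subgroup.relIndex_mul_index hK]
  exact Dvd.intro _ rfl

theorem ncard_eq_sum_classes {α : Type*} (U : Set α) (hU : U.Finite) (c : α → ℕ) (J : Finset ℕ)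
    (hJ : ∀ y ∈ U, c y ∈ J) :
    U.ncard = ∑ i ∈ J, {y | y ∈ U ∧ c y = i}.ncard := by
  classical
  rw [Set.ncard_eq_toFinset_card U hU,
    Finset.card_eq_sum_card_fiberwise (f := c) (t := J) (by
      intro y hy
      exact hJ y (by simpa using hy))]
  refine Finset.sum_congr rfl fun i _ => ?_
  have hfin : {y | y ∈ U ∧ c y = i}.Finite := hU.subset fun y hy => hy.1
  rw [Set.ncard_eq_toFinset_card _ hfin]
  congr 1
  ext y
  simp

theorem isCoatom_stabilizer_of_classes {G α : Type*} [Group G] [Finite G] [MulAction G α]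
    (x : α) (c : α → ℕ) (n : ℕ → ℕ) (I : Finset ℕ)
    (hne : ∃ y ∈ orbit G x, y ≠ x)
    (hx : ∀ y ∈ orbit G x, c y = c x → y = x)
    (htrans : ∀ y ∈ orbit G x, ∀ y' ∈ orbit G x, c y = c y' →
      ∃ h ∈ stabilizer G x, h • y = y')
    (hcount : ∀ i ∈ I, {y | y ∈ orbit G x ∧ c y = i}.ncard = n i)
    (hcls : ∀ y ∈ orbit G x, c y ∈ I)
    (harith : ∀ J ⊆ I, c x ∈ J → (∑ i ∈ J, n i) ∣ (∑ i ∈ I, n i) → J = {c x} ∨ J = I) :
    IsCoatom (stabilizer G x) := by
  classical
  refine ⟨?_, ?_⟩
  · intro htop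
    obtain ⟨y, ⟨g, rfl⟩, hy⟩ := hne
    apply hy
    have : g ∈ stabilizer G x := by rw [htop]; trivial
    exact this
  · intro K hHK
    have hle : stabilizer G x ≤ K := hHK.le
    set U : Set α := orbit K x with hUdef
    have hUsub : U ⊆ orbit G x := by
      rintro y ⟨k, rfl⟩
      exact ⟨(k : G), rfl⟩
    have hfinG : (orbit G x).Finite := Set.finite_range _
    have hUfin : U.Finite := hfinG.subset hUsub
    have hxU : x ∈ U := mem_orbit_self x
    let J : Finset ℕ := I.filter fun i => ∃ y ∈ U, c y = i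
    have hJI : J ⊆ I := Finset.filter_subset _ _
    have hmemJ : ∀ y ∈ U, c y ∈ J := fun y hy =>
      Finset.mem_filter.2 ⟨hcls y (hUsub hy), y, hy, rfl⟩
    have hcxJ : c x ∈ J := hmemJ x hxU
    -- `U` is a union of classes
    have hUcls : ∀ y ∈ orbit G x, c y ∈ J → y ∈ U := by
      intro y hy hcy
      obtain ⟨-, y', hy', hc⟩ := Finset.mem_filter.1 hcy
      obtain ⟨h, hh, rfl⟩ := htrans y' (hUsub hy') y hy hc
      obtain ⟨k, rfl⟩ := hy'
      refine ⟨⟨h, hle hh⟩ * k, ?_⟩
      simp [mul_smul, Subgroup.smul_def]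
    have hUcard : U.ncard = ∑ i ∈ J, n i := by
      rw [ncard_eq_sum_classes U hUfin c J hmemJ]
      refine Finset.sum_congr rfl fun i hi => ?_
      rw [← hcount i (hJI hi)]
      congr 1
      ext y
      constructor
      · rintro ⟨hy, hcy⟩
        exact ⟨hUsub hy, hcy⟩
      · rintro ⟨hy, hcy⟩
        exact ⟨hUcls y hy (hcy ▸ hi), hcy⟩
    have hGcard : (orbit G x).ncard = ∑ i ∈ I, n i := by
      rw [ncard_eq_sum_classes (orbit G x) hfinG c I hcls]
      exact Finset.sum_congr rfl fun i hi => hcount i hi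
    have hdvd : (∑ i ∈ J, n i) ∣ (∑ i ∈ I, n i) := by
      rw [← hUcard, ← hGcard]
      exact ncard_orbit_subgroup_dvd K x hle
    rcases harith J hJI hcxJ hdvd with hJ | hJ
    · -- `U = {x}`, so `K ≤ stabilizer`
      exfalso
      apply hHK.not_ge
      intro k hk
      have hkU : (k : G) • x ∈ U := ⟨⟨k, hk⟩, rfl⟩
      have h1 : c ((k : G) • x) ∈ J := hmemJ _ hkU
      rw [hJ, Finset.mem_singleton] at h1
      exact hx _ (hUsub hkU) h1
    · -- `U` is the whole orbit, so `K = ⊤`
      rw [eq_top_iff]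
      intro g _
      have hg : g • x ∈ U := hUcls _ ⟨g, rfl⟩ (hJ ▸ hcls _ ⟨g, rfl⟩)
      obtain ⟨k, hk⟩ := hg
      have hk' : (k : G) • x = g • x := hk
      have hmem : (k : G)⁻¹ * g ∈ stabilizer G x := by
        rw [mem_stabilizer_iff, mul_smul, ← hk', inv_smul_smul]
      have := K.mul_mem k.2 (hle hmem)
      simpa using this

end Cfsg.Agent.Helper26
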