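import Cfsg.Agent.Helper26.GolayAbs
import Cfsg.Agent.Helper26.Steiner2
import Cfsg.Agent.Helper26.Coatom
import Cfsg.Agent.Helper27.Octads
import Cfsg.Agent.Helper8.Steiner22

/-!
# Dodecads: how they meet octads and each other

* `octad_dodecad_inter_card`: an octad meets a dodecad in 2, 4 or 6 points;
* `meetCount_octads_dodecad`: 132, 495, 132 octads meet a given dodecad in 2, 4, 6 points;
* `dodecad_inter_card`: two dodecads meet in 0, 4, 6, 8 or 12 points;
* `ncard_dodecads_meet`: 495, 1584, 495 dodecads meet a given one in 4, 6, 8 points.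
-/

set_option autoImplicit false

namespace Cfsg.Agent.Helper26

open Cfsg

theorem supports_card {s : Finset GolayPt}
    (hs : s ∈ supports (golayCode : Set (GolayPt → ZMod 2))) :
    s.card = 0 ∨ s.card = 8 ∨ s.card = 12 ∨ s.card = 16 ∨ s.card = 24 := by
  obtain ⟨w, hw, rfl⟩ := hs
  exact Helper27.weight_mem w hw

theorem dodecad_inter_card {d d' : Finset GolayPt} (hd : d ∈ dodecads) (hd' : d' ∈ dodecads) :
    (d ∩ d').card = 0 ∨ (d ∩ d').card = 4 ∨ (d ∩ d').card = 6 ∨ (d ∩ d').card = 8 ∨
      (d ∩ d').card = 12 := by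
  have h := supports_card (golay_symmDiff hd.1 hd'.1)
  have h2 := Helper27.card_symmDiff_add d d'
  rw [hd.2, hd'.2] at h2
  omega

theorem octad_dodecad_inter_card {o d : Finset GolayPt} (ho : o ∈ octads) (hd : d ∈ dodecads) :
    (o ∩ d).card = 2 ∨ (o ∩ d).card = 4 ∨ (o ∩ d).card = 6 := by
  have h := supports_card (golay_symmDiff ho.1 hd.1)
  have h2 := Helper27.card_symmDiff_add o d
  rw [ho.2, hd.2] at h2
  have : (o ∩ d).card ≤ 8 := ho.2 ▸ Finset.card_le_card Finset.inter_subset_left
  omega

/-- 132, 495, 132 octads meet a dodecad in 2, 4, 6 points. -/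
theorem meetCount_octads_dodecad {d : Finset GolayPt} (hd : d ∈ dodecads) :
    meetCount octads d 2 = 132 ∧ meetCount octads d 4 = 495 ∧ meetCount octads d 6 = 132 := by
  have hS := Helper27.octads_steiner
  have hz : ∀ j, j ≠ 2 → j ≠ 4 → j ≠ 6 → meetCount octads d j = 0 := by
    intro j h2 h4 h6
    rw [meetCount_eq_zero_iff]
    intro o ho hj
    rcases octad_dodecad_inter_card ho hd with h | h | h <;> omega
  have e0 := Helper8.inter_equation_gen hS d 0 (by norm_num)
  have e1 := Helper8.inter_equation_gen hS d 1 (by norm_num)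
  have e2 := Helper8.inter_equation_gen hS d 2 (by norm_num)
  rw [hd.2, card_golayPt] at e0 e1 e2
  simp only [Finset.sum_range_succ, Finset.sum_range_zero,
    hz 0 (by norm_num) (by norm_num) (by norm_num), hz 1 (by norm_num) (by norm_num) (by norm_num),
    hz 3 (by norm_num) (by norm_num) (by norm_num), hz 5 (by norm_num) (by norm_num) (by norm_num),
    hz 7 (by norm_num) (by norm_num) (by norm_num), hz 8 (by norm_num) (by norm_num) (by norm_num),
    hz 9 (by norm_num) (by norm_num) (by norm_num), hz 10 (by norm_num) (by norm_num) (by norm_num),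
    hz 11 (by norm_num) (by norm_num) (by norm_num),
    hz 12 (by norm_num) (by norm_num) (by norm_num)] at e0 e1 e2
  norm_num [Nat.choose] at e0 e1 e2
  omega

theorem symmDiff_inter_left (d s : Finset GolayPt) : symmDiff d s ∩ d = d \ s := by
  ext a
  simp only [Finset.mem_inter, Finset.mem_symmDiff, Finset.mem_sdiff]
  tauto

theorem inter_symmDiff_left (d s : Finset GolayPt) : d ∩ symmDiff d s = d \ s := by
  rw [Finset.inter_comm, symmDiff_inter_left]

/-- dodecads meeting `d` in 8 points ↔ octads meeting `d` in 4 points -/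
theorem ncard_dodecads_meet_eight {d : Finset GolayPt} (hd : d ∈ dodecads) :
    {d' : Finset GolayPt | d' ∈ dodecads ∧ (d ∩ d').card = 8}.ncard = 495 := by
  rw [← (meetCount_octads_dodecad hd).2.1]
  unfold meetCount
  refine Set.ncard_congr (fun d' _ => symmDiff d d') ?_ ?_ ?_
  · rintro d' ⟨hd', h8⟩
    have h2 := Helper27.card_symmDiff_add d d'
    have h3 := Finset.card_sdiff_add_card_inter d d'
    rw [hd.2, hd'.2] at h2
    rw [hd.2] at h3
    refine ⟨⟨golay_symmDiff hd.1 hd'.1, by omega⟩, ?_⟩
    rw [symmDiff_inter_left]; omega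
  · intro a b _ _ h
    exact symmDiff_right_injective d h
  · rintro o ⟨ho, h4⟩
    have h2 := Helper27.card_symmDiff_add d o
    have h3 := Finset.card_sdiff_add_card_inter d o
    rw [Finset.inter_comm] at h4
    rw [hd.2, ho.2] at h2
    rw [hd.2] at h3
    refine ⟨symmDiff d o, ⟨⟨golay_symmDiff hd.1 ho.1, by omega⟩, ?_⟩, ?_⟩
    · rw [inter_symmDiff_left]; omega
    · exact symmDiff_symmDiff_cancel_left d o

theorem compl_mem_dodecads {d : Finset GolayPt} (hd : d ∈ dodecads) : dᶜ ∈ dodecads := by
  refine ⟨golay_compl hd.1, ?_⟩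
  rw [Finset.card_compl, card_golayPt, hd.2]

theorem card_inter_compl (d s : Finset GolayPt) : (d ∩ sᶜ).card + (d ∩ s).card = d.card := by
  rw [← Finset.sdiff_eq_inter_compl]
  exact Finset.card_sdiff_add_card_inter d s

theorem ncard_dodecads_meet_four {d : Finset GolayPt} (hd : d ∈ dodecads) :
    {d' : Finset GolayPt | d' ∈ dodecads ∧ (d ∩ d').card = 4}.ncard = 495 := by
  rw [← ncard_dodecads_meet_eight hd]
  refine Set.ncard_congr (fun d' _ => d'ᶜ) ?_ ?_ ?_
  · rintro d' ⟨hd', h4⟩
    have := card_inter_compl d d'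
    rw [hd.2] at this
    exact ⟨compl_mem_dodecads hd', by omega⟩
  · intro a b _ _ h
    exact compl_injective h
  · rintro o ⟨ho, h8⟩
    have := card_inter_compl d o
    rw [hd.2] at this
    exact ⟨oᶜ, ⟨compl_mem_dodecads ho, by omega⟩, compl_compl o⟩

theorem ncard_dodecads_meet_six {d : Finset GolayPt} (hd : d ∈ dodecads) :
    {d' : Finset GolayPt | d' ∈ dodecads ∧ (d ∩ d').card = 6}.ncard = 1584 := by
  have htot := ncard_eq_sum_classes dodecads (Set.toFinite _) (fun d' => (d ∩ d').card)
    {0, 4, 6, 8, 12} (by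
      intro d' hd'
      simp only [Finset.mem_insert, Finset.mem_singleton]
      exact dodecad_inter_card hd hd')
  rw [Helper27.dodecads_ncard] at htot
  have h12 : {y | y ∈ dodecads ∧ (d ∩ y).card = 12}.ncard = 1 := by
    rw [Set.ncard_eq_one]
    refine ⟨d, ?_⟩
    ext y
    simp only [Set.mem_ofPred_eq, Set.mem_singleton_iff]
    constructor
    · rintro ⟨hy, h⟩
      have h1 : d ∩ y = d := Finset.eq_of_subset_of_card_le Finset.inter_subset_left (by
        rw [h, hd.2])
      have h2 : d ⊆ y := by rw [← h1]; exact Finset.inter_subset_right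
      exact (Finset.eq_of_subset_of_card_le h2 (by rw [hy.2, hd.2])).symm
    · rintro rfl
      exact ⟨hd, by rw [Finset.inter_self, hd.2]⟩
  have h0 : {y | y ∈ dodecads ∧ (d ∩ y).card = 0}.ncard = 1 := by
    rw [Set.ncard_eq_one]
    refine ⟨dᶜ, ?_⟩
    ext y
    simp only [Set.mem_ofPred_eq, Set.mem_singleton_iff]
    constructor
    · rintro ⟨hy, h⟩
      have h1 : y ⊆ dᶜ := by
        intro a ha
        rw [Finset.mem_compl]
        intro had
        have : a ∈ d ∩ y := Finset.mem_inter.2 ⟨had, ha⟩
        rw [Finset.card_eq_zero.1 h] at this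
        exact absurd this (Finset.notMem_empty a)
      exact Finset.eq_of_subset_of_card_le h1 (by
        rw [hy.2, Finset.card_compl, card_golayPt, hd.2])
    · rintro rfl
      refine ⟨compl_mem_dodecads hd, ?_⟩
      rw [Finset.inter_compl, Finset.card_empty]
  have h4 := ncard_dodecads_meet_four hd
  have h8 := ncard_dodecads_meet_eight hd
  rw [Finset.sum_insert (by decide), Finset.sum_insert (by decide), Finset.sum_insert (by decide),
    Finset.sum_insert (by decide), Finset.sum_singleton, h0, h4, h8, h12] at htot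
  omega

end Cfsg.Agent.Helper26
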