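import Cfsg.Agent.Helper26.Co3B
import Cfsg.Agent.Helper26.Dodecads

/-!
# The stabiliser of the vector `(5, 1, …, 1)`: the classes of odd shape
-/

set_option autoImplicit false

namespace Cfsg.Agent.Helper26

open Cfsg Cfsg.Agent.Helper8
open scoped Pointwise

variable {k : GolayPt}

theorem smul_compl' (σ : Equiv.Perm GolayPt) (C : Finset GolayPt) : σ • Cᶜ = (σ • C)ᶜ := by
  ext i
  rw [mem_smul_iff_symm, Finset.mem_compl, Finset.mem_compl, mem_smul_iff_symm]

/-- the sum of the entries of a vector of odd shape -/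
theorem sum_oddC (j : GolayPt) (C : Finset GolayPt) :
    ∑ i, signedPerm 1 C (oddBase j) i =
      24 - 2 * (C.card : ℤ) - 4 * (if j ∈ C then -1 else 1) := by
  classical
  have hterm : ∀ i, signedPerm 1 C (oddBase j) i =
      1 + (if i ∈ C then (-2 : ℤ) else 0) +
        (if i = j then -4 * (if j ∈ C then (-1 : ℤ) else 1) else 0) := by
    intro i
    rw [oddC_apply]
    by_cases hi : i = j
    · subst hi
      by_cases hC : i ∈ C
      · simp [hC]
      · simp [hC]
    · by_cases hC : i ∈ C
      · simp [hC, hi]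
      · simp [hC, hi]
  rw [Finset.sum_congr rfl (fun i _ => hterm i), Finset.sum_add_distrib, Finset.sum_add_distrib,
    Finset.sum_ite_eq' Finset.univ j, if_pos (Finset.mem_univ _), Finset.sum_ite_mem,
    Finset.univ_inter, Finset.sum_const, Finset.sum_const, Finset.card_univ, card_golayPt]
  simp only [nsmul_eq_mul, Nat.cast_ofNat, mul_one]
  ring

/-- the two normal forms of the vectors of odd shape -/
theorem co3_C_form {x : IVec} (hC : IsC x) (hd : dotInt (fiveVec k) x = -16) :
    (∃ C ∈ dodecads, k ∉ C ∧ x = signedPerm 1 C (oddBase k)) ∨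
      (∃ (j : GolayPt) (C : Finset GolayPt),
        C ∈ supports (golayCode : Set (GolayPt → ZMod 2)) ∧ Cᶜ ∈ octads ∧ j ∉ C ∧ k ∈ C ∧
          x = signedPerm 1 C (oddBase j)) := by
  classical
  obtain ⟨j, C, hC, rfl⟩ := hC
  rw [dotInt_fiveVec, sum_oddC, oddC_apply] at hd
  have hle : C.card ≤ 24 := by
    rw [← card_golayPt]
    exact Finset.card_le_univ C
  have hcards := Helper92.card_of_mem_supports hC
  by_cases hkj : k = j
  · subst hkj
    left
    by_cases hkC : k ∈ C
    · exfalso
      simp only [hkC, if_true] at hd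
      omega
    · simp only [hkC, if_true, if_false] at hd
      exact ⟨C, ⟨hC, by omega⟩, hkC, rfl⟩
  · right
    simp only [hkj, if_false] at hd
    have hcompl : C.card = 16 → Cᶜ ∈ octads := by
      intro h
      refine ⟨golay_compl hC, ?_⟩
      rw [Finset.card_compl, card_golayPt, h]
    by_cases hjC : j ∈ C <;> by_cases hkC : k ∈ C
    · exfalso
      simp only [hjC, hkC, if_true] at hd
      omega
    · exfalso
      simp only [hjC, hkC, if_true, if_false] at hd
      have h24 : C.card = 24 := by omega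
      have : C = Finset.univ := by
        apply Finset.eq_univ_of_card
        rw [h24, card_golayPt]
      rw [this] at hkC
      exact hkC (Finset.mem_univ _)
    · simp only [hjC, hkC, if_true, if_false] at hd
      exact ⟨j, C, hC, hcompl (by omega), hjC, hkC, rfl⟩
    · exfalso
      simp only [hjC, hkC, if_false] at hd
      omega

/-- odd shape, the entry of absolute value `3` at `k` -/
theorem co3_classC0 (hu : fiveVec k ∈ leechLattice) {C C' : Finset GolayPt} (hC : C ∈ dodecads)
    (hC' : C' ∈ dodecads) (hk : k ∉ C) (hk' : k ∉ C') :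
    FRel (fiveVec k) (signedPerm 1 C (oddBase k)) (signedPerm 1 C' (oddBase k)) := by
  classical
  obtain ⟨a, ha, ea, eak⟩ := Helper7.exists_to_std_dp (compl_mem_dodecads hC)
    (Finset.mem_compl.mpr hk)
  obtain ⟨b, hb, eb, ebk⟩ := Helper7.exists_to_std_dp (compl_mem_dodecads hC')
    (Finset.mem_compl.mpr hk')
  have hσ : b⁻¹ * a ∈ M24 := M24.mul_mem (M24.inv_mem hb) ha
  have hσk : (b⁻¹ * a) k = k := by
    rw [Equiv.Perm.mul_apply, eak, ← ebk]
    exact b.symm_apply_apply k
  have hσC : (b⁻¹ * a) • C = C' := by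
    have h1 : (b⁻¹ * a) • Cᶜ = C'ᶜ := by rw [mul_smul, ea, ← eb, inv_smul_smul]
    rw [smul_compl'] at h1
    exact compl_injective h1
  have r := frel_C hu hσ Cfsg.Agent.S0390.empty_mem_supports (signedPerm_fiveVec hσk)
    (k := k) hC.1
  rwa [← Finset.bot_eq_empty, symmDiff_bot, hσC, hσk] at r

/-- odd shape, the entry of absolute value `3` not at `k` -/
theorem co3_classC1 (hu : fiveVec k ∈ leechLattice) {j j' : GolayPt} {C C' : Finset GolayPt}
    (hC : C ∈ supports (golayCode : Set (GolayPt → ZMod 2))) (hO : Cᶜ ∈ octads)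
    (hO' : C'ᶜ ∈ octads) (hj : j ∉ C) (hj' : j' ∉ C') (hk : k ∈ C) (hk' : k ∈ C') :
    FRel (fiveVec k) (signedPerm 1 C (oddBase j)) (signedPerm 1 C' (oddBase j')) := by
  classical
  obtain ⟨σ, hσ, hσj, hσk, hσO⟩ := exists_map_octad_pt hO hO' (Finset.mem_compl.mpr hj)
    (Finset.mem_compl.mpr hj') (fun h => (Finset.mem_compl.mp h) hk)
    (fun h => (Finset.mem_compl.mp h) hk')
  have hσC : σ • C = C' := by
    rw [smul_compl'] at hσO
    exact compl_injective hσO
  have r := frel_C hu hσ Cfsg.Agent.S0390.empty_mem_supports (signedPerm_fiveVec hσk)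
    (k := j) hC
  rwa [← Finset.bot_eq_empty, symmDiff_bot, hσC, hσj] at r

/-- the relation preserves the inner product with the fixed vector -/
theorem FRel.dot_eq {v w w' : IVec} (h : FRel v w w') : dotInt v w' = dotInt v w := by
  obtain ⟨hv, hw, g, hg, rfl⟩ := h
  have := co0_dotInt g ⟨v, hv⟩ ⟨w, hw⟩
  rw [hg] at this
  exact this

end Cfsg.Agent.Helper26
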