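import Cfsg.Agent.Helper26.Co3C

/-!
# The stabiliser of the vector `(5, 1, …, 1)`: explicit links between the classes, and the
transitivity on the minimal vectors of inner product `-16` with it
-/

set_option autoImplicit false

namespace Cfsg.Agent.Helper26

open Cfsg Cfsg.Agent.Helper8 Cfsg.Agent.Helper27 Cfsg.Agent.Helper92
open scoped Pointwise

/-- the conjugate by `xi` of the coordinate permutation with inverse table `s` -/
def xmxFun (s : List ℕ) (x : IVec) : IVec := xiFun fun i => xiFun x (tabFun s i)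

theorem xmx_eq {t s : List ℕ} (h : isInvPair t s = true) (x : IVec) :
    xiFun (signedPerm (permOfTabs t s) ∅ (xiFun x)) = xmxFun s x := by
  unfold xmxFun
  congr 1
  ext i
  rw [signedPerm_empty_apply, permOfTabs_symm_apply h]

/-- a link given by tables -/
theorem frel_link {t s : List ℕ} (h : isInvPair t s = true) (hc : checkM24 s = true)
    {u x y : IVec} (hu : u ∈ leechLattice) (hx : x ∈ leechLattice)
    (hfix : ∀ i, xmxFun s u i = u i) (himg : ∀ i, xmxFun s x i = y i) : FRel u x y := by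
  have r := frel_xmx hu hx (permOfTabs_mem_M24 h hc) Cfsg.Agent.S0390.empty_mem_supports
    (by rw [xmx_eq h]; exact funext hfix)
  rwa [xmx_eq h, funext himg] at r

/-- the point carrying the entry `5` -/
abbrev kk : GolayPt := gPt 23

/-- the base vector of norm `48` -/
abbrev u48 : IVec := fiveVec kk

set_option maxRecDepth 100000 in
theorem u48_chk : leechChk u48 = true := by decide +kernel

theorem u48_mem : u48 ∈ leechLattice := mem_of_leechChk u48_chk

set_option maxRecDepth 100000 in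
theorem sqNorm_u48 : sqNorm u48 = 48 := by decide +kernel

theorem compl_setOf_mem_octads {m : ℕ} (hm : m < 2 ^ 24) (hc : isCode m = true)
    (hp : popc 24 m = 16) : (setOf m)ᶜ ∈ octads :=
  ⟨golay_compl (setOf_mem_supports hm hc), by
    rw [Finset.card_compl, card_golayPt, card_setOf, hp]⟩

/-! ### the representatives -/

/-- shape A -/
def rA : IVec := Pi.single kk (-4) + Pi.single (gPt 5) 4

theorem rA_mem : rA ∈ leechLattice :=
  (vrelA ⟨kk, gPt 5, -4, 4, by decide, Or.inr rfl, Or.inl rfl, rfl⟩).mem_right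

/-- shape B, octad off `kk` -/
def rB0 : IVec := octVec 4845570 4845570

/-- shape B, octad through `kk` -/
def rB1 : IVec := octVec 13062145 13058048

set_option maxRecDepth 100000 in
theorem rB0_chk : leechChk rB0 = true := by decide +kernel

set_option maxRecDepth 100000 in
theorem rB1_chk : leechChk rB1 = true := by decide +kernel

theorem rB0_mem : rB0 ∈ leechLattice := mem_of_leechChk rB0_chk

theorem rB1_mem : rB1 ∈ leechLattice := mem_of_leechChk rB1_chk

theorem isB_octVec {mO : ℕ} (mM : ℕ) (hm : mO < 2 ^ 24) (h : isCode mO = true ∧ popc 24 mO = 8) :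
    IsB (octVec mO mM) :=
  ⟨setOf mO, (setOf_mem_octads_iff hm).mpr h, octVec_in _ _, octVec_out _ _⟩

theorem isB_rB0 : IsB rB0 := isB_octVec _ (by norm_num) (by decide +kernel)

theorem isB_rB1 : IsB rB1 := isB_octVec _ (by norm_num) (by decide +kernel)

set_option maxRecDepth 100000 in
theorem rB0_k : rB0 kk = 0 ∧ dotInt u48 rB0 = -16 := by decide +kernel

set_option maxRecDepth 100000 in
theorem rB1_k : rB1 kk ≠ 0 ∧ dotInt u48 rB1 = -16 := by decide +kernel

/-- the sign set of the representative of odd shape with `3` at `kk` -/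
def cR0 : Finset GolayPt := setOf 8245261

/-- the sign set of the representative of odd shape with `3` not at `kk` -/
def cR1 : Finset GolayPt := setOf 11931645

theorem cR0_mem : cR0 ∈ dodecads := by
  unfold cR0
  rw [setOf_mem_dodecads_iff (by norm_num)]
  decide +kernel

theorem cR1_mem : cR1 ∈ supports (golayCode : Set (GolayPt → ZMod 2)) :=
  setOf_mem_supports (by norm_num) (by decide +kernel)

theorem cR1_compl : cR1ᶜ ∈ octads :=
  compl_setOf_mem_octads (by norm_num) (by decide +kernel) (by decide +kernel)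

theorem cR0_k : kk ∉ cR0 := by decide +kernel

theorem cR1_k : gPt 1 ∉ cR1 ∧ kk ∈ cR1 := by decide +kernel

/-! ### the links -/

def lkT1 : List ℕ := [2, 0, 1, 23, 14, 20, 22, 3, 7, 4, 5, 13, 17, 12, 15, 19, 21, 10, 8, 6, 18, 11, 16, 9]
def lkS1 : List ℕ := [1, 2, 0, 7, 9, 10, 19, 8, 18, 23, 17, 21, 13, 11, 4, 14, 22, 12, 20, 15, 5, 16, 6, 3]
def lkT2 : List ℕ := [2, 1, 0, 20, 17, 4, 16, 19, 10, 11, 12, 5, 22, 13, 6, 23, 9, 14, 21, 15, 18, 3, 7, 8]
def lkS2 : List ℕ := [2, 1, 0, 21, 5, 11, 14, 22, 23, 16, 8, 9, 10, 13, 17, 19, 6, 4, 20, 7, 3, 18, 12, 15]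
def lkT3 : List ℕ := [1, 2, 0, 13, 4, 17, 12, 16, 3, 15, 23, 6, 22, 19, 7, 20, 18, 8, 11, 21, 10, 14, 5, 9]
def lkS3 : List ℕ := [2, 0, 1, 8, 4, 22, 11, 14, 17, 23, 20, 18, 6, 3, 21, 9, 7, 5, 16, 13, 15, 19, 12, 10]
def lkT4 : List ℕ := [1, 0, 2, 10, 5, 15, 18, 21, 19, 6, 8, 17, 22, 7, 9, 14, 11, 23, 12, 13, 4, 3, 16, 20]
def lkS4 : List ℕ := [1, 0, 2, 21, 20, 4, 9, 13, 10, 14, 3, 16, 18, 19, 15, 5, 22, 11, 6, 8, 23, 7, 12, 17]

theorem lk_inv : isInvPair lkT1 lkS1 = true ∧ isInvPair lkT2 lkS2 = true ∧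
    isInvPair lkT3 lkS3 = true ∧ isInvPair lkT4 lkS4 = true := by decide +kernel

theorem lk_chk : checkM24 lkS1 = true ∧ checkM24 lkS2 = true ∧ checkM24 lkS3 = true ∧
    checkM24 lkS4 = true := by decide +kernel

set_option maxRecDepth 100000 in
theorem lk_fix1 : ∀ i, xmxFun lkS1 u48 i = u48 i := by decide +kernel

set_option maxRecDepth 100000 in
theorem lk_fix2 : ∀ i, xmxFun lkS2 u48 i = u48 i := by decide +kernel

set_option maxRecDepth 100000 in
theorem lk_fix3 : ∀ i, xmxFun lkS3 u48 i = u48 i := by decide +kernel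

set_option maxRecDepth 100000 in
theorem lk_fix4 : ∀ i, xmxFun lkS4 u48 i = u48 i := by decide +kernel

/-- the image of the representative of shape A -/
def yA : IVec := octVec 9471495 8422407

/-- the image of the representative of odd shape with `3` at `kk` -/
def yC0 : IVec := octVec 13370381 12845069

/-- the image of the representative of odd shape with `3` not at `kk` -/
def yC1 : IVec := octVec 14156372 8913492

set_option maxRecDepth 100000 in
theorem lk_img1 : ∀ i, xmxFun lkS1 rA i = yA i := by decide +kernel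

set_option maxRecDepth 100000 in
theorem lk_img2 : ∀ i, xmxFun lkS2 (signedPerm 1 cR0 (oddBase kk)) i = yC0 i := by decide +kernel

set_option maxRecDepth 100000 in
theorem lk_img3 : ∀ i, xmxFun lkS3 (signedPerm 1 cR1 (oddBase (gPt 1))) i = yC1 i := by
  decide +kernel

set_option maxRecDepth 100000 in
theorem lk_img4 : ∀ i, xmxFun lkS4 rB0 i = signedPerm 1 (setOf 16661449) (oddBase (gPt 14)) i := by
  decide +kernel

theorem isB_yA : IsB yA := isB_octVec _ (by norm_num) (by decide +kernel)

theorem isB_yC0 : IsB yC0 := isB_octVec _ (by norm_num) (by decide +kernel)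

theorem isB_yC1 : IsB yC1 := isB_octVec _ (by norm_num) (by decide +kernel)

set_option maxRecDepth 100000 in
theorem y_k : yA kk ≠ 0 ∧ yC0 kk ≠ 0 ∧ yC1 kk ≠ 0 := by decide +kernel

theorem cY_mem : setOf 16661449 ∈ supports (golayCode : Set (GolayPt → ZMod 2)) :=
  setOf_mem_supports (by norm_num) (by decide +kernel)

theorem cY_compl : (setOf 16661449)ᶜ ∈ octads :=
  compl_setOf_mem_octads (by norm_num) (by decide +kernel) (by decide +kernel)

theorem cY_k : gPt 14 ∉ setOf 16661449 ∧ kk ∈ setOf 16661449 := by decide +kernel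

/-! ### the main statement for the base vector -/

/-- all minimal vectors of inner product `-16` with the base vector are related to one of them -/
theorem base48 : ∀ x ∈ leechLattice, sqNorm x = 32 → dotInt u48 x = -16 → FRel u48 x rB1 := by
  intro x hx hn hd
  have hu := u48_mem
  -- everything of shape B with the octad through `kk`
  have hB1 : ∀ y : IVec, y ∈ leechLattice → IsB y → y kk ≠ 0 → dotInt u48 y = -16 →
      FRel u48 y rB1 := fun y hy hB hk hdy =>
    co3_classB1 hu hy hB isB_rB1 hk rB1_k.1 hdy rB1_k.2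
  have hlink : ∀ {a y : IVec}, FRel u48 a y → dotInt u48 a = -16 → IsB y → y kk ≠ 0 →
      FRel u48 a rB1 := fun {a y} r hda hB hk =>
    r.trans (hB1 y r.mem_right hB hk (by rw [r.dot_eq, hda]))
  have dA : dotInt u48 rA = -16 := by decide +kernel
  have lA : FRel u48 rA rB1 :=
    hlink (frel_link lk_inv.1 lk_chk.1 hu rA_mem lk_fix1 lk_img1) dA isB_yA y_k.1
  have hC0mem : signedPerm 1 cR0 (oddBase kk) ∈ leechLattice := oddC_mem cR0_mem.1
  have hC1mem : signedPerm 1 cR1 (oddBase (gPt 1)) ∈ leechLattice := oddC_mem cR1_mem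
  have dC0 : dotInt u48 (signedPerm 1 cR0 (oddBase kk)) = -16 := by decide +kernel
  have dC1 : dotInt u48 (signedPerm 1 cR1 (oddBase (gPt 1))) = -16 := by decide +kernel
  have lC0 : FRel u48 (signedPerm 1 cR0 (oddBase kk)) rB1 :=
    hlink (frel_link lk_inv.2.1 lk_chk.2.1 hu hC0mem lk_fix2 lk_img2) dC0 isB_yC0 y_k.2.1
  have lC1 : FRel u48 (signedPerm 1 cR1 (oddBase (gPt 1))) rB1 :=
    hlink (frel_link lk_inv.2.2.1 lk_chk.2.2.1 hu hC1mem lk_fix3 lk_img3) dC1 isB_yC1 y_k.2.2
  have lB0 : FRel u48 rB0 rB1 :=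
    ((frel_link lk_inv.2.2.2 lk_chk.2.2.2 hu rB0_mem lk_fix4 lk_img4).trans
      (co3_classC1 hu cY_mem cY_compl cR1_compl cY_k.1 cR1_k.1 cY_k.2 cR1_k.2)).trans lC1
  rcases min_cases hx hn with hA | hB | hC
  · exact (co3_classA hu hA hd (j0 := gPt 5) (by decide)).trans lA
  · by_cases hk : x kk = 0
    · exact (co3_classB0 hu hx hB isB_rB0 hk rB0_k.1 hd rB0_k.2).trans lB0
    · exact hB1 x hx hB hk hd
  · rcases co3_C_form hC hd with ⟨C, hCd, hkC, rfl⟩ | ⟨j, C, hCs, hO, hjC, hkC, rfl⟩
    · exact (co3_classC0 hu hCd cR0_mem hkC cR0_k).trans lC0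
    · exact (co3_classC1 hu hCs hO cR1_compl hjC cR1_k.1 hkC cR1_k.2).trans lC1

end Cfsg.Agent.Helper26
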