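import Cfsg.Agent.Helper26.R5Dots
import Cfsg.Agent.Helper26.NormalOrbit
import Cfsg.Agent.Helper8.Co0Order

/-!
# The stabiliser of a vector of norm 48 is simple of order 495766656000,
as soon as the joint stabilisers of the pairs of type `(48, 48, -32)` are simple
-/

set_option autoImplicit false

namespace Cfsg.Agent.Helper26

open Cfsg Cfsg.Agent.Helper8 Cfsg.Agent.Helper27 Cfsg.Agent.Helper92
open scoped Pointwise Function

/-- the vector `-2` on an octad off the point `kk` -/
def bOct : IVec := fun i => if i ∈ setOf 4845570 then -2 else 0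

set_option maxRecDepth 100000 in
theorem bOct_chk : leechChk bOct = true := by decide +kernel

set_option maxRecDepth 100000 in
theorem bOct_facts : sqNorm bOct = 32 ∧ dotInt u48 bOct = -16 ∧ ∑ i, bOct i = -16 := by
  decide +kernel

/-- an automorphism fixing the 11178 of the base vector pointwise is the identity -/
theorem base_faithful (g : ↥Co0) (hfix : ∀ x ∈ shellDot 32 (-16) latU, g • x = x) : g = 1 := by
  have key : ∀ v : ↥leechLattice, g • v = v := by
    intro v
    have horth : ∀ b ∈ shellDot 32 (-16) latU,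
        dotInt (b : IVec) (((g • v : ↥leechLattice) : IVec) - (v : IVec)) = 0 := by
      intro b hb
      rw [dotInt_sub_right]
      have := co0_dotInt g b v
      rw [hfix b hb] at this
      rw [this, sub_self]
    have h1 : ∀ j, (((g • v : ↥leechLattice) : IVec) - (v : IVec)) j =
        (((g • v : ↥leechLattice) : IVec) - (v : IVec)) kk := by
      intro j
      by_cases hj : j = kk
      · rw [hj]
      · have hm : (⟨vPQ j kk, vPQ_mem hj⟩ : ↥leechLattice) ∈ shellDot 32 (-16) latU := by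
          refine ⟨sqNorm_vPQ hj, ?_⟩
          show dotInt u48 (vPQ j kk) = -16
          rw [dotInt_comm, dotInt_vPQ]
          show 4 * fiveVec kk j - 4 * fiveVec kk kk = -16
          rw [fiveVec_apply, fiveVec_apply, if_neg hj, if_pos rfl]
          norm_num
        have := horth _ hm
        rw [show ((⟨vPQ j kk, vPQ_mem hj⟩ : ↥leechLattice) : IVec) = vPQ j kk from rfl,
          dotInt_vPQ] at this
        linarith
    have h2 := horth ⟨bOct, mem_of_leechChk bOct_chk⟩ ⟨bOct_facts.1, bOct_facts.2.1⟩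
    have h3 : dotInt bOct (((g • v : ↥leechLattice) : IVec) - (v : IVec)) =
        (∑ i, bOct i) * (((g • v : ↥leechLattice) : IVec) - (v : IVec)) kk := by
      unfold dotInt
      rw [Finset.sum_mul]
      exact Finset.sum_congr rfl fun i _ => by rw [h1 i]
    rw [show ((⟨bOct, mem_of_leechChk bOct_chk⟩ : ↥leechLattice) : IVec) = bOct from rfl, h3,
      bOct_facts.2.2] at h2
    have h4 : (((g • v : ↥leechLattice) : IVec) - (v : IVec)) kk = 0 := by linarith
    apply Subtype.ext
    funext j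
    have := h1 j
    rw [h4, Pi.sub_apply] at this
    linarith
  apply Subtype.ext
  apply Equiv.ext
  intro v
  exact key v

/-- the action of the stabiliser of `u` on the 11178 -/
def tAct (u : ↥leechLattice) : SubMulAction ↥(MulAction.stabilizer ↥Co0 u) ↥leechLattice where
  carrier := shellDot 32 (-16) u
  smul_mem' := by
    intro g x hx
    have hgu : (g : ↥Co0) • u = u := g.2
    have := co0_dotInt (g : ↥Co0) u x
    rw [hgu] at this
    exact ⟨(co0_sqNorm (g : ↥Co0) x).trans hx.1, this.trans hx.2⟩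

theorem tAct_faithful (u : ↥leechLattice) (hu : sqNorm (u : IVec) = 48) :
    FaithfulSMul ↥(MulAction.stabilizer ↥Co0 u) ↥(tAct u) := by
  refine ⟨fun {a b} h => ?_⟩
  obtain ⟨g₀, hg₀⟩ := trans48' u latU hu latU_norm
  have hfix : ∀ x ∈ shellDot 32 (-16) u, (a : ↥Co0) • x = (b : ↥Co0) • x := by
    intro x hx
    exact congrArg Subtype.val (h ⟨x, hx⟩)
  have hsh : shellDot 32 (-16) u =
      (fun z : ↥leechLattice => g₀⁻¹ • z) '' shellDot 32 (-16) latU := by
    rw [← shellDot_smul, ← hg₀, inv_smul_smul]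
  have h1 : g₀ * ((b : ↥Co0)⁻¹ * (a : ↥Co0)) * g₀⁻¹ = 1 := by
    apply base_faithful
    intro x' hx'
    have hx : g₀⁻¹ • x' ∈ shellDot 32 (-16) u := by
      rw [hsh]
      exact Set.mem_image_of_mem _ hx'
    rw [mul_smul, mul_smul, mul_smul, hfix _ hx, inv_smul_smul, smul_inv_smul]
  have h2 : (b : ↥Co0)⁻¹ * (a : ↥Co0) = 1 := by
    have := congrArg (fun t => g₀⁻¹ * t * g₀) h1
    simpa [mul_assoc] using this
  exact Subtype.ext (inv_mul_eq_one.mp h2).symm

theorem tAct_trans (u : ↥leechLattice) (hu : sqNorm (u : IVec) = 48) :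
    MulAction.IsPretransitive ↥(MulAction.stabilizer ↥Co0 u) ↥(tAct u) := by
  refine ⟨fun x y => ?_⟩
  obtain ⟨g, hgu, hgx⟩ := trans_of_base' (N := 48) trans48' u48_mem sqNorm_u48 (-16) base48
    u x.1 y.1 hu x.2.1 y.2.1 x.2.2 y.2.2
  exact ⟨⟨g, hgu⟩, Subtype.ext hgx⟩

/-- the order of the stabiliser of a vector of norm 48 -/
theorem card_stab48 (u : ↥leechLattice) (hu : sqNorm (u : IVec) = 48) :
    Nat.card ↥(MulAction.stabilizer ↥Co0 u) = 495766656000 := by
  have h1 := card_fiber_set (G := ↥Co0) u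
    {v : ↥leechLattice | v.1 ∈ leechLattice ∧ sqNorm v.1 = 48}
    (fun s hs => trans48' u s hu hs.2)
  have e1 : Nat.card {g : ↥Co0 // g • u ∈
      {v : ↥leechLattice | v.1 ∈ leechLattice ∧ sqNorm v.1 = 48}} = Nat.card ↥Co0 :=
    Nat.card_congr (Equiv.subtypeUnivEquiv fun g =>
      ⟨(g • u).2, by rw [co0_sqNorm]; exact hu⟩)
  have c1 : Nat.card ↥{v : ↥leechLattice | v.1 ∈ leechLattice ∧ sqNorm v.1 = 48} = 16773120 := by
    have h := card_subtype_lattice (fun x => x ∈ leechLattice ∧ sqNorm x = 48) (fun x hx => hx.1)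
    have h' := ncard_leech 48 (by norm_num)
    have e : leechCount 48 = 16773120 := by decide +kernel
    rw [e] at h'
    have h'' : {x : IVec | x ∈ leechLattice ∧ sqNorm x = 48}.ncard = 16773120 := by
      exact_mod_cast h'
    rw [← h'']
    exact h
  rw [e1, c1, card_co0] at h1
  omega

theorem r5dot_inj : ∀ i j : Fin 4, r5dot i = r5dot j → i = j := by decide

theorem r5dot_ne : ∀ i : Fin 4, r5dot i ≠ 32 := by decide

theorem r5deg_pos : ∀ i : Fin 4, r5deg i ≠ 0 := by decide

theorem r5_block : ∀ S : Finset (Fin 4), S ≠ ∅ → S ≠ Finset.univ →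
    ¬ (1 + ∑ i ∈ S, r5deg i) ∣ 495766656000 := by decide

theorem r5_sum : 1 + ∑ i, r5deg i = 11178 := by decide

theorem r5_reg : ∀ m ∈ Nat.divisors 486, m % 23 = 1 → ∀ S : Finset (Fin 4),
    (23 - 1) * m ≠ ∑ i ∈ S, r5deg i := by decide +kernel

/-- simplicity of the stabiliser of a vector of norm 48 -/
theorem co3_simple
    (hHS : ∀ v w : ↥leechLattice, sqNorm (v : IVec) = 48 → sqNorm (w : IVec) = 48 →
      dotInt (v : IVec) (w : IVec) = -32 →
      IsSimpleGroup ↥(MulAction.stabilizer ↥Co0 v ⊓ MulAction.stabilizer ↥Co0 w))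
    (u : ↥leechLattice) (hu : sqNorm (u : IVec) = 48) :
    IsSimpleGroup ↥(MulAction.stabilizer ↥Co0 u) := by
  have hcard := card_stab48 u hu
  have hfinG : Finite ↥(MulAction.stabilizer ↥Co0 u) :=
    Nat.finite_of_card_ne_zero (by rw [hcard]; norm_num)
  have hfaith := tAct_faithful u hu
  have htransG := tAct_trans u hu
  -- a point
  obtain ⟨x, hx⟩ : (shellDot 32 (-16) u).Nonempty := by
    apply Set.nonempty_of_ncard_ne_zero
    rw [ncard_shellDot_48 trans48' u hu]
    norm_num
  obtain ⟨y, hy, hyn, hyd, hU⟩ := r5_main' u x hu hx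
  have hxx : dotInt (x : IVec) (x : IVec) = 32 := by rw [dotInt_self, hx.1]
  have hsub : ∀ i, orbSet u x (y i) ⊆ shellDot 32 (-16) u := by
    intro i z hz
    rw [hU]
    exact Or.inr (Set.mem_iUnion.mpr ⟨i, hz⟩)
  -- the simple stabiliser
  have hstab : MulAction.stabilizer ↥Co0 u ⊓ MulAction.stabilizer ↥Co0 x =
      MulAction.stabilizer ↥Co0 u ⊓ MulAction.stabilizer ↥Co0 (-(u + x)) := by
    ext g
    simp only [Subgroup.mem_inf, MulAction.mem_stabilizer_iff]
    have hadd : g • (u + x) = g • u + g • x := by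
      rw [← co0Hom_apply, map_add]
      rfl
    constructor
    · rintro ⟨h1, h2⟩
      exact ⟨h1, by rw [co0_smul_neg, hadd, h1, h2]⟩
    · rintro ⟨h1, h2⟩
      refine ⟨h1, ?_⟩
      rw [co0_smul_neg, hadd, h1, neg_inj] at h2
      exact add_left_cancel h2
  have hsimple : IsSimpleGroup ↥(MulAction.stabilizer ↥Co0 u ⊓ MulAction.stabilizer ↥Co0 x) := by
    rw [hstab]
    apply hHS u (-(u + x)) hu
    · rw [AddSubgroup.coe_neg, sqNorm_neg', AddSubgroup.coe_add, sqNorm_add, hu, hx.1, hx.2]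
      norm_num
    · rw [AddSubgroup.coe_neg, AddSubgroup.coe_add, dotInt_neg_right, dotInt_add_right,
        dotInt_self, hu, hx.2]
      norm_num
  have hM : IsSimpleGroup ↥(MulAction.stabilizer ↥(MulAction.stabilizer ↥Co0 u)
      (⟨x, hx⟩ : ↥(tAct u))) := by
    let e : ↥(MulAction.stabilizer ↥(MulAction.stabilizer ↥Co0 u) (⟨x, hx⟩ : ↥(tAct u))) ≃*
        ↥(MulAction.stabilizer ↥Co0 u ⊓ MulAction.stabilizer ↥Co0 x) :=
      { toFun := fun m => ⟨m.1.1, Subgroup.mem_inf.mpr ⟨m.1.2,
          MulAction.mem_stabilizer_iff.mpr (congrArg Subtype.val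
            (MulAction.mem_stabilizer_iff.mp m.2))⟩⟩
        invFun := fun k => ⟨⟨k.1, (Subgroup.mem_inf.mp k.2).1⟩,
          MulAction.mem_stabilizer_iff.mpr (Subtype.ext
            (MulAction.mem_stabilizer_iff.mp (Subgroup.mem_inf.mp k.2).2))⟩
        left_inv := fun m => rfl
        right_inv := fun k => rfl
        map_mul' := fun a b => rfl }
    exact e.isSimpleGroup
  refine simple_of_subdegrees (G := ↥(MulAction.stabilizer ↥Co0 u)) (X := ↥(tAct u))
    (⟨x, hx⟩ : ↥(tAct u)) (fun i => {z : ↥(tAct u) | (z : ↥leechLattice) ∈ orbSet u x (y i)})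
    r5deg ?_ ?_ ?_ ?_ r5deg_pos ?_ hM ?_ 23 (by norm_num) ?_ ?_ ?_
  · -- cover
    intro z
    have hz : (z : ↥leechLattice) ∈ shellDot 32 (-16) u := z.2
    rw [hU] at hz
    rcases hz with hz | hz
    · exact Or.inl (Subtype.ext hz)
    · obtain ⟨i, hi⟩ := Set.mem_iUnion.mp hz
      exact Or.inr ⟨i, hi⟩
  · -- the point is in no suborbit
    intro i hi
    have := (orbSet_dot (show x ∈ orbSet u x (y i) from hi)).1
    rw [hxx, hyd i] at this
    exact r5dot_ne i this.symm
  · -- disjoint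
    intro i j hij
    rw [Function.onFun, Set.disjoint_left]
    intro z hzi hzj
    apply hij
    apply r5dot_inj
    rw [← hyd i, ← hyd j, ← (orbSet_dot (show (z : ↥leechLattice) ∈ orbSet u x (y i) from hzi)).1,
      ← (orbSet_dot (show (z : ↥leechLattice) ∈ orbSet u x (y j) from hzj)).1]
  · -- sizes
    intro i
    rw [← hyn i]
    have : {z : ↥(tAct u) | (z : ↥leechLattice) ∈ orbSet u x (y i)} =
        (Subtype.val : ↥(tAct u) → ↥leechLattice) ⁻¹' orbSet u x (y i) := rfl
    rw [this]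
    apply Set.ncard_preimage_of_injective_subset_range Subtype.val_injective
    intro z hz
    exact ⟨⟨z, hsub i hz⟩, rfl⟩
  · -- transitivity on the suborbits
    intro i q hq q' hq'
    obtain ⟨h, h1, h2, h3⟩ := hq
    obtain ⟨h', h1', h2', h3'⟩ := hq'
    refine ⟨⟨h' * h⁻¹, ?_⟩, ?_, ?_⟩
    · rw [MulAction.mem_stabilizer_iff, mul_smul, inv_smul_eq_iff.mpr h1.symm, h1']
    · apply Subtype.ext
      show (h' * h⁻¹) • x = x
      rw [mul_smul, inv_smul_eq_iff.mpr h2.symm, h2']
    · apply Subtype.ext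
      show (h' * h⁻¹) • (q : ↥leechLattice) = q'
      rw [mul_smul, ← h3, inv_smul_smul, h3']
  · rw [hcard]
    exact r5_block
  · rw [r5_sum]
    norm_num
  · rw [r5_sum]
    norm_num
  · rw [r5_sum]
    intro m hm hd S
    exact r5_reg m (Nat.mem_divisors.mpr ⟨by norm_num at hd ⊢; exact hd, by norm_num⟩) hm S

end Cfsg.Agent.Helper26
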