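import Cfsg.Agent.Helper26.Coatom

/-!
# Maximality of a point stabiliser from the list of suborbit sizes

`isCoatom_stabilizer_of_reps`: if the orbit of `x` under a finite group `G` is covered by the orbits
of the stabiliser of `x` on a list `L` of representatives, these orbits have pairwise distinct sizes
`sz`, and no partial sum of `sz` through `1` other than `1` and the total divides the total, then the
stabiliser of `x` is a maximal subgroup.
-/

namespace Cfsg.Agent.Helper26

open MulAction

theorem isCoatom_stabilizer_of_reps {G α : Type*} [Group G] [Finite G] [MulAction G α]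
    (x : α) (L : List α) (sz : List ℕ)
    (hL : ∀ r ∈ L, r ∈ orbit G x)
    (hcover : ∀ y ∈ orbit G x, ∃ r ∈ L, y ∈ orbit (stabilizer G x) r)
    (hsz : L.map (fun r => (orbit (stabilizer G x) r).ncard) = sz)
    (hnodup : sz.Nodup)
    (h1 : ∃ i ∈ sz, i ≠ 1)
    (harith : ∀ J ⊆ sz.toFinset, 1 ∈ J → (∑ i ∈ J, i) ∣ (∑ i ∈ sz.toFinset, i) →
      J = {1} ∨ J = sz.toFinset) :
    IsCoatom (stabilizer G x) := by
  classical
  set c : α → ℕ := fun y => (orbit (stabilizer G x) y).ncard with hc
  have hcx : c x = 1 := by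
    have : orbit (stabilizer G x) x = {x} := by
      ext y
      constructor
      · rintro ⟨h, rfl⟩
        exact h.2
      · rintro rfl
        exact mem_orbit_self _
    rw [hc]
    simp only [this, Set.ncard_singleton]
  have hcr : ∀ r ∈ L, c r ∈ sz := fun r hr => by
    rw [← hsz]
    exact List.mem_map.2 ⟨r, hr, rfl⟩
  have hrep : ∀ y ∈ orbit G x, ∃ r ∈ L, y ∈ orbit (stabilizer G x) r ∧ c y = c r := by
    intro y hy
    obtain ⟨r, hr, hyr⟩ := hcover y hy
    exact ⟨r, hr, hyr, by rw [hc]; simp only [orbit_eq_iff.2 hyr]⟩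
  have hsame : ∀ y ∈ orbit G x, ∀ y' ∈ orbit G x, c y = c y' →
      y' ∈ orbit (stabilizer G x) y := by
    intro y hy y' hy' hcc
    obtain ⟨r, hr, hyr, e⟩ := hrep y hy
    obtain ⟨r', hr', hyr', e'⟩ := hrep y' hy'
    have hrr : r = r' := by
      have hnd : (L.map c).Nodup := by rw [hsz]; exact hnodup
      exact List.inj_on_of_nodup_map hnd hr hr' (by rw [← e, ← e', hcc])
    subst hrr
    rw [orbit_eq_iff.2 hyr]
    exact hyr'
  refine isCoatom_stabilizer_of_classes x c id sz.toFinset ?_ ?_ ?_ ?_ ?_ ?_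
  · obtain ⟨i, hi, hi1⟩ := h1
    rw [← hsz] at hi
    obtain ⟨r, hr, rfl⟩ := List.mem_map.1 hi
    refine ⟨r, hL r hr, ?_⟩
    rintro rfl
    exact hi1 hcx
  · intro y hy hcy
    have := hsame y hy x (mem_orbit_self x) hcy
    obtain ⟨h, hh⟩ := this
    have h2 : (h : G) • y = x := hh
    have h3 : (h : G) • x = x := h.2
    exact MulAction.injective (h : G) (show (h : G) • y = (h : G) • x by rw [h2, h3])
  · intro y hy y' hy' hcc
    obtain ⟨h, hh⟩ := hsame y hy y' hy' hcc
    exact ⟨h, h.2, hh⟩
  · intro i hi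
    rw [List.mem_toFinset, ← hsz] at hi
    obtain ⟨r, hr, rfl⟩ := List.mem_map.1 hi
    have : {y | y ∈ orbit G x ∧ c y = (fun r => (orbit (stabilizer G x) r).ncard) r} =
        orbit (stabilizer G x) r := by
      ext y
      constructor
      · rintro ⟨hy, hcy⟩
        exact hsame r (hL r hr) y hy hcy.symm
      · intro hy
        constructor
        · obtain ⟨h, rfl⟩ := hy
          obtain ⟨g, rfl⟩ := hL r hr
          exact ⟨(h : G) * g, by simp [mul_smul, Subgroup.smul_def]⟩
        · show (orbit (stabilizer G x) y).ncard = (orbit (stabilizer G x) r).ncard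
          rw [orbit_eq_iff.2 hy]
    rw [this]
    rfl
  · intro y hy
    obtain ⟨r, hr, -, e⟩ := hrep y hy
    rw [List.mem_toFinset, e]
    exact hcr r hr
  · rw [hcx]
    simpa using harith

end Cfsg.Agent.Helper26
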