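import Cfsg.Agent.Helper26.DodecadCertData
import Cfsg.Agent.Helper7.M24Octad

/-!
# `M24` is transitive on dodecads; the stabiliser of a dodecad is transitive on the dodecads
meeting it in a given number of points
-/

set_option autoImplicit false

namespace Cfsg.Agent.Helper26

open Cfsg Helper27 Helper92
open scoped Pointwise

theorem setOf_d0_mem_dodecads : Helper27.setOf 28637 ∈ dodecads := by
  rw [Helper27.setOf_mem_dodecads_iff (by norm_num)]
  decide +kernel

theorem m24Gens_mem : ∀ g ∈ [m24GA, m24GB, m24GC], g.ok = true ∧ g.perm ∈ M24 := by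
  intro g hg
  simp only [List.mem_cons, List.not_mem_nil, or_false] at hg
  rcases hg with rfl | rfl | rfl
  · exact ⟨m24GA_ok, GenData.perm_mem m24GA_ok⟩
  · exact ⟨m24GB_ok, GenData.perm_mem m24GB_ok⟩
  · exact ⟨m24GC_ok, GenData.perm_mem m24GC_ok⟩

theorem dodecad_to_std {d : Finset GolayPt} (hd : d ∈ dodecads) :
    ∃ g ∈ M24, g • d = Helper27.setOf 28637 := by
  obtain ⟨c, hc, rfl, hw⟩ := exists_encode_of_mem_dodecads hd
  exact wtCert_sound M24 _ m24Gens_mem dodTransSV 0 (fun _ => 28637) 12 12 dodTransCert c hc hw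

/-- `M24` is transitive on dodecads. -/
theorem exists_smul_dodecad_eq {d d' : Finset GolayPt} (hd : d ∈ dodecads) (hd' : d' ∈ dodecads) :
    ∃ g ∈ M24, g • d = d' := by
  obtain ⟨a, ha, ea⟩ := dodecad_to_std hd
  obtain ⟨b, hb, eb⟩ := dodecad_to_std hd'
  refine ⟨b⁻¹ * a, M24.mul_mem (M24.inv_mem hb) ha, ?_⟩
  rw [mul_smul, ea, ← eb, inv_smul_smul]

/-- the stabiliser of the standard dodecad, inside `M24` -/
def dodStab : Subgroup (Equiv.Perm GolayPt) :=
  M24 ⊓ MulAction.stabilizer (Equiv.Perm GolayPt) (Helper27.setOf 28637)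

theorem dodGens_mem : ∀ g ∈ [dodG1, dodG2], g.ok = true ∧ g.perm ∈ dodStab := by
  intro g hg
  simp only [List.mem_cons, List.not_mem_nil, or_false] at hg
  rcases hg with rfl | rfl
  · refine ⟨dodG1_ok, Subgroup.mem_inf.2 ⟨GenData.perm_mem dodG1_ok, ?_⟩⟩
    rw [MulAction.mem_stabilizer_iff, GenData.smul_setOf dodG1_ok _ (by norm_num), dodG1_fix]
  · refine ⟨dodG2_ok, Subgroup.mem_inf.2 ⟨GenData.perm_mem dodG2_ok, ?_⟩⟩
    rw [MulAction.mem_stabilizer_iff, GenData.smul_setOf dodG2_ok _ (by norm_num), dodG2_fix]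

theorem dodecad_to_rep {p : Finset GolayPt} (hp : p ∈ dodecads) :
    ∃ h ∈ dodStab, h • p = Helper27.setOf (dodRep (p ∩ Helper27.setOf 28637).card) := by
  obtain ⟨c, hc, rfl, hw⟩ := exists_encode_of_mem_dodecads hp
  exact wtCert_sound dodStab _ dodGens_mem dodSV 28637 dodRep 12 14 dodClassCert c hc hw

theorem dodecad_stab_trans_std {p p' : Finset GolayPt} (hp : p ∈ dodecads) (hp' : p' ∈ dodecads)
    (h : (Helper27.setOf 28637 ∩ p).card = (Helper27.setOf 28637 ∩ p').card) :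
    ∃ g ∈ M24, g • Helper27.setOf 28637 = Helper27.setOf 28637 ∧ g • p = p' := by
  obtain ⟨a, ha, ea⟩ := dodecad_to_rep hp
  obtain ⟨b, hb, eb⟩ := dodecad_to_rep hp'
  rw [Finset.inter_comm] at ea eb
  rw [h] at ea
  refine ⟨b⁻¹ * a, M24.mul_mem (M24.inv_mem hb.1) ha.1, ?_, ?_⟩
  · exact MulAction.mem_stabilizer_iff.1 (dodStab.mul_mem (dodStab.inv_mem hb) ha).2
  · rw [mul_smul, ea, ← eb, inv_smul_smul]

/-- The stabiliser of a dodecad `d` is transitive on the dodecads meeting `d` in a given number of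
points. -/
theorem dodecad_stab_trans {d d' d'' : Finset GolayPt} (hd : d ∈ dodecads) (hd' : d' ∈ dodecads)
    (hd'' : d'' ∈ dodecads) (h : (d ∩ d').card = (d ∩ d'').card) :
    ∃ g ∈ M24, g • d = d ∧ g • d' = d'' := by
  obtain ⟨a, ha, ea⟩ := dodecad_to_std hd
  have hc : ∀ x : Finset GolayPt, (Helper27.setOf 28637 ∩ a • x).card = (d ∩ x).card := by
    intro x
    rw [← ea, ← Finset.smul_finset_inter, Finset.card_smul_finset]
  obtain ⟨g, hg, e1, e2⟩ := dodecad_stab_trans_std (Helper7.smul_mem_dodecads ha hd')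
    (Helper7.smul_mem_dodecads ha hd'') (by rw [hc, hc, h])
  refine ⟨a⁻¹ * g * a, M24.mul_mem (M24.mul_mem (M24.inv_mem ha) hg) ha, ?_, ?_⟩
  · rw [mul_smul, mul_smul, ea, e1, ← ea, inv_smul_smul]
  · rw [mul_smul, mul_smul, e2, inv_smul_smul]

end Cfsg.Agent.Helper26
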