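import Mathlib
import Cfsg.Prelude.Def_Classical

/-!
# Coordinates on a subgroup of an extraspecial `2`-group

Let `K` be a group whose commutators and squares lie in `{1, z}` for a central involution `z`, let
`E ≤ K` be a subgroup with elements `b i ∈ E`, `d i ∈ K` in duality for the commutator pairing,
with `|E| ≤ 2 · 2 ^ |ι|`.  Then `E / ⟨z⟩` is a vector space over the field with two elements with
basis the `b i`, a group `X` normalising `E` and centralising `z` acts linearly on it preserving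
the quadratic form induced by squaring: this gives a homomorphism from `X` to the isometry group.
-/

set_option autoImplicit false
set_option linter.unusedSectionVars false

namespace Cfsg.Agent.Helper26.ExCoord

open Subgroup Matrix

section Pairing

variable {G : Type*} [Group G]

open Classical in
/-- the commutator pairing with values in the field with two elements -/
noncomputable def cP (g h : G) : ZMod 2 := if g * h = h * g then 0 else 1

open Classical in
/-- squaring, with values in the field with two elements -/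
noncomputable def qP (g : G) : ZMod 2 := if g * g = 1 then 0 else 1

theorem cP_eq_zero {g h : G} (e : g * h = h * g) : cP g h = 0 := by
  unfold cP
  rw [if_pos e]

theorem cP_eq_one {g h : G} (e : g * h ≠ h * g) : cP g h = 1 := by
  unfold cP
  rw [if_neg e]

theorem cP_eq_zero_iff {g h : G} : cP g h = 0 ↔ g * h = h * g := by
  constructor
  · intro e
    by_contra hne
    rw [cP_eq_one hne] at e
    exact absurd e (by decide)
  · exact cP_eq_zero

theorem cP_one_left (h : G) : cP 1 h = 0 := cP_eq_zero (by rw [one_mul, mul_one])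

theorem qP_eq_zero {g : G} (e : g * g = 1) : qP g = 0 := by
  unfold qP
  rw [if_pos e]

theorem qP_eq_one {g : G} (e : g * g ≠ 1) : qP g = 1 := by
  unfold qP
  rw [if_neg e]

theorem qP_conj (x g : G) : qP (x * g * x⁻¹) = qP g := by
  have e : x * g * x⁻¹ * (x * g * x⁻¹) = x * (g * g) * x⁻¹ := by group
  by_cases h : g * g = 1
  · rw [qP_eq_zero h, qP_eq_zero (by rw [e, h]; group)]
  · rw [qP_eq_one h, qP_eq_one]
    intro h'
    apply h
    rw [e] at h'
    have : g * g = x⁻¹ * (x * (g * g) * x⁻¹) * x := by group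
    rw [this, h']
    group

end Pairing

/-- the data: an ambient `2`-group `K` with commutators in `{1, z}`, a subgroup `E` with a basis
`b` modulo `z` and a dual family `d`, and a group `X` acting -/
structure Frame (ι : Type) [Fintype ι] [DecidableEq ι] (G : Type*) [Group G] where
  /-- the central involution -/
  z : G
  /-- the ambient group -/
  K : Subgroup G
  /-- the subgroup -/
  E : Subgroup G
  /-- the acting group -/
  X : Subgroup G
  /-- the basis -/
  b : ι → G
  /-- the dual family -/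
  d : ι → G
  /-- an enumeration of the index type -/
  L : List ι
  hz1 : z ≠ 1
  hz2 : z * z = 1
  hzc : ∀ g ∈ K, g * z = z * g
  hcomm : ∀ g ∈ K, ∀ h ∈ K, g * h = h * g ∨ g * h = z * (h * g)
  hEK : E ≤ K
  hzE : z ∈ E
  hb : ∀ i, b i ∈ E
  hd : ∀ i, d i ∈ K
  hbd : ∀ i j, cP (b j) (d i) = if i = j then 1 else 0
  hLn : L.Nodup
  hLm : ∀ i, i ∈ L
  hXz : ∀ x ∈ X, x * z = z * x
  hXE : ∀ x ∈ X, ∀ e ∈ E, x * e * x⁻¹ ∈ E
  hcard : Nat.card ↥E ≤ 2 * 2 ^ Fintype.card ι

namespace Frame

variable {ι : Type} [Fintype ι] [DecidableEq ι] {G : Type*} [Group G] (F : Frame ι G)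

theorem zmod2_cases (x : ZMod 2) : x = 0 ∨ x = 1 := by
  fin_cases x
  · left; rfl
  · right; rfl

theorem hzK : F.z ∈ F.K := F.hEK F.hzE

theorem cP_of_z {g k : G} (e : g * k = F.z * (k * g)) : cP g k = 1 := by
  apply cP_eq_one
  intro e'
  rw [e'] at e
  exact F.hz1 (mul_right_cancel ((one_mul (k * g)).trans e)).symm

theorem cP_cases {g k : G} (hg : g ∈ F.K) (hk : k ∈ F.K) :
    (cP g k = 0 ∧ g * k = k * g) ∨ (cP g k = 1 ∧ g * k = F.z * (k * g)) := by
  by_cases e : g * k = k * g
  · left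
    exact ⟨cP_eq_zero e, e⟩
  · right
    refine ⟨cP_eq_one e, ?_⟩
    rcases F.hcomm g hg k hk with h | h
    · exact absurd h e
    · exact h

theorem cP_mul {g h k : G} (hg : g ∈ F.K) (hh : h ∈ F.K) (hk : k ∈ F.K) :
    cP (g * h) k = cP g k + cP h k := by
  rcases F.cP_cases hg hk with ⟨c1, e1⟩ | ⟨c1, e1⟩ <;>
    rcases F.cP_cases hh hk with ⟨c2, e2⟩ | ⟨c2, e2⟩
  · rw [c1, c2, add_zero]
    apply cP_eq_zero
    calc g * h * k = g * (h * k) := mul_assoc _ _ _
      _ = g * (k * h) := by rw [e2]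
      _ = (g * k) * h := (mul_assoc _ _ _).symm
      _ = k * g * h := by rw [e1]
      _ = k * (g * h) := mul_assoc _ _ _
  · rw [c1, c2, zero_add]
    apply F.cP_of_z
    calc g * h * k = g * (h * k) := mul_assoc _ _ _
      _ = g * (F.z * (k * h)) := by rw [e2]
      _ = (g * F.z) * (k * h) := (mul_assoc _ _ _).symm
      _ = F.z * g * (k * h) := by rw [F.hzc g hg]
      _ = F.z * ((g * k) * h) := by group
      _ = F.z * ((k * g) * h) := by rw [e1]
      _ = F.z * (k * (g * h)) := by rw [mul_assoc k]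
  · rw [c1, c2, add_zero]
    apply F.cP_of_z
    calc g * h * k = g * (h * k) := mul_assoc _ _ _
      _ = g * (k * h) := by rw [e2]
      _ = (g * k) * h := (mul_assoc _ _ _).symm
      _ = F.z * (k * g) * h := by rw [e1]
      _ = F.z * (k * (g * h)) := by group
  · rw [c1, c2]
    have : (1 : ZMod 2) + 1 = 0 := by decide
    rw [this]
    apply cP_eq_zero
    calc g * h * k = g * (h * k) := mul_assoc _ _ _
      _ = g * (F.z * (k * h)) := by rw [e2]
      _ = (g * F.z) * (k * h) := (mul_assoc _ _ _).symm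
      _ = F.z * g * (k * h) := by rw [F.hzc g hg]
      _ = F.z * ((g * k) * h) := by group
      _ = F.z * ((F.z * (k * g)) * h) := by rw [e1]
      _ = (F.z * F.z) * (k * (g * h)) := by group
      _ = k * (g * h) := by rw [F.hz2, one_mul]

/-- the coordinates of an element -/
noncomputable def cvec (g : G) : ι → ZMod 2 := fun i => cP g (F.d i)

theorem cvec_mul {g h : G} (hg : g ∈ F.K) (hh : h ∈ F.K) :
    F.cvec (g * h) = F.cvec g + F.cvec h := by
  funext i
  exact F.cP_mul hg hh (F.hd i)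

theorem cvec_one : F.cvec 1 = 0 := by
  funext i
  exact cP_one_left _

theorem cvec_z : F.cvec F.z = 0 := by
  funext i
  exact cP_eq_zero (F.hzc _ (F.hd i)).symm

theorem cvec_b (j : ι) : F.cvec (F.b j) = Pi.single j 1 := by
  funext i
  show cP (F.b j) (F.d i) = _
  rw [F.hbd i j, Pi.single_apply]

theorem cvec_z_mul {g : G} (hg : g ∈ F.K) : F.cvec (F.z * g) = F.cvec g := by
  rw [F.cvec_mul F.hzK hg, F.cvec_z, zero_add]

/-- the product of basis elements along a list -/
def PL (l : List ι) : G := (l.map F.b).prod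

theorem PL_nil : F.PL [] = 1 := rfl

theorem PL_cons (j : ι) (l : List ι) : F.PL (j :: l) = F.b j * F.PL l := by
  unfold PL
  rw [List.map_cons, List.prod_cons]

theorem PL_mem (l : List ι) : F.PL l ∈ F.E := by
  induction l with
  | nil => exact F.E.one_mem
  | cons j l ih =>
    rw [PL_cons]
    exact F.E.mul_mem (F.hb j) ih

theorem cvec_PL (l : List ι) : F.cvec (F.PL l) = fun i => (l.count i : ZMod 2) := by
  induction l with
  | nil =>
    rw [PL_nil, cvec_one]
    funext i
    simp
  | cons j l ih =>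
    rw [PL_cons, F.cvec_mul (F.hEK (F.hb j)) (F.hEK (F.PL_mem l)), ih, cvec_b]
    funext i
    rw [Pi.add_apply, Pi.single_apply, List.count_cons]
    by_cases h : i = j
    · subst h
      simp [add_comm]
    · have h' : ¬ (j == i) = true := by
        simp only [beq_iff_eq]
        exact fun e => h e.symm
      rw [if_neg h, if_neg h']
      simp

/-- the support of a vector, as a list -/
def supp (v : ι → ZMod 2) : List ι := F.L.filter fun i => v i = 1

/-- the element with given coordinates -/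
def PV (v : ι → ZMod 2) : G := F.PL (F.supp v)

theorem PV_mem (v : ι → ZMod 2) : F.PV v ∈ F.E := F.PL_mem _

theorem cvec_PV (v : ι → ZMod 2) : F.cvec (F.PV v) = v := by
  unfold PV
  rw [cvec_PL]
  funext i
  unfold supp
  have hn : (F.L.filter fun i => v i = 1).Nodup := F.hLn.filter _
  by_cases h : v i = 1
  · have hm : i ∈ F.L.filter fun i => v i = 1 := by
      rw [List.mem_filter]
      exact ⟨F.hLm i, by simpa using h⟩
    rw [List.count_eq_one_of_mem hn hm, h]
    simp
  · have hm : i ∉ F.L.filter fun i => v i = 1 := by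
      rw [List.mem_filter]
      intro hh
      exact h (by simpa using hh.2)
    rw [List.count_eq_zero_of_not_mem hm]
    rcases zmod2_cases (v i) with h0 | h1
    · rw [h0]; simp
    · exact absurd h1 h

theorem PV_zero : F.PV 0 = 1 := by
  unfold PV supp
  have : (F.L.filter fun i => (0 : ι → ZMod 2) i = 1) = [] := by
    rw [List.filter_eq_nil_iff]
    intro i _
    simp
  rw [this, PL_nil]

/-- the elements of `E` by sign and coordinates -/
def Phi (p : Bool × (ι → ZMod 2)) : ↥F.E :=
  ⟨(if p.1 then F.z else 1) * F.PV p.2, F.E.mul_mem (by split_ifs; exact F.hzE; exact F.E.one_mem)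
    (F.PV_mem _)⟩

theorem cvec_Phi (p : Bool × (ι → ZMod 2)) : F.cvec (F.Phi p : G) = p.2 := by
  show F.cvec ((if p.1 then F.z else 1) * F.PV p.2) = p.2
  split_ifs
  · rw [F.cvec_z_mul (F.hEK (F.PV_mem _)), cvec_PV]
  · rw [one_mul, cvec_PV]

theorem Phi_injective : Function.Injective F.Phi := by
  rintro ⟨ε, v⟩ ⟨ε', v'⟩ h
  have h1 : v = v' := by
    have := congrArg (fun e : ↥F.E => F.cvec (e : G)) h
    simpa [cvec_Phi] using this
  subst h1
  have h2 : (if ε then F.z else 1) * F.PV v = (if ε' then F.z else 1) * F.PV v :=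
    congrArg Subtype.val h
  have h3 := mul_right_cancel h2
  cases ε <;> cases ε'
  · rfl
  · exfalso
    simp only [Bool.false_eq_true, if_false, if_true] at h3
    exact F.hz1 h3.symm
  · exfalso
    simp only [Bool.false_eq_true, if_false, if_true] at h3
    exact F.hz1 h3
  · rfl

variable [Finite G]

theorem Phi_surjective : Function.Surjective F.Phi := by
  have hc : Nat.card ↥F.E ≤ Nat.card (Bool × (ι → ZMod 2)) := by
    rw [Nat.card_prod, Nat.card_eq_fintype_card (α := Bool),
      Nat.card_eq_fintype_card (α := ι → ZMod 2), Fintype.card_bool, Fintype.card_fun, ZMod.card]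
    exact F.hcard
  exact (Function.Injective.bijective_of_nat_card_le F.Phi_injective hc).2

/-- every element of `E` is, up to `z`, the element with its coordinates -/
theorem decomp {e : G} (he : e ∈ F.E) : e = F.PV (F.cvec e) ∨ e = F.z * F.PV (F.cvec e) := by
  obtain ⟨⟨ε, v⟩, h⟩ := F.Phi_surjective ⟨e, he⟩
  have h1 : (if ε then F.z else 1) * F.PV v = e := congrArg Subtype.val h
  have h2 : F.cvec e = v := by
    rw [← h1]
    exact F.cvec_Phi (ε, v)
  rw [h2, ← h1]
  cases ε
  · left
    simp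
  · right
    simp

/-- the order of `E` -/
theorem card_E : Nat.card ↥F.E = 2 * 2 ^ Fintype.card ι := by
  have := Nat.card_congr (Equiv.ofBijective F.Phi ⟨F.Phi_injective, F.Phi_surjective⟩)
  rw [← this, Nat.card_prod, Nat.card_eq_fintype_card (α := Bool),
    Nat.card_eq_fintype_card (α := ι → ZMod 2), Fintype.card_bool, Fintype.card_fun, ZMod.card]

theorem eq_of_cvec_zero {e : G} (he : e ∈ F.E) (h : F.cvec e = 0) : e = 1 ∨ e = F.z := by
  rcases F.decomp he with h1 | h1
  · left
    rw [h1, h, PV_zero]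
  · right
    rw [h1, h, PV_zero, mul_one]

theorem eq_of_cvec_eq {e e' : G} (he : e ∈ F.E) (he' : e' ∈ F.E) (h : F.cvec e = F.cvec e') :
    e = e' ∨ e = F.z * e' := by
  rcases F.decomp he with h1 | h1 <;> rcases F.decomp he' with h2 | h2
  · left
    rw [h1, h2, h]
  · right
    rw [h1, h, h2, ← mul_assoc, F.hz2, one_mul]
    exact (congrArg _ (by rw [← h2])).trans rfl
  · right
    rw [h1, h2, h]
  · left
    rw [h1, h2, h]

/-! ### the linear action -/

/-- the matrix of conjugation by an element -/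
noncomputable def Mx (x : G) : Matrix ι ι (ZMod 2) :=
  Matrix.of fun i j => F.cvec (x * F.b j * x⁻¹) i

theorem conj_mul (x g h : G) : x * (g * h) * x⁻¹ = (x * g * x⁻¹) * (x * h * x⁻¹) := by group

theorem cvec_conj_PL {x : G} (hx : x ∈ F.X) (l : List ι) :
    F.cvec (x * F.PL l * x⁻¹) = F.Mx x *ᵥ F.cvec (F.PL l) := by
  induction l with
  | nil =>
    rw [PL_nil, mul_one, mul_inv_cancel, cvec_one, Matrix.mulVec_zero]
  | cons j l ih =>
    rw [PL_cons, conj_mul, F.cvec_mul (F.hEK (F.hXE x hx _ (F.hb j)))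
      (F.hEK (F.hXE x hx _ (F.PL_mem l))), ih, F.cvec_mul (F.hEK (F.hb j)) (F.hEK (F.PL_mem l)),
      Matrix.mulVec_add, cvec_b]
    congr 1
    funext i
    rw [Matrix.mulVec_single_one]
    rfl

theorem cvec_conj {x : G} (hx : x ∈ F.X) {e : G} (he : e ∈ F.E) :
    F.cvec (x * e * x⁻¹) = F.Mx x *ᵥ F.cvec e := by
  have key : F.cvec (x * F.PV (F.cvec e) * x⁻¹) = F.Mx x *ᵥ F.cvec e := by
    have := F.cvec_conj_PL hx (F.supp (F.cvec e))
    rw [show F.PL (F.supp (F.cvec e)) = F.PV (F.cvec e) from rfl, cvec_PV] at this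
    exact this
  rcases F.decomp he with h1 | h1
  · rw [← h1] at key
    exact key
  · have e1 : x * e * x⁻¹ = F.z * (x * F.PV (F.cvec e) * x⁻¹) := by
      have hc := F.hXz x hx
      calc x * e * x⁻¹ = x * (F.z * F.PV (F.cvec e)) * x⁻¹ := by rw [← h1]
        _ = (x * F.z) * F.PV (F.cvec e) * x⁻¹ := by group
        _ = (F.z * x) * F.PV (F.cvec e) * x⁻¹ := by rw [hc]
        _ = _ := by group
    rw [e1, F.cvec_z_mul (F.hEK (F.hXE x hx _ (F.PV_mem _))), key]

theorem Mx_one : F.Mx 1 = 1 := by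
  ext i j
  show F.cvec (1 * F.b j * 1⁻¹) i = _
  rw [one_mul, inv_one, mul_one, cvec_b, Matrix.one_apply, Pi.single_apply]

theorem Mx_mul {x y : G} (hx : x ∈ F.X) (hy : y ∈ F.X) : F.Mx (x * y) = F.Mx x * F.Mx y := by
  ext i j
  show F.cvec (x * y * F.b j * (x * y)⁻¹) i = _
  have e1 : x * y * F.b j * (x * y)⁻¹ = x * (y * F.b j * y⁻¹) * x⁻¹ := by group
  rw [e1, F.cvec_conj hx (F.hXE y hy _ (F.hb j)), Matrix.mul_apply]
  rfl

theorem Mx_mul_inv {x : G} (hx : x ∈ F.X) : F.Mx x * F.Mx x⁻¹ = 1 := by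
  rw [← F.Mx_mul hx (F.X.inv_mem hx), mul_inv_cancel, Mx_one]

theorem Mx_inv_mul {x : G} (hx : x ∈ F.X) : F.Mx x⁻¹ * F.Mx x = 1 := by
  rw [← F.Mx_mul (F.X.inv_mem hx) hx, inv_mul_cancel, Mx_one]

/-! ### the quadratic form -/

/-- the quadratic form: squaring -/
noncomputable def Qf (v : ι → ZMod 2) : ZMod 2 := qP (F.PV v)

theorem qP_z_mul {g : G} (hg : g ∈ F.K) : qP (F.z * g) = qP g := by
  have e : F.z * g * (F.z * g) = g * g := by
    calc F.z * g * (F.z * g) = F.z * (g * F.z) * g := by group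
      _ = F.z * (F.z * g) * g := by rw [F.hzc g hg]
      _ = (F.z * F.z) * (g * g) := by group
      _ = g * g := by rw [F.hz2, one_mul]
  unfold qP
  rw [e]

theorem qP_eq {e : G} (he : e ∈ F.E) : qP e = F.Qf (F.cvec e) := by
  unfold Qf
  rcases F.decomp he with h1 | h1
  · rw [← h1]
  · conv_lhs => rw [h1]
    exact F.qP_z_mul (F.hEK (F.PV_mem _))

theorem Qf_Mx {x : G} (hx : x ∈ F.X) (v : ι → ZMod 2) : F.Qf (F.Mx x *ᵥ v) = F.Qf v := by
  have h1 := F.qP_eq (F.hXE x hx _ (F.PV_mem v))
  rw [F.cvec_conj hx (F.PV_mem v), cvec_PV, qP_conj, F.qP_eq (F.PV_mem v), cvec_PV] at h1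
  exact h1.symm

/-! ### the homomorphism -/

/-- the matrix as an invertible matrix -/
noncomputable def MxU (x : ↥F.X) : GL ι (ZMod 2) :=
  ⟨F.Mx x.1, F.Mx x.1⁻¹, F.Mx_mul_inv x.2, F.Mx_inv_mul x.2⟩

/-- the homomorphism to the isometry group of the quadratic form -/
noncomputable def rho (Q : (ι → ZMod 2) → ZMod 2) (hQ : ∀ v, F.Qf v = Q v) :
    ↥F.X →* ↥(Cfsg.isometryGroup (ZMod 2) Q) where
  toFun x := ⟨F.MxU x, fun u _ => by
    show Q (F.Mx x.1 *ᵥ u) = Q u
    rw [← hQ, ← hQ, F.Qf_Mx x.2]⟩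
  map_one' := Subtype.ext (Units.ext F.Mx_one)
  map_mul' x y := Subtype.ext (Units.ext (F.Mx_mul x.2 y.2))

theorem rho_val (Q : (ι → ZMod 2) → ZMod 2) (hQ : ∀ v, F.Qf v = Q v) (x : ↥F.X) :
    (((F.rho Q hQ x : ↥(Cfsg.isometryGroup (ZMod 2) Q)) : GL ι (ZMod 2)) :
      Matrix ι ι (ZMod 2)) = F.Mx x.1 := rfl

/-- the kernel: the elements acting trivially on the basis modulo `z` -/
theorem rho_eq_one_iff (Q : (ι → ZMod 2) → ZMod 2) (hQ : ∀ v, F.Qf v = Q v) (x : ↥F.X) :
    F.rho Q hQ x = 1 ↔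
      ∀ j, x.1 * F.b j * x.1⁻¹ = F.b j ∨ x.1 * F.b j * x.1⁻¹ = F.z * F.b j := by
  constructor
  · intro h j
    have h1 : F.Mx x.1 = 1 := by
      rw [← rho_val F Q hQ x, h]
      rfl
    apply F.eq_of_cvec_eq (F.hXE x.1 x.2 _ (F.hb j)) (F.hb j)
    rw [F.cvec_conj x.2 (F.hb j), h1, Matrix.one_mulVec]
  · intro h
    apply Subtype.ext
    apply Units.ext
    show F.Mx x.1 = 1
    ext i j
    show F.cvec (x.1 * F.b j * x.1⁻¹) i = _
    rcases h j with e | e
    · rw [e, cvec_b, Matrix.one_apply, Pi.single_apply]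
    · rw [e, F.cvec_z_mul (F.hEK (F.hb j)), cvec_b, Matrix.one_apply, Pi.single_apply]

/-- the action on coordinates -/
theorem rho_mulVec (Q : (ι → ZMod 2) → ZMod 2) (hQ : ∀ v, F.Qf v = Q v) (x : ↥F.X) {e : G}
    (he : e ∈ F.E) :
    (((F.rho Q hQ x : ↥(Cfsg.isometryGroup (ZMod 2) Q)) : GL ι (ZMod 2)) :
      Matrix ι ι (ZMod 2)) *ᵥ F.cvec e = F.cvec (x.1 * e * x.1⁻¹) := by
  rw [rho_val, F.cvec_conj x.2 he]

end Frame

end Cfsg.Agent.Helper26.ExCoord
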