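import Cfsg.Agent.Helper92.FixClosure
import Cfsg.Agent.Helper27.Octads

/-!
# Fast application of a point permutation to 24-bit masks, and Schreier-vector orbit certificates

A permutation is given by its table `t`, the inverse table `s` (as in `Helper92.PermTab`) and three
packed byte tables `T0 T1 T2` (256 entries of 24 bits each): `app m` looks up the images of the three
bytes of `m` and ORs them.  `GenData.ok` checks (in the kernel) that the tables are consistent and that
the permutation lies in `M24`.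

`iterS` walks along a Schreier vector (4 bits per entry: which generator to apply next) until the
target predicate holds; `iterS_sound` says the result is the image of the start under an element of
any subgroup containing the generators.
-/

set_option autoImplicit false

namespace Cfsg.Agent.Helper26

open Cfsg Helper27 Helper92
open scoped Pointwise

/-- force evaluation of a natural number argument (the kernel is lazy) -/
def strictN {α : Sort _} (f : ℕ → α) (m : ℕ) : α := Nat.casesOn m (f 0) (fun n => f (Nat.succ n))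

theorem strictN_eq {α : Sort _} (f : ℕ → α) (m : ℕ) : strictN f m = f m := by
  cases m <;> rfl

/-- entry `b` of a packed table of 24-bit entries -/
def lk24 (T b : ℕ) : ℕ := Nat.land (Nat.shiftRight T (Nat.mul 24 b)) 16777215

theorem lk24_lt (T b : ℕ) : lk24 T b < 2 ^ 24 :=
  Nat.and_lt_two_pow _ (by norm_num : (16777215 : ℕ) < 2 ^ 24)

def fastP (T0 T1 T2 m : ℕ) : ℕ :=
  Nat.lor (Nat.lor (lk24 T0 (Nat.land m 255)) (lk24 T1 (Nat.land (Nat.shiftRight m 8) 255)))
    (lk24 T2 (Nat.shiftRight m 16))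

theorem fastP_lt (T0 T1 T2 m : ℕ) : fastP T0 T1 T2 m < 2 ^ 24 :=
  Nat.or_lt_two_pow (Nat.or_lt_two_pow (lk24_lt _ _) (lk24_lt _ _)) (lk24_lt _ _)

theorem pmask_or (s : List ℕ) (a b : ℕ) : pmask s (a ||| b) = pmask s a ||| pmask s b := by
  apply Nat.eq_of_testBit_eq
  intro i
  by_cases hi : i < 24
  · rw [Nat.testBit_or, testBit_pmask _ _ _ hi, testBit_pmask _ _ _ hi, testBit_pmask _ _ _ hi,
      Nat.testBit_or]
  · have h24 : 2 ^ 24 ≤ 2 ^ i := Nat.pow_le_pow_right (by norm_num) (by omega)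
    rw [Nat.testBit_or, Nat.testBit_lt_two_pow (lt_of_lt_of_le (pmask_lt _ _) h24),
      Nat.testBit_lt_two_pow (lt_of_lt_of_le (pmask_lt _ _) h24),
      Nat.testBit_lt_two_pow (lt_of_lt_of_le (pmask_lt _ _) h24)]
    rfl

theorem split_bytes (m : ℕ) :
    m = (m &&& 255) ||| (((m >>> 8) &&& 255) <<< 8) ||| ((m >>> 16) <<< 16) := by
  apply Nat.eq_of_testBit_eq
  intro i
  have h255 : (255 : ℕ) = 2 ^ 8 - 1 := rfl
  simp only [Nat.testBit_or, Nat.testBit_and, Nat.testBit_shiftLeft, Nat.testBit_shiftRight, h255,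
    Nat.testBit_two_pow_sub_one]
  by_cases h8 : i < 8
  · have h1 : ¬ (8 ≤ i) := by omega
    have h2 : ¬ (16 ≤ i) := by omega
    simp [h8, h1, h2]
  · by_cases h16 : i < 16
    · have h1 : 8 ≤ i := by omega
      have h2 : ¬ (16 ≤ i) := by omega
      have h3 : i - 8 < 8 := by omega
      have h4 : 8 + (i - 8) = i := by omega
      simp [h8, h1, h2, h3, h4]
    · have h1 : 8 ≤ i := by omega
      have h2 : 16 ≤ i := by omega
      have h3 : ¬ (i - 8 < 8) := by omega
      have h4 : 16 + (i - 16) = i := by omega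
      simp [h8, h1, h2, h3, h4]

/-- the packed byte tables agree with `pmask s` -/
def tabOK (s : List ℕ) (T0 T1 T2 : ℕ) : Bool :=
  allRange (fun b => (lk24 T0 b == pmask s b) && (lk24 T1 b == pmask s (b <<< 8)) &&
    (lk24 T2 b == pmask s (b <<< 16))) 8 0

theorem fastP_eq_pmask {s : List ℕ} {T0 T1 T2 : ℕ} (h : tabOK s T0 T1 T2 = true) (m : ℕ)
    (hm : m < 2 ^ 24) : fastP T0 T1 T2 m = pmask s m := by
  have hall := forall_lt_of_allRange _ 8 h
  have hb0 : m &&& 255 < 2 ^ 8 := Nat.and_lt_two_pow _ (by norm_num)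
  have hb1 : (m >>> 8) &&& 255 < 2 ^ 8 := Nat.and_lt_two_pow _ (by norm_num)
  have hb2 : m >>> 16 < 2 ^ 8 := by
    rw [Nat.shiftRight_eq_div_pow]
    exact Nat.div_lt_of_lt_mul (by norm_num at hm ⊢; omega)
  have e0 := hall _ hb0
  have e1 := hall _ hb1
  have e2 := hall _ hb2
  simp only [Bool.and_eq_true, beq_iff_eq] at e0 e1 e2
  conv_rhs => rw [split_bytes m, pmask_or, pmask_or]
  rw [← e0.1.1, ← e1.1.2, ← e2.2]
  rfl

/-- data of one generator -/
structure GenData where
  t : List ℕ
  s : List ℕ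
  T0 : ℕ
  T1 : ℕ
  T2 : ℕ

namespace GenData

def ok (g : GenData) : Bool := isInvPair g.t g.s && checkM24 g.s && tabOK g.s g.T0 g.T1 g.T2

def perm (g : GenData) : Equiv.Perm GolayPt := permOfTabs g.t g.s

def app (g : GenData) (m : ℕ) : ℕ := fastP g.T0 g.T1 g.T2 m

theorem app_lt (g : GenData) (m : ℕ) : g.app m < 2 ^ 24 := fastP_lt _ _ _ _

theorem ok_inv {g : GenData} (h : g.ok = true) : isInvPair g.t g.s = true := by
  simp only [ok, Bool.and_eq_true] at h
  exact h.1.1

theorem perm_mem {g : GenData} (h : g.ok = true) : g.perm ∈ M24 := by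
  simp only [ok, Bool.and_eq_true] at h
  exact permOfTabs_mem_M24 h.1.1 h.1.2

theorem app_eq {g : GenData} (h : g.ok = true) (m : ℕ) (hm : m < 2 ^ 24) :
    g.app m = pmask g.s m := by
  simp only [ok, Bool.and_eq_true] at h
  exact fastP_eq_pmask h.2 m hm

theorem smul_setOf {g : GenData} (h : g.ok = true) (m : ℕ) (hm : m < 2 ^ 24) :
    g.perm • Helper27.setOf m = Helper27.setOf (g.app m) := by
  ext p
  rw [app_eq h m hm, image_setOf (ok_inv h), ← Finset.inv_smul_mem_iff]
  rfl

end GenData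

/-- one step along the Schreier vector `sv` (4 bits per entry, entry index `idx m`) -/
def stepS (gens : List GenData) (sv : ℕ) (idx : ℕ → ℕ) (m : ℕ) : ℕ :=
  match gens[Nat.land (Nat.shiftRight sv (Nat.mul 4 (idx m))) 15]? with
  | some g => g.app m
  | none => m

/-- walk along the Schreier vector until `tgt` holds, at most `n` steps -/
def iterS (gens : List GenData) (sv : ℕ) (idx : ℕ → ℕ) (tgt : ℕ → Bool) (n : ℕ) : ℕ → ℕ :=
  Nat.rec (fun m => m) (fun _ ih m => cond (tgt m) m (strictN ih (stepS gens sv idx m))) n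

theorem iterS_zero (gens : List GenData) (sv : ℕ) (idx : ℕ → ℕ) (tgt : ℕ → Bool) (m : ℕ) :
    iterS gens sv idx tgt 0 m = m := rfl

theorem iterS_succ (gens : List GenData) (sv : ℕ) (idx : ℕ → ℕ) (tgt : ℕ → Bool) (n m : ℕ) :
    iterS gens sv idx tgt (n + 1) m =
      cond (tgt m) m (iterS gens sv idx tgt n (stepS gens sv idx m)) := by
  show cond (tgt m) m (strictN (iterS gens sv idx tgt n) (stepS gens sv idx m)) = _
  rw [strictN_eq]

theorem stepS_sound (H : Subgroup (Equiv.Perm GolayPt)) (gens : List GenData)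
    (hH : ∀ g ∈ gens, g.ok = true ∧ g.perm ∈ H) (sv : ℕ) (idx : ℕ → ℕ) (m : ℕ) (hm : m < 2 ^ 24) :
    stepS gens sv idx m < 2 ^ 24 ∧ ∃ h ∈ H, h • Helper27.setOf m = Helper27.setOf (stepS gens sv idx m) := by
  unfold stepS
  split
  · rename_i g hg
    have hmem : g ∈ gens := List.mem_of_getElem? hg
    exact ⟨g.app_lt m, g.perm, (hH g hmem).2, GenData.smul_setOf (hH g hmem).1 m hm⟩
  · exact ⟨hm, 1, H.one_mem, one_smul _ _⟩

theorem iterS_sound (H : Subgroup (Equiv.Perm GolayPt)) (gens : List GenData)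
    (hH : ∀ g ∈ gens, g.ok = true ∧ g.perm ∈ H) (sv : ℕ) (idx : ℕ → ℕ) (tgt : ℕ → Bool) (n : ℕ) :
    ∀ m, m < 2 ^ 24 → ∃ h ∈ H, h • Helper27.setOf m = Helper27.setOf (iterS gens sv idx tgt n m) := by
  induction n with
  | zero => intro m _; exact ⟨1, H.one_mem, one_smul _ _⟩
  | succ n ih =>
    intro m hm
    rw [iterS_succ]
    cases tgt m with
    | true => exact ⟨1, H.one_mem, one_smul _ _⟩
    | false =>
      obtain ⟨hlt, h₁, hh₁, e₁⟩ := stepS_sound H gens hH sv idx m hm
      obtain ⟨h₂, hh₂, e₂⟩ := ih _ hlt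
      refine ⟨h₂ * h₁, H.mul_mem hh₂ hh₁, ?_⟩
      rw [mul_smul, e₁, e₂]
      rfl

end Cfsg.Agent.Helper26
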