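import Cfsg.Agent.Helper26.HSBase

/-!
# The 100 minimal vectors attached to a pair `(5, 1, …)`, `-(1, …, 5, …)`
-/

set_option autoImplicit false

namespace Cfsg.Agent.Helper26

open Cfsg Cfsg.Agent.Helper8 Cfsg.Agent.Helper27
open scoped Pointwise

variable {k j : GolayPt}

set_option maxRecDepth 100000 in
theorem fiveVec_chk_all : ∀ k : GolayPt, leechChk (fiveVec k) = true := by decide +kernel

theorem fiveVec_mem (k : GolayPt) : fiveVec k ∈ leechLattice :=
  mem_of_leechChk (fiveVec_chk_all k)

/-- the set of the 100 vectors -/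
def hsT (k j : GolayPt) : Set IVec :=
  {x | x ∈ leechLattice ∧ sqNorm x = 32 ∧ dotInt (fiveVec k) x = 24 ∧ dotInt (fiveVec j) x = 24}

theorem sqNorm_twoInd {O : Finset GolayPt} (hO : O ∈ octads) : sqNorm (twoInd O) = 32 := by
  classical
  unfold sqNorm
  have h : ∀ i, (twoInd O i) ^ 2 = if i ∈ O then 4 else 0 := by
    intro i
    unfold twoInd
    split_ifs <;> norm_num
  rw [Finset.sum_congr rfl (fun i _ => h i), Finset.sum_ite_mem, Finset.univ_inter,
    Finset.sum_const, hO.2]
  norm_num

theorem sum_twoInd {O : Finset GolayPt} (hO : O ∈ octads) : ∑ i, twoInd O i = 16 := by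
  classical
  unfold twoInd
  rw [Finset.sum_ite_mem, Finset.univ_inter, Finset.sum_const, hO.2]
  norm_num

theorem sqNorm_oddBase (i : GolayPt) : sqNorm (oddBase i) = 32 := by
  classical
  unfold sqNorm
  have h : ∀ a, (oddBase i a) ^ 2 = 1 + if a = i then 8 else 0 := by
    intro a
    unfold oddBase
    split_ifs <;> norm_num
  rw [Finset.sum_congr rfl (fun a _ => h a), Finset.sum_add_distrib,
    Finset.sum_ite_eq' Finset.univ i, if_pos (Finset.mem_univ _), Finset.sum_const,
    Finset.card_univ, card_golayPt]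
  norm_num

theorem sum_oddBase (i : GolayPt) : ∑ a, oddBase i a = 20 := by
  have := sum_oddC i ∅
  rw [signedPerm_one_empty, Finset.card_empty, if_neg (Finset.notMem_empty _)] at this
  rw [this]
  norm_num

theorem oddBase_mem (i : GolayPt) : oddBase i ∈ leechLattice := by
  have := oddC_mem (k := i) Cfsg.Agent.S0390.empty_mem_supports
  rwa [signedPerm_one_empty] at this

/-! ### the three classes are in the set -/

theorem vPlus_mem_hsT (hkj : k ≠ j) : vPlus k j ∈ hsT k j := by
  have hsum : ∑ a, vPlus k j a = 8 := by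
    unfold vPlus
    simp only [Pi.add_apply]
    rw [Finset.sum_add_distrib, sum_single, sum_single]
    norm_num
  have hk : vPlus k j k = 4 := by
    unfold vPlus
    simp [Pi.single_apply, hkj]
  have hj : vPlus k j j = 4 := by
    unfold vPlus
    simp [Pi.single_apply, Ne.symm hkj]
  refine ⟨vPlus_mem hkj, sqNorm_vPlus hkj, ?_, ?_⟩
  · rw [dotInt_fiveVec, hsum, hk]; norm_num
  · rw [dotInt_fiveVec, hsum, hj]; norm_num

theorem twoInd_mem_hsT {O : Finset GolayPt} (hO : O ∈ octads) (hk : k ∈ O) (hj : j ∈ O) :
    twoInd O ∈ hsT k j := by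
  refine ⟨twoInd_mem hO.1, sqNorm_twoInd hO, ?_, ?_⟩
  · rw [dotInt_fiveVec, sum_twoInd hO]
    unfold twoInd
    rw [if_pos hk]; norm_num
  · rw [dotInt_fiveVec, sum_twoInd hO]
    unfold twoInd
    rw [if_pos hj]; norm_num

theorem oddBase_mem_hsT {i : GolayPt} (hik : i ≠ k) (hij : i ≠ j) : oddBase i ∈ hsT k j := by
  refine ⟨oddBase_mem i, sqNorm_oddBase i, ?_, ?_⟩
  · rw [dotInt_fiveVec, sum_oddBase]
    unfold oddBase
    rw [if_neg (Ne.symm hik)]; norm_num
  · rw [dotInt_fiveVec, sum_oddBase]
    unfold oddBase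
    rw [if_neg (Ne.symm hij)]; norm_num

/-! ### the classification -/

theorem hs_cases (hkj : k ≠ j) {x : IVec} (hx : x ∈ hsT k j) :
    x = vPlus k j ∨ (∃ O ∈ octads, k ∈ O ∧ j ∈ O ∧ x = twoInd O) ∨
      (∃ i, i ≠ k ∧ i ≠ j ∧ x = oddBase i) := by
  classical
  obtain ⟨hxL, hn, hk, hj⟩ := hx
  rw [dotInt_fiveVec] at hk hj
  rcases min_cases hxL hn with hA | hB | hC
  · left
    obtain ⟨a, b, s, t, hab, hs, ht, rfl⟩ := hA
    have hsum : ∑ c, (Pi.single a s + Pi.single b t : IVec) c = s + t := by
      simp only [Pi.add_apply]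
      rw [Finset.sum_add_distrib, sum_single, sum_single]
    have hval : ∀ c, (Pi.single a s + Pi.single b t : IVec) c =
        (if c = a then s else 0) + (if c = b then t else 0) := by
      intro c
      simp only [Pi.add_apply, Pi.single_apply]
    rw [hsum, hval] at hk hj
    by_cases hka : k = a
    · have hkb : k ≠ b := fun h => hab (hka.symm.trans h)
      have hja : j ≠ a := fun h => hkj (hka.trans h.symm)
      rw [if_pos hka, if_neg hkb] at hk
      rw [if_neg hja] at hj
      by_cases hjb : j = b
      · rw [if_pos hjb] at hj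
        have hs4 : s = 4 := by rcases hs with rfl | rfl <;> rcases ht with rfl | rfl <;> omega
        have ht4 : t = 4 := by rcases hs with rfl | rfl <;> rcases ht with rfl | rfl <;> omega
        rw [hs4, ht4, ← hka, ← hjb]
        rfl
      · exfalso
        rw [if_neg hjb] at hj
        rcases hs with rfl | rfl <;> rcases ht with rfl | rfl <;> omega
    · rw [if_neg hka] at hk
      by_cases hkb : k = b
      · have hjb : j ≠ b := fun h => hkj (hkb.trans h.symm)
        rw [if_pos hkb] at hk
        rw [if_neg hjb] at hj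
        by_cases hja : j = a
        · rw [if_pos hja] at hj
          have hs4 : s = 4 := by rcases hs with rfl | rfl <;> rcases ht with rfl | rfl <;> omega
          have ht4 : t = 4 := by rcases hs with rfl | rfl <;> rcases ht with rfl | rfl <;> omega
          rw [hs4, ht4, ← hkb, ← hja, add_comm]
          rfl
        · exfalso
          rw [if_neg hja] at hj
          rcases hs with rfl | rfl <;> rcases ht with rfl | rfl <;> omega
      · exfalso
        rw [if_neg hkb] at hk
        rcases hs with rfl | rfl <;> rcases ht with rfl | rfl <;> omega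
  · right; left
    obtain ⟨O, hO, h1, h0⟩ := hB
    rw [sum_eq_sum_octad h0] at hk hj
    have hnn : ∀ i ∈ O, 0 ≤ 2 - x i := by
      intro i hi
      rcases h1 i hi with h' | h' <;> omega
    have hs : ∑ i ∈ O, (2 - x i) = 16 - ∑ i ∈ O, x i := by
      rw [Finset.sum_sub_distrib, Finset.sum_const, hO.2]
      norm_num
    have hle : 0 ≤ ∑ i ∈ O, (2 - x i) := Finset.sum_nonneg hnn
    have hkO : k ∈ O := by
      by_contra h
      rw [h0 k h] at hk
      omega
    have hjO : j ∈ O := by
      by_contra h
      rw [h0 j h] at hj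
      omega
    have hxk : x k = 2 := by
      rcases h1 k hkO with h' | h'
      · exact h'
      · rw [h'] at hk
        omega
    have hall : ∀ i ∈ O, x i = 2 := by
      intro i hi
      have hz : ∑ i ∈ O, (2 - x i) = 0 := by rw [hs]; omega
      have := (Finset.sum_eq_zero_iff_of_nonneg hnn).mp hz i hi
      omega
    refine ⟨O, hO, hkO, hjO, ?_⟩
    ext i
    unfold twoInd
    by_cases hi : i ∈ O
    · rw [if_pos hi, hall i hi]
    · rw [if_neg hi, h0 i hi]
  · right; right
    obtain ⟨i, C, hC, rfl⟩ := hC
    rw [sum_oddC, oddC_apply] at hk hj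
    have hcards := Helper92.card_of_mem_supports hC
    by_cases hik : i = k
    · exfalso
      subst hik
      have hji : j ≠ i := Ne.symm hkj
      simp only [if_true, hji, if_false] at hk hj
      by_cases hiC : i ∈ C <;> by_cases hjC : j ∈ C <;>
        simp only [hiC, hjC, if_true, if_false] at hk hj <;> omega
    · by_cases hij : i = j
      · exfalso
        subst hij
        have hki : k ≠ i := hkj
        simp only [if_true, hki, if_false] at hk hj
        by_cases hiC : i ∈ C <;> by_cases hkC : k ∈ C <;>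
          simp only [hiC, hkC, if_true, if_false] at hk hj <;> omega
      · have hki : k ≠ i := Ne.symm hik
        have hji : j ≠ i := Ne.symm hij
        simp only [hki, hji, if_false] at hk hj
        have hc0 : C.card = 0 := by
          by_cases hiC : i ∈ C <;> by_cases hkC : k ∈ C <;>
            simp only [hiC, hkC, if_true, if_false] at hk <;> omega
        rw [Finset.card_eq_zero] at hc0
        refine ⟨i, hik, hij, ?_⟩
        rw [hc0, signedPerm_one_empty]

/-! ### the count -/

theorem twoInd_injective : Function.Injective twoInd := by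
  intro O O' h
  ext i
  have := congrFun h i
  unfold twoInd at this
  by_cases h1 : i ∈ O <;> by_cases h2 : i ∈ O'
  · exact iff_of_true h1 h2
  · rw [if_pos h1, if_neg h2] at this; norm_num at this
  · rw [if_neg h1, if_pos h2] at this; norm_num at this
  · exact iff_of_false h1 h2

theorem oddBase_injective : Function.Injective oddBase := by
  intro i i' h
  have := congrFun h i
  unfold oddBase at this
  rw [if_pos rfl] at this
  by_contra hne
  rw [if_neg hne] at this
  norm_num at this

theorem hsT_eq (hkj : k ≠ j) : hsT k j =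
    ({vPlus k j} ∪ twoInd '' {O | O ∈ octads ∧ ({k, j} : Finset GolayPt) ⊆ O}) ∪
      oddBase '' {i | i ≠ k ∧ i ≠ j} := by
  ext x
  simp only [Set.mem_union, Set.mem_singleton_iff, Set.mem_image, Set.mem_ofPred_eq]
  constructor
  · intro hx
    rcases hs_cases hkj hx with rfl | ⟨O, hO, hk, hj, rfl⟩ | ⟨i, hik, hij, rfl⟩
    · exact Or.inl (Or.inl rfl)
    · refine Or.inl (Or.inr ⟨O, ⟨hO, ?_⟩, rfl⟩)
      intro a ha
      rw [Finset.mem_insert, Finset.mem_singleton] at ha
      rcases ha with rfl | rfl
      exacts [hk, hj]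
    · exact Or.inr ⟨i, ⟨hik, hij⟩, rfl⟩
  · rintro ((rfl | ⟨O, ⟨hO, hsub⟩, rfl⟩) | ⟨i, ⟨hik, hij⟩, rfl⟩)
    · exact vPlus_mem_hsT hkj
    · exact twoInd_mem_hsT hO (hsub (by simp)) (hsub (by simp))
    · exact oddBase_mem_hsT hik hij

theorem ncard_octads_through (hkj : k ≠ j) :
    {O | O ∈ octads ∧ ({k, j} : Finset GolayPt) ⊆ O}.ncard = 77 := by
  have h := card_blocks_through octads_steiner ({k, j} : Finset GolayPt)
    (by rw [Finset.card_pair hkj]; norm_num)
  rw [Finset.card_pair hkj, card_golayPt] at h
  have e1 : Nat.choose (8 - 2) (5 - 2) = 20 := by decide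
  have e2 : Nat.choose (24 - 2) (5 - 2) = 1540 := by decide
  rw [e1, e2] at h
  omega

theorem ncard_other_points (hkj : k ≠ j) : {i : GolayPt | i ≠ k ∧ i ≠ j}.ncard = 22 := by
  classical
  have e : {i : GolayPt | i ≠ k ∧ i ≠ j} = ↑((Finset.univ.erase k).erase j) := by
    ext i
    simp only [Set.mem_ofPred_eq, Finset.coe_erase, Set.mem_diff, Finset.coe_univ, Set.mem_univ,
      Set.mem_singleton_iff, true_and]
  rw [e, Set.ncard_coe_finset, Finset.card_erase_of_mem (Finset.mem_erase.2
    ⟨Ne.symm hkj, Finset.mem_univ _⟩), Finset.card_erase_of_mem (Finset.mem_univ _),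
    Finset.card_univ, card_golayPt]

/-- the set has 100 elements -/
theorem ncard_hsT (hkj : k ≠ j) : (hsT k j).ncard = 100 := by
  classical
  have hk4 : vPlus k j k = 4 := by
    unfold vPlus
    simp [Pi.single_apply, hkj]
  have fB : (twoInd '' {O | O ∈ octads ∧ ({k, j} : Finset GolayPt) ⊆ O}).Finite :=
    (Set.toFinite _).image _
  have fC : (oddBase '' {i | i ≠ k ∧ i ≠ j}).Finite := (Set.toFinite _).image _
  have d1 : Disjoint ({vPlus k j} : Set IVec)
      (twoInd '' {O | O ∈ octads ∧ ({k, j} : Finset GolayPt) ⊆ O}) := by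
    rw [Set.disjoint_singleton_left]
    rintro ⟨O, ⟨-, hsub⟩, h⟩
    have := congrFun h k
    unfold twoInd at this
    rw [if_pos (hsub (by simp)), hk4] at this
    norm_num at this
  have d2 : Disjoint (({vPlus k j} : Set IVec) ∪
      twoInd '' {O | O ∈ octads ∧ ({k, j} : Finset GolayPt) ⊆ O})
      (oddBase '' {i | i ≠ k ∧ i ≠ j}) := by
    rw [Set.disjoint_union_left]
    constructor
    · rw [Set.disjoint_singleton_left]
      rintro ⟨i, ⟨hik, -⟩, h⟩
      have := congrFun h k
      unfold oddBase at this
      rw [if_neg (Ne.symm hik), hk4] at this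
      norm_num at this
    · rw [Set.disjoint_left]
      rintro x ⟨O, ⟨-, hsub⟩, rfl⟩ ⟨i, ⟨hik, -⟩, h⟩
      have := congrFun h k
      unfold twoInd oddBase at this
      rw [if_pos (hsub (by simp)), if_neg (Ne.symm hik)] at this
      norm_num at this
  rw [hsT_eq hkj, Set.ncard_union_eq d2 ((Set.finite_singleton _).union fB) fC,
    Set.ncard_union_eq d1 (Set.finite_singleton _) fB, Set.ncard_singleton,
    Set.ncard_image_of_injective _ twoInd_injective,
    Set.ncard_image_of_injective _ oddBase_injective, ncard_octads_through hkj,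
    ncard_other_points hkj]

end Cfsg.Agent.Helper26
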