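import Cfsg.Agent.Helper26.Co3Data
import Cfsg.Agent.S0401

/-!
# Pairs of vectors of sum of squares 48 with inner product `-32`: transitivity, the orbit relation
of the joint stabiliser
-/

set_option autoImplicit false

namespace Cfsg.Agent.Helper26

open Cfsg Cfsg.Agent.Helper8 Cfsg.Agent.Helper27
open scoped Pointwise

/-- some automorphism fixes the lattice vectors `v`, `w` and maps the lattice vector `x` to `x'` -/
def FRel2 (v w x x' : IVec) : Prop :=
  ∃ (hv : v ∈ leechLattice) (hw : w ∈ leechLattice) (hx : x ∈ leechLattice) (g : ↥Co0),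
    g • (⟨v, hv⟩ : ↥leechLattice) = ⟨v, hv⟩ ∧ g • (⟨w, hw⟩ : ↥leechLattice) = ⟨w, hw⟩ ∧
      ((g • (⟨x, hx⟩ : ↥leechLattice) : ↥leechLattice) : IVec) = x'

theorem FRel2.mem_right {v w x x' : IVec} (h : FRel2 v w x x') : x' ∈ leechLattice := by
  obtain ⟨hv, hw, hx, g, -, -, rfl⟩ := h
  exact (g • (⟨x, hx⟩ : ↥leechLattice)).2

theorem FRel2.refl {v w x : IVec} (hv : v ∈ leechLattice) (hw : w ∈ leechLattice)
    (hx : x ∈ leechLattice) : FRel2 v w x x :=
  ⟨hv, hw, hx, 1, one_smul _ _, one_smul _ _, by rw [one_smul]⟩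

theorem FRel2.trans {v w x x' x'' : IVec} (h1 : FRel2 v w x x') (h2 : FRel2 v w x' x'') :
    FRel2 v w x x'' := by
  obtain ⟨hv, hw, hx, g, hg1, hg2, rfl⟩ := h1
  obtain ⟨_, _, hx', h, hh1, hh2, rfl⟩ := h2
  refine ⟨hv, hw, hx, h * g, by rw [mul_smul, hg1, hh1], by rw [mul_smul, hg2, hh2], ?_⟩
  rw [mul_smul]

theorem FRel2.symm {v w x x' : IVec} (h : FRel2 v w x x') : FRel2 v w x' x := by
  have hx' := h.mem_right
  obtain ⟨hv, hw, hx, g, hg1, hg2, rfl⟩ := h
  refine ⟨hv, hw, hx', g⁻¹, by rw [inv_smul_eq_iff, hg1], by rw [inv_smul_eq_iff, hg2], ?_⟩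
  have : (⟨((g • (⟨x, hx⟩ : ↥leechLattice) : ↥leechLattice) : IVec), hx'⟩ : ↥leechLattice) =
      g • (⟨x, hx⟩ : ↥leechLattice) := Subtype.ext rfl
  rw [this, inv_smul_smul]

/-- signed coordinate permutations fixing `v` and `w` -/
theorem frel2_mono {v w x : IVec} (hv : v ∈ leechLattice) (hw : w ∈ leechLattice)
    (hx : x ∈ leechLattice) {σ : Equiv.Perm GolayPt} (hσ : σ ∈ M24) {D : Finset GolayPt}
    (hD : D ∈ supports (golayCode : Set (GolayPt → ZMod 2)))
    (hfv : signedPerm σ D v = v) (hfw : signedPerm σ D w = w) :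
    FRel2 v w x (signedPerm σ D x) :=
  ⟨hv, hw, hx, monoCo0 hσ hD, Subtype.ext hfv, Subtype.ext hfw, rfl⟩

/-- conjugates by `xi` of signed coordinate permutations fixing `v` and `w` -/
theorem frel2_xmx {v w x : IVec} (hv : v ∈ leechLattice) (hw : w ∈ leechLattice)
    (hx : x ∈ leechLattice) {σ : Equiv.Perm GolayPt} (hσ : σ ∈ M24) {D : Finset GolayPt}
    (hD : D ∈ supports (golayCode : Set (GolayPt → ZMod 2)))
    (hfv : xiFun (signedPerm σ D (xiFun v)) = v) (hfw : xiFun (signedPerm σ D (xiFun w)) = w) :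
    FRel2 v w x (xiFun (signedPerm σ D (xiFun x))) :=
  ⟨hv, hw, hx, xiCo0 * monoCo0 hσ hD * xiCo0, Subtype.ext (by
    rw [mul_smul, mul_smul]
    exact hfv), Subtype.ext (by
    rw [mul_smul, mul_smul]
    exact hfw), by
    rw [mul_smul, mul_smul]
    rfl⟩

theorem exists_smul_of_frel2 {v w x x' : ↥leechLattice} (h : FRel2 v.1 w.1 x.1 x'.1) :
    ∃ g : ↥Co0, g • v = v ∧ g • w = w ∧ g • x = x' := by
  obtain ⟨hv, hw, hx, g, hg1, hg2, hgx⟩ := h
  exact ⟨g, hg1, hg2, Subtype.ext hgx⟩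

/-! ### the base pair -/

/-- the second point -/
abbrev jj : GolayPt := gPt 4

/-- the second base vector -/
def w48 : IVec := -fiveVec jj

set_option maxRecDepth 100000 in
theorem fiveVec_jj_chk : leechChk (fiveVec jj) = true := by decide +kernel

theorem w48_mem : w48 ∈ leechLattice := leechLattice.neg_mem (mem_of_leechChk fiveVec_jj_chk)

/-- minus the sum of the base vectors -/
def x48 : IVec := Pi.single kk (-4) + Pi.single jj 4

theorem x48_mem : x48 ∈ leechLattice :=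
  (vrelA ⟨kk, jj, -4, 4, by decide, Or.inr rfl, Or.inl rfl, rfl⟩).mem_right

set_option maxRecDepth 100000 in
theorem x48_facts : sqNorm x48 = 32 ∧ dotInt u48 x48 = -16 ∧ ∀ i, w48 i = -x48 i - u48 i := by
  decide +kernel

/-- every pair of vectors of sum of squares 48 with inner product `-32` is conjugate to the
base pair -/
theorem hs_pair_trans (v w : ↥leechLattice) (hv : sqNorm (v : IVec) = 48)
    (hw : sqNorm (w : IVec) = 48) (hvw : dotInt (v : IVec) (w : IVec) = -32) :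
    ∃ g : ↥Co0, g • v = ⟨u48, u48_mem⟩ ∧ g • w = ⟨w48, w48_mem⟩ := by
  have hm : sqNorm ((-(v + w) : ↥leechLattice) : IVec) = 32 := by
    rw [AddSubgroup.coe_neg, sqNorm_neg', AddSubgroup.coe_add, sqNorm_add, hv, hw, hvw]
    norm_num
  have hvm : dotInt (v : IVec) ((-(v + w) : ↥leechLattice) : IVec) = -16 := by
    rw [AddSubgroup.coe_neg, AddSubgroup.coe_add, dotInt_neg_right, dotInt_add_right, dotInt_self,
      hv, hvw]
    norm_num
  obtain ⟨g₀, hg₀⟩ := Cfsg.Agent.S0401.result v ⟨u48, u48_mem⟩ hv sqNorm_u48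
  have e1 : ((g₀ • v : ↥leechLattice) : IVec) = u48 := congrArg Subtype.val hg₀
  have r1 := base48 _ (g₀ • (-(v + w))).2 (by rw [co0_sqNorm, hm])
    (by rw [← e1, co0_dotInt, hvm])
  have r2 := base48 _ x48_mem x48_facts.1 x48_facts.2.1
  obtain ⟨h, hh1, hh2⟩ := exists_smul_of_frel (v := ⟨u48, u48_mem⟩) (w := g₀ • (-(v + w)))
    (w' := ⟨x48, x48_mem⟩) (r1.trans r2.symm)
  have hgv : (h * g₀) • v = ⟨u48, u48_mem⟩ := by rw [mul_smul, hg₀, hh1]
  refine ⟨h * g₀, hgv, ?_⟩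
  have key : (h * g₀) • (-(v + w)) = ⟨x48, x48_mem⟩ := by rw [mul_smul, hh2]
  have hadd : (h * g₀) • (v + w) = (h * g₀) • v + (h * g₀) • w := by
    rw [← co0Hom_apply, map_add]
    rfl
  rw [co0_smul_neg, hadd, hgv] at key
  have e : (h * g₀) • w = -(⟨x48, x48_mem⟩ : ↥leechLattice) - ⟨u48, u48_mem⟩ := by
    rw [← key]
    abel
  rw [e]
  apply Subtype.ext
  funext i
  show -x48 i - u48 i = w48 i
  rw [x48_facts.2.2 i]

end Cfsg.Agent.Helper26
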