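import Cfsg.Agent.Helper26.HSTrans

/-!
# An involution of the joint stabiliser without fixed points on the 100 vectors
-/

set_option autoImplicit false

namespace Cfsg.Agent.Helper26

open Cfsg Cfsg.Agent.Helper8 Cfsg.Agent.Helper27
open scoped Pointwise

/-- the dodecad carrying the second pair -/
def hsDod : Finset GolayPt := setOf 28637

theorem hsDod_mem : hsDod ∈ supports (golayCode : Set (GolayPt → ZMod 2)) :=
  setOf_mem_supports (by norm_num) (by decide +kernel)

theorem hsDod_card : hsDod.card = 12 := by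
  unfold hsDod
  rw [card_setOf]
  decide +kernel

/-- the second pair -/
def v2nd : IVec := octVec 28637 0
/-- the second pair -/
def w2nd : IVec := octVec 28637 28632

set_option maxRecDepth 100000 in
theorem pair2nd_chk : leechChk v2nd = true ∧ leechChk w2nd = true := by decide +kernel

set_option maxRecDepth 100000 in
theorem pair2nd_facts : sqNorm v2nd = 48 ∧ sqNorm w2nd = 48 ∧ dotInt v2nd w2nd = -32 := by
  decide +kernel

set_option maxRecDepth 100000 in
theorem v2nd_le : ∀ i, v2nd i = 0 ∨ v2nd i = 2 := by decide +kernel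

/-- the second pair as lattice elements -/
def latV2 : ↥leechLattice := ⟨v2nd, mem_of_leechChk pair2nd_chk.1⟩
/-- the second pair as lattice elements -/
def latW2 : ↥leechLattice := ⟨w2nd, mem_of_leechChk pair2nd_chk.2⟩

/-- the sign change on the complementary dodecad -/
noncomputable def hsInv : ↥Co0 := monoCo0 (M24.one_mem) (golay_compl hsDod_mem)

theorem hsInv_smul (y : ↥leechLattice) (i : GolayPt) :
    ((hsInv • y : ↥leechLattice) : IVec) i = if i ∈ hsDodᶜ then -(y : IVec) i else (y : IVec) i :=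
  rfl

theorem hsInv_fix_of_supp {y : ↥leechLattice} (h : ∀ i ∉ hsDod, (y : IVec) i = 0) :
    hsInv • y = y := by
  apply Subtype.ext
  funext i
  rw [hsInv_smul]
  by_cases hi : i ∈ hsDodᶜ
  · rw [if_pos hi, h i (Finset.mem_compl.mp hi), neg_zero]
  · rw [if_neg hi]

theorem hsInv_fix : hsInv • latV2 = latV2 ∧ hsInv • latW2 = latW2 :=
  ⟨hsInv_fix_of_supp (octVec_out _ _), hsInv_fix_of_supp (octVec_out _ _)⟩

theorem hsInv_sq : hsInv * hsInv = 1 := by
  apply Subtype.ext
  apply Equiv.ext
  intro y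
  show hsInv • (hsInv • y) = y
  apply Subtype.ext
  funext i
  rw [hsInv_smul, hsInv_smul]
  split_ifs
  · rw [neg_neg]
  · rfl

theorem hsInv_ne_one : hsInv ≠ 1 := by
  intro h
  have h1 : hsInv • vec8 (gPt 1) = vec8 (gPt 1) := by rw [h, one_smul]
  have h2 := congrFun (congrArg Subtype.val h1) (gPt 1)
  rw [hsInv_smul, if_pos (by decide +kernel)] at h2
  have h3 : ((vec8 (gPt 1) : ↥leechLattice) : IVec) (gPt 1) = 8 := by
    show (Pi.single (gPt 1) (8 : ℤ) : IVec) (gPt 1) = 8
    rw [Pi.single_eq_same]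
  rw [h3] at h2
  norm_num at h2

/-- no fixed points among the 100 vectors of the second pair -/
theorem hsInv_no_fix (y : ↥leechLattice) (hy : y ∈ hsSet latV2 latW2) : hsInv • y ≠ y := by
  classical
  intro h
  have h0 : ∀ i ∉ hsDod, (y : IVec) i = 0 := by
    intro i hi
    have := congrFun (congrArg Subtype.val h) i
    rw [hsInv_smul, if_pos (Finset.mem_compl.mpr hi)] at this
    omega
  obtain ⟨hn, hd, -⟩ := hy
  have hd' : dotInt v2nd (y : IVec) = 24 := hd
  rcases min_cases y.2 hn with hA | hB | hC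
  · obtain ⟨a, b, s, t, -, hs, ht, e⟩ := hA
    rw [e, dotInt_add_right, dotInt_comm', dotInt_single, dotInt_comm' v2nd, dotInt_single] at hd'
    rcases v2nd_le a with h1 | h1 <;> rcases v2nd_le b with h2 | h2 <;> rw [h1, h2] at hd' <;>
      rcases hs with rfl | rfl <;> rcases ht with rfl | rfl <;> omega
  · obtain ⟨O, hO, h1, -⟩ := hB
    have hsub : O ⊆ hsDod := by
      intro i hi
      by_contra hni
      rcases h1 i hi with h' | h' <;> rw [h0 i hni] at h' <;> omega
    have hcode := golay_symmDiff hsDod_mem hO.1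
    have hcard : (symmDiff hsDod O).card = 4 := by
      have e : symmDiff hsDod O = hsDod \ O := by
        ext i
        rw [Finset.mem_symmDiff, Finset.mem_sdiff]
        constructor
        · rintro (h' | h')
          · exact h'
          · exact absurd (hsub h'.1) h'.2
        · intro h'
          exact Or.inl h'
      rw [e, Finset.card_sdiff_of_subset hsub, hsDod_card, hO.2]
    have := Helper92.card_of_mem_supports hcode
    omega
  · obtain ⟨i₀, C, -, e⟩ := hC
    have := h0 (gPt 1) (by decide +kernel)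
    rw [e, oddC_apply] at this
    split_ifs at this <;> omega

/-- the statement for arbitrary pairs -/
theorem hs_involution (v w : ↥leechLattice) (hv : sqNorm (v : IVec) = 48)
    (hw : sqNorm (w : IVec) = 48) (hvw : dotInt (v : IVec) (w : IVec) = -32) :
    ∃ g : ↥Co0, g • v = v ∧ g • w = w ∧ orderOf g = 2 ∧ ∀ x ∈ hsSet v w, g • x ≠ x := by
  obtain ⟨c₁, h1, h2⟩ := hs_pair_trans v w hv hw hvw
  obtain ⟨c₂, k1, k2⟩ := hs_pair_trans latV2 latW2 pair2nd_facts.1 pair2nd_facts.2.1
    pair2nd_facts.2.2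
  have e1 : (c₂⁻¹ * c₁) • v = latV2 := by rw [mul_smul, h1, inv_smul_eq_iff, k1]
  have e2 : (c₂⁻¹ * c₁) • w = latW2 := by rw [mul_smul, h2, inv_smul_eq_iff, k2]
  set c := c₂⁻¹ * c₁ with hc
  refine ⟨c⁻¹ * hsInv * c, ?_, ?_, ?_, ?_⟩
  · rw [mul_smul, mul_smul, e1, hsInv_fix.1, inv_smul_eq_iff, e1]
  · rw [mul_smul, mul_smul, e2, hsInv_fix.2, inv_smul_eq_iff, e2]
  · apply orderOf_eq_prime
    · rw [pow_two]
      calc c⁻¹ * hsInv * c * (c⁻¹ * hsInv * c) = c⁻¹ * (hsInv * hsInv) * c := by group
        _ = 1 := by rw [hsInv_sq]; group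
    · intro h
      apply hsInv_ne_one
      calc hsInv = c * (c⁻¹ * hsInv * c) * c⁻¹ := by group
        _ = 1 := by rw [h]; group
  · intro x hx hfix
    have m : c • x ∈ hsSet latV2 latW2 := by
      rw [← e1, ← e2, hsSet_smul]
      exact ⟨x, hx, rfl⟩
    apply hsInv_no_fix (c • x) m
    rw [mul_smul, mul_smul, inv_smul_eq_iff] at hfix
    exact hfix

end Cfsg.Agent.Helper26
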