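import Cfsg.Agent.Helper26.HSTrans

/-!
# The rank 3 action on the 100 vectors
-/

set_option autoImplicit false

namespace Cfsg.Agent.Helper26

open Cfsg Cfsg.Agent.Helper8 Cfsg.Agent.Helper27
open scoped Pointwise

/-- the first of the 100 vectors, as a lattice element -/
def latA : ↥leechLattice := ⟨vPlus kk jj, vPlus_mem kk_ne_jj⟩

theorem latA_mem : latA ∈ hsSet latU latW :=
  (mem_hsSet_base latA).mpr (vPlus_mem_hsT kk_ne_jj)

theorem dotInt_vPlus (k j : GolayPt) (y : IVec) : dotInt (vPlus k j) y = 4 * y k + 4 * y j := by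
  unfold vPlus
  rw [dotInt_add_left', dotInt_single, dotInt_single]

/-- every triple is conjugate to the base triple -/
theorem hs_triple_trans (v w x : ↥leechLattice) (hv : sqNorm (v : IVec) = 48)
    (hw : sqNorm (w : IVec) = 48) (hvw : dotInt (v : IVec) (w : IVec) = -32)
    (hx : x ∈ hsSet v w) : ∃ g : ↥Co0, g • v = latU ∧ g • w = latW ∧ g • x = latA := by
  obtain ⟨g₀, hg1, hg2⟩ := hs_pair_trans v w hv hw hvw
  have m1 : g₀ • x ∈ hsSet latU latW := by
    have : hsSet latU latW = (fun x : ↥leechLattice => g₀ • x) '' hsSet v w := by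
      rw [← hsSet_smul, hg1, hg2]
      rfl
    rw [this]
    exact ⟨x, hx, rfl⟩
  obtain ⟨h, hh1, hh2, hh3⟩ := exists_smul_of_frel2 (v := latU) (w := latW) (x := g₀ • x)
    (x' := latA) (base100 _ ((mem_hsSet_base _).mp m1))
  refine ⟨h * g₀, ?_, ?_, ?_⟩
  · rw [mul_smul, hg1]; exact hh1
  · rw [mul_smul, hg2]; exact hh2
  · rw [mul_smul]; exact hh3

/-- the subsets of the 100 vectors defined by a condition on the inner product with a point -/
def hsSub (Q : Prop → ℤ → Prop) (v w x : ↥leechLattice) : Set ↥leechLattice :=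
  {y : ↥leechLattice | y ∈ hsSet v w ∧ Q (y = x) (dotInt (x : IVec) (y : IVec))}

theorem hsSub_smul (Q : Prop → ℤ → Prop) (g : ↥Co0) (v w x : ↥leechLattice) :
    hsSub Q (g • v) (g • w) (g • x) = (fun y : ↥leechLattice => g • y) '' hsSub Q v w x := by
  ext y
  unfold hsSub
  simp only [Set.mem_ofPred_eq, Set.mem_image]
  constructor
  · rintro ⟨h1, h2⟩
    rw [hsSet_smul] at h1
    obtain ⟨y₀, hy₀, rfl⟩ := h1
    refine ⟨y₀, ⟨hy₀, ?_⟩, rfl⟩
    have e : (g • y₀ = g • x) = (y₀ = x) := propext (MulAction.injective g).eq_iff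
    have e2 : (fun y : ↥leechLattice => g • y) y₀ = g • y₀ := rfl
    rw [e2, e, co0_dotInt] at h2
    exact h2
  · rintro ⟨y₀, ⟨h1, h2⟩, rfl⟩
    refine ⟨by rw [hsSet_smul]; exact ⟨y₀, h1, rfl⟩, ?_⟩
    have e : (g • y₀ = g • x) = (y₀ = x) := propext (MulAction.injective g).eq_iff
    show Q (g • y₀ = g • x) _
    rw [e, co0_dotInt]
    exact h2

theorem ncard_hsSub_smul (Q : Prop → ℤ → Prop) (g : ↥Co0) (v w x : ↥leechLattice) :
    (hsSub Q (g • v) (g • w) (g • x)).ncard = (hsSub Q v w x).ncard := by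
  rw [hsSub_smul, Set.ncard_image_of_injective _ (MulAction.injective g)]

/-! ### the base triple -/

theorem base_dots {y : IVec} (hy : y ∈ hsT kk jj) :
    (y = vPlus kk jj ∧ dotInt (vPlus kk jj) y = 32) ∨
      ((∃ O ∈ octads, kk ∈ O ∧ jj ∈ O ∧ y = twoInd O) ∧ dotInt (vPlus kk jj) y = 16) ∨
      ((∃ i, i ≠ kk ∧ i ≠ jj ∧ y = oddBase i) ∧ dotInt (vPlus kk jj) y = 8) := by
  rcases hs_cases kk_ne_jj hy with rfl | ⟨O, hO, hk, hj, rfl⟩ | ⟨i, hik, hij, rfl⟩
  · left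
    refine ⟨rfl, ?_⟩
    rw [dotInt_self, sqNorm_vPlus kk_ne_jj]
  · right; left
    refine ⟨⟨O, hO, hk, hj, rfl⟩, ?_⟩
    rw [dotInt_vPlus]
    unfold twoInd
    rw [if_pos hk, if_pos hj]
    norm_num
  · right; right
    refine ⟨⟨i, hik, hij, rfl⟩, ?_⟩
    rw [dotInt_vPlus]
    unfold oddBase
    rw [if_neg (Ne.symm hik), if_neg (Ne.symm hij)]
    norm_num

theorem ncard_base_22 :
    (hsSub (fun _ d => d = 8) latU latW latA).ncard = 22 := by
  rw [← ncard_other_points kk_ne_jj, ← Set.ncard_image_of_injective _ oddBase_injective,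
    ← Set.ncard_image_of_injective _ Subtype.val_injective]
  congr 1
  ext y
  unfold hsSub
  simp only [Set.mem_image, Set.mem_ofPred_eq]
  constructor
  · rintro ⟨y', ⟨hy', hd⟩, rfl⟩
    have hd' : dotInt (vPlus kk jj) (y' : IVec) = 8 := hd
    rcases base_dots ((mem_hsSet_base y').mp hy') with ⟨-, h⟩ | ⟨-, h⟩ | ⟨⟨i, hik, hij, e⟩, -⟩
    · omega
    · omega
    · exact ⟨i, ⟨hik, hij⟩, e.symm⟩
  · rintro ⟨i, ⟨hik, hij⟩, rfl⟩
    have hm := oddBase_mem_hsT (k := kk) (j := jj) hik hij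
    refine ⟨⟨oddBase i, hm.1⟩, ⟨(mem_hsSet_base _).mpr hm, ?_⟩, rfl⟩
    show dotInt (vPlus kk jj) (oddBase i) = 8
    rw [dotInt_vPlus]
    unfold oddBase
    rw [if_neg (Ne.symm hik), if_neg (Ne.symm hij)]
    norm_num

theorem ncard_base_77 :
    (hsSub (fun p d => ¬p ∧ d ≠ 8) latU latW latA).ncard = 77 := by
  rw [← ncard_octads_through kk_ne_jj, ← Set.ncard_image_of_injective _ twoInd_injective,
    ← Set.ncard_image_of_injective _ Subtype.val_injective]
  congr 1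
  ext y
  unfold hsSub
  simp only [Set.mem_image, Set.mem_ofPred_eq]
  constructor
  · rintro ⟨y', ⟨hy', hne, hd⟩, rfl⟩
    have hd' : dotInt (vPlus kk jj) (y' : IVec) ≠ 8 := hd
    rcases base_dots ((mem_hsSet_base y').mp hy') with ⟨e, -⟩ | ⟨⟨O, hO, hk, hj, e⟩, -⟩ | ⟨-, h⟩
    · exact absurd (Subtype.ext e : y' = latA) hne
    · refine ⟨O, ⟨hO, ?_⟩, e.symm⟩
      intro a ha
      rw [Finset.mem_insert, Finset.mem_singleton] at ha
      rcases ha with rfl | rfl
      exacts [hk, hj]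
    · exact absurd h hd'
  · rintro ⟨O, ⟨hO, hsub⟩, rfl⟩
    have hk : kk ∈ O := hsub (by simp)
    have hj : jj ∈ O := hsub (by simp)
    have hm := twoInd_mem_hsT hO hk hj
    have hdot : dotInt (vPlus kk jj) (twoInd O) = 16 := by
      rw [dotInt_vPlus]
      unfold twoInd
      rw [if_pos hk, if_pos hj]
      norm_num
    refine ⟨⟨twoInd O, hm.1⟩, ⟨(mem_hsSet_base _).mpr hm, ?_, ?_⟩, rfl⟩
    · intro h
      have := congrArg (fun z : ↥leechLattice => dotInt (vPlus kk jj) (z : IVec)) h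
      simp only at this
      rw [hdot] at this
      have h32 : dotInt (vPlus kk jj) ((latA : ↥leechLattice) : IVec) = 32 := by
        show dotInt (vPlus kk jj) (vPlus kk jj) = 32
        rw [dotInt_self, sqNorm_vPlus kk_ne_jj]
      omega
    · show dotInt (vPlus kk jj) (twoInd O) ≠ 8
      rw [hdot]
      norm_num

/-- the elements of `M22` as automorphisms fixing the base triple -/
theorem m22_fix {σ : Equiv.Perm GolayPt} (hσ : σ ∈ M24) (hk : σ kk = kk) (hj : σ jj = jj) :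
    monoCo0 hσ Cfsg.Agent.S0390.empty_mem_supports • latU = latU ∧
      monoCo0 hσ Cfsg.Agent.S0390.empty_mem_supports • latW = latW ∧
      monoCo0 hσ Cfsg.Agent.S0390.empty_mem_supports • latA = latA := by
  refine ⟨Subtype.ext ?_, Subtype.ext ?_, Subtype.ext ?_⟩
  · exact signedPerm_fiveVec hk
  · show signedPerm σ ∅ (-fiveVec jj) = -fiveVec jj
    rw [signedPerm_empty_neg, signedPerm_fiveVec hj]
  · show signedPerm σ ∅ (vPlus kk jj) = vPlus kk jj
    unfold vPlus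
    rw [signedPerm_add, signedPerm_empty_single, signedPerm_empty_single, hk, hj]

theorem base_rank3 : ∀ y ∈ hsSet latU latW, ∀ y' ∈ hsSet latU latW, y ≠ latA → y' ≠ latA →
    (dotInt (latA : IVec) (y : IVec) = 8 ↔ dotInt (latA : IVec) (y' : IVec) = 8) →
    ∃ g : ↥Co0, g • latU = latU ∧ g • latW = latW ∧ g • latA = latA ∧ g • y = y' := by
  intro y hy y' hy' hne hne' hiff
  have hiff' : dotInt (vPlus kk jj) (y : IVec) = 8 ↔ dotInt (vPlus kk jj) (y' : IVec) = 8 := hiff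
  rcases base_dots ((mem_hsSet_base y).mp hy) with ⟨e, -⟩ | ⟨⟨O, hO, hk, hj, e⟩, h⟩ |
      ⟨⟨i, hik, hij, e⟩, h⟩
  · exact absurd (Subtype.ext e : y = latA) hne
  · rcases base_dots ((mem_hsSet_base y').mp hy') with ⟨e', -⟩ | ⟨⟨O', hO', hk', hj', e'⟩, h'⟩ |
        ⟨-, h'⟩
    · exact absurd (Subtype.ext e' : y' = latA) hne'
    · obtain ⟨σ, hσ, hσk, hσj, hσO⟩ := exists_fix2_map_octad kk_ne_jj hO hO' hk hj hk' hj'
      obtain ⟨f1, f2, f3⟩ := m22_fix hσ hσk hσj
      refine ⟨_, f1, f2, f3, Subtype.ext ?_⟩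
      show signedPerm σ ∅ (y : IVec) = (y' : IVec)
      rw [e, e', signedPerm_twoInd, hσO]
    · exfalso
      have := hiff'.mpr h'
      omega
  · rcases base_dots ((mem_hsSet_base y').mp hy') with ⟨e', -⟩ | ⟨-, h'⟩ |
        ⟨⟨i', hik', hij', e'⟩, h'⟩
    · exact absurd (Subtype.ext e' : y' = latA) hne'
    · exfalso
      have := hiff'.mp h
      omega
    · obtain ⟨σ, hσ, hσk, hσj, hσi⟩ := exists_fix2_map kk_ne_jj ⟨hik, hij⟩ ⟨hik', hij'⟩
      obtain ⟨f1, f2, f3⟩ := m22_fix hσ hσk hσj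
      refine ⟨_, f1, f2, f3, Subtype.ext ?_⟩
      show signedPerm σ ∅ (y : IVec) = (y' : IVec)
      rw [e, e', signedPerm_oddBase, hσi]

/-- the statement for arbitrary triples -/
theorem hs_rank3 (v w x : ↥leechLattice) (hv : sqNorm (v : IVec) = 48)
    (hw : sqNorm (w : IVec) = 48) (hvw : dotInt (v : IVec) (w : IVec) = -32)
    (hx : x ∈ hsSet v w) :
    (hsSub (fun _ d => d = 8) v w x).ncard = 22 ∧
      (hsSub (fun p d => ¬p ∧ d ≠ 8) v w x).ncard = 77 ∧
      ∀ y ∈ hsSet v w, ∀ y' ∈ hsSet v w, y ≠ x → y' ≠ x →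
        (dotInt (x : IVec) (y : IVec) = 8 ↔ dotInt (x : IVec) (y' : IVec) = 8) →
        ∃ g : ↥Co0, g • v = v ∧ g • w = w ∧ g • x = x ∧ g • y = y' := by
  obtain ⟨g₁, h1, h2, h3⟩ := hs_triple_trans v w x hv hw hvw hx
  refine ⟨?_, ?_, ?_⟩
  · rw [← ncard_base_22, ← h1, ← h2, ← h3, ncard_hsSub_smul]
  · rw [← ncard_base_77, ← h1, ← h2, ← h3, ncard_hsSub_smul]
  · intro y hy y' hy' hne hne' hiff
    have hset : hsSet latU latW = (fun x : ↥leechLattice => g₁ • x) '' hsSet v w := by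
      rw [← hsSet_smul, h1, h2]
    have m1 : g₁ • y ∈ hsSet latU latW := by rw [hset]; exact ⟨y, hy, rfl⟩
    have m2 : g₁ • y' ∈ hsSet latU latW := by rw [hset]; exact ⟨y', hy', rfl⟩
    have n1 : g₁ • y ≠ latA := by
      rw [← h3]; exact fun h => hne (MulAction.injective g₁ h)
    have n2 : g₁ • y' ≠ latA := by
      rw [← h3]; exact fun h => hne' (MulAction.injective g₁ h)
    have hiff' : dotInt (latA : IVec) ((g₁ • y : ↥leechLattice) : IVec) = 8 ↔
        dotInt (latA : IVec) ((g₁ • y' : ↥leechLattice) : IVec) = 8 := by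
      rw [← h3, co0_dotInt, co0_dotInt]
      exact hiff
    obtain ⟨h, f1, f2, f3, f4⟩ := base_rank3 _ m1 _ m2 n1 n2 hiff'
    refine ⟨g₁⁻¹ * h * g₁, ?_, ?_, ?_, ?_⟩
    · rw [mul_smul, mul_smul, h1, inv_smul_eq_iff, h1]; exact f1
    · rw [mul_smul, mul_smul, h2, inv_smul_eq_iff, h2]; exact f2
    · rw [mul_smul, mul_smul, h3, inv_smul_eq_iff, h3]; exact f3
    · rw [mul_smul, mul_smul, f4, inv_smul_smul]

end Cfsg.Agent.Helper26
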