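import Cfsg.Agent.Helper26.HS100

/-!
# The joint stabiliser of the base pair is transitive on the 100 vectors
-/

set_option autoImplicit false

namespace Cfsg.Agent.Helper26

open Cfsg Cfsg.Agent.Helper8 Cfsg.Agent.Helper27 Cfsg.Agent.Helper92
open scoped Pointwise

variable {k j : GolayPt}

theorem signedPerm_empty_neg (σ : Equiv.Perm GolayPt) (a : IVec) :
    signedPerm σ ∅ (-a) = -signedPerm σ ∅ a := by
  ext i
  rw [signedPerm_empty_apply, Pi.neg_apply, Pi.neg_apply, signedPerm_empty_apply]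

/-- coordinate permutations fixing `k` and `j` -/
theorem frel2_m22 {x : IVec} (hx : x ∈ leechLattice) {σ : Equiv.Perm GolayPt} (hσ : σ ∈ M24)
    (hk : σ k = k) (hj : σ j = j) : FRel2 (fiveVec k) (-fiveVec j) x (signedPerm σ ∅ x) :=
  frel2_mono (fiveVec_mem k) (leechLattice.neg_mem (fiveVec_mem j)) hx hσ
    Cfsg.Agent.S0390.empty_mem_supports (signedPerm_fiveVec hk)
    (by rw [signedPerm_empty_neg, signedPerm_fiveVec hj])

theorem signedPerm_twoInd (σ : Equiv.Perm GolayPt) (O : Finset GolayPt) :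
    signedPerm σ ∅ (twoInd O) = twoInd (σ • O) := by
  ext i
  rw [signedPerm_empty_apply]
  unfold twoInd
  by_cases h : σ.symm i ∈ O
  · rw [if_pos h, if_pos ((mem_smul_iff_symm σ O i).mpr h)]
  · rw [if_neg h, if_neg (fun h' => h ((mem_smul_iff_symm σ O i).mp h'))]

theorem signedPerm_oddBase (σ : Equiv.Perm GolayPt) (i : GolayPt) :
    signedPerm σ ∅ (oddBase i) = oddBase (σ i) := by
  ext a
  rw [signedPerm_empty_apply]
  unfold oddBase
  have : σ.symm a = i ↔ a = σ i := by rw [Equiv.symm_apply_eq]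
  by_cases h : a = σ i
  · rw [if_pos h, if_pos (this.mpr h)]
  · rw [if_neg h, if_neg (fun h' => h (this.mp h'))]

/-- octads through `k` and `j` -/
theorem hs_classB (hkj : k ≠ j) {O O' : Finset GolayPt} (hO : O ∈ octads) (hO' : O' ∈ octads)
    (hk : k ∈ O) (hj : j ∈ O) (hk' : k ∈ O') (hj' : j ∈ O') :
    FRel2 (fiveVec k) (-fiveVec j) (twoInd O) (twoInd O') := by
  obtain ⟨σ, hσ, hσk, hσj, hσO⟩ := exists_fix2_map_octad hkj hO hO' hk hj hk' hj'
  have r := frel2_m22 (twoInd_mem hO.1) hσ hσk hσj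
  rwa [signedPerm_twoInd, hσO] at r

/-- vectors of odd shape -/
theorem hs_classC (hkj : k ≠ j) {i i' : GolayPt} (hi : i ≠ k ∧ i ≠ j) (hi' : i' ≠ k ∧ i' ≠ j) :
    FRel2 (fiveVec k) (-fiveVec j) (oddBase i) (oddBase i') := by
  obtain ⟨σ, hσ, hσk, hσj, hσi⟩ := exists_fix2_map hkj hi hi'
  have r := frel2_m22 (oddBase_mem i) hσ hσk hσj
  rwa [signedPerm_oddBase, hσi] at r

/-- a link given by tables -/
theorem frel2_link {t s : List ℕ} (h : isInvPair t s = true) (hc : checkM24 s = true)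
    {v w x y : IVec} (hv : v ∈ leechLattice) (hw : w ∈ leechLattice) (hx : x ∈ leechLattice)
    (hfv : ∀ i, xmxFun s v i = v i) (hfw : ∀ i, xmxFun s w i = w i)
    (himg : ∀ i, xmxFun s x i = y i) : FRel2 v w x y := by
  have r := frel2_xmx hv hw hx (permOfTabs_mem_M24 h hc) Cfsg.Agent.S0390.empty_mem_supports
    (by rw [xmx_eq h]; exact funext hfv) (by rw [xmx_eq h]; exact funext hfw)
  rwa [xmx_eq h, funext himg] at r

/-! ### the link -/

def hsT0 : List ℕ := [0, 1, 2, 21, 23, 11, 5, 19, 3, 8, 6, 10, 7, 16, 17, 20, 13, 15, 12, 18, 14, 9, 22, 4]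
def hsS0 : List ℕ := [0, 1, 2, 8, 23, 6, 10, 12, 9, 21, 11, 5, 18, 16, 20, 17, 13, 14, 19, 7, 15, 3, 22, 4]

theorem hs0_inv : isInvPair hsT0 hsS0 = true := by decide +kernel

theorem hs0_chk : checkM24 hsS0 = true := by decide +kernel

set_option maxRecDepth 100000 in
theorem hs0_fix : (∀ i, xmxFun hsS0 u48 i = u48 i) ∧ ∀ i, xmxFun hsS0 w48 i = w48 i := by
  decide +kernel

set_option maxRecDepth 100000 in
theorem hs0_img1 : ∀ i, xmxFun hsS0 (vPlus kk jj) i = twoInd (setOf 12656663) i := by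
  decide +kernel

set_option maxRecDepth 100000 in
theorem hs0_img2 : ∀ i, xmxFun hsS0 (twoInd (setOf 10916112)) i = oddBase (gPt 10) i := by
  decide +kernel

theorem hs_oct1 : setOf 12656663 ∈ octads ∧ kk ∈ setOf 12656663 ∧ jj ∈ setOf 12656663 := by
  refine ⟨?_, by decide +kernel, by decide +kernel⟩
  rw [setOf_mem_octads_iff (by norm_num)]
  decide +kernel

theorem hs_oct2 : setOf 10916112 ∈ octads ∧ kk ∈ setOf 10916112 ∧ jj ∈ setOf 10916112 := by
  refine ⟨?_, by decide +kernel, by decide +kernel⟩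
  rw [setOf_mem_octads_iff (by norm_num)]
  decide +kernel

theorem kk_ne_jj : kk ≠ jj := by decide

/-- every one of the 100 vectors is related to the first one -/
theorem base100 : ∀ x ∈ hsT kk jj, FRel2 u48 w48 x (vPlus kk jj) := by
  intro x hx
  have hu := u48_mem
  have hw := w48_mem
  have hA : vPlus kk jj ∈ leechLattice := vPlus_mem kk_ne_jj
  have l1 : FRel2 u48 w48 (vPlus kk jj) (twoInd (setOf 12656663)) :=
    frel2_link hs0_inv hs0_chk hu hw hA hs0_fix.1 hs0_fix.2 hs0_img1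
  have l2 : FRel2 u48 w48 (twoInd (setOf 10916112)) (oddBase (gPt 10)) :=
    frel2_link hs0_inv hs0_chk hu hw (twoInd_mem hs_oct2.1.1) hs0_fix.1 hs0_fix.2 hs0_img2
  have hB : ∀ O ∈ octads, kk ∈ O → jj ∈ O → FRel2 u48 w48 (twoInd O) (vPlus kk jj) :=
    fun O hO hk hj =>
      (hs_classB kk_ne_jj hO hs_oct1.1 hk hj hs_oct1.2.1 hs_oct1.2.2).trans l1.symm
  rcases hs_cases kk_ne_jj hx with rfl | ⟨O, hO, hk, hj, rfl⟩ | ⟨i, hik, hij, rfl⟩
  · exact FRel2.refl hu hw hA
  · exact hB O hO hk hj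
  · exact ((hs_classC kk_ne_jj ⟨hik, hij⟩ (by decide)).trans l2.symm).trans
      (hB _ hs_oct2.1 hs_oct2.2.1 hs_oct2.2.2)

/-! ### arbitrary pairs -/

/-- the minimal vectors of inner products `24`, `-24` with `v`, `w` -/
def hsSet (v w : ↥leechLattice) : Set ↥leechLattice :=
  {x : ↥leechLattice | sqNorm (x : IVec) = 32 ∧ dotInt (v : IVec) (x : IVec) = 24 ∧
    dotInt (w : IVec) (x : IVec) = -24}

theorem hsSet_smul (g : ↥Co0) (v w : ↥leechLattice) :
    hsSet (g • v) (g • w) = (fun x : ↥leechLattice => g • x) '' hsSet v w := by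
  ext x
  unfold hsSet
  simp only [Set.mem_ofPred_eq, Set.mem_image]
  constructor
  · rintro ⟨h1, h2, h3⟩
    refine ⟨g⁻¹ • x, ⟨?_, ?_, ?_⟩, smul_inv_smul g x⟩
    · rw [co0_sqNorm]; exact h1
    · rw [← co0_dotInt g v (g⁻¹ • x), smul_inv_smul]; exact h2
    · rw [← co0_dotInt g w (g⁻¹ • x), smul_inv_smul]; exact h3
  · rintro ⟨x', ⟨h1, h2, h3⟩, rfl⟩
    exact ⟨by rw [co0_sqNorm]; exact h1, by rw [co0_dotInt]; exact h2,
      by rw [co0_dotInt]; exact h3⟩

/-- the base pair as lattice elements -/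
def latU : ↥leechLattice := ⟨u48, u48_mem⟩
/-- the base pair as lattice elements -/
def latW : ↥leechLattice := ⟨w48, w48_mem⟩

theorem mem_hsSet_base (x : ↥leechLattice) : x ∈ hsSet latU latW ↔ (x : IVec) ∈ hsT kk jj := by
  unfold hsSet hsT latU latW
  simp only [Set.mem_ofPred_eq]
  have e : dotInt w48 (x : IVec) = -dotInt (fiveVec jj) (x : IVec) := dotInt_neg_left _ _
  rw [e]
  constructor
  · rintro ⟨h1, h2, h3⟩
    exact ⟨x.2, h1, h2, by omega⟩
  · rintro ⟨-, h1, h2, h3⟩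
    exact ⟨h1, h2, by omega⟩

theorem ncard_hsSet_base : (hsSet latU latW).ncard = 100 := by
  rw [← ncard_hsT kk_ne_jj, ← Set.ncard_image_of_injective _ Subtype.val_injective]
  congr 1
  ext x
  simp only [Set.mem_image]
  constructor
  · rintro ⟨x', hx', rfl⟩
    exact (mem_hsSet_base x').mp hx'
  · intro hx
    exact ⟨⟨x, hx.1⟩, (mem_hsSet_base _).mpr hx, rfl⟩

/-- the statement for arbitrary pairs -/
theorem hs_main (v w : ↥leechLattice) (hv : sqNorm (v : IVec) = 48) (hw : sqNorm (w : IVec) = 48)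
    (hvw : dotInt (v : IVec) (w : IVec) = -32) :
    (hsSet v w).ncard = 100 ∧ ∀ x ∈ hsSet v w, ∀ x' ∈ hsSet v w,
      ∃ g : ↥Co0, g • v = v ∧ g • w = w ∧ g • x = x' := by
  obtain ⟨g₀, hg1, hg2⟩ := hs_pair_trans v w hv hw hvw
  have hset : hsSet latU latW = (fun x : ↥leechLattice => g₀ • x) '' hsSet v w := by
    rw [← hsSet_smul, hg1, hg2]
    rfl
  constructor
  · rw [← ncard_hsSet_base, hset, Set.ncard_image_of_injective _ (MulAction.injective g₀)]
  · intro x hx x' hx'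
    have m1 : g₀ • x ∈ hsSet latU latW := by rw [hset]; exact ⟨x, hx, rfl⟩
    have m2 : g₀ • x' ∈ hsSet latU latW := by rw [hset]; exact ⟨x', hx', rfl⟩
    have r1 := base100 _ ((mem_hsSet_base _).mp m1)
    have r2 := base100 _ ((mem_hsSet_base _).mp m2)
    obtain ⟨h, hh1, hh2, hh3⟩ := exists_smul_of_frel2 (v := latU) (w := latW) (x := g₀ • x)
      (x' := g₀ • x') (r1.trans r2.symm)
    refine ⟨g₀⁻¹ * h * g₀, ?_, ?_, ?_⟩
    · rw [mul_smul, mul_smul, hg1, inv_smul_eq_iff, hg1]; exact hh1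
    · rw [mul_smul, mul_smul, hg2, inv_smul_eq_iff, hg2]; exact hh2
    · rw [mul_smul, mul_smul, hh3, inv_smul_smul]

end Cfsg.Agent.Helper26
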