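import Cfsg.Agent.Helper26.McLK

/-!
# An orthogonal frame of sixteen minimal vectors fixed by an involution of the McLaughlin group

`LM = Stab_{Co0}((-3, 1^23), (4, 4, 0^22))`, `uL` the involution of `M22 < LM` with table `tU`.
The sixteen vectors `fr k` (`fr 0 = (4, 4, 0^22)`) are fixed by `uL`, mutually orthogonal of sum of
squares 32, and span the fixed space of `uL`; they are labelled by `k < 16` so that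
`(fr 0 + fr p + fr q + fr (p xor q)) / 2` is a lattice vector for all `p, q`.
This file holds the data and the kernel checks.
-/

set_option autoImplicit false

namespace Cfsg.Agent.Helper26.McLInv

open Cfsg Cfsg.Agent.Helper7 Cfsg.Agent.Helper27 Cfsg.Agent.Helper92 Cfsg.Agent.Helper93.HSL
  Cfsg.Agent.Helper26.OutCo2 Cfsg.Agent.Helper26.OutMcL MulAction
open Cfsg.Agent.Helper8 hiding x0L

/-! ### data -/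

/-- the sixteen frame vectors -/
def frT : List (List ℤ) := [
  [4, 0, 0, 0, 0, 0, 0, 0, 0, 0, 0, 0, 0, 0, 0, 0, 0, 0, 0, 0, 0, 0, 0, 4],
  [0, 4, 0, 0, 0, 0, 0, 0, 0, 0, 0, 0, 0, 0, 0, 0, 0, 0, 0, 0, 0, 0, 4, 0],
  [0, 0, 0, 0, 0, 2, 2, 2, 0, 0, 2, -2, 0, 0, 0, 0, 0, -2, 2, 0, 2, 0, 0, 0],
  [0, 0, 0, 0, 0, 2, 2, -2, 0, 0, -2, 2, 0, 0, 0, 0, 0, 2, 2, 0, 2, 0, 0, 0],
  [0, 0, 0, 4, 0, 0, 0, 0, 0, 0, 0, 0, 0, 0, 0, 0, 0, 0, 0, 0, 0, 4, 0, 0],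
  [0, 0, 0, 0, 0, 0, 0, 0, 0, 0, 0, 0, 4, 0, 0, 4, 0, 0, 0, 0, 0, 0, 0, 0],
  [0, 0, 0, 0, 0, 2, -2, 2, 0, 0, 2, 2, 0, 0, 0, 0, 0, 2, -2, 0, 2, 0, 0, 0],
  [0, 0, 0, 0, 0, -2, 2, 2, 0, 0, 2, 2, 0, 0, 0, 0, 0, 2, 2, 0, -2, 0, 0, 0],
  [0, 0, 2, 0, 2, 0, 0, 0, -2, -2, 0, 0, 0, 2, 2, 0, 2, 0, 0, 2, 0, 0, 0, 0],
  [0, 0, 2, 0, 2, 0, 0, 0, 2, 2, 0, 0, 0, 2, -2, 0, 2, 0, 0, -2, 0, 0, 0, 0],
  [2, 2, 0, 2, 0, 0, 0, 0, 0, 0, 0, 0, -2, 0, 0, 2, 0, 0, 0, 0, 0, -2, -2, -2],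
  [2, 2, 0, -2, 0, 0, 0, 0, 0, 0, 0, 0, 2, 0, 0, -2, 0, 0, 0, 0, 0, 2, -2, -2],
  [0, 0, -2, 0, -2, 0, 0, 0, 2, 2, 0, 0, 0, 2, 2, 0, 2, 0, 0, 2, 0, 0, 0, 0],
  [0, 0, 2, 0, 2, 0, 0, 0, 2, 2, 0, 0, 0, -2, 2, 0, -2, 0, 0, 2, 0, 0, 0, 0],
  [2, -2, 0, 2, 0, 0, 0, 0, 0, 0, 0, 0, 2, 0, 0, -2, 0, 0, 0, 0, 0, -2, 2, -2],
  [2, -2, 0, -2, 0, 0, 0, 0, 0, 0, 0, 0, -2, 0, 0, 2, 0, 0, 0, 0, 0, 2, 2, -2]]

/-- the witnesses for the congruence condition -/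
def lamT : List (List ℤ) := [
  [0, 0, 0, 0, 0, 0, 0, 0, 0, 0, 0, 0, 0, 0, 0, 0, 0, 0, 0, 0, 0, 0, 0, 0],
  [-2, 2, -2, 0, 2, 0, 0, 0, 0, 0, 0, 0, 0, -2, 0, 0, 2, 0, 0, 0, 0, 0, 2, -2],
  [-2, 0, -2, 0, 2, 0, 0, 2, 0, 0, 0, 0, 0, 0, 0, 0, 0, -2, 2, 0, 2, 0, 0, -2],
  [-2, 0, -2, 0, 2, 0, 0, -2, 0, 0, 0, 0, 0, 0, 0, 0, 0, 2, 2, 0, 2, 0, 0, -2],
  [-2, 0, 0, 2, 0, 0, 0, 0, 0, 0, 0, 0, 0, -2, -2, 0, 2, 0, 0, 2, 0, 2, 0, -2],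
  [-2, 0, -2, 0, 2, 0, 0, 0, 0, 0, 0, 0, 2, 0, -2, 2, 0, 0, 0, 2, 0, 0, 0, -2],
  [-2, 0, -2, 0, 2, 0, 0, 2, 0, 0, 0, 0, 0, 0, 0, 0, 0, 2, -2, 0, 2, 0, 0, -2],
  [-2, 0, -2, 0, 2, 0, 0, 2, 0, 0, 0, 0, 0, 0, 0, 0, 0, 2, 2, 0, -2, 0, 0, -2],
  [-2, 0, 2, 0, 0, -2, 0, 0, -2, 0, 0, 0, 0, 2, 0, 0, 0, 0, 0, 2, 2, 0, 0, -2],
  [-2, 0, 2, 0, 0, -2, 0, 0, 2, 0, 0, 0, 0, 2, 0, 0, 0, 0, 0, -2, 2, 0, 0, -2],
  [-1, 1, 1, 1, -1, 1, 1, -1, -1, 1, 1, 1, -1, 1, 1, 1, -1, -1, -1, -1, -1, -1, -1, -3],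
  [-1, 1, -1, -1, 1, 1, 1, -1, -1, 1, 1, 1, 1, -1, 1, -1, 1, -1, -1, -1, -1, 1, -1, -3],
  [-2, 0, -2, 0, 0, -2, 0, 0, 2, 0, 0, 0, 0, 2, 0, 0, 0, 0, 0, 2, 2, 0, 0, -2],
  [-2, 0, 2, 0, 0, -2, 0, 0, 2, 0, 0, 0, 0, -2, 0, 0, 0, 0, 0, 2, 2, 0, 0, -2],
  [-1, -1, 1, 1, -1, 1, 1, -1, -1, 1, 1, 1, 1, -1, -1, -1, 1, -1, -1, 1, -1, -1, 1, -3],
  [-1, -1, -1, -1, 1, 1, 1, -1, -1, 1, 1, 1, -1, 1, -1, 1, -1, -1, -1, 1, -1, 1, 1, -3]]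

/-- four lattice vectors whose inner products with the frame read off the label -/
def cwT : List (List ℤ) := [
  [2, 0, 0, 0, 0, 0, 0, 0, 0, 0, 0, 0, 2, 0, -2, 0, 2, 2, 2, 0, 0, 0, 2, -2],
  [4, 0, 0, 0, 0, 4, 0, 0, 0, 0, 0, 0, 0, 0, 0, 0, 0, 0, 0, 0, 0, 0, 0, 0],
  [2, 0, -2, 0, 0, -2, 0, 0, 0, 0, 0, 0, 0, 0, 0, 2, 2, 0, 2, 0, 0, 2, 0, 2],
  [4, 0, 4, 0, 0, 0, 0, 0, 0, 0, 0, 0, 0, 0, 0, 0, 0, 0, 0, 0, 0, 0, 0, 0]]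

/-- the list of the `k`-th frame vector -/
def frL (k : ℕ) : List ℤ := frT.getD k []

/-- the entries -/
def frE (k i : ℕ) : ℤ := (frL k).getD i 0

/-- the `k`-th frame vector -/
def fr (k : ℕ) : IVec := vecOf (frL k)

/-- the `k`-th witness `λ` with `fr k - fr 0 = λ + uL λ` -/
def lamL (k : ℕ) : List ℤ := lamT.getD k []

/-- the coordinate witnesses -/
def cwL (i : ℕ) : List ℤ := cwT.getD i []

/-- sums over an initial segment, in a form the kernel evaluates -/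
def lsum (n : ℕ) (f : ℕ → ℤ) : ℤ := ((List.range n).map f).sum

theorem lsum_eq (n : ℕ) (f : ℕ → ℤ) : lsum n f = ∑ i ∈ Finset.range n, f i := by
  unfold lsum
  induction n with
  | zero => simp
  | succ n ih =>
    rw [List.range_succ, List.map_append, List.sum_append, ih, Finset.sum_range_succ]
    simp

/-- half of `fr 0 + fr p + fr q + fr (p xor q)` -/
def hsL (p q : ℕ) : List ℤ :=
  (List.range 24).map fun i => (frE 0 i + frE p i + frE q i + frE (p ^^^ q) i) / 2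

/-! ### kernel checks -/

theorem fr_chk : ∀ k < 16, leechChk (fr k) = true := by decide +kernel

theorem fr_len : ∀ k < 16, (frL k).length = 24 := by decide +kernel

theorem gram_chk : ∀ i < 24, ∀ j < 24, lsum 16 (fun k => frE k i * frE k j) =
    (if i = j then 16 else 0) + (if i = tU.getD j 0 then 16 else 0) := by decide +kernel

theorem fr_inv_chk : ∀ k < 16, ∀ i < 24, frE k (tU.getD i 0) = frE k i := by decide +kernel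

theorem fr_dot_chk : ∀ k < 16, ∀ l < 16, lsum 24 (fun i => frE k i * frE l i) =
    if k = l then 32 else 0 := by decide +kernel

theorem fr_v1_chk : ∀ k < 16, 1 ≤ k → lsum 24 (fun i => lv1.getD i 0 * frE k i) = 8 := by
  decide +kernel

theorem fr_zero : frL 0 = lx0 := by decide +kernel

theorem lam_chk : ∀ k < 16, 1 ≤ k → leechChk (vecOf (lamL k)) = true ∧
    ∀ i < 24, frE k i - frE 0 i = (lamL k).getD i 0 + (lamL k).getD (tU.getD i 0) 0 := by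
  decide +kernel

theorem hs_chk : ∀ p < 16, ∀ q < 16, leechChk (vecOf (hsL p q)) = true := by decide +kernel

theorem hs_two : ∀ p < 16, ∀ q < 16, ∀ i < 24,
    2 * (hsL p q).getD i 0 = frE 0 i + frE p i + frE q i + frE (p ^^^ q) i := by decide +kernel

theorem hs_inv : ∀ p < 16, ∀ q < 16, ∀ i < 24,
    (hsL p q).getD (tU.getD i 0) 0 = (hsL p q).getD i 0 := by decide +kernel

theorem cw_chk : ∀ i < 4, leechChk (vecOf (cwL i)) = true := by decide +kernel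

theorem cw_dot : ∀ i < 4, ∀ k < 16, ∃ c : ℤ, lsum 24 (fun n => (cwL i).getD n 0 * frE k n) = 8 * c ∧
    c % 2 = if k.testBit i then 1 else 0 := by
  intro i hi k hk
  refine ⟨lsum 24 (fun n => (cwL i).getD n 0 * frE k n) / 8, ?_, ?_⟩
  · revert i k
    decide +kernel
  · revert i k
    decide +kernel

end Cfsg.Agent.Helper26.McLInv
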