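import Cfsg.Agent.Helper26.InvA

/-!
# The frame of sixteen vectors: expansion and classification

Every vector fixed by `uL` is a rational combination of the sixteen frame vectors; the vectors of
the frame other than `fr 0` are characterised inside the lattice by conditions invariant under the
centraliser of `uL`.
-/

set_option autoImplicit false

namespace Cfsg.Agent.Helper26.McLInv

open Cfsg Cfsg.Agent.Helper7 Cfsg.Agent.Helper27 Cfsg.Agent.Helper92 Cfsg.Agent.Helper93.HSL
  Cfsg.Agent.Helper26.OutCo2 Cfsg.Agent.Helper26.OutMcL MulAction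
open Cfsg.Agent.Helper8 hiding x0L

/-! ### basic lemmas -/

theorem fr_apply (k : ℕ) (p : GolayPt) : fr k p = frE k (gIdx p) := rfl

theorem dotInt_vecOf_right (y : IVec) (l : List ℤ) :
    dotInt y (vecOf l) = ∑ i ∈ Finset.range 24, y (gPt i) * l.getD i 0 := by
  unfold dotInt
  rw [Cfsg.Agent.Helper27.sum_golayPt]
  refine Finset.sum_congr rfl fun i hi => ?_
  rw [Finset.mem_range] at hi
  show y (gPt i) * l.getD (gIdx (gPt i)) 0 = _
  rw [gIdx_gPt i hi]

theorem dotInt_vecOf_vecOf (l l' : List ℤ) :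
    dotInt (vecOf l) (vecOf l') = lsum 24 (fun i => l.getD i 0 * l'.getD i 0) := by
  rw [dotInt_vecOf_right, lsum_eq]
  refine Finset.sum_congr rfl fun i hi => ?_
  rw [Finset.mem_range] at hi
  show l.getD (gIdx (gPt i)) 0 * _ = _
  rw [gIdx_gPt i hi]

theorem uP_apply (p : GolayPt) : uP p = gPt (tU.getD (gIdx p) 0) :=
  permOfTabs_apply tU_inv p

theorem gIdx_uP (p : GolayPt) : gIdx (uP p) = tU.getD (gIdx p) 0 := by
  rw [uP_apply, gIdx_gPt _ (isInvPair_spec tU_inv (gIdx p) (gIdx_lt p)).1]

theorem uL_val : (uL : ↥Co0) = monoHom ⟨uP, uP_mem_M24⟩ := rfl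

theorem uP_uP (p : GolayPt) : uP (uP p) = p := by
  have h := uP_sq
  have := congrArg (fun σ : Equiv.Perm GolayPt => σ p) h
  simpa using this

/-- a lattice vector is fixed by `uL` iff it is invariant under the permutation -/
theorem uL_fix_iff (y : ↥leechLattice) : (uL : ↥Co0) • y = y ↔ ∀ p, y.1 (uP p) = y.1 p := by
  constructor
  · intro h p
    rw [uL_val] at h
    exact fixed_apply h p
  · intro h
    apply Subtype.ext
    funext i
    rw [uL_val, monoHom_smul]
    show y.1 (uP.symm i) = y.1 i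
    have : uP.symm i = uP i := by
      rw [Equiv.symm_apply_eq, uP_uP]
    rw [this, h]

theorem fr_uP (k : ℕ) (hk : k < 16) (p : GolayPt) : fr k (uP p) = fr k p := by
  rw [fr_apply, fr_apply, gIdx_uP]
  exact fr_inv_chk k hk (gIdx p) (gIdx_lt p)

theorem fr_mem (k : ℕ) : fr k ∈ leechLattice := by
  by_cases hk : k < 16
  · exact mem_of_leechChk (fr_chk k hk)
  · have : fr k = 0 := by
      funext p
      have hT : frT.getD k [] = [] := List.getD_eq_default _ _ (by
        have : frT.length = 16 := by decide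
        omega)
      show (frT.getD k []).getD (gIdx p) 0 = 0
      rw [hT]
      rfl
    rw [this]
    exact leechLattice.zero_mem

/-- the frame vectors as lattice elements -/
def frLat (k : ℕ) : ↥leechLattice := ⟨fr k, fr_mem k⟩

theorem frLat_val (k : ℕ) : (frLat k : IVec) = fr k := rfl

theorem uL_frLat (k : ℕ) (hk : k < 16) : (uL : ↥Co0) • frLat k = frLat k :=
  (uL_fix_iff _).mpr (fr_uP k hk)

theorem frLat_zero : frLat 0 = x0L := by
  apply Subtype.ext
  rw [x0_list]
  show vecOf (frL 0) = _
  rw [fr_zero]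

theorem fr_zero_eq : fr 0 = (x0L : IVec) := congrArg Subtype.val frLat_zero

theorem dot_fr_fr (k l : ℕ) (hk : k < 16) (hl : l < 16) :
    dotInt (fr k) (fr l) = if k = l then 32 else 0 := by
  unfold fr
  rw [dotInt_vecOf_vecOf]
  exact fr_dot_chk k hk l hl

theorem dot_v1_fr (k : ℕ) (hk : k < 16) (h1 : 1 ≤ k) : dotInt (v1L : IVec) (fr k) = 8 := by
  rw [v1_list]
  unfold fr
  rw [dotInt_vecOf_vecOf]
  exact fr_v1_chk k hk h1

/-! ### the expansion -/

theorem gram_fr (p q : GolayPt) : ∑ k ∈ Finset.range 16, fr k p * fr k q =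
    (if p = q then 16 else 0) + (if p = uP q then 16 else 0) := by
  have h := gram_chk (gIdx p) (gIdx_lt p) (gIdx q) (gIdx_lt q)
  rw [lsum_eq] at h
  rw [show (∑ k ∈ Finset.range 16, fr k p * fr k q) =
    ∑ k ∈ Finset.range 16, frE k (gIdx p) * frE k (gIdx q) from rfl, h]
  congr 1
  · by_cases hpq : p = q
    · rw [if_pos hpq, if_pos (congrArg gIdx hpq)]
    · rw [if_neg hpq, if_neg (fun h' => hpq (Cfsg.Agent.Helper27.gIdx_injective h'))]
  · by_cases hpq : p = uP q
    · rw [if_pos hpq, if_pos (by rw [hpq, gIdx_uP])]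
    · rw [if_neg hpq, if_neg (fun h' => hpq (Cfsg.Agent.Helper27.gIdx_injective (by rw [h', gIdx_uP])))]

/-- a vector invariant under the involution is a combination of the frame vectors -/
theorem frame_expand (y : IVec) (hy : ∀ p, y (uP p) = y p) (q : GolayPt) :
    ∑ k ∈ Finset.range 16, dotInt y (fr k) * fr k q = 32 * y q := by
  have h1 : ∀ k ∈ Finset.range 16, dotInt y (fr k) * fr k q = ∑ p, y p * (fr k p * fr k q) := by
    intro k _
    unfold dotInt
    rw [Finset.sum_mul]
    exact Finset.sum_congr rfl fun p _ => by ring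
  rw [Finset.sum_congr rfl h1, Finset.sum_comm]
  have h2 : ∀ p ∈ (Finset.univ : Finset GolayPt), ∑ k ∈ Finset.range 16, y p * (fr k p * fr k q) =
      y p * ((if p = q then 16 else 0) + (if p = uP q then 16 else 0)) := by
    intro p _
    rw [← Finset.mul_sum, gram_fr]
  rw [Finset.sum_congr rfl h2]
  simp only [mul_add, Finset.sum_add_distrib, mul_ite, mul_zero]
  rw [Finset.sum_ite_eq' Finset.univ q, Finset.sum_ite_eq' Finset.univ (uP q),
    if_pos (Finset.mem_univ _), if_pos (Finset.mem_univ _), hy]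
  ring

/-- two invariant vectors with the same inner products with the frame are equal -/
theorem eq_of_dots (y z : IVec) (hy : ∀ p, y (uP p) = y p) (hz : ∀ p, z (uP p) = z p)
    (h : ∀ k < 16, dotInt y (fr k) = dotInt z (fr k)) : y = z := by
  funext q
  have h1 := frame_expand y hy q
  have h2 := frame_expand z hz q
  have h3 : ∑ k ∈ Finset.range 16, dotInt y (fr k) * fr k q =
      ∑ k ∈ Finset.range 16, dotInt z (fr k) * fr k q :=
    Finset.sum_congr rfl fun k hk => by rw [h k (Finset.mem_range.mp hk)]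
  rw [h1, h2] at h3
  omega

/-- Parseval -/
theorem frame_sq (y : IVec) (hy : ∀ p, y (uP p) = y p) :
    ∑ k ∈ Finset.range 16, dotInt y (fr k) ^ 2 = 32 * sqNorm y := by
  have h1 : ∀ q, y q * (32 * y q) = ∑ k ∈ Finset.range 16, dotInt y (fr k) * (y q * fr k q) := by
    intro q
    rw [← frame_expand y hy q, Finset.mul_sum]
    exact Finset.sum_congr rfl fun k _ => by ring
  have h2 : 32 * sqNorm y = ∑ q, y q * (32 * y q) := by
    unfold sqNorm
    rw [Finset.mul_sum]
    exact Finset.sum_congr rfl fun q _ => by ring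
  rw [h2, Finset.sum_congr rfl (fun q _ => h1 q), Finset.sum_comm]
  refine Finset.sum_congr rfl fun k _ => ?_
  rw [← Finset.mul_sum]
  unfold dotInt
  ring

end Cfsg.Agent.Helper26.McLInv
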