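import Cfsg.Agent.Helper26.InvB

/-!
# The fifteen frame vectors inside the lattice

`Bset`: the minimal vectors `y` fixed by `uL` with `v1 · y = 8`, `x0 · y = 0` and
`y · w ≡ x0 · w (mod 16)` for every lattice vector `w` fixed by `uL`.  This set is invariant under
the centraliser of `uL` in `LM`, and consists of the fifteen vectors `fr k`, `1 ≤ k < 16`.
-/

set_option autoImplicit false

namespace Cfsg.Agent.Helper26.McLInv

open Cfsg Cfsg.Agent.Helper7 Cfsg.Agent.Helper27 Cfsg.Agent.Helper92 Cfsg.Agent.Helper93.HSL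
  Cfsg.Agent.Helper26.OutCo2 Cfsg.Agent.Helper26.OutMcL MulAction
open Cfsg.Agent.Helper8 hiding x0L

/-- the invariantly defined set -/
def Bset : Set ↥leechLattice :=
  {y | sqNorm (y : IVec) = 32 ∧ (uL : ↥Co0) • y = y ∧ dotInt (v1L : IVec) (y : IVec) = 8 ∧
    dotInt (x0L : IVec) (y : IVec) = 0 ∧
    ∀ w : ↥leechLattice, (uL : ↥Co0) • w = w →
      (16 : ℤ) ∣ dotInt (y : IVec) (w : IVec) - dotInt (x0L : IVec) (w : IVec)}

/-- invariance under the centraliser -/
theorem smul_mem_Bset {g : ↥Co0} (hv : g • v1L = v1L) (hx : g • x0L = x0L)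
    (hc : g * (uL : ↥Co0) = (uL : ↥Co0) * g) {y : ↥leechLattice} (hy : y ∈ Bset) :
    g • y ∈ Bset := by
  obtain ⟨h1, h2, h3, h4, h5⟩ := hy
  refine ⟨?_, ?_, ?_, ?_, ?_⟩
  · rw [co0_sqNorm]
    exact h1
  · rw [← mul_smul, ← hc, mul_smul, h2]
  · have := co0_dotInt g v1L y
    rw [hv] at this
    rw [this]
    exact h3
  · have := co0_dotInt g x0L y
    rw [hx] at this
    rw [this]
    exact h4
  · intro w hw
    have hw' : (uL : ↥Co0) • (g⁻¹ • w) = g⁻¹ • w := by
      have hc' : (uL : ↥Co0) * g⁻¹ = g⁻¹ * (uL : ↥Co0) := by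
        have : g⁻¹ * (g * (uL : ↥Co0)) * g⁻¹ = g⁻¹ * ((uL : ↥Co0) * g) * g⁻¹ := by rw [hc]
        simpa [mul_assoc] using this
      rw [← mul_smul, hc', mul_smul, hw]
    have e1 : dotInt ((g • y : ↥leechLattice) : IVec) (w : IVec) =
        dotInt (y : IVec) ((g⁻¹ • w : ↥leechLattice) : IVec) := by
      have := co0_dotInt g y (g⁻¹ • w)
      rw [smul_inv_smul] at this
      exact this
    have e2 : dotInt (x0L : IVec) (w : IVec) =
        dotInt (x0L : IVec) ((g⁻¹ • w : ↥leechLattice) : IVec) := by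
      have := co0_dotInt g x0L (g⁻¹ • w)
      rw [smul_inv_smul, hx] at this
      exact this
    rw [e1, e2]
    exact h5 _ hw'

/-! ### the frame vectors belong to the set -/

theorem dotInt_comm' (a b : IVec) : dotInt a b = dotInt b a := by
  unfold dotInt
  exact Finset.sum_congr rfl fun i _ => mul_comm _ _

theorem lam_mem (k : ℕ) (hk : k < 16) (h1 : 1 ≤ k) : vecOf (lamL k) ∈ leechLattice :=
  mem_of_leechChk (lam_chk k hk h1).1

theorem frLat_mem_Bset (k : ℕ) (hk : k < 16) (h1 : 1 ≤ k) : frLat k ∈ Bset := by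
  refine ⟨?_, uL_frLat k hk, dot_v1_fr k hk h1, ?_, ?_⟩
  · show sqNorm (fr k) = 32
    have := dot_fr_fr k k hk hk
    rw [if_pos rfl] at this
    rw [← this]
    unfold sqNorm dotInt
    exact Finset.sum_congr rfl fun i _ => by ring
  · rw [← fr_zero_eq]
    have := dot_fr_fr 0 k (by norm_num) hk
    rw [if_neg (by omega)] at this
    exact this
  · intro w hw
    -- `fr k - fr 0 = λ + uL λ`
    let lam : ↥leechLattice := ⟨vecOf (lamL k), lam_mem k hk h1⟩
    have hsum : ∀ p, fr k p - fr 0 p = lam.1 p + lam.1 (uP p) := by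
      intro p
      have := (lam_chk k hk h1).2 (gIdx p) (gIdx_lt p)
      show frE k (gIdx p) - frE 0 (gIdx p) = (lamL k).getD (gIdx p) 0 + (lamL k).getD (gIdx (uP p)) 0
      rw [gIdx_uP]
      exact this
    have hwp := (uL_fix_iff w).mp hw
    -- the inner product of `uL λ` with `w`
    have e1 : ∑ p, lam.1 (uP p) * w.1 p = ∑ p, lam.1 p * w.1 p := by
      rw [← Equiv.sum_comp uP (fun p => lam.1 p * w.1 p)]
      exact Finset.sum_congr rfl fun p _ => by rw [hwp]
    have e2 : dotInt (fr k) (w : IVec) - dotInt (fr 0) (w : IVec) =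
        2 * dotInt (lam : IVec) (w : IVec) := by
      unfold dotInt
      rw [← Finset.sum_sub_distrib]
      have : ∀ p, fr k p * w.1 p - fr 0 p * w.1 p = lam.1 p * w.1 p + lam.1 (uP p) * w.1 p := by
        intro p
        rw [← sub_mul, hsum]
        ring
      rw [Finset.sum_congr rfl fun p _ => this p, Finset.sum_add_distrib, e1]
      ring
    show (16 : ℤ) ∣ dotInt (fr k) (w : IVec) - dotInt (x0L : IVec) (w : IVec)
    rw [← fr_zero_eq, e2]
    obtain ⟨c, hc⟩ := Cfsg.Agent.Helper8.eight_dvd_dotInt lam.2 w.2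
    exact ⟨c, by rw [hc]; ring⟩

end Cfsg.Agent.Helper26.McLInv
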