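import Cfsg.Agent.Helper26.InvC

/-!
# Classification of the invariantly defined set

Every element of `Bset` is one of the fifteen frame vectors `fr k`, `1 ≤ k < 16`.
-/

set_option autoImplicit false

namespace Cfsg.Agent.Helper26.McLInv

open Cfsg Cfsg.Agent.Helper7 Cfsg.Agent.Helper27 Cfsg.Agent.Helper92 Cfsg.Agent.Helper93.HSL
  Cfsg.Agent.Helper26.OutCo2 Cfsg.Agent.Helper26.OutMcL MulAction
open Cfsg.Agent.Helper8 hiding x0L

theorem xor_lt16 {p q : ℕ} (hp : p < 16) (hq : q < 16) : p ^^^ q < 16 :=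
  Nat.xor_lt_two_pow (n := 4) hp hq

theorem sum_xor (F : ℕ → ℤ) (a : ℕ) (ha : a < 16) :
    ∑ q ∈ Finset.range 16, F (q ^^^ a) = ∑ q ∈ Finset.range 16, F q := by
  refine Finset.sum_nbij' (fun q => q ^^^ a) (fun q => q ^^^ a) ?_ ?_ ?_ ?_ ?_
  · intro q hq
    rw [Finset.mem_range] at hq ⊢
    exact xor_lt16 hq ha
  · intro q hq
    rw [Finset.mem_range] at hq ⊢
    exact xor_lt16 hq ha
  · intro q _
    exact Nat.xor_xor_cancel_right q a
  · intro q _
    exact Nat.xor_xor_cancel_right q a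
  · intro q _
    rfl

/-- the lattice vector `(fr 0 + fr p + fr q + fr (p xor q)) / 2` -/
def hsLat (p q : ℕ) (hp : p < 16) (hq : q < 16) : ↥leechLattice :=
  ⟨vecOf (hsL p q), mem_of_leechChk (hs_chk p hp q hq)⟩

theorem uL_hsLat (p q : ℕ) (hp : p < 16) (hq : q < 16) :
    (uL : ↥Co0) • hsLat p q hp hq = hsLat p q hp hq := by
  rw [uL_fix_iff]
  intro pt
  show (hsL p q).getD (gIdx (uP pt)) 0 = (hsL p q).getD (gIdx pt) 0
  rw [gIdx_uP]
  exact hs_inv p hp q hq (gIdx pt) (gIdx_lt pt)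

theorem two_dot_hs (z : IVec) (p q : ℕ) (hp : p < 16) (hq : q < 16) :
    2 * dotInt z ((hsLat p q hp hq : ↥leechLattice) : IVec) =
      dotInt z (fr 0) + dotInt z (fr p) + dotInt z (fr q) + dotInt z (fr (p ^^^ q)) := by
  unfold dotInt
  rw [Finset.mul_sum, ← Finset.sum_add_distrib, ← Finset.sum_add_distrib,
    ← Finset.sum_add_distrib]
  refine Finset.sum_congr rfl fun i _ => ?_
  have h := hs_two p hp q hq (gIdx i) (gIdx_lt i)
  have e : ((hsLat p q hp hq : ↥leechLattice) : IVec) i = (hsL p q).getD (gIdx i) 0 := rfl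
  rw [e, fr_apply, fr_apply, fr_apply, fr_apply]
  calc 2 * (z i * (hsL p q).getD (gIdx i) 0) = z i * (2 * (hsL p q).getD (gIdx i) 0) := by ring
    _ = _ := by rw [h]; ring

theorem sq_ge_one {x : ℤ} (hx : x ≠ 0) : 1 ≤ x ^ 2 := by
  have := sq_pos_of_ne_zero hx  
  omega

/-- the classification -/
theorem bset_cases {y : ↥leechLattice} (hy : y ∈ Bset) : ∃ k, 1 ≤ k ∧ k < 16 ∧ y = frLat k := by
  obtain ⟨h1, h2, h3, h4, h5⟩ := hy
  have hfix := (uL_fix_iff y).mp h2
  have hx0 : ∀ k < 16, dotInt (x0L : IVec) (fr k) = if 0 = k then 32 else 0 := by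
    intro k hk
    rw [← fr_zero_eq]
    exact dot_fr_fr 0 k (by norm_num) hk
  have hdiv : ∀ k < 16, (16 : ℤ) ∣ dotInt y.1 (fr k) := by
    intro k hk
    obtain ⟨c, hc⟩ := h5 (frLat k) (uL_frLat k hk)
    rw [frLat_val, hx0 k hk] at hc
    split_ifs at hc
    · exact ⟨c + 2, by omega⟩
    · exact ⟨c, by omega⟩
  -- the coefficients
  let m : ℕ → ℤ := fun k => dotInt y.1 (fr k) / 16
  have hm : ∀ k < 16, dotInt y.1 (fr k) = 16 * m k := fun k hk =>
    (Int.mul_ediv_cancel' (hdiv k hk)).symm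
  have hm0 : m 0 = 0 := by
    have := hm 0 (by norm_num)
    rw [fr_zero_eq, dotInt_comm', h4] at this
    omega
  have hsq : ∑ k ∈ Finset.range 16, m k ^ 2 = 4 := by
    have h := frame_sq y.1 hfix
    rw [h1] at h
    have h' : ∑ k ∈ Finset.range 16, dotInt y.1 (fr k) ^ 2 =
        256 * ∑ k ∈ Finset.range 16, m k ^ 2 := by
      rw [Finset.mul_sum]
      refine Finset.sum_congr rfl fun k hk => ?_
      rw [hm k (Finset.mem_range.mp hk)]
      ring
    rw [h'] at h
    omega
  have hpar : ∀ p < 16, ∀ q < 16, (2 : ℤ) ∣ m 0 + m p + m q + m (p ^^^ q) := by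
    intro p hp q hq
    have hpq := xor_lt16 hp hq
    obtain ⟨c, hc⟩ := h5 (hsLat p q hp hq) (uL_hsLat p q hp hq)
    have e1 := two_dot_hs y.1 p q hp hq
    have e2 := two_dot_hs (x0L : IVec) p q hp hq
    rw [hm 0 (by norm_num), hm p hp, hm q hq, hm _ hpq] at e1
    rw [hx0 0 (by norm_num), hx0 p hp, hx0 q hq, hx0 _ hpq] at e2
    have e3 : ∃ n : ℤ, dotInt (x0L : IVec) ((hsLat p q hp hq : ↥leechLattice) : IVec) = 16 * n := by
      split_ifs at e2
      all_goals first
        | exact ⟨4, by omega⟩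
        | exact ⟨3, by omega⟩
        | exact ⟨2, by omega⟩
        | exact ⟨1, by omega⟩
    obtain ⟨n, hn⟩ := e3
    exact ⟨c + n, by omega⟩
  -- no odd coefficient
  have heven : ∀ a < 16, (2 : ℤ) ∣ m a := by
    intro a ha
    by_contra hodd
    have hq : ∀ q ∈ Finset.range 16, (1 : ℤ) ≤ m q ^ 2 + m (q ^^^ a) ^ 2 := by
      intro q hq
      rw [Finset.mem_range] at hq
      have hp := hpar a ha q hq
      rw [hm0, Nat.xor_comm] at hp
      by_cases h0 : m q = 0
      · have : m (q ^^^ a) ≠ 0 := by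
          intro h
          rw [h0, h] at hp
          apply hodd
          obtain ⟨c, hc⟩ := hp
          exact ⟨c, by omega⟩
        have := sq_ge_one this
        have := sq_nonneg (m q)
        omega
      · have := sq_ge_one h0
        have := sq_nonneg (m (q ^^^ a))
        omega
    have hs := Finset.sum_le_sum hq
    rw [Finset.sum_add_distrib, sum_xor (fun q => m q ^ 2) a ha, hsq] at hs
    simp at hs
  -- halves
  let n : ℕ → ℤ := fun k => m k / 2
  have hn : ∀ k < 16, m k = 2 * n k := fun k hk =>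
    (Int.mul_ediv_cancel' (heven k hk)).symm
  have hnsq : ∑ k ∈ Finset.range 16, n k ^ 2 = 1 := by
    have h' : ∑ k ∈ Finset.range 16, m k ^ 2 = 4 * ∑ k ∈ Finset.range 16, n k ^ 2 := by
      rw [Finset.mul_sum]
      refine Finset.sum_congr rfl fun k hk => ?_
      rw [hn k (Finset.mem_range.mp hk)]
      ring
    rw [h'] at hsq
    omega
  have hn0 : n 0 = 0 := by
    have := hn 0 (by norm_num)
    omega
  obtain ⟨k0, hk0, hnk0⟩ : ∃ k0 ∈ Finset.range 16, n k0 ≠ 0 := by
    by_contra hcon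
    push Not at hcon
    have : ∑ k ∈ Finset.range 16, n k ^ 2 = 0 :=
      Finset.sum_eq_zero fun k hk => by rw [hcon k hk]; ring
    omega
  have hsplit := Finset.add_sum_erase (Finset.range 16) (fun k => n k ^ 2) hk0
  have hrest_nonneg : 0 ≤ ∑ k ∈ (Finset.range 16).erase k0, n k ^ 2 :=
    Finset.sum_nonneg fun k _ => sq_nonneg _
  have hk0sq := sq_ge_one hnk0
  have hrest : ∑ k ∈ (Finset.range 16).erase k0, n k ^ 2 = 0 := by
    omega
  have hk0one : n k0 ^ 2 = 1 := by
    omega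
  have hzero : ∀ k < 16, k ≠ k0 → n k = 0 := by
    intro k hk hne
    have := (Finset.sum_eq_zero_iff_of_nonneg (fun k _ => sq_nonneg (n k))).mp hrest k
      (Finset.mem_erase.mpr ⟨hne, Finset.mem_range.mpr hk⟩)
    exact pow_eq_zero_iff (by norm_num) |>.mp this
  rw [Finset.mem_range] at hk0
  have hk0pos : 1 ≤ k0 := by
    rcases Nat.eq_zero_or_pos k0 with h | h
    · rw [h] at hnk0
      exact absurd hn0 hnk0
    · exact h
  -- compare with the multiple of the frame vector
  have hyz : y.1 = fun p => n k0 * fr k0 p := by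
    apply eq_of_dots y.1 _ hfix
    · intro p
      show n k0 * fr k0 (uP p) = n k0 * fr k0 p
      rw [fr_uP k0 hk0]
    · intro k hk
      have e : dotInt (fun p => n k0 * fr k0 p) (fr k) = n k0 * dotInt (fr k0) (fr k) := by
        unfold dotInt
        rw [Finset.mul_sum]
        exact Finset.sum_congr rfl fun i _ => by ring
      rw [e, dot_fr_fr k0 k hk0 hk, hm k hk, hn k hk]
      by_cases hkk : k0 = k
      · rw [if_pos hkk, hkk]
        ring
      · rw [if_neg hkk, hzero k hk (fun h => hkk h.symm)]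
        ring
  have hone : n k0 = 1 := by
    have e : dotInt (v1L : IVec) y.1 = n k0 * dotInt (v1L : IVec) (fr k0) := by
      rw [hyz]
      unfold dotInt
      rw [Finset.mul_sum]
      exact Finset.sum_congr rfl fun i _ => by ring
    rw [h3, dot_v1_fr k0 hk0 hk0pos] at e
    omega
  refine ⟨k0, hk0pos, hk0, ?_⟩
  apply Subtype.ext
  rw [hyz, hone]
  funext p
  show 1 * fr k0 p = fr k0 p
  ring

end Cfsg.Agent.Helper26.McLInv
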