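import Cfsg.Agent.Helper26.InvD

/-!
# The action of the centraliser of `uL` on the frame: a homomorphism to `GL₄(2)`

The frame vectors are labelled by the vectors of `F₂⁴`; an element of `LM` commuting with `uL`
permutes them by a linear map.
-/

set_option autoImplicit false

namespace Cfsg.Agent.Helper26.McLInv

open Cfsg Cfsg.Agent.Helper7 Cfsg.Agent.Helper27 Cfsg.Agent.Helper92 Cfsg.Agent.Helper93.HSL
  Cfsg.Agent.Helper26.OutCo2 Cfsg.Agent.Helper26.OutMcL MulAction
open Cfsg.Agent.Helper8 hiding x0L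

/-- the vector space of labels -/
abbrev V4 := Fin 4 → ZMod 2

/-- the number of a label -/
def encV (v : V4) : ℕ := (v 0).val + 2 * (v 1).val + 4 * (v 2).val + 8 * (v 3).val

theorem encV_lt : ∀ v : V4, encV v < 16 := by decide

theorem encV_zero : encV 0 = 0 := by decide

theorem encV_add : ∀ p q : V4, encV (p + q) = encV p ^^^ encV q := by decide

theorem encV_injective : Function.Injective encV := by
  have : ∀ p q : V4, encV p = encV q → p = q := by decide
  exact fun p q h => this p q h

theorem encV_pos : ∀ v : V4, v ≠ 0 → 1 ≤ encV v := by decide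

theorem encV_surj : ∀ k < 16, ∃ v : V4, encV v = k := by decide

theorem encV_bit : ∀ (v : V4) (i : Fin 4), ((if (encV v).testBit i.val then 1 else 0 : ℤ) : ZMod 2) = v i := by
  decide

/-- the frame vector with a given label -/
def frV (v : V4) : ↥leechLattice := frLat (encV v)

theorem frV_zero : frV 0 = x0L := by
  unfold frV
  rw [encV_zero, frLat_zero]

theorem frLat_injective {k l : ℕ} (hk : k < 16) (hl : l < 16) (h : frLat k = frLat l) : k = l := by
  have h1 := dot_fr_fr k l hk hl
  have h2 := dot_fr_fr k k hk hk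
  rw [if_pos rfl] at h2
  have e : fr k = fr l := congrArg Subtype.val h
  rw [← e, h2] at h1
  by_contra hne
  rw [if_neg hne] at h1
  omega

theorem frV_injective : Function.Injective frV := by
  intro p q h
  exact encV_injective (frLat_injective (encV_lt p) (encV_lt q) h)

theorem frV_mem_Bset {v : V4} (hv : v ≠ 0) : frV v ∈ Bset :=
  frLat_mem_Bset _ (encV_lt v) (encV_pos v hv)

/-- the centraliser of `uL` in `LM` -/
abbrev CU : Subgroup ↥LM := Subgroup.centralizer ({uL} : Set ↥LM)

theorem CU_comm (g : ↥CU) : ((g : ↥LM) : ↥Co0) * (uL : ↥Co0) = (uL : ↥Co0) * ((g : ↥LM) : ↥Co0) := by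
  have h := Subgroup.mem_centralizer_singleton_iff.mp g.2
  have := congrArg (fun x : ↥LM => (x : ↥Co0)) h
  exact this

/-- an element of the centraliser permutes the frame -/
theorem exists_frV (g : ↥CU) (v : V4) : ∃ v' : V4, ((g : ↥LM) : ↥Co0) • frV v = frV v' := by
  by_cases hv : v = 0
  · refine ⟨0, ?_⟩
    rw [hv, frV_zero]
    exact LM_smul_x0 g.1
  · have hmem := smul_mem_Bset (LM_smul_v1 g.1) (LM_smul_x0 g.1) (CU_comm g) (frV_mem_Bset hv)
    obtain ⟨k, hk1, hk16, hk⟩ := bset_cases hmem
    obtain ⟨v', hv'⟩ := encV_surj k hk16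
    refine ⟨v', ?_⟩
    rw [hk]
    unfold frV
    rw [hv']

/-- the induced map on labels -/
noncomputable def piG (g : ↥CU) (v : V4) : V4 := Classical.choose (exists_frV g v)

theorem piG_spec (g : ↥CU) (v : V4) : ((g : ↥LM) : ↥Co0) • frV v = frV (piG g v) :=
  Classical.choose_spec (exists_frV g v)

theorem piG_zero (g : ↥CU) : piG g 0 = 0 := by
  apply frV_injective
  rw [← piG_spec, frV_zero]
  exact LM_smul_x0 g.1

theorem piG_one (v : V4) : piG 1 v = v := by
  apply frV_injective
  rw [← piG_spec]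
  show (1 : ↥Co0) • frV v = frV v
  rw [one_smul]

theorem piG_mul (g h : ↥CU) (v : V4) : piG (g * h) v = piG g (piG h v) := by
  apply frV_injective
  rw [← piG_spec, ← piG_spec, ← piG_spec]
  show (((g : ↥LM) : ↥Co0) * ((h : ↥LM) : ↥Co0)) • frV v = _
  rw [mul_smul]

/-! ### linearity -/

/-- the coordinate witnesses as lattice vectors -/
def cwLat (i : Fin 4) : ↥leechLattice := ⟨vecOf (cwL i.val), mem_of_leechChk (cw_chk i.val i.2)⟩

theorem cw_coord (i : Fin 4) (v : V4) : ∃ c : ℤ, dotInt (cwLat i : IVec) (fr (encV v)) = 8 * c ∧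
    ((c : ℤ) : ZMod 2) = v i := by
  obtain ⟨c, hc1, hc2⟩ := cw_dot i.val i.2 (encV v) (encV_lt v)
  refine ⟨c, ?_, ?_⟩
  · show dotInt (vecOf (cwL i.val)) (vecOf (frL (encV v))) = 8 * c
    rw [dotInt_vecOf_vecOf]
    exact hc1
  · rw [← encV_bit v i, ← hc2]
    rw [← ZMod.intCast_mod c 2]
    rfl

/-- the parity relation for an arbitrary lattice vector -/
theorem lattice_parity (w : ↥leechLattice) (p q : ℕ) (hp : p < 16) (hq : q < 16) :
    (16 : ℤ) ∣ dotInt (w : IVec) (fr 0) + dotInt (w : IVec) (fr p) + dotInt (w : IVec) (fr q) +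
      dotInt (w : IVec) (fr (p ^^^ q)) := by
  rw [← two_dot_hs w.1 p q hp hq]
  obtain ⟨c, hc⟩ := Cfsg.Agent.Helper8.eight_dvd_dotInt w.2 (hsLat p q hp hq).2
  exact ⟨c, by rw [hc]; ring⟩

theorem piG_add (g : ↥CU) (p q : V4) : piG g (p + q) = piG g p + piG g q := by
  funext i
  -- the vector `g⁻¹ • cw i`
  let w : ↥leechLattice := ((g : ↥LM) : ↥Co0)⁻¹ • cwLat i
  have hw : ∀ v : V4, dotInt (w : IVec) (fr (encV v)) =
      dotInt (cwLat i : IVec) (fr (encV (piG g v))) := by
    intro v
    have := co0_dotInt ((g : ↥LM) : ↥Co0) w (frV v)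
    rw [piG_spec, smul_inv_smul] at this
    exact this.symm
  have hpar := lattice_parity w (encV p) (encV q) (encV_lt p) (encV_lt q)
  rw [← encV_add, ← encV_zero, hw 0, hw p, hw q, hw (p + q), piG_zero] at hpar
  obtain ⟨c0, e0, b0⟩ := cw_coord i 0
  obtain ⟨cp, ep, bp⟩ := cw_coord i (piG g p)
  obtain ⟨cq, eq, bq⟩ := cw_coord i (piG g q)
  obtain ⟨cs, es, bs⟩ := cw_coord i (piG g (p + q))
  rw [e0, ep, eq, es] at hpar
  have h2 : (2 : ℤ) ∣ c0 + cp + cq + cs := by
    obtain ⟨d, hd⟩ := hpar
    exact ⟨d, by omega⟩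
  have h3 : (((c0 + cp + cq + cs : ℤ)) : ZMod 2) = 0 := by
    obtain ⟨d, hd⟩ := h2
    rw [hd]
    push_cast
    have : (2 : ZMod 2) = 0 := by decide
    rw [this, zero_mul]
  push_cast at h3
  rw [b0, bp, bq, bs] at h3
  show piG g (p + q) i = piG g p i + piG g q i
  have h0 : (0 : V4) i = 0 := rfl
  rw [h0, zero_add] at h3
  -- characteristic two
  have key : ∀ a b c : ZMod 2, a + b + c = 0 → c = a + b := by decide
  exact key _ _ _ h3

/-- the induced linear map -/
noncomputable def linG (g : ↥CU) : V4 →ₗ[ZMod 2] V4 :=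
  AddMonoidHom.toZModLinearMap 2
    { toFun := piG g, map_zero' := piG_zero g, map_add' := piG_add g }

theorem linG_apply (g : ↥CU) (v : V4) : linG g v = piG g v := rfl

/-- the homomorphism to matrices -/
noncomputable def phiM : ↥CU →* Matrix (Fin 4) (Fin 4) (ZMod 2) where
  toFun g := LinearMap.toMatrix' (linG g)
  map_one' := by
    have : linG 1 = LinearMap.id := by
      apply LinearMap.ext
      intro v
      rw [linG_apply, piG_one]
      rfl
    rw [this, LinearMap.toMatrix'_id]
  map_mul' g h := by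
    have : linG (g * h) = (linG g).comp (linG h) := by
      apply LinearMap.ext
      intro v
      rw [linG_apply, piG_mul]
      rfl
    rw [this, LinearMap.toMatrix'_comp]

/-- the homomorphism to `GL₄(2)` -/
noncomputable def phiG : ↥CU →* GL (Fin 4) (ZMod 2) := phiM.toHomUnits

theorem phiG_val (g : ↥CU) : ((phiG g : GL (Fin 4) (ZMod 2)) : Matrix (Fin 4) (Fin 4) (ZMod 2)) =
    phiM g := rfl

theorem phiM_mulVec (g : ↥CU) (v : V4) : (phiM g).mulVec v = piG g v := by
  show (LinearMap.toMatrix' (linG g)).mulVec v = _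
  rw [← Matrix.toLin'_apply, Matrix.toLin'_toMatrix', linG_apply]

/-- the action on the frame in terms of the matrix -/
theorem smul_frV (g : ↥CU) (v : V4) :
    ((g : ↥LM) : ↥Co0) • frV v = frV ((phiM g).mulVec v) := by
  rw [phiM_mulVec, piG_spec]

theorem phiM_eq_of_cols (g : ↥CU) (cols : Fin 4 → V4)
    (h : ∀ j : Fin 4, ((g : ↥LM) : ↥Co0) • frV (Pi.single j 1) = frV (cols j)) :
    phiM g = Matrix.of fun i j => cols j i := by
  ext i j
  show LinearMap.toMatrix' (linG g) i j = cols j i
  rw [LinearMap.toMatrix'_apply, linG_apply]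
  have : piG g (Pi.single j 1) = cols j := by
    apply frV_injective
    rw [← piG_spec, h]
  rw [this]

theorem phiG_eq_one_iff (g : ↥CU) : phiG g = 1 ↔ ∀ v : V4, ((g : ↥LM) : ↥Co0) • frV v = frV v := by
  constructor
  · intro h v
    have h1 : phiM g = 1 := by
      have := congrArg (fun x : GL (Fin 4) (ZMod 2) => (x : Matrix (Fin 4) (Fin 4) (ZMod 2))) h
      exact this
    rw [smul_frV, h1, Matrix.one_mulVec]
  · intro h
    apply Units.ext
    show phiM g = 1
    have : linG g = LinearMap.id := by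
      apply LinearMap.ext
      intro v
      rw [linG_apply]
      apply frV_injective
      rw [← piG_spec, h]
      rfl
    show LinearMap.toMatrix' (linG g) = 1
    rw [this, LinearMap.toMatrix'_id]

end Cfsg.Agent.Helper26.McLInv
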