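import Cfsg.Agent.Helper26.InvE
import Cfsg.Agent.Helper93.M23IdxB

/-!
# The kernel of the action on the frame

An element of the centraliser of `uL` fixing the sixteen frame vectors fixes every lattice vector
fixed by `uL`; it is then a coordinate permutation of `M22` fixing eight points and preserving a
transposition of `uL`, hence trivial or equal to `uL`.
-/

set_option autoImplicit false

namespace Cfsg.Agent.Helper26.McLInv

open Cfsg Cfsg.Agent.Helper7 Cfsg.Agent.Helper27 Cfsg.Agent.Helper92 Cfsg.Agent.Helper93.HSL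
  Cfsg.Agent.Helper26.OutCo2 Cfsg.Agent.Helper26.OutMcL MulAction
open Cfsg.Agent.Helper8 hiding x0L

/-- an element of the centraliser fixing the frame fixes every vector fixed by `uL` -/
theorem smul_eq_of_fix_frame (g : ↥CU) (hg : ∀ v : V4, ((g : ↥LM) : ↥Co0) • frV v = frV v)
    (w : ↥leechLattice) (hw : (uL : ↥Co0) • w = w) : ((g : ↥LM) : ↥Co0) • w = w := by
  have hgw : (uL : ↥Co0) • (((g : ↥LM) : ↥Co0) • w) = ((g : ↥LM) : ↥Co0) • w := by
    rw [← mul_smul, ← CU_comm g, mul_smul, hw]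
  apply Subtype.ext
  apply eq_of_dots _ _ ((uL_fix_iff _).mp hgw) ((uL_fix_iff _).mp hw)
  intro k hk
  obtain ⟨v, hv⟩ := encV_surj k hk
  have h1 := co0_dotInt ((g : ↥LM) : ↥Co0) w (frV v)
  rw [hg v] at h1
  rw [← hv]
  exact h1

theorem uP_gPt_fixed (i : ℕ) (hi : i < 24) (h : tU.getD i 0 = i) : uP (gPt i) = gPt i := by
  rw [uP_apply, gIdx_gPt i hi, h]

theorem uP_gPt_two : uP (gPt 2) = gPt 4 := by
  rw [uP_apply, gIdx_gPt 2 (by norm_num)]
  rfl

theorem uP_gPt_four : uP (gPt 4) = gPt 2 := by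
  rw [uP_apply, gIdx_gPt 4 (by norm_num)]
  rfl

theorem uL_vec8 (i : ℕ) (hi : i < 24) (h : tU.getD i 0 = i) :
    (uL : ↥Co0) • vec8 (gPt i) = vec8 (gPt i) := by
  rw [uL_fix_iff]
  intro q
  show (Pi.single (gPt i) (8 : ℤ) : IVec) (uP q) = (Pi.single (gPt i) (8 : ℤ) : IVec) q
  by_cases hq : q = gPt i
  · rw [hq, uP_gPt_fixed i hi h]
  · have : uP q ≠ gPt i := by
      intro h'
      apply hq
      have := congrArg uP h'
      rw [uP_uP, uP_gPt_fixed i hi h] at this
      exact this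
    rw [Pi.single_eq_of_ne this, Pi.single_eq_of_ne hq]

/-- a coordinate permutation fixing `8 e_p` fixes `p` -/
theorem perm_fix_of_vec8 {σ : ↥M24} {p : GolayPt} (h : monoHom σ • vec8 p = vec8 p) :
    (σ : Equiv.Perm GolayPt) p = p := by
  have h1 := fixed_apply h p
  change (Pi.single p (8 : ℤ) : IVec) ((σ : Equiv.Perm GolayPt) p) = (Pi.single p (8 : ℤ) : IVec) p
    at h1
  rw [Pi.single_eq_same] at h1
  by_contra hne
  rw [Pi.single_eq_of_ne hne] at h1
  norm_num at h1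

/-- the sum of the two vectors `8 e_2` and `8 e_4` -/
def w24 : ↥leechLattice := vec8 (gPt 2) + vec8 (gPt 4)

theorem w24_apply (q : GolayPt) : w24.1 q =
    (Pi.single (gPt 2) (8 : ℤ) : IVec) q + (Pi.single (gPt 4) (8 : ℤ) : IVec) q := rfl

theorem gPt2_ne_gPt4 : gPt 2 ≠ gPt 4 := by decide

theorem uL_w24 : (uL : ↥Co0) • w24 = w24 := by
  rw [uL_fix_iff]
  intro q
  rw [w24_apply, w24_apply]
  by_cases h2 : q = gPt 2
  · rw [h2, uP_gPt_two, Pi.single_eq_same, Pi.single_eq_same,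
      Pi.single_eq_of_ne gPt2_ne_gPt4.symm, Pi.single_eq_of_ne gPt2_ne_gPt4]
    ring
  · by_cases h4 : q = gPt 4
    · rw [h4, uP_gPt_four, Pi.single_eq_same, Pi.single_eq_same,
        Pi.single_eq_of_ne gPt2_ne_gPt4.symm, Pi.single_eq_of_ne gPt2_ne_gPt4]
      ring
    · have a2 : uP q ≠ gPt 2 := by
        intro h'
        apply h4
        have := congrArg uP h'
        rw [uP_uP, uP_gPt_two] at this
        exact this
      have a4 : uP q ≠ gPt 4 := by
        intro h'
        apply h2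
        have := congrArg uP h'
        rw [uP_uP, uP_gPt_four] at this
        exact this
      rw [Pi.single_eq_of_ne a2, Pi.single_eq_of_ne a4, Pi.single_eq_of_ne h2,
        Pi.single_eq_of_ne h4]

theorem perm_of_w24 {σ : ↥M24} (h : monoHom σ • w24 = w24) :
    (σ : Equiv.Perm GolayPt) (gPt 2) = gPt 2 ∨ (σ : Equiv.Perm GolayPt) (gPt 2) = gPt 4 := by
  have h1 := fixed_apply h (gPt 2)
  rw [w24_apply, w24_apply, Pi.single_eq_same, Pi.single_eq_of_ne gPt2_ne_gPt4] at h1
  by_contra hcon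
  push Not at hcon
  rw [Pi.single_eq_of_ne hcon.1, Pi.single_eq_of_ne hcon.2] at h1
  norm_num at h1

/-- the eight fixed points together with a ninth point -/
def nineSet : Finset GolayPt :=
  {gPt 0, gPt 1, gPt 3, gPt 12, gPt 15, gPt 21, gPt 22, gPt 23, gPt 2}

theorem nineSet_card : 9 ≤ nineSet.card := by decide

theorem eq_one_of_fix_nine {ρ : Equiv.Perm GolayPt} (hρ : ρ ∈ M24)
    (h0 : ρ (gPt 0) = gPt 0) (h1 : ρ (gPt 1) = gPt 1) (h3 : ρ (gPt 3) = gPt 3)
    (h12 : ρ (gPt 12) = gPt 12) (h15 : ρ (gPt 15) = gPt 15) (h21 : ρ (gPt 21) = gPt 21)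
    (h22 : ρ (gPt 22) = gPt 22) (h23 : ρ (gPt 23) = gPt 23) (h2 : ρ (gPt 2) = gPt 2) : ρ = 1 := by
  apply Cfsg.Agent.Helper93.M23Idx.eq_one_of_fixes hρ nineSet _ nineSet_card
  intro y hy
  unfold nineSet at hy
  simp only [Finset.mem_insert, Finset.mem_singleton] at hy
  rcases hy with rfl | rfl | rfl | rfl | rfl | rfl | rfl | rfl | rfl <;> assumption

/-- `uL` as an element of its centraliser -/
noncomputable def uLC : ↥CU := ⟨uL, Subgroup.mem_centralizer_singleton_iff.mpr rfl⟩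

theorem uQ_ne_one : uQ ≠ 1 := by
  intro h
  have h1 : uP (gPt 2) = gPt 2 := by
    have : (uQ : Equiv.Perm GolayPt) = 1 := congrArg Subtype.val h
    show (uQ : Equiv.Perm GolayPt) (gPt 2) = gPt 2
    rw [this]
    rfl
  rw [uP_gPt_two] at h1
  exact gPt2_ne_gPt4 h1.symm

theorem uLC_ne_one : uLC ≠ 1 := by
  intro h
  have h1 : uL = 1 := congrArg Subtype.val h
  have h2 : m22 uQ = m22 1 := by rw [map_one]; exact h1
  exact uQ_ne_one (m22_injective h2)

theorem phiG_uLC : phiG uLC = 1 := by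
  rw [phiG_eq_one_iff]
  intro v
  exact uL_frLat _ (encV_lt v)

/-- the kernel -/
theorem eq_of_phiG_eq_one (g : ↥CU) (h : phiG g = 1) : g = 1 ∨ g = uLC := by
  have hfix := smul_eq_of_fix_frame g ((phiG_eq_one_iff g).mp h)
  -- `g` is a coordinate permutation
  have hz0 : (uL : ↥Co0) • z0L = z0L := by
    apply Subtype.ext
    rw [acts_uL.run (by decide +kernel) z0_list, show runW [.P tU tU] lz0 = lz0 by decide +kernel]
    exact z0_list.symm
  obtain ⟨σ, hσ⟩ := exists_m22_of_fix_z0 g.1 (hfix z0L hz0)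
  have hval : ((g : ↥LM) : ↥Co0) = monoHom ⟨σ.1, (mem_M22p.mp σ.2).1⟩ := by
    rw [hσ]
    rfl
  have h8 : ∀ i, i < 24 → tU.getD i 0 = i → σ.1 (gPt i) = gPt i := by
    intro i hi hti
    have := hfix (vec8 (gPt i)) (uL_vec8 i hi hti)
    rw [hval] at this
    exact perm_fix_of_vec8 this
  have f0 := h8 0 (by norm_num) rfl
  have f1 := h8 1 (by norm_num) rfl
  have f3 := h8 3 (by norm_num) rfl
  have f12 := h8 12 (by norm_num) rfl
  have f15 := h8 15 (by norm_num) rfl
  have f21 := h8 21 (by norm_num) rfl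
  have f22 := h8 22 (by norm_num) rfl
  have f23 := h8 23 (by norm_num) rfl
  have hw := hfix w24 uL_w24
  rw [hval] at hw
  rcases perm_of_w24 hw with h2 | h2
  · left
    have : σ.1 = 1 := eq_one_of_fix_nine (mem_M22p.mp σ.2).1 f0 f1 f3 f12 f15 f21 f22 f23 h2
    have hσ1 : σ = 1 := Subtype.ext this
    apply Subtype.ext
    rw [hσ, hσ1, map_one]
    rfl
  · right
    have hρ : uP * σ.1 = 1 := by
      apply eq_one_of_fix_nine (M24.mul_mem uP_mem_M24 (mem_M22p.mp σ.2).1)
      · show uP (σ.1 (gPt 0)) = gPt 0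
        rw [f0, uP_gPt_fixed 0 (by norm_num) rfl]
      · show uP (σ.1 (gPt 1)) = gPt 1
        rw [f1, uP_gPt_fixed 1 (by norm_num) rfl]
      · show uP (σ.1 (gPt 3)) = gPt 3
        rw [f3, uP_gPt_fixed 3 (by norm_num) rfl]
      · show uP (σ.1 (gPt 12)) = gPt 12
        rw [f12, uP_gPt_fixed 12 (by norm_num) rfl]
      · show uP (σ.1 (gPt 15)) = gPt 15
        rw [f15, uP_gPt_fixed 15 (by norm_num) rfl]
      · show uP (σ.1 (gPt 21)) = gPt 21
        rw [f21, uP_gPt_fixed 21 (by norm_num) rfl]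
      · show uP (σ.1 (gPt 22)) = gPt 22
        rw [f22, uP_gPt_fixed 22 (by norm_num) rfl]
      · show uP (σ.1 (gPt 23)) = gPt 23
        rw [f23, uP_gPt_fixed 23 (by norm_num) rfl]
      · show uP (σ.1 (gPt 2)) = gPt 2
        rw [h2, uP_gPt_four]
    have hσu : σ.1 = uP := by
      have h1 : uP * (uP * σ.1) = uP * 1 := by rw [hρ]
      rw [← mul_assoc, uP_sq, one_mul, mul_one] at h1
      exact h1
    have hσ1 : σ = uQ := Subtype.ext hσu
    apply Subtype.ext
    rw [hσ, hσ1]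
    rfl

theorem card_ker_phiG : Nat.card phiG.ker = 2 := by
  rw [Nat.card_eq_two_iff]
  refine ⟨⟨1, phiG.ker.one_mem⟩, ⟨uLC, phiG_uLC⟩, ?_, ?_⟩
  · intro h
    exact uLC_ne_one (congrArg Subtype.val h).symm
  · ext x
    simp only [Set.mem_insert_iff, Set.mem_singleton_iff, Set.mem_univ, iff_true]
    rcases eq_of_phiG_eq_one x.1 x.2 with h | h
    · left
      exact Subtype.ext h
    · right
      exact Subtype.ext h

end Cfsg.Agent.Helper26.McLInv
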