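import Cfsg.Agent.Helper26.InvF

/-!
# Surjectivity of the homomorphism to `GL₄(2)`

Twelve explicit elements of the centraliser of `uL` (six coordinate permutations of `M22`, six
words of eight letters) act on the frame as the twelve elementary transvections.
-/

set_option autoImplicit false

namespace Cfsg.Agent.Helper26.McLInv

open Cfsg Cfsg.Agent.Helper7 Cfsg.Agent.Helper27 Cfsg.Agent.Helper92 Cfsg.Agent.Helper93.HSL
  Cfsg.Agent.Helper26.OutCo2 Cfsg.Agent.Helper26.OutMcL MulAction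
open Cfsg.Agent.Helper8 hiding x0L

/-- the label with a given number -/
def decV (k : ℕ) : V4 := fun i => if k.testBit i.val then 1 else 0

theorem encV_decV : ∀ k < 16, encV (decV k) = k := by decide

theorem encV_single : ∀ j : Fin 4, encV (Pi.single j 1) = 2 ^ j.val := by decide

/-- an element of the centraliser of `uL` from a word -/
theorem exists_CU_of_word (W : List Letter) (hW : okW W = true)
    (h1 : runW W lv1 = lv1) (h2 : runW W lx0 = lx0)
    (hc : ∀ k < 24, runW (W ++ [.P tU tU]) (basisL k) = runW ([.P tU tU] ++ W) (basisL k))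
    (c0 c1 c2 c3 : ℕ) (hlt : c0 < 16 ∧ c1 < 16 ∧ c2 < 16 ∧ c3 < 16)
    (hc0 : runW W (frL 1) = frL c0) (hc1 : runW W (frL 2) = frL c1)
    (hc2 : runW W (frL 4) = frL c2) (hc3 : runW W (frL 8) = frL c3) :
    ∃ g : ↥CU, phiM g = Matrix.of fun i j => decV (![c0, c1, c2, c3] j) i := by
  obtain ⟨e, he⟩ := exists_co0_word W hW
  have hact : Acts e W := he
  have hv1 : e • v1L = v1L := by
    apply Subtype.ext
    rw [hact.run hW v1_list, h1]
    exact v1_list.symm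
  have hx0 : e • x0L = x0L := by
    apply Subtype.ext
    rw [hact.run hW x0_list, h2]
    exact x0_list.symm
  have hcomm : (uL : ↥Co0) * e = e * (uL : ↥Co0) :=
    Acts.ext (hact.mul acts_uL) (acts_uL.mul hact)
      (Cfsg.Agent.Helper26.OutMcL.okW_append hW (by decide +kernel))
      (Cfsg.Agent.Helper26.OutMcL.okW_append (by decide +kernel) hW) hc
  let eL : ↥LM := ⟨e, mem_LM.mpr ⟨hv1, hx0⟩⟩
  have heL : eL ∈ CU := by
    rw [Subgroup.mem_centralizer_singleton_iff]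
    apply Subtype.ext
    exact hcomm.symm
  refine ⟨⟨eL, heL⟩, ?_⟩
  apply phiM_eq_of_cols
  intro j
  apply Subtype.ext
  have hfr : ∀ v : V4, ((frV v : ↥leechLattice) : IVec) = vecOf (frL (encV v)) := fun _ => rfl
  show ((e • frV (Pi.single j 1) : ↥leechLattice) : IVec) = _
  rw [hact.run hW (hfr _), hfr, encV_single]
  obtain ⟨l0, l1, l2, l3⟩ := hlt
  fin_cases j
  · show vecOf (runW W (frL 1)) = vecOf (frL (encV (decV c0)))
    rw [hc0, encV_decV c0 l0]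
  · show vecOf (runW W (frL 2)) = vecOf (frL (encV (decV c1)))
    rw [hc1, encV_decV c1 l1]
  · show vecOf (runW W (frL 4)) = vecOf (frL (encV (decV c2)))
    rw [hc2, encV_decV c2 l2]
  · show vecOf (runW W (frL 8)) = vecOf (frL (encV (decV c3)))
    rw [hc3, encV_decV c3 l3]

/-! ### the twelve transvections -/

/-- the word of a preimage of the transvection `(0, 1)` -/
def tv01W : List Letter := [
  .P [0, 1, 4, 21, 2, 18, 20, 11, 8, 9, 17, 7, 15, 16, 14, 12, 13, 10, 5, 19, 6, 3, 22, 23] [0, 1, 4, 21, 2, 18, 20, 11, 8, 9, 17, 7, 15, 16, 14, 12, 13, 10, 5, 19, 6, 3, 22, 23]]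

set_option maxRecDepth 100000 in
theorem tv01 : ∃ g : ↥CU, phiM g = Matrix.transvection (0 : Fin 4) (1 : Fin 4) (1 : ZMod 2) := by
  obtain ⟨g, hg⟩ := exists_CU_of_word tv01W (by decide +kernel) (by decide +kernel) (by decide +kernel)
    (by decide +kernel) 1 3 4 8 (by decide +kernel) (by decide +kernel) (by decide +kernel)
    (by decide +kernel) (by decide +kernel)
  refine ⟨g, ?_⟩
  rw [hg]
  decide

/-- the word of a preimage of the transvection `(0, 2)` -/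
def tv02W : List Letter := [
  .P [0, 1, 13, 15, 16, 18, 20, 7, 9, 8, 10, 11, 21, 2, 19, 3, 4, 17, 5, 14, 6, 12, 22, 23] [0, 1, 13, 15, 16, 18, 20, 7, 9, 8, 10, 11, 21, 2, 19, 3, 4, 17, 5, 14, 6, 12, 22, 23]]

set_option maxRecDepth 100000 in
theorem tv02 : ∃ g : ↥CU, phiM g = Matrix.transvection (0 : Fin 4) (2 : Fin 4) (1 : ZMod 2) := by
  obtain ⟨g, hg⟩ := exists_CU_of_word tv02W (by decide +kernel) (by decide +kernel) (by decide +kernel)
    (by decide +kernel) 1 2 5 8 (by decide +kernel) (by decide +kernel) (by decide +kernel)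
    (by decide +kernel) (by decide +kernel)
  refine ⟨g, ?_⟩
  rw [hg]
  decide

/-- the word of a preimage of the transvection `(0, 3)` -/
def tv03W : List Letter := [
  .P [0, 1, 13, 21, 16, 5, 6, 10, 19, 14, 7, 17, 15, 2, 9, 12, 4, 11, 18, 8, 20, 3, 22, 23] [0, 1, 13, 21, 16, 5, 6, 10, 19, 14, 7, 17, 15, 2, 9, 12, 4, 11, 18, 8, 20, 3, 22, 23]]

set_option maxRecDepth 100000 in
theorem tv03 : ∃ g : ↥CU, phiM g = Matrix.transvection (0 : Fin 4) (3 : Fin 4) (1 : ZMod 2) := by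
  obtain ⟨g, hg⟩ := exists_CU_of_word tv03W (by decide +kernel) (by decide +kernel) (by decide +kernel)
    (by decide +kernel) 1 2 4 9 (by decide +kernel) (by decide +kernel) (by decide +kernel)
    (by decide +kernel) (by decide +kernel)
  refine ⟨g, ?_⟩
  rw [hg]
  decide

/-- the word of a preimage of the transvection `(1, 0)` -/
def tv10W : List Letter := [
  .P [7, 5, 18, 12, 11, 0, 10, 15, 6, 19, 2, 9, 4, 16, 17, 22, 13, 1, 23, 14, 20, 8, 3, 21] [5, 17, 10, 22, 12, 1, 8, 0, 21, 11, 6, 4, 3, 16, 19, 7, 13, 14, 2, 9, 20, 23, 15, 18],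
  .S 9083983,
  .X,
  .S 13791349,
  .P [9, 6, 1, 3, 0, 21, 12, 11, 4, 15, 2, 16, 22, 5, 23, 19, 7, 20, 18, 8, 17, 13, 10, 14] [4, 2, 10, 3, 8, 13, 1, 16, 19, 0, 22, 7, 6, 21, 23, 9, 11, 20, 18, 15, 17, 5, 12, 14],
  .X,
  .S 1550091,
  .P [19, 22, 1, 11, 2, 6, 17, 5, 0, 13, 15, 9, 23, 3, 20, 16, 21, 7, 8, 18, 12, 10, 4, 14] [8, 2, 4, 13, 22, 7, 5, 17, 18, 11, 21, 3, 20, 9, 23, 10, 15, 6, 19, 0, 14, 16, 1, 12]]

set_option maxRecDepth 100000 in
theorem tv10 : ∃ g : ↥CU, phiM g = Matrix.transvection (1 : Fin 4) (0 : Fin 4) (1 : ZMod 2) := by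
  obtain ⟨g, hg⟩ := exists_CU_of_word tv10W (by decide +kernel) (by decide +kernel) (by decide +kernel)
    (by decide +kernel) 3 2 4 8 (by decide +kernel) (by decide +kernel) (by decide +kernel)
    (by decide +kernel) (by decide +kernel)
  refine ⟨g, ?_⟩
  rw [hg]
  decide

/-- the word of a preimage of the transvection `(1, 2)` -/
def tv12W : List Letter := [
  .P [22, 2, 6, 19, 7, 18, 5, 3, 4, 16, 12, 14, 15, 10, 1, 9, 20, 8, 11, 23, 17, 21, 0, 13] [22, 14, 1, 7, 8, 6, 2, 4, 17, 15, 13, 18, 10, 23, 11, 12, 9, 20, 5, 3, 16, 21, 0, 19],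
  .S 13624252,
  .X,
  .S 16369930,
  .P [2, 18, 1, 3, 12, 4, 20, 16, 9, 13, 5, 21, 22, 11, 6, 10, 8, 15, 17, 14, 7, 19, 0, 23] [22, 2, 0, 3, 5, 10, 14, 20, 16, 8, 15, 13, 4, 9, 19, 17, 7, 18, 1, 21, 6, 11, 12, 23],
  .X,
  .S 1550091,
  .P [19, 22, 1, 11, 2, 6, 17, 5, 0, 13, 15, 9, 23, 3, 20, 16, 21, 7, 8, 18, 12, 10, 4, 14] [8, 2, 4, 13, 22, 7, 5, 17, 18, 11, 21, 3, 20, 9, 23, 10, 15, 6, 19, 0, 14, 16, 1, 12]]

set_option maxRecDepth 100000 in
theorem tv12 : ∃ g : ↥CU, phiM g = Matrix.transvection (1 : Fin 4) (2 : Fin 4) (1 : ZMod 2) := by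
  obtain ⟨g, hg⟩ := exists_CU_of_word tv12W (by decide +kernel) (by decide +kernel) (by decide +kernel)
    (by decide +kernel) 1 2 6 8 (by decide +kernel) (by decide +kernel) (by decide +kernel)
    (by decide +kernel) (by decide +kernel)
  refine ⟨g, ?_⟩
  rw [hg]
  decide

/-- the word of a preimage of the transvection `(1, 3)` -/
def tv13W : List Letter := [
  .P [17, 3, 0, 15, 23, 11, 8, 16, 7, 21, 4, 13, 10, 2, 19, 20, 1, 22, 18, 6, 12, 9, 5, 14] [2, 16, 13, 1, 10, 22, 19, 8, 6, 21, 12, 5, 20, 11, 23, 3, 7, 0, 18, 14, 15, 9, 17, 4],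
  .S 14767165,
  .X,
  .S 6808443,
  .P [23, 5, 20, 22, 8, 12, 1, 9, 11, 18, 15, 6, 21, 2, 14, 4, 13, 3, 16, 7, 10, 17, 0, 19] [22, 6, 13, 17, 15, 1, 11, 19, 4, 7, 20, 8, 5, 16, 14, 10, 18, 21, 9, 23, 2, 12, 3, 0],
  .X,
  .S 10856731,
  .P [11, 7, 17, 0, 16, 1, 20, 18, 14, 21, 15, 19, 8, 4, 23, 12, 2, 22, 9, 6, 3, 5, 13, 10] [3, 5, 16, 20, 13, 21, 19, 1, 12, 18, 23, 0, 15, 22, 8, 10, 4, 2, 7, 11, 6, 9, 17, 14]]

set_option maxRecDepth 100000 in
theorem tv13 : ∃ g : ↥CU, phiM g = Matrix.transvection (1 : Fin 4) (3 : Fin 4) (1 : ZMod 2) := by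
  obtain ⟨g, hg⟩ := exists_CU_of_word tv13W (by decide +kernel) (by decide +kernel) (by decide +kernel)
    (by decide +kernel) 1 2 4 10 (by decide +kernel) (by decide +kernel) (by decide +kernel)
    (by decide +kernel) (by decide +kernel)
  refine ⟨g, ?_⟩
  rw [hg]
  decide

/-- the word of a preimage of the transvection `(2, 0)` -/
def tv20W : List Letter := [
  .P [0, 15, 4, 3, 2, 10, 6, 20, 9, 8, 5, 11, 22, 19, 16, 1, 14, 17, 18, 13, 7, 21, 12, 23] [0, 15, 4, 3, 2, 10, 6, 20, 9, 8, 5, 11, 22, 19, 16, 1, 14, 17, 18, 13, 7, 21, 12, 23]]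

set_option maxRecDepth 100000 in
theorem tv20 : ∃ g : ↥CU, phiM g = Matrix.transvection (2 : Fin 4) (0 : Fin 4) (1 : ZMod 2) := by
  obtain ⟨g, hg⟩ := exists_CU_of_word tv20W (by decide +kernel) (by decide +kernel) (by decide +kernel)
    (by decide +kernel) 5 2 4 8 (by decide +kernel) (by decide +kernel) (by decide +kernel)
    (by decide +kernel) (by decide +kernel)
  refine ⟨g, ?_⟩
  rw [hg]
  decide

/-- the word of a preimage of the transvection `(2, 1)` -/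
def tv21W : List Letter := [
  .P [0, 22, 2, 3, 4, 10, 11, 20, 8, 9, 5, 6, 15, 16, 19, 12, 13, 18, 17, 14, 7, 21, 1, 23] [0, 22, 2, 3, 4, 10, 11, 20, 8, 9, 5, 6, 15, 16, 19, 12, 13, 18, 17, 14, 7, 21, 1, 23]]

set_option maxRecDepth 100000 in
theorem tv21 : ∃ g : ↥CU, phiM g = Matrix.transvection (2 : Fin 4) (1 : Fin 4) (1 : ZMod 2) := by
  obtain ⟨g, hg⟩ := exists_CU_of_word tv21W (by decide +kernel) (by decide +kernel) (by decide +kernel)
    (by decide +kernel) 1 6 4 8 (by decide +kernel) (by decide +kernel) (by decide +kernel)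
    (by decide +kernel) (by decide +kernel)
  refine ⟨g, ?_⟩
  rw [hg]
  decide

/-- the word of a preimage of the transvection `(2, 3)` -/
def tv23W : List Letter := [
  .P [0, 22, 9, 3, 8, 20, 6, 10, 4, 2, 7, 11, 15, 14, 13, 12, 19, 17, 18, 16, 5, 21, 1, 23] [0, 22, 9, 3, 8, 20, 6, 10, 4, 2, 7, 11, 15, 14, 13, 12, 19, 17, 18, 16, 5, 21, 1, 23]]

set_option maxRecDepth 100000 in
theorem tv23 : ∃ g : ↥CU, phiM g = Matrix.transvection (2 : Fin 4) (3 : Fin 4) (1 : ZMod 2) := by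
  obtain ⟨g, hg⟩ := exists_CU_of_word tv23W (by decide +kernel) (by decide +kernel) (by decide +kernel)
    (by decide +kernel) 1 2 4 12 (by decide +kernel) (by decide +kernel) (by decide +kernel)
    (by decide +kernel) (by decide +kernel)
  refine ⟨g, ?_⟩
  rw [hg]
  decide

/-- the word of a preimage of the transvection `(3, 0)` -/
def tv30W : List Letter := [
  .P [23, 5, 9, 13, 14, 19, 1, 3, 12, 21, 8, 0, 7, 17, 18, 20, 6, 16, 2, 10, 15, 4, 11, 22] [11, 6, 18, 7, 21, 1, 16, 12, 10, 2, 19, 22, 8, 3, 4, 20, 17, 13, 14, 5, 15, 9, 23, 0],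
  .S 15752346,
  .X,
  .S 15799658,
  .P [8, 5, 12, 6, 3, 22, 1, 16, 0, 4, 19, 10, 13, 17, 20, 23, 14, 2, 7, 21, 9, 15, 18, 11] [8, 6, 17, 4, 9, 1, 3, 18, 0, 20, 11, 23, 2, 12, 16, 21, 7, 13, 22, 10, 14, 19, 5, 15],
  .X,
  .S 16336076,
  .P [7, 19, 22, 3, 4, 11, 12, 20, 18, 2, 10, 6, 17, 5, 23, 16, 14, 21, 0, 8, 1, 13, 15, 9] [18, 20, 9, 3, 4, 13, 11, 0, 19, 23, 10, 5, 6, 21, 16, 22, 15, 12, 8, 1, 7, 17, 2, 14]]

set_option maxRecDepth 100000 in
theorem tv30 : ∃ g : ↥CU, phiM g = Matrix.transvection (3 : Fin 4) (0 : Fin 4) (1 : ZMod 2) := by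
  obtain ⟨g, hg⟩ := exists_CU_of_word tv30W (by decide +kernel) (by decide +kernel) (by decide +kernel)
    (by decide +kernel) 9 2 4 8 (by decide +kernel) (by decide +kernel) (by decide +kernel)
    (by decide +kernel) (by decide +kernel)
  refine ⟨g, ?_⟩
  rw [hg]
  decide

/-- the word of a preimage of the transvection `(3, 1)` -/
def tv31W : List Letter := [
  .P [4, 17, 8, 2, 11, 21, 15, 6, 5, 3, 9, 7, 18, 23, 22, 12, 0, 20, 19, 16, 10, 1, 14, 13] [16, 21, 3, 9, 0, 8, 7, 11, 2, 10, 20, 4, 15, 23, 22, 6, 19, 1, 12, 18, 17, 5, 14, 13],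
  .S 1646562,
  .X,
  .S 3147996,
  .P [16, 20, 15, 0, 22, 2, 9, 7, 4, 21, 23, 3, 19, 5, 13, 12, 18, 17, 6, 1, 10, 8, 11, 14] [3, 19, 5, 11, 8, 13, 18, 7, 21, 6, 20, 22, 15, 14, 23, 2, 0, 17, 16, 12, 1, 9, 4, 10],
  .X,
  .S 15500963,
  .P [1, 9, 22, 11, 6, 5, 15, 2, 23, 21, 3, 14, 0, 17, 7, 16, 20, 18, 19, 12, 13, 4, 10, 8] [12, 0, 7, 10, 21, 5, 4, 14, 23, 1, 22, 3, 19, 20, 11, 6, 15, 13, 17, 18, 16, 9, 2, 8]]

set_option maxRecDepth 100000 in
theorem tv31 : ∃ g : ↥CU, phiM g = Matrix.transvection (3 : Fin 4) (1 : Fin 4) (1 : ZMod 2) := by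
  obtain ⟨g, hg⟩ := exists_CU_of_word tv31W (by decide +kernel) (by decide +kernel) (by decide +kernel)
    (by decide +kernel) 1 10 4 8 (by decide +kernel) (by decide +kernel) (by decide +kernel)
    (by decide +kernel) (by decide +kernel)
  refine ⟨g, ?_⟩
  rw [hg]
  decide

/-- the word of a preimage of the transvection `(3, 2)` -/
def tv32W : List Letter := [
  .P [10, 23, 18, 16, 11, 8, 12, 0, 21, 4, 20, 9, 13, 14, 22, 19, 17, 1, 3, 7, 5, 6, 2, 15] [7, 17, 22, 18, 9, 20, 21, 19, 5, 11, 0, 4, 6, 12, 13, 23, 3, 16, 2, 15, 10, 8, 14, 1],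
  .S 1095635,
  .X,
  .S 8688833,
  .P [4, 13, 16, 3, 17, 9, 8, 5, 15, 0, 22, 7, 14, 19, 6, 2, 12, 11, 18, 21, 1, 10, 20, 23] [9, 20, 15, 3, 0, 7, 14, 11, 6, 5, 21, 17, 16, 1, 12, 8, 2, 4, 18, 13, 22, 19, 10, 23],
  .X,
  .S 1018459,
  .P [10, 17, 0, 4, 1, 3, 6, 20, 18, 21, 13, 8, 5, 22, 16, 12, 11, 15, 9, 19, 2, 14, 7, 23] [2, 4, 20, 5, 3, 12, 6, 22, 11, 18, 0, 16, 15, 10, 21, 17, 14, 1, 8, 19, 7, 9, 13, 23]]

set_option maxRecDepth 100000 in
theorem tv32 : ∃ g : ↥CU, phiM g = Matrix.transvection (3 : Fin 4) (2 : Fin 4) (1 : ZMod 2) := by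
  obtain ⟨g, hg⟩ := exists_CU_of_word tv32W (by decide +kernel) (by decide +kernel) (by decide +kernel)
    (by decide +kernel) 1 2 12 8 (by decide +kernel) (by decide +kernel) (by decide +kernel)
    (by decide +kernel) (by decide +kernel)
  refine ⟨g, ?_⟩
  rw [hg]
  decide

end Cfsg.Agent.Helper26.McLInv
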