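import Cfsg.Agent.Helper26.InvG
import Cfsg.Agent.Helper96.KleinGroup
import Cfsg.Prelude.Def_SporadicB

/-!
# The centraliser of `uL` is a non-split double cover of the alternating group of degree 8

The homomorphism to `GL₄(2)` is onto (the twelve transvections generate), its kernel is `{1, uL}`,
`GL₄(2)` is isomorphic to the alternating group (helper96), and `uL` is a square in its
centraliser.
-/

set_option autoImplicit false

namespace Cfsg.Agent.Helper26.McLInv

open Cfsg Cfsg.Agent.Helper7 Cfsg.Agent.Helper27 Cfsg.Agent.Helper92 Cfsg.Agent.Helper93.HSL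
  Cfsg.Agent.Helper26.OutCo2 Cfsg.Agent.Helper26.OutMcL MulAction
open Cfsg.Agent.Helper8 hiding x0L

/-! ### surjectivity -/

theorem exists_transvection (i j : Fin 4) (hij : i ≠ j) :
    ∃ g : ↥CU, phiM g = Matrix.transvection i j (1 : ZMod 2) := by
  fin_cases i <;> fin_cases j
  · exact absurd rfl hij
  · exact tv01
  · exact tv02
  · exact tv03
  · exact tv10
  · exact absurd rfl hij
  · exact tv12
  · exact tv13
  · exact tv20
  · exact tv21
  · exact absurd rfl hij
  · exact tv23
  · exact tv30
  · exact tv31
  · exact tv32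
  · exact absurd rfl hij

theorem zmod2_eq_one {a : ZMod 2} (h : a ≠ 0) : a = 1 := by
  revert a
  decide

theorem exists_phiM (M : Matrix (Fin 4) (Fin 4) (ZMod 2)) (hM : M.det ≠ 0) :
    ∃ g : ↥CU, phiM g = M := by
  refine Matrix.diagonal_transvection_induction_of_det_ne_zero
    (fun A => ∃ g : ↥CU, phiM g = A) M hM ?_ ?_ ?_
  · intro D hD
    refine ⟨1, ?_⟩
    rw [map_one]
    rw [Matrix.det_diagonal] at hD
    have : ∀ i, D i = 1 := by
      intro i
      apply zmod2_eq_one
      intro h0
      apply hD
      exact Finset.prod_eq_zero (Finset.mem_univ i) h0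
    have hD1 : D = fun _ => 1 := funext this
    rw [hD1]
    exact (Matrix.diagonal_one).symm
  · intro t
    have hc : t.c = 0 ∨ t.c = 1 := by
      have : ∀ a : ZMod 2, a = 0 ∨ a = 1 := by decide
      exact this t.c
    rcases hc with hc | hc
    · refine ⟨1, ?_⟩
      rw [map_one, Matrix.TransvectionStruct.toMatrix, hc, Matrix.transvection_zero]
    · obtain ⟨g, hg⟩ := exists_transvection t.i t.j t.hij
      refine ⟨g, ?_⟩
      rw [hg, Matrix.TransvectionStruct.toMatrix, hc]
  · rintro A B - - ⟨g, hg⟩ ⟨h, hh⟩
    exact ⟨g * h, by rw [map_mul, hg, hh]⟩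

theorem phiG_surjective : Function.Surjective phiG := by
  intro M
  have hdet : (M : Matrix (Fin 4) (Fin 4) (ZMod 2)).det ≠ 0 := by
    have h1 : IsUnit (M : Matrix (Fin 4) (Fin 4) (ZMod 2)) := ⟨M, rfl⟩
    exact ((Matrix.isUnit_iff_isUnit_det _).mp h1).ne_zero
  obtain ⟨g, hg⟩ := exists_phiM _ hdet
  exact ⟨g, Units.ext hg⟩

/-! ### an element of order 4 with square `uL` -/

def tT4 : List ℕ := [0, 1, 18, 15, 6, 13, 2, 8, 10, 7, 9, 14, 21, 20, 17, 3, 5, 19, 4, 11, 16, 12,
  22, 23]

def sT4 : List ℕ := invT tT4

theorem tT4_inv : isInvPair tT4 sT4 = true := by decide +kernel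

theorem tT4_chk : checkM24 sT4 = true := by decide +kernel

/-- the element of order 4 -/
def t4P : Equiv.Perm GolayPt := permOfTabs tT4 sT4

theorem t4P_mem_M24 : t4P ∈ M24 := permOfTabs_mem_M24 tT4_inv tT4_chk

theorem isTable_t4P : IsTable tT4 t4P := isTable_permOfTabs tT4_inv (by decide)

theorem t4P_mem_M22p : t4P ∈ M22p := by
  rw [mem_M22p]
  refine ⟨t4P_mem_M24, ?_, ?_⟩
  · have := isTable_t4P.apply (some 0)
    rw [this]
    decide +kernel
  · have := isTable_t4P.apply none
    rw [this]
    decide +kernel

theorem t4P_sq : t4P * t4P = uP := by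
  have t1 := isTable_t4P.mul isTable_t4P
  have e : compT tT4 tT4 = tU := by decide +kernel
  rw [e] at t1
  exact t1.inj isTable_uP

/-- the element of order 4 in `M22` -/
def t4Q : ↥M22p := ⟨t4P, t4P_mem_M22p⟩

theorem t4Q_sq : t4Q * t4Q = uQ := Subtype.ext t4P_sq

/-- the element of order 4 in the centraliser of its square -/
noncomputable def t4C : ↥CU := ⟨m22 t4Q, by
  rw [Subgroup.mem_centralizer_singleton_iff]
  show m22 t4Q * m22 uQ = m22 uQ * m22 t4Q
  rw [← t4Q_sq, map_mul, mul_assoc]⟩

theorem t4C_sq : t4C * t4C = uLC := by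
  apply Subtype.ext
  show m22 t4Q * m22 t4Q = m22 uQ
  rw [← map_mul, t4Q_sq]

/-! ### non-split double covers -/

/-- a surjection with kernel of order 2 whose non-trivial kernel element is a square -/
theorem nonsplit_of_square {H K : Type*} [Group H] [Group K]
    (π : H →* K) (hsurj : Function.Surjective π) (hker : Nat.card π.ker = 2)
    (hK : Subgroup.center K = ⊥) (x t : H) (ht : π t = 1) (ht1 : t ≠ 1) (hx : x * x = t) :
    Cfsg.IsNonsplitDoubleCover H K := by
  -- the kernel is `{1, t}`
  have hk2 : ∀ n : H, π n = 1 → n = 1 ∨ n = t := by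
    intro n hn
    obtain ⟨y, -, huniq⟩ := (Nat.card_eq_two_iff' (⟨1, π.ker.one_mem⟩ : π.ker)).mp hker
    by_cases hn1 : n = 1
    · exact Or.inl hn1
    · right
      have h2 : (⟨t, MonoidHom.mem_ker.mpr ht⟩ : π.ker) = y :=
        huniq _ (fun h => ht1 (congrArg Subtype.val h))
      have h3 : (⟨n, MonoidHom.mem_ker.mpr hn⟩ : π.ker) = y :=
        huniq _ (fun h => hn1 (congrArg Subtype.val h))
      exact congrArg Subtype.val (h3.trans h2.symm)
  have hcen : Subgroup.center H = π.ker := by
    apply le_antisymm
    · intro z hz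
      rw [MonoidHom.mem_ker]
      have hz' : π z ∈ Subgroup.center K := by
        rw [Subgroup.mem_center_iff]
        intro k
        obtain ⟨h, rfl⟩ := hsurj k
        rw [← map_mul, ← map_mul, (Subgroup.mem_center_iff.mp hz) h]
      rw [hK, Subgroup.mem_bot] at hz'
      exact hz'
    · intro n hn
      rw [Subgroup.mem_center_iff]
      intro g
      rcases hk2 n hn with h | h
      · rw [h, mul_one, one_mul]
      · have hconj : π (g * t * g⁻¹) = 1 := by
          rw [map_mul, map_mul, ht, mul_one, map_inv, mul_inv_cancel]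
        rcases hk2 _ hconj with h' | h'
        · exfalso
          apply ht1
          have : t = g⁻¹ * (g * t * g⁻¹) * g := by group
          rw [this, h']
          group
        · rw [h]
          calc g * t = (g * t * g⁻¹) * g := by group
            _ = t * g := by rw [h']
  have htt : t * t = 1 := by
    have h : π (t * t) = 1 := by rw [map_mul, ht, mul_one]
    rcases hk2 _ h with h' | h'
    · exact h'
    · exfalso
      apply ht1
      have : t = t⁻¹ * (t * t) := by group
      rw [this, h']
      group
  refine ⟨by rw [hcen]; exact hker, ?_, ?_⟩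
  · exact ⟨(QuotientGroup.quotientMulEquivOfEq hcen).trans
      (QuotientGroup.quotientKerEquivOfSurjective π hsurj)⟩
  · intro L hL
    -- write `x = z * l`
    have htop : Subgroup.center H ⊔ L = ⊤ := hL.sup_eq_top
    have hdisj : Disjoint (Subgroup.center H) L := hL.disjoint
    have hxm : x ∈ Subgroup.center H ⊔ L := by rw [htop]; exact Subgroup.mem_top x
    haveI : (Subgroup.center H).Normal := inferInstance
    rw [Subgroup.mem_sup_of_normal_left] at hxm
    obtain ⟨z, hz, l, hl, hzl⟩ := hxm
    have hzz : z * z = 1 := by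
      rw [hcen] at hz
      rcases hk2 z hz with h | h
      · rw [h, mul_one]
      · rw [h, htt]
    have hxx : x * x = l * l := by
      rw [← hzl]
      have hc := Subgroup.mem_center_iff.mp hz
      calc z * l * (z * l) = z * (l * z) * l := by group
        _ = z * (z * l) * l := by rw [hc l]
        _ = (z * z) * (l * l) := by group
        _ = l * l := by rw [hzz, one_mul]
    have htL : t ∈ L := by
      rw [← hx, hxx]
      exact L.mul_mem hl hl
    have htC : t ∈ Subgroup.center H := by
      rw [hcen]
      exact ht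
    have := Subgroup.disjoint_def.mp hdisj htC htL
    exact ht1 this

/-! ### the statement for the centraliser in `LM` -/

/-- the homomorphism onto the alternating group -/
noncomputable def piA : ↥CU →* ↥(alternatingGroup (Fin 8)) :=
  Cfsg.Agent.Helper96.Klein.glMulEquiv.toMonoidHom.comp phiG

theorem piA_surjective : Function.Surjective piA :=
  Cfsg.Agent.Helper96.Klein.glMulEquiv.surjective.comp phiG_surjective

theorem piA_ker : piA.ker = phiG.ker := by
  ext g
  rw [MonoidHom.mem_ker, MonoidHom.mem_ker]
  show Cfsg.Agent.Helper96.Klein.glMulEquiv (phiG g) = 1 ↔ _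
  rw [MulEquiv.map_eq_one_iff]

theorem nonsplit_CU : Cfsg.IsNonsplitDoubleCover ↥CU ↥(alternatingGroup (Fin 8)) := by
  apply nonsplit_of_square piA piA_surjective (by rw [piA_ker]; exact card_ker_phiG)
    (alternatingGroup.center_eq_bot (by rw [Nat.card_eq_fintype_card, Fintype.card_fin]; norm_num))
    t4C uLC
  · have : uLC ∈ piA.ker := by rw [piA_ker]; exact phiG_uLC
    exact this
  · exact uLC_ne_one
  · exact t4C_sq

end Cfsg.Agent.Helper26.McLInv
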