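import Cfsg.Agent.Helper26.McLC
import Cfsg.Agent.Helper27.FusM22ChkA

/-!
# The involutions of `M22` are conjugate

The Sylow 2-subgroup of `M22` of helper27 (128 tables); each of its 35 involutions is conjugate
in `M22` to the involution `uP`, by an explicit table.
-/

set_option autoImplicit false
set_option maxRecDepth 1000000

namespace Cfsg.Agent.Helper26.McLInv

open Cfsg Cfsg.Agent.Helper7 Cfsg.Agent.Helper27 Cfsg.Agent.Helper27.FusTab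
  Cfsg.Agent.Helper26.OutMcL

/-- the conjugating tables -/
def CJ : List (List ℕ) := [
  [0, 11, 16, 13, 14, 20, 5, 22, 21, 19, 9, 4, 7, 1, 10, 2, 6, 18, 12, 8, 17, 3, 15, 23],
  [0, 7, 18, 5, 17, 14, 22, 21, 9, 10, 12, 16, 1, 2, 19, 15, 20, 11, 3, 13, 6, 8, 4, 23],
  [0, 7, 1, 6, 14, 21, 18, 9, 15, 11, 10, 4, 5, 12, 2, 17, 20, 19, 8, 3, 22, 16, 13, 23],
  [0, 7, 5, 10, 11, 21, 9, 12, 4, 6, 13, 1, 8, 19, 3, 16, 18, 20, 15, 22, 17, 2, 14, 23],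
  [0, 22, 5, 1, 10, 20, 3, 8, 12, 19, 21, 7, 2, 15, 6, 4, 14, 18, 9, 11, 17, 16, 13, 23],
  [0, 14, 20, 10, 7, 17, 18, 15, 21, 5, 4, 2, 11, 1, 6, 9, 13, 19, 22, 8, 16, 3, 12, 23],
  [0, 13, 12, 4, 20, 18, 19, 11, 10, 8, 9, 21, 2, 7, 3, 16, 14, 5, 17, 6, 15, 22, 1, 23],
  [0, 10, 17, 19, 13, 14, 11, 22, 15, 18, 8, 4, 16, 21, 6, 5, 2, 20, 3, 7, 9, 1, 12, 23],
  [0, 3, 7, 15, 17, 2, 18, 1, 14, 21, 20, 4, 6, 8, 13, 5, 12, 11, 22, 16, 10, 9, 19, 23],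
  [0, 2, 16, 8, 13, 10, 18, 21, 12, 9, 11, 20, 6, 1, 7, 17, 4, 14, 3, 5, 19, 15, 22, 23],
  [0, 10, 14, 20, 11, 19, 5, 15, 21, 2, 7, 18, 4, 3, 17, 8, 9, 6, 1, 13, 16, 22, 12, 23],
  [0, 2, 12, 13, 3, 10, 9, 22, 18, 4, 14, 11, 8, 6, 17, 19, 16, 21, 1, 7, 15, 5, 20, 23],
  [0, 15, 14, 12, 8, 2, 7, 17, 6, 5, 10, 16, 1, 18, 19, 22, 20, 4, 11, 9, 13, 21, 3, 23],
  [0, 5, 3, 20, 22, 10, 19, 15, 13, 17, 2, 18, 4, 8, 7, 14, 11, 21, 12, 6, 1, 9, 16, 23],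
  [0, 19, 20, 14, 11, 17, 15, 16, 2, 21, 12, 5, 8, 4, 6, 9, 3, 10, 13, 7, 18, 22, 1, 23],
  [0, 4, 6, 11, 13, 2, 9, 1, 22, 19, 18, 14, 7, 15, 5, 16, 20, 10, 3, 17, 8, 12, 21, 23],
  [0, 2, 10, 19, 7, 3, 20, 15, 13, 4, 5, 21, 17, 8, 22, 11, 14, 18, 12, 1, 6, 9, 16, 23],
  [0, 2, 7, 17, 9, 20, 6, 1, 15, 14, 8, 11, 13, 22, 4, 10, 5, 18, 3, 19, 16, 21, 12, 23],
  [0, 8, 18, 9, 6, 17, 3, 15, 2, 13, 21, 11, 1, 4, 5, 22, 16, 10, 12, 20, 7, 14, 19, 23],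
  [0, 20, 17, 10, 16, 6, 5, 12, 3, 4, 7, 13, 9, 21, 19, 2, 8, 14, 22, 11, 18, 15, 1, 23],
  [0, 22, 10, 1, 5, 17, 9, 21, 19, 12, 8, 18, 2, 14, 11, 4, 15, 7, 3, 6, 20, 16, 13, 23],
  [0, 17, 18, 10, 19, 8, 16, 12, 3, 2, 4, 6, 11, 15, 5, 7, 13, 9, 21, 14, 20, 22, 1, 23],
  [0, 17, 2, 10, 16, 21, 5, 1, 8, 7, 18, 15, 6, 9, 12, 20, 11, 13, 22, 3, 4, 14, 19, 23],
  [0, 11, 14, 7, 20, 5, 16, 15, 12, 13, 4, 9, 10, 21, 19, 17, 2, 18, 3, 6, 8, 1, 22, 23],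
  [0, 19, 5, 13, 10, 8, 17, 21, 15, 14, 18, 9, 6, 1, 2, 11, 16, 20, 3, 4, 7, 22, 12, 23],
  [0, 13, 19, 7, 6, 4, 18, 15, 21, 2, 8, 16, 14, 22, 10, 20, 11, 9, 3, 17, 5, 1, 12, 23],
  [0, 13, 5, 19, 7, 2, 12, 3, 11, 14, 22, 9, 1, 6, 8, 15, 16, 20, 21, 4, 10, 18, 17, 23],
  [0, 11, 14, 10, 21, 12, 6, 16, 4, 18, 5, 8, 17, 2, 9, 7, 20, 3, 13, 15, 19, 1, 22, 23],
  [0, 13, 20, 16, 17, 10, 19, 2, 21, 1, 14, 6, 15, 3, 11, 12, 22, 18, 4, 5, 7, 8, 9, 23],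
  [0, 7, 18, 14, 10, 5, 9, 3, 21, 4, 17, 8, 13, 15, 11, 20, 6, 19, 22, 16, 2, 1, 12, 23],
  [0, 8, 7, 4, 22, 5, 9, 11, 3, 14, 2, 12, 19, 21, 15, 16, 13, 1, 17, 20, 10, 6, 18, 23],
  [0, 12, 14, 22, 19, 18, 5, 21, 9, 1, 7, 11, 10, 2, 17, 20, 15, 16, 3, 6, 13, 8, 4, 23],
  [0, 5, 15, 18, 12, 2, 14, 22, 7, 6, 19, 4, 8, 11, 16, 9, 20, 21, 1, 13, 3, 10, 17, 23],
  [0, 7, 10, 13, 6, 4, 11, 22, 3, 8, 2, 5, 20, 15, 19, 14, 18, 9, 21, 17, 16, 1, 12, 23],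
  [0, 19, 11, 14, 20, 18, 13, 12, 21, 2, 16, 10, 8, 3, 7, 9, 4, 5, 15, 6, 17, 22, 1, 23]]

theorem hCJ : ∀ c ∈ CJ, chkT FusM22.fixL c = true := by decide +kernel

theorem hconj : ∀ l ∈ FusM22.L, compT l l = idT → l = idT ∨ ∃ c ∈ CJ, compT c l = compT tU c := by
  decide +kernel

/-- the generators of the Sylow subgroup, as permutations -/
def sylGens : Set (Equiv.Perm GolayPt) := {x | ∃ l ∈ FusM22.gensT, IsTable l x}

/-- the Sylow subgroup -/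
def syl0 : Subgroup (Equiv.Perm GolayPt) := Subgroup.closure sylGens

theorem gen_ex : ∀ s ∈ FusM22.gensT, ∃ x ∈ M22p, IsTable s x := by
  intro s hs
  obtain ⟨z, hzH, hzT⟩ := tabled_of_chkT FusM22.hF FusM22.hz
  rw [← FusM22.hgens, List.mem_map] at hs
  obtain ⟨gT, hgT, rfl⟩ := hs
  obtain ⟨g, hg, hgt⟩ := tabled_of_chkT FusM22.hF (FusM22.hGC gT hgT)
  exact ⟨g * z * g⁻¹, M22p.mul_mem (M22p.mul_mem hg hzH) (M22p.inv_mem hg), isTable_conjT hgt hzT⟩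

theorem sylGens_le : ∀ x ∈ sylGens, x ∈ M22p := by
  rintro x ⟨l, hl, hx⟩
  obtain ⟨g, hg, hgt⟩ := gen_ex l hl
  rw [hx.inj hgt]
  exact hg

theorem syl0_le : syl0 ≤ M22p := (Subgroup.closure_le _).mpr sylGens_le

theorem sylGens_inv : ∀ x ∈ sylGens, x⁻¹ = x := by
  rintro x ⟨l, hl, hx⟩
  have h1 : IsTable idT (x * x) := by
    rw [← FusM22.hinv l hl]
    exact hx.mul hx
  have h2 : x * x = 1 := h1.inj isTable_one
  exact inv_eq_of_mul_eq_one_left h2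

theorem L_tabled : ∀ l ∈ FusM22.L, Tabled syl0 l := by
  rw [← FusM22.hL]
  apply tabled_runSLP
  intro l hl
  rw [List.mem_cons] at hl
  rcases hl with rfl | hl
  · exact tabled_idT syl0
  · obtain ⟨g, _, hgt⟩ := gen_ex l hl
    exact ⟨_, Subgroup.subset_closure ⟨l, hl, hgt⟩, hgt⟩

theorem syl0_tab : ∀ x ∈ syl0, ∃ l ∈ FusM22.L, IsTable l x := by
  intro x hx
  induction hx using Subgroup.closure_induction_right with
  | one => exact ⟨idT, FusM22.hid, isTable_one⟩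
  | mul_right x _ y hy ih =>
    obtain ⟨l, hl, hlx⟩ := ih
    obtain ⟨s, hs, hsy⟩ := hy
    exact ⟨compT l s, FusM22.hclosed l hl s hs, hlx.mul hsy⟩
  | mul_inv_cancel x _ y hy ih =>
    rw [sylGens_inv y hy]
    obtain ⟨l, hl, hlx⟩ := ih
    obtain ⟨s, hs, hsy⟩ := hy
    exact ⟨compT l s, FusM22.hclosed l hl s hs, hlx.mul hsy⟩

theorem card_syl0 : Nat.card syl0 = 2 ^ 7 := by
  classical
  have hLnd : FusM22.L.Nodup := List.Nodup.of_map _ FusM22.hnodup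
  rw [← FusM22.hlen, ← card_subtype_mem FusM22.L hLnd]
  have hex : ∀ x : syl0, ∃ l, l ∈ FusM22.L ∧ IsTable l x.1 := fun x => syl0_tab x.1 x.2
  choose f hf using hex
  apply Nat.card_congr
  refine Equiv.ofBijective (fun x => ⟨f x, (hf x).1⟩) ⟨?_, ?_⟩
  · intro x y hxy
    have h1 : f x = f y := congrArg Subtype.val hxy
    apply Subtype.ext
    have h2 := (hf x).2
    rw [h1] at h2
    exact h2.inj (hf y).2
  · rintro ⟨l, hl⟩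
    obtain ⟨g, hg, hgt⟩ := L_tabled l hl
    refine ⟨⟨g, hg⟩, ?_⟩
    apply Subtype.ext
    exact tab_unique (hf ⟨g, hg⟩).2 hgt

/-- an involution of the Sylow subgroup is conjugate to `uP` -/
theorem syl0_invol {x : Equiv.Perm GolayPt} (hx : x ∈ syl0) (h1 : x ≠ 1) (h2 : x * x = 1) :
    ∃ c ∈ M22p, c * x * c⁻¹ = uP := by
  obtain ⟨l, hl, hlx⟩ := syl0_tab x hx
  have hll : compT l l = idT := by
    have t1 := hlx.mul hlx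
    rw [h2] at t1
    exact tab_unique t1 isTable_one
  rcases hconj l hl hll with h | ⟨c, hc, hcl⟩
  · exfalso
    apply h1
    rw [h] at hlx
    exact hlx.inj isTable_one
  · obtain ⟨g, hg, hgt⟩ := tabled_of_chkT FusM22.hF (hCJ c hc)
    refine ⟨g, hg, ?_⟩
    have t1 := hgt.mul hlx
    rw [hcl] at t1
    have t2 : g * x = uP * g := t1.inj (isTable_uP.mul hgt)
    rw [t2, mul_inv_cancel_right]

/-- the Sylow subgroup inside `M22` -/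
def sylQ : Subgroup ↥M22p := syl0.subgroupOf M22p

theorem card_sylQ : Nat.card sylQ = 2 ^ 7 := by
  rw [← card_syl0]
  exact Nat.card_congr (Subgroup.subgroupOfEquivOfLe syl0_le).toEquiv

instance finite_M22p : Finite ↥M22p := Nat.finite_of_card_ne_zero (by rw [card_M22p]; norm_num)

/-- every involution of `M22` is conjugate to `uQ` -/
theorem invol_conj_uQ (σ : ↥M22p) (h1 : σ ≠ 1) (h2 : σ * σ = 1) :
    ∃ c : ↥M22p, c * σ * c⁻¹ = uQ := by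
  haveI : Fact (Nat.Prime 2) := ⟨Nat.prime_two⟩
  -- the subgroup `sylQ` is a Sylow subgroup
  have hpQ : IsPGroup 2 sylQ := IsPGroup.of_card card_sylQ
  obtain ⟨P, hP⟩ := hpQ.exists_le_sylow
  have hPeq : sylQ = (P : Subgroup ↥M22p) := by
    apply Subgroup.eq_of_le_of_card_ge hP
    obtain ⟨k, hk⟩ := IsPGroup.iff_card.mp P.isPGroup'
    rw [hk, card_sylQ]
    apply Nat.pow_le_pow_right (by norm_num)
    by_contra hcon0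
    have hcon : 8 ≤ k := by omega
    have hd : 2 ^ 8 ∣ Nat.card ↥M22p := by
      calc 2 ^ 8 ∣ 2 ^ k := Nat.pow_dvd_pow 2 hcon
        _ ∣ Nat.card ↥M22p := by rw [← hk]; exact Subgroup.card_subgroup_dvd_card _
    rw [card_M22p] at hd
    norm_num at hd
  -- the involution lies in a Sylow subgroup
  have hord : orderOf σ = 2 := orderOf_eq_prime (by rw [pow_two]; exact h2) h1
  have hz : IsPGroup 2 (Subgroup.zpowers σ) :=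
    IsPGroup.of_card (n := 1) (by rw [Nat.card_zpowers, hord, pow_one])
  obtain ⟨Q, hQ⟩ := hz.exists_le_sylow
  obtain ⟨g, hg⟩ := MulAction.exists_smul_eq ↥M22p Q P
  have hσQ : σ ∈ (Q : Subgroup ↥M22p) := hQ (Subgroup.mem_zpowers σ)
  have hmem : g * σ * g⁻¹ ∈ sylQ := by
    rw [hPeq, ← hg, Sylow.coe_subgroup_smul]
    have := Subgroup.smul_mem_pointwise_smul σ (MulAut.conj g) (Q : Subgroup ↥M22p) hσQ
    rwa [MulAut.smul_def, MulAut.conj_apply] at this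
  have hmem0 : (g * σ * g⁻¹ : ↥M22p).1 ∈ syl0 := Subgroup.mem_subgroupOf.mp hmem
  have hne : (g * σ * g⁻¹ : ↥M22p).1 ≠ 1 := by
    intro h
    apply h1
    have h' : g * σ * g⁻¹ = 1 := Subtype.ext h
    have : σ = g⁻¹ * (g * σ * g⁻¹) * g := by group
    rw [this, h']
    group
  have hsq : (g * σ * g⁻¹ : ↥M22p).1 * (g * σ * g⁻¹ : ↥M22p).1 = 1 := by
    have : (g * σ * g⁻¹) * (g * σ * g⁻¹) = 1 := by
      calc (g * σ * g⁻¹) * (g * σ * g⁻¹) = g * (σ * σ) * g⁻¹ := by group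
        _ = 1 := by rw [h2, mul_one, mul_inv_cancel]
    exact congrArg Subtype.val this
  obtain ⟨c, hc, hcx⟩ := syl0_invol hmem0 hne hsq
  refine ⟨⟨c, hc⟩ * g, ?_⟩
  apply Subtype.ext
  show c * g.1 * σ.1 * (⟨c, hc⟩ * g : ↥M22p)⁻¹.1 = uP
  rw [← hcx]
  show c * g.1 * σ.1 * ((⟨c, hc⟩ * g : ↥M22p)⁻¹ : ↥M22p).1 = c * (g.1 * σ.1 * (g.1)⁻¹) * c⁻¹
  rw [mul_inv_rev]
  show c * g.1 * σ.1 * ((g.1)⁻¹ * c⁻¹) = c * (g.1 * σ.1 * (g.1)⁻¹) * c⁻¹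
  group

end Cfsg.Agent.Helper26.McLInv
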