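import Cfsg.Agent.Helper26.McLL
import Cfsg.Agent.Helper7.OutCongr
import Cfsg.Prelude.Def_Spor_Conway

/-!
# The explicit McLaughlin group has outer automorphism group of order 2

The group `Spor.McL`, the stabiliser of `(-5, -1^23)` and `(4, 4, 0^22)` in `Co0`, is the
stabiliser of the minimal vectors `(1, -3, 1^22)` and `(4, 4, 0^22)`, hence conjugate to `LM`.
-/

set_option autoImplicit false

namespace Cfsg.Agent.Helper26.OutMcL

open Cfsg Cfsg.Agent.Helper7 Cfsg.Agent.Helper27 Cfsg.Agent.Helper93.HSL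
  Cfsg.Agent.Helper26.OutCo2 MulAction
open Cfsg.Agent.Helper8 hiding x0L

/-- the minimal vector `(1, -3, 1^22)` attached to the explicit McLaughlin group -/
def sporWm : ↥leechLattice := -(Spor.leechV + Spor.leechU)

set_option maxRecDepth 100000 in
theorem sporM_facts : sqNorm (-(Spor.vecV + Spor.vecU)) = 32 ∧
    dotInt (-(Spor.vecV + Spor.vecU)) Spor.vecU = -8 := by decide +kernel

theorem co0_smul_add' (g : ↥Co0) (x y : ↥leechLattice) : g • (x + y) = g • x + g • y := by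
  rw [← co0Hom_apply, map_add]
  rfl

theorem sporMcL_eq_map :
    (stabilizer ↥Co0 sporWm ⊓ stabilizer ↥Co0 x0L).map Co0.subtype = Spor.McL := by
  ext f
  constructor
  · rintro ⟨g, hg, rfl⟩
    obtain ⟨h1, h2⟩ := Subgroup.mem_inf.mp hg
    have h1' : g • sporWm = sporWm := h1
    have h2' : g • Spor.leechU = Spor.leechU := h2
    have h3 : g • Spor.leechV = Spor.leechV := by
      have e : Spor.leechV = -sporWm - Spor.leechU := by
        unfold sporWm
        abel
      rw [e, co0_smul_sub, co0_smul_neg, h1', h2']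
    exact ⟨⟨g.2, h3⟩, h2'⟩
  · rintro ⟨⟨hf, h1⟩, h3⟩
    have h1' : (⟨f, hf⟩ : ↥Co0) • Spor.leechV = Spor.leechV := h1
    have h3' : (⟨f, hf⟩ : ↥Co0) • Spor.leechU = Spor.leechU := h3
    refine ⟨⟨f, hf⟩, Subgroup.mem_inf.mpr ⟨?_, h3'⟩, rfl⟩
    show (⟨f, hf⟩ : ↥Co0) • sporWm = sporWm
    unfold sporWm
    rw [co0_smul_neg, co0_smul_add', h1', h3']

/-- the explicit McLaughlin group as a joint stabiliser -/
noncomputable def sporMcLEquiv :
    ↥(stabilizer ↥Co0 sporWm ⊓ stabilizer ↥Co0 x0L) ≃* ↥Spor.McL :=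
  ((stabilizer ↥Co0 sporWm ⊓ stabilizer ↥Co0 x0L).equivMapOfInjective Co0.subtype
    Subtype.val_injective).trans (MulEquiv.subgroupCongr sporMcL_eq_map)

theorem sporMcL_equiv_LM : Nonempty (↥Spor.McL ≃* ↥LM) := by
  obtain ⟨t1, h1v, h1w⟩ := exists_to_std sporWm x0L sporM_facts.1 base_facts.1 sporM_facts.2
  obtain ⟨t2, h2v, h2w⟩ := exists_to_std v1L x0L sqNorm_v1 base_facts.1 base_facts.2.1
  have e := conjInfEquiv (t2⁻¹ * t1) sporWm x0L
  have ht1 : (t2⁻¹ * t1) • sporWm = v1L := by rw [mul_smul, h1v, ← h2v, inv_smul_smul]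
  have ht2 : (t2⁻¹ * t1) • x0L = x0L := by rw [mul_smul, h1w, ← h2w, inv_smul_smul]
  rw [ht1, ht2] at e
  exact ⟨sporMcLEquiv.symm.trans e⟩

/-- the outer automorphism group of the explicit McLaughlin group has order 2 -/
theorem card_out_sporMcL : Nat.card (Cfsg.Out ↥Spor.McL) = 2 := by
  obtain ⟨e⟩ := sporMcL_equiv_LM
  show (Cfsg.Inn ↥Spor.McL).index = 2
  rw [inn_index_congr e]
  exact index_inn_LM

end Cfsg.Agent.Helper26.OutMcL
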