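import Cfsg.Agent.Helper26.InvH
import Cfsg.Agent.Helper26.InvI
import Cfsg.Agent.Helper26.McLM

/-!
# The involutions of the McLaughlin group

An involution of `LM` fixes one of the 2025 minimal vectors `y` with `x0 · y = 0` and
`v1 · y = 16` (their number is odd), so it is conjugate into `M22`, where all involutions are
conjugate.  The statements are then carried to `Spor.McL`.
-/

set_option autoImplicit false

namespace Cfsg.Agent.Helper26.McLInv

open Cfsg Cfsg.Agent.Helper7 Cfsg.Agent.Helper27 Cfsg.Agent.Helper92 Cfsg.Agent.Helper93.HSL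
  Cfsg.Agent.Helper26.OutCo2 Cfsg.Agent.Helper26.OutMcL MulAction
open Cfsg.Agent.Helper8 hiding x0L

theorem trans_x0_v1 : Trans2025 x0L v1L :=
  trans2025_general x0L v1L base_facts.1 sqNorm_v1 (by rw [dotInt_comm]; exact base_facts.2.1)

theorem z0_mem_cfg2 : z0L ∈ cfg2 x0L v1L :=
  ⟨base_facts.2.2.1, base_facts.2.2.2.1, base_facts.2.2.2.2⟩

/-- an involution of `LM` fixes a member of the configuration -/
theorem exists_fixed (x : ↥LM) (hx : x * x = 1) :
    ∃ y ∈ cfg2 x0L v1L, (x : ↥Co0) • y = y := by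
  classical
  have hfin : (cfg2 x0L v1L).Finite :=
    Set.finite_of_ncard_ne_zero (by rw [trans_x0_v1.1]; norm_num)
  haveI : Fintype ↥(cfg2 x0L v1L) := hfin.fintype
  have hmem : ∀ y : ↥leechLattice, y ∈ cfg2 x0L v1L → (x : ↥Co0) • y ∈ cfg2 x0L v1L := by
    intro y hy
    have := (mem_cfg2_smul (x : ↥Co0) x0L v1L y).2 hy
    rwa [LM_smul_x0, LM_smul_v1] at this
  have hxx : ∀ y : ↥leechLattice, (x : ↥Co0) • ((x : ↥Co0) • y) = y := by
    intro y
    rw [← mul_smul]
    have : (x : ↥Co0) * (x : ↥Co0) = 1 := congrArg Subtype.val hx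
    rw [this, one_smul]
  let σ : Equiv.Perm ↥(cfg2 x0L v1L) :=
    { toFun := fun y => ⟨(x : ↥Co0) • y.1, hmem y.1 y.2⟩
      invFun := fun y => ⟨(x : ↥Co0) • y.1, hmem y.1 y.2⟩
      left_inv := fun y => Subtype.ext (hxx y.1)
      right_inv := fun y => Subtype.ext (hxx y.1) }
  have hσ : σ ^ 2 ^ 1 = 1 := by
    rw [pow_one, pow_two]
    apply Equiv.ext
    intro y
    exact Subtype.ext (hxx y.1)
  have hcard : ¬ 2 ∣ Fintype.card ↥(cfg2 x0L v1L) := by
    rw [← Nat.card_eq_fintype_card, Nat.card_coe_set_eq, trans_x0_v1.1]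
    norm_num
  haveI : Fact (Nat.Prime 2) := ⟨Nat.prime_two⟩
  obtain ⟨a, ha⟩ := Equiv.Perm.exists_fixed_point_of_prime (p := 2) (n := 1) hcard hσ
  exact ⟨a.1, a.2, congrArg Subtype.val ha⟩

/-- every involution of `LM` is conjugate to `uL` -/
theorem invol_conj_uL (x : ↥LM) (h1 : x ≠ 1) (h2 : x * x = 1) : ∃ c : ↥LM, c * x * c⁻¹ = uL := by
  obtain ⟨y, hy, hxy⟩ := exists_fixed x h2
  obtain ⟨g, gx, gv, gy⟩ := trans_x0_v1.2 y hy z0L z0_mem_cfg2
  obtain ⟨gL, hgL⟩ : ∃ gL : ↥LM, (gL : ↥Co0) = g := ⟨⟨g, mem_LM.mpr ⟨gv, gx⟩⟩, rfl⟩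
  have hfix : ((gL * x * gL⁻¹ : ↥LM) : ↥Co0) • z0L = z0L := by
    show ((gL : ↥Co0) * (x : ↥Co0) * (gL : ↥Co0)⁻¹) • z0L = z0L
    rw [hgL, mul_smul, mul_smul, ← gy, inv_smul_smul, hxy]
  obtain ⟨σ, hσ⟩ := exists_m22_of_fix_z0 _ hfix
  have hσ1 : σ ≠ 1 := by
    intro h
    rw [h, map_one] at hσ
    apply h1
    have : x = gL⁻¹ * (gL * x * gL⁻¹) * gL := by group
    rw [this, hσ]
    group
  have hσ2 : σ * σ = 1 := by
    apply m22_injective
    rw [map_mul, ← hσ, map_one]
    calc gL * x * gL⁻¹ * (gL * x * gL⁻¹) = gL * (x * x) * gL⁻¹ := by group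
      _ = 1 := by rw [h2, mul_one, mul_inv_cancel]
  obtain ⟨c, hc⟩ := invol_conj_uQ σ hσ1 hσ2
  refine ⟨m22 c * gL, ?_⟩
  calc m22 c * gL * x * (m22 c * gL)⁻¹ = m22 c * (gL * x * gL⁻¹) * (m22 c)⁻¹ := by group
    _ = m22 (c * σ * c⁻¹) := by rw [hσ, map_mul, map_mul, map_inv]
    _ = uL := by rw [hc]; rfl

theorem orderOf_uL : orderOf uL = 2 := by
  apply orderOf_eq_prime uL_sq
  intro h
  exact uLC_ne_one (Subtype.ext h)

/-! ### transport -/

section transport

variable {G : Type*} [Group G] (e : G ≃* ↥LM)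

theorem invol_conj_of_equiv {G : Type*} [Group G] (e : G ≃* ↥LM) (x y : G) (hx : orderOf x = 2)
    (hy : orderOf y = 2) : IsConj x y := by
  have key : ∀ z : G, orderOf z = 2 → ∃ c : ↥LM, c * e z * c⁻¹ = uL := by
    intro z hz
    have ho : orderOf (e z) = 2 := by rw [MulEquiv.orderOf_eq]; exact hz
    apply invol_conj_uL
    · intro h
      rw [h, orderOf_one] at ho
      norm_num at ho
    · have := pow_orderOf_eq_one (e z)
      rwa [ho, pow_two] at this
  obtain ⟨c1, h1⟩ := key x hx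
  obtain ⟨c2, h2⟩ := key y hy
  rw [isConj_iff]
  refine ⟨e.symm (c2⁻¹ * c1), ?_⟩
  apply e.injective
  rw [map_mul, map_mul, map_inv, e.apply_symm_apply]
  have hy' : e y = c2⁻¹ * uL * c2 := by rw [← h2]; group
  rw [hy', ← h1]
  group

theorem orderOf_symm_uL : orderOf (e.symm uL) = 2 := by
  rw [MulEquiv.orderOf_eq]
  exact orderOf_uL

/-- the centraliser of the image of `uL` -/
noncomputable def centEquiv :
    ↥(Subgroup.centralizer ({e.symm uL} : Set G)) ≃* ↥CU :=
  (e.subgroupMap (Subgroup.centralizer ({e.symm uL} : Set G))).trans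
    (MulEquiv.subgroupCongr (by
      ext g
      unfold CU
      constructor
      · rintro ⟨x, hx, rfl⟩
        have hx' := Subgroup.mem_centralizer_singleton_iff.mp hx
        rw [Subgroup.mem_centralizer_singleton_iff]
        have := congrArg e hx'
        rw [map_mul, map_mul, e.apply_symm_apply] at this
        exact this
      · intro hg
        have hg' := Subgroup.mem_centralizer_singleton_iff.mp hg
        refine ⟨e.symm g, ?_, e.apply_symm_apply g⟩
        rw [SetLike.mem_coe, Subgroup.mem_centralizer_singleton_iff, ← map_mul, ← map_mul, hg']))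

theorem centEquiv_val (g : ↥(Subgroup.centralizer ({e.symm uL} : Set G))) :
    ((centEquiv e g : ↥CU) : ↥LM) = e g.1 := rfl

theorem nonsplit_of_equiv :
    Cfsg.IsNonsplitDoubleCover ↥(Subgroup.centralizer ({e.symm uL} : Set G))
      ↥(alternatingGroup (Fin 8)) := by
  have hcen : Subgroup.center ↥(alternatingGroup (Fin 8)) = ⊥ :=
    alternatingGroup.center_eq_bot (by rw [Nat.card_eq_fintype_card, Fintype.card_fin]; norm_num)
  have hker : Nat.card (piA.comp (centEquiv e).toMonoidHom).ker = 2 := by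
    rw [← card_ker_phiG, ← piA_ker]
    apply Nat.card_congr
    exact
      { toFun := fun x => ⟨centEquiv e x.1, MonoidHom.mem_ker.mpr (MonoidHom.mem_ker.mp x.2)⟩
        invFun := fun y => ⟨(centEquiv e).symm y.1, by
          rw [MonoidHom.mem_ker]
          show piA (centEquiv e ((centEquiv e).symm y.1)) = 1
          rw [MulEquiv.apply_symm_apply]
          exact MonoidHom.mem_ker.mp y.2⟩
        left_inv := fun x => Subtype.ext ((centEquiv e).symm_apply_apply x.1)
        right_inv := fun y => Subtype.ext ((centEquiv e).apply_symm_apply y.1) }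
  apply nonsplit_of_square (piA.comp (centEquiv e).toMonoidHom)
    (piA_surjective.comp (centEquiv e).surjective) hker hcen
    ((centEquiv e).symm t4C) ((centEquiv e).symm uLC)
  · show piA (centEquiv e ((centEquiv e).symm uLC)) = 1
    rw [MulEquiv.apply_symm_apply]
    have : uLC ∈ piA.ker := by rw [piA_ker]; exact phiG_uLC
    exact this
  · intro h
    apply uLC_ne_one
    have := congrArg (centEquiv e) h
    rwa [MulEquiv.apply_symm_apply, map_one] at this
  · rw [← map_mul, t4C_sq]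

end transport

end Cfsg.Agent.Helper26.McLInv
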