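import Cfsg.Agent.Helper26.SecBase

/-!
# Counting the kernel and the image of a homomorphism on the centraliser
-/

set_option autoImplicit false

namespace Cfsg.Agent.Helper26.SecAsm

open Cfsg Cfsg.Agent.Helper7 Cfsg.Agent.Helper8 Cfsg.Agent.Helper27 Cfsg.Agent.Helper26.Co2Inv
  Cfsg.Agent.Helper26.Co1Inv Cfsg.Agent.Helper26.SecLocal MulAction

/-- if a group of order at most `|α| m` has a homomorphism with image of order at least `m` and
`α` injects into the kernel, then the image has order `m` and `α` is the kernel -/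
theorem kernel_count {G T : Type*} [Group G] [Finite G] [Group T] (φ : G →* T)
    {α : Type*} [Finite α] (J : α → ↥φ.ker) (hJ : Function.Injective J) (m : ℕ) (hm : 0 < m)
    (hU : Nat.card G ≤ Nat.card α * m) (hL : m ≤ Nat.card ↥φ.range) :
    Nat.card ↥φ.range = m ∧ Function.Surjective J := by
  have h1 : Nat.card ↥φ.ker * Nat.card ↥φ.range = Nat.card G := by
    rw [← Subgroup.index_ker]
    exact Subgroup.card_mul_index φ.ker
  have h2 : Nat.card α ≤ Nat.card ↥φ.ker := Nat.card_le_card_of_injective J hJ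
  have hk : 0 < Nat.card ↥φ.ker := Nat.card_pos
  have h3 : Nat.card ↥φ.ker * Nat.card ↥φ.range ≤ Nat.card α * m := by rw [h1]; exact hU
  have h4 : Nat.card ↥φ.range = m := by
    apply le_antisymm _ hL
    by_contra hlt
    rw [not_le] at hlt
    have : Nat.card α * m < Nat.card ↥φ.ker * Nat.card ↥φ.range :=
      calc Nat.card α * m ≤ Nat.card ↥φ.ker * m := Nat.mul_le_mul_right _ h2
        _ < Nat.card ↥φ.ker * Nat.card ↥φ.range := Nat.mul_lt_mul_of_pos_left hlt hk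
    omega
  refine ⟨h4, ?_⟩
  have h5 : Nat.card ↥φ.ker ≤ Nat.card α := by
    rw [h4] at h3
    exact Nat.le_of_mul_le_mul_right h3 hm
  exact (Function.Injective.bijective_of_nat_card_le hJ h5).2

namespace SecBase

variable {p : ℕ} (D : SecBase p)

/-- the order of the subgroup generated by `a` and the centre -/
theorem card_AZ_ge : 2 * p ≤ Nat.card ↥(AZS D.a) := by
  have h1 : p ∣ Nat.card ↥(AZS D.a) := by
    have := Subgroup.card_dvd_of_le (le_sup_left : D.A ≤ AZS D.a)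
    rwa [D.card_A] at this
  have h2 : 2 ∣ Nat.card ↥(AZS D.a) := by
    have ho : orderOf negCo0 = 2 := by
      apply orderOf_eq_prime
      · exact neg_pow_two
      · intro h
        have := neg_not_mem_K0
        rw [h] at this
        exact this K0.one_mem
    have h3 : orderOf (⟨negCo0, D.neg_mem_AZ⟩ : ↥(AZS D.a)) = 2 := by
      rw [← ho]
      exact Subgroup.orderOf_mk _ _
    rw [← h3]
    exact orderOf_dvd_natCard _
  have hc : Nat.Coprime 2 p := (Nat.coprime_two_left).mpr D.hp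
  have h3 := Nat.Coprime.mul_dvd_of_dvd_of_dvd hc h2 h1
  exact Nat.le_of_dvd Nat.card_pos h3

/-- products of elements of `E` and of the subgroup generated by `a` and the centre -/
theorem mul_inj {e e' w w' : ↥Co0} (he : e ∈ ES D.a) (he' : e' ∈ ES D.a) (hw : w ∈ AZS D.a)
    (hw' : w' ∈ AZS D.a) (h : e * w = e' * w') : e = e' ∧ w = w' := by
  have h1 : e'⁻¹ * e = w' * w⁻¹ := by
    calc e'⁻¹ * e = e'⁻¹ * (e * w) * w⁻¹ := by group
      _ = e'⁻¹ * (e' * w') * w⁻¹ := by rw [h]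
      _ = w' * w⁻¹ := by group
  have h2 : w' * w⁻¹ = 1 := by
    apply D.AZ_inter_K0 ((AZS D.a).mul_mem hw' ((AZS D.a).inv_mem hw))
    rw [← h1]
    exact K0.mul_mem (K0.inv_mem he'.1) he.1
  have h3 : w = w' := (mul_inv_eq_one.mp h2).symm
  refine ⟨?_, h3⟩
  rw [h3] at h
  exact mul_right_cancel h

/-- the count: a homomorphism on the centraliser of `a` in `N`, trivial on `E · ⟨a, -1⟩`, with
image of order at least `m`, where the centraliser has order at most `|E| · 2 p · m` -/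
theorem count {T : Type*} [Group T] (φ : ↥(XS D.a) →* T)
    (hφ : ∀ e ∈ ES D.a, ∀ w ∈ AZS D.a, ∀ h : e * w ∈ XS D.a, φ ⟨e * w, h⟩ = 1)
    (m : ℕ) (hm : 0 < m)
    (hU : Nat.card ↥(XS D.a) ≤ Nat.card ↥(ES D.a) * (2 * p) * m)
    (hL : m ≤ Nat.card ↥φ.range) :
    Nat.card ↥φ.range = m ∧
      ∀ x : ↥(XS D.a), φ x = 1 → ∃ e ∈ ES D.a, ∃ w ∈ AZS D.a, x.1 = e * w := by
  have hmem : ∀ e ∈ ES D.a, ∀ w ∈ AZS D.a, e * w ∈ XS D.a := fun e he w hw =>
    (XS D.a).mul_mem (D.ES_le_XS he)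
      ⟨D.AZ_le_N hw, D.mem_cent.mpr (D.mem_CA.mp (D.AZ_le_CA hw))⟩
  let J : ↥(ES D.a) × ↥(AZS D.a) → ↥φ.ker := fun q =>
    ⟨⟨q.1.1 * q.2.1, hmem _ q.1.2 _ q.2.2⟩, MonoidHom.mem_ker.mpr (hφ _ q.1.2 _ q.2.2 _)⟩
  have hJ : Function.Injective J := by
    rintro ⟨e, w⟩ ⟨e', w'⟩ h
    have h1 : e.1 * w.1 = e'.1 * w'.1 := congrArg (fun y : ↥φ.ker => (y.1.1 : ↥Co0)) h
    obtain ⟨h2, h3⟩ := D.mul_inj e.2 e'.2 w.2 w'.2 h1
    exact Prod.ext (Subtype.ext h2) (Subtype.ext h3)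
  have hU' : Nat.card ↥(XS D.a) ≤ Nat.card (↥(ES D.a) × ↥(AZS D.a)) * m := by
    rw [Nat.card_prod]
    refine hU.trans (Nat.mul_le_mul_right _ (Nat.mul_le_mul_left _ D.card_AZ_ge))
  obtain ⟨h1, h2⟩ := kernel_count φ J hJ m hm hU' hL
  refine ⟨h1, ?_⟩
  intro x hx
  obtain ⟨⟨e, w⟩, hq⟩ := h2 ⟨x, MonoidHom.mem_ker.mpr hx⟩
  refine ⟨e.1, e.2, w.1, w.2, ?_⟩
  exact (congrArg (fun y : ↥φ.ker => (y.1.1 : ↥Co0)) hq).symm

end SecBase

end Cfsg.Agent.Helper26.SecAsm
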