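import Cfsg.Agent.Helper26.J2Rho

/-!
# The Hall–Janko section of `Co0`: data and kernel checks for the counting
-/

set_option autoImplicit false

namespace Cfsg.Agent.Helper26.J2Sec

open Cfsg Cfsg.Agent.Helper7 Cfsg.Agent.Helper8 Cfsg.Agent.Helper27 Cfsg.Agent.Helper26.Co2Inv
  Cfsg.Agent.Helper26.Co1Inv Cfsg.Agent.Helper26.SecAsm Cfsg.Agent.Helper26.ExCoord
  Cfsg.Agent.Helper26.OmegaM4 Cfsg.Agent.Helper26.SecLocal MulAction Matrix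
open Cfsg.Agent.Helper26.SuzSec (WN WN_ok wE acts_wE acts_one acts_eN comm_of_chk tb eqT eqT_iff
  cmT eN_comm_iff cP_eN tabPL qP_of_tab)

/-! ### data -/

/-- the coordinates of the images of the basis under the generators -/
def colT : List (List ℕ) :=
  [[2, 7, 4, 14], [15, 2, 6, 10]]

def col (i j : ℕ) : ℕ := (colT.getD i []).getD j 0

/-- the eight fixed roots -/
def F8 : List ℕ := [0, 184, 12, 237, 126, 73, 171, 193]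

/-- the dot products of the roots with the eight fixed roots -/
def sigT : List (List ℤ) := [
  [32, -16, 0, 0, 0, 0, -16, 0],
  [-32, 16, 0, 0, 0, 0, 16, 0],
  [0, 0, 0, -16, 0, 0, -16, 16],
  [0, 0, 0, 16, 0, 0, 16, -16],
  [0, 0, 0, 0, 0, 0, 16, 0],
  [0, 0, 0, 0, 0, 0, -16, 0],
  [0, 0, 0, 0, 0, -16, 0, 16],
  [0, 0, 0, 0, 0, 16, 0, -16],
  [0, 0, 0, -16, 0, -16, 0, 0],
  [0, 0, 0, 16, 0, 16, 0, 0],
  [0, 16, 0, 0, 0, 16, 0, -16],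
  [0, -16, 0, 0, 0, -16, 0, 16],
  [0, -16, 32, -16, 0, 16, 0, 0],
  [0, 16, -32, 16, 0, -16, 0, 0],
  [-16, 0, 16, 0, 0, 16, 16, 0],
  [16, 0, -16, 0, 0, -16, -16, 0],
  [16, -16, 16, 0, 0, 16, 0, 0],
  [-16, 16, -16, 0, 0, -16, 0, 0],
  [-16, 16, -16, 0, 0, -16, 16, 0],
  [16, -16, 16, 0, 0, 16, -16, 0],
  [16, 0, -16, 0, 0, -16, 0, 0],
  [-16, 0, 16, 0, 0, 16, 0, 0],
  [16, -16, 16, -16, 0, 0, 0, 0],
  [-16, 16, -16, 16, 0, 0, 0, 0],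
  [-16, 0, 16, -16, 0, 0, 16, 0],
  [16, 0, -16, 16, 0, 0, -16, 0],
  [-16, 0, 16, -16, 0, 0, 0, 0],
  [16, 0, -16, 16, 0, 0, 0, 0],
  [16, -16, 16, -16, 0, 0, -16, 0],
  [-16, 16, -16, 16, 0, 0, 16, 0],
  [0, 16, -16, 16, 0, 0, 16, -16],
  [0, -16, 16, -16, 0, 0, -16, 16],
  [0, -16, 16, 0, 0, 0, 16, 0],
  [0, 16, -16, 0, 0, 0, -16, 0],
  [0, 16, -16, 0, 0, 0, 0, 0],
  [0, -16, 16, 0, 0, 0, 0, 0],
  [0, -16, 16, -16, 0, 0, 0, 16],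
  [0, 16, -16, 16, 0, 0, 0, -16],
  [0, 0, 16, 0, 0, 16, 0, -16],
  [0, 0, -16, 0, 0, -16, 0, 16],
  [0, 0, 16, -16, 0, 16, 0, 0],
  [0, 0, -16, 16, 0, -16, 0, 0],
  [0, 0, 16, -16, 0, 16, -16, 0],
  [0, 0, -16, 16, 0, -16, 16, 0],
  [0, 0, 16, 0, 0, 16, 16, -16],
  [0, 0, -16, 0, 0, -16, -16, 16],
  [-16, 0, 0, 0, 0, -16, 16, 0],
  [16, 0, 0, 0, 0, 16, -16, 0],
  [16, -16, 0, 0, 0, -16, 0, 0],
  [-16, 16, 0, 0, 0, 16, 0, 0],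
  [-16, 0, 0, -16, 0, -16, 0, 16],
  [16, 0, 0, 16, 0, 16, 0, -16],
  [16, -16, 0, -16, 0, -16, -16, 16],
  [-16, 16, 0, 16, 0, 16, 16, -16],
  [-16, 16, 0, -16, 0, 0, 0, 0],
  [16, -16, 0, 16, 0, 0, 0, 0],
  [16, 0, 0, -16, 0, 0, -16, 0],
  [-16, 0, 0, 16, 0, 0, 16, 0],
  [-16, 16, 0, 0, 0, 0, 16, -16],
  [16, -16, 0, 0, 0, 0, -16, 16],
  [16, 0, 0, 0, 0, 0, 0, -16],
  [-16, 0, 0, 0, 0, 0, 0, 16],
  [0, 0, 16, -16, 0, 16, 0, -16],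
  [0, 0, -16, 16, 0, -16, 0, 16],
  [0, 0, 16, 0, 0, 16, 0, 0],
  [0, 0, -16, 0, 0, -16, 0, 0],
  [0, -16, 16, -16, 0, -16, 0, 16],
  [0, 16, -16, 16, 0, 16, 0, -16],
  [0, 16, -16, 0, 0, -16, 0, 0],
  [0, -16, 16, 0, 0, 16, 0, 0],
  [0, 0, 16, -16, 0, 0, 0, 0],
  [0, 0, -16, 16, 0, 0, 0, 0],
  [0, 0, -16, 0, 0, -32, 0, 16],
  [0, 0, 16, 0, 0, 32, 0, -16],
  [0, -16, 16, -16, 0, 0, 0, 0],
  [0, 16, -16, 16, 0, 0, 0, 0],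
  [0, 16, -16, 0, 0, 0, 0, -16],
  [0, -16, 16, 0, 0, 0, 0, 16],
  [-16, 16, 0, 0, 0, 0, 0, 0],
  [16, -16, 0, 0, 0, 0, 0, 0],
  [16, 0, 0, 0, 0, 0, -16, 0],
  [-16, 0, 0, 0, 0, 0, 16, 0],
  [16, 0, 0, 0, 0, 0, 0, 0],
  [-16, 0, 0, 0, 0, 0, 0, 0],
  [-16, 16, 0, 0, 0, 0, 16, 0],
  [16, -16, 0, 0, 0, 0, -16, 0],
  [16, -16, 0, 0, 0, -16, 0, 16],
  [-16, 16, 0, 0, 0, 16, 0, -16],
  [-16, 0, 0, 0, 0, -16, 16, 16],
  [16, 0, 0, 0, 0, 16, -16, -16],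
  [16, 0, 0, 0, 0, 16, 0, -16],
  [-16, 0, 0, 0, 0, -16, 0, 16],
  [-16, 16, 0, 0, 0, 16, 16, -16],
  [16, -16, 0, 0, 0, -16, -16, 16],
  [0, 0, 0, -16, 0, -16, 0, 16],
  [0, 0, 0, 16, 0, 16, 0, -16],
  [0, 0, 0, 0, 0, -16, 0, 0],
  [0, 0, 0, 0, 0, 16, 0, 0],
  [0, 0, 0, 0, 0, -16, 16, 0],
  [0, 0, 0, 0, 0, 16, -16, 0],
  [0, 0, 0, -16, 0, -16, -16, 16],
  [0, 0, 0, 16, 0, 16, 16, -16],
  [0, 0, 0, -16, 0, 0, 0, 0],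
  [0, 0, 0, 16, 0, 0, 0, 0],
  [0, 0, 0, 0, 0, 0, 0, -16],
  [0, 0, 0, 0, 0, 0, 0, 16],
  [0, 0, 0, 0, 0, 0, 16, -16],
  [0, 0, 0, 0, 0, 0, -16, 16],
  [0, 0, 0, -16, 0, 0, -16, 0],
  [0, 0, 0, 16, 0, 0, 16, 0],
  [16, -16, 16, 0, 0, 0, 0, 0],
  [-16, 16, -16, 0, 0, 0, 0, 0],
  [-16, 0, 16, 0, 0, 0, 16, 0],
  [16, 0, -16, 0, 0, 0, -16, 0],
  [16, -16, 16, -16, 0, 0, -16, 16],
  [-16, 16, -16, 16, 0, 0, 16, -16],
  [-16, 0, 16, -16, 0, 0, 0, 16],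
  [16, 0, -16, 16, 0, 0, 0, -16],
  [16, -16, 16, 0, 0, 16, 0, -16],
  [-16, 16, -16, 0, 0, -16, 0, 16],
  [-16, 0, 16, 0, 0, 16, 16, -16],
  [16, 0, -16, 0, 0, -16, -16, 16],
  [16, -16, 16, -16, 0, 16, -16, 0],
  [-16, 16, -16, 16, 0, -16, 16, 0],
  [-16, 0, 16, -16, 0, 16, 0, 0],
  [16, 0, -16, 16, 0, -16, 0, 0],
  [0, 16, 0, -16, 32, 0, -16, -16],
  [0, -16, 0, 16, -32, 0, 16, 16],
  [-16, 0, 0, 0, -16, -16, 16, 16],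
  [16, 0, 0, 0, 16, 16, -16, -16],
  [-16, 16, -16, 0, 16, -16, 0, 0],
  [16, -16, 16, 0, -16, 16, 0, 0],
  [16, -16, 0, 0, -16, -16, 0, 16],
  [-16, 16, 0, 0, 16, 16, 0, -16],
  [16, 0, -16, 0, 16, -16, -16, 0],
  [-16, 0, 16, 0, -16, 16, 16, 0],
  [0, -16, 16, 0, -16, 0, 16, 16],
  [0, 16, -16, 0, 16, 0, -16, -16],
  [0, 0, 0, 0, 16, 0, 0, 0],
  [0, 0, 0, 0, -16, 0, 0, 0],
  [0, -16, 16, 0, -16, 0, 16, 0],
  [0, 16, -16, 0, 16, 0, -16, 0],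
  [0, 0, 0, 0, 16, 0, 0, -16],
  [0, 0, 0, 0, -16, 0, 0, 16],
  [0, -16, 16, -16, -16, 0, 0, 16],
  [0, 16, -16, 16, 16, 0, 0, -16],
  [0, 0, 0, -16, 16, 0, -16, 0],
  [0, 0, 0, 16, -16, 0, 16, 0],
  [0, 0, 0, 0, -16, 0, 16, 0],
  [0, 0, 0, 0, 16, 0, -16, 0],
  [0, 16, -16, 0, 16, 0, 0, -16],
  [0, -16, 16, 0, -16, 0, 0, 16],
  [0, 16, 0, 0, 16, 16, -16, -16],
  [0, -16, 0, 0, -16, -16, 16, 16],
  [0, 16, -16, 0, 16, -16, -16, 0],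
  [0, -16, 16, 0, -16, 16, 16, 0],
  [-16, 16, 0, 0, 16, 0, 0, 0],
  [16, -16, 0, 0, -16, 0, 0, 0],
  [16, 0, 0, 0, 16, 0, -16, 0],
  [-16, 0, 0, 0, -16, 0, 16, 0],
  [-16, 16, 0, 0, 16, 0, 0, -16],
  [16, -16, 0, 0, -16, 0, 0, 16],
  [16, 0, 0, 0, 16, 0, -16, -16],
  [-16, 0, 0, 0, -16, 0, 16, 16],
  [0, 0, 16, 0, 16, 16, 0, -16],
  [0, 0, -16, 0, -16, -16, 0, 16],
  [0, 0, 0, 0, 16, -16, 0, 0],
  [0, 0, 0, 0, -16, 16, 0, 0],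
  [-16, 16, 0, -16, 16, 0, -16, 0],
  [16, -16, 0, 16, -16, 0, 16, 0],
  [16, 0, 0, -16, 16, 0, -32, 0],
  [-16, 0, 0, 16, -16, 0, 32, 0],
  [0, 0, 16, -16, 16, 16, -16, 0],
  [0, 0, -16, 16, -16, -16, 16, 0],
  [0, 0, 0, -16, 16, -16, -16, 16],
  [0, 0, 0, 16, -16, 16, 16, -16],
  [0, 0, 16, -16, 16, 16, -16, -16],
  [0, 0, -16, 16, -16, -16, 16, 16],
  [0, 0, 0, -16, 16, -16, -16, 0],
  [0, 0, 0, 16, -16, 16, 16, 0],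
  [-16, 0, 16, -16, 16, 0, 0, 0],
  [16, 0, -16, 16, -16, 0, 0, 0],
  [16, -16, 16, -16, 16, 0, -16, 0],
  [-16, 16, -16, 16, -16, 0, 16, 0],
  [-16, 32, -16, 0, 16, 0, 0, -16],
  [16, -32, 16, 0, -16, 0, 0, 16],
  [16, 16, -16, 0, 16, 0, -16, -16],
  [-16, -16, 16, 0, -16, 0, 16, 16],
  [0, 16, 0, 0, 16, 16, 0, -16],
  [0, -16, 0, 0, -16, -16, 0, 16],
  [0, 16, -16, 0, 16, -16, 0, 0],
  [0, -16, 16, 0, -16, 16, 0, 0],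
  [0, 16, 0, 0, 16, 16, 0, -32],
  [0, -16, 0, 0, -16, -16, 0, 32],
  [0, 16, -16, 0, 16, -16, 0, -16],
  [0, -16, 16, 0, -16, 16, 0, 16],
  [-16, 16, 0, 0, 16, 0, 16, -16],
  [16, -16, 0, 0, -16, 0, -16, 16],
  [16, 0, 0, 0, 16, 0, 0, -16],
  [-16, 0, 0, 0, -16, 0, 0, 16],
  [0, 16, 0, -16, 16, 16, -16, -16],
  [0, -16, 0, 16, -16, -16, 16, 16],
  [0, 16, -16, -16, 16, -16, -16, 0],
  [0, -16, 16, 16, -16, 16, 16, 0],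
  [-16, 16, 0, -16, 16, 0, 0, 0],
  [16, -16, 0, 16, -16, 0, 0, 0],
  [16, 0, 0, -16, 16, 0, -16, 0],
  [-16, 0, 0, 16, -16, 0, 16, 0],
  [-16, 16, 0, -16, 16, 0, 0, -16],
  [16, -16, 0, 16, -16, 0, 0, 16],
  [16, 0, 0, -16, 16, 0, -16, -16],
  [-16, 0, 0, 16, -16, 0, 16, 16],
  [0, 0, 16, -16, 16, 16, 0, -16],
  [0, 0, -16, 16, -16, -16, 0, 16],
  [0, 0, 0, -16, 16, -16, 0, 0],
  [0, 0, 0, 16, -16, 16, 0, 0],
  [0, 0, 16, -16, 16, 0, -16, 0],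
  [0, 0, -16, 16, -16, 0, 16, 0],
  [0, 16, 0, 0, 16, 0, 0, -16],
  [0, -16, 0, 0, -16, 0, 0, 16],
  [0, 16, 0, -16, 16, 0, -16, 0],
  [0, -16, 0, 16, -16, 0, 16, 0],
  [0, 16, 0, -16, 16, 0, -16, -16],
  [0, -16, 0, 16, -16, 0, 16, 16],
  [-16, 16, 16, -16, 16, 16, 0, -16],
  [16, -16, -16, 16, -16, -16, 0, 16],
  [16, 0, 16, -16, 16, 16, -16, -16],
  [-16, 0, -16, 16, -16, -16, 16, 16],
  [-16, 16, 0, -16, 16, -16, 0, 0],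
  [16, -16, 0, 16, -16, 16, 0, 0],
  [16, 0, 0, -16, 16, -16, -16, 0],
  [-16, 0, 0, 16, -16, 16, 16, 0],
  [0, 0, 16, -16, 16, 0, 0, 0],
  [0, 0, -16, 16, -16, 0, 0, 0],
  [0, 0, 16, -16, 16, 0, 0, -16],
  [0, 0, -16, 16, -16, 0, 0, 16],
  [0, 0, 16, -32, 16, 0, -16, 0],
  [0, 0, -16, 32, -16, 0, 16, 0],
  [0, 16, 0, -16, 16, 0, 0, -16],
  [0, -16, 0, 16, -16, 0, 0, 16]]

/-- the words of level 0 of the stabiliser chain (base point 3) -/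
def lev0 : List (List ℕ) := [
  [],
  [1, 0, 0],
  [0],
  [0, 0],
  [0, 1],
  [1, 0],
  [1, 0, 1],
  [0, 1, 0],
  [1],
  [0, 0, 1]]

/-- the words of level 1 of the stabiliser chain (base point 5) -/
def lev1 : List (List ℕ) := [
  [],
  [1, 0, 0, 1, 0, 1, 0, 0, 1, 0, 1],
  [0, 1, 0, 1, 0, 0],
  [0, 0, 1, 0, 0, 1, 0, 1, 0],
  [0, 0, 1, 0, 1, 0, 1],
  [1, 0, 1, 0, 0, 1]]

/-- the action of a generator on a vector given as a number -/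
def mvN (i v : ℕ) : ℕ :=
  (List.range 4).foldl (fun acc j => if v.testBit j then acc ^^^ col i j else acc) 0

/-- the action of a word on a vector given as a number -/
def actW : List ℕ → ℕ → ℕ
  | [], v => v
  | i :: w, v => mvN i (actW w v)

/-- the check of a level -/
def lvlOk (l : List ℕ) (b : ℕ) (ws : List (List ℕ)) : Bool :=
  decide (b < 16) && ws.all fun w => w.all (fun i => decide (i < 2)) &&
    l.all fun f => decide (f < 16) && actW w f == f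

/-- the dot product of two roots -/
def dotT (k l : ℕ) : ℤ := lsum 24 (fun i => r8E k i * r8E l i)

/-- the dot products of a root with its first two images under `a` agree with those of another -/
def selfOk (l kk : ℕ) : Bool :=
  dotT l (sigA l) == dotT kk (sigA kk) && dotT l (sigA (sigA l)) == dotT kk (sigA (sigA kk))

/-- the candidates for the image of a root -/
def candL (fixed : List ℕ) (kk : ℕ) : List ℕ :=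
  (List.range 240).filter fun l => selfOk l kk && fixed.all fun f => dotT l f == dotT kk f

/-! ### kernel checks -/

set_option maxRecDepth 1000000

theorem img_lt : ∀ i < 2, ∀ j < 4, img i j < 512 := by decide

theorem col_chk : ∀ i < 2, ∀ j < 4, cvN (img i j) = col i j := by decide +kernel

theorem mv_chk : ∀ i < 2, ∀ v < 16, mvN i v < 16 ∧
    (Matrix.of fun r c => bitsV4 (col i (idx4 c)) r) *ᵥ bitsV4 v = bitsV4 (mvN i v) := by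
  decide +kernel

theorem lev_len : lev0.length = 10 ∧ lev1.length = 6 := by decide

theorem lev_ok : lvlOk [] 3 lev0 = true ∧ lvlOk [3] 5 lev1 = true := by decide +kernel

theorem lev_nodup : (lev0.map fun w => actW w 3).Nodup ∧ (lev1.map fun w => actW w 5).Nodup := by
  decide +kernel

theorem sigT_length : sigT.length = 240 := by decide +kernel

theorem sigT_chk : ∀ k < 240, sigT.getD k [] = F8.map (dotT k) := by decide +kernel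

theorem sigT_nodup : sigT.Nodup := by decide +kernel

theorem F8_lt : ∀ f ∈ F8, f < 240 := by decide

theorem sigA_lt : ∀ k < 240, sigA k < 240 := by decide +kernel

theorem sig_chain : sigA 126 = 73 ∧ sigA 73 = 171 ∧ sigA 171 = 193 ∧ sigA 0 = 184 ∧
    sigA 184 = 12 ∧ sigA 12 = 237 := by decide +kernel

theorem cand_len : (candL [] 126).length = 120 ∧ (candL [126, 73, 171, 193] 0).length = 5 := by
  decide +kernel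

end Cfsg.Agent.Helper26.J2Sec
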