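import Cfsg.Agent.Helper26.SuzData

/-!
# The Hall–Janko section of `Co0`: words and kernel checks

An element `a` of order five of the centraliser `N` of the involution `tE`, without fixed vectors;
two generators of its centraliser in `N`; an element of its centraliser fusing `tE` into the
extraspecial group; the action of the generators on a basis of `C_{K0}(a)` modulo `tE`; a product
of two conjugates of `tE` lying in `N` outside the extraspecial group.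
-/

set_option autoImplicit false

namespace Cfsg.Agent.Helper26.J2Sec

open Cfsg Cfsg.Agent.Helper7 Cfsg.Agent.Helper8 Cfsg.Agent.Helper27 Cfsg.Agent.Helper26.Co2Inv
  Cfsg.Agent.Helper26.Co1Inv
open Cfsg.Agent.Helper26.SuzSec (WN WN_ok)

/-! ### words -/

/-- the element of order five -/
def aW : List Letter := [
  .P [5, 0, 14, 11, 23, 6, 10, 19, 15, 21, 18, 16, 7, 1, 13, 9, 2, 20, 12, 8, 22, 4, 17, 3] [1, 13, 16, 23, 21, 0, 5, 12, 19, 15, 6, 3, 18, 14, 2, 8, 11, 22, 10, 7, 17, 9, 20, 4],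
  .S 7311228,
  .X,
  .S 8614557,
  .P [0, 13, 4, 1, 20, 2, 18, 5, 19, 11, 17, 7, 10, 15, 22, 8, 21, 16, 9, 12, 14, 3, 6, 23] [0, 3, 5, 21, 2, 7, 22, 11, 15, 18, 12, 9, 19, 1, 20, 13, 17, 10, 6, 8, 4, 16, 14, 23]]

/-- the first generator -/
def x1W : List Letter := [
  .P [11, 22, 13, 3, 16, 0, 5, 20, 6, 9, 19, 15, 2, 18, 10, 17, 8, 21, 14, 7, 1, 23, 12, 4] [5, 20, 12, 3, 23, 6, 8, 19, 16, 9, 14, 0, 22, 2, 18, 11, 4, 15, 13, 10, 7, 17, 1, 21],
  .S 14053784,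
  .X,
  .S 6455896,
  .P [21, 4, 5, 7, 9, 8, 13, 6, 20, 14, 18, 2, 23, 10, 3, 16, 15, 22, 1, 17, 19, 11, 0, 12] [22, 18, 11, 14, 1, 2, 7, 3, 5, 4, 13, 21, 23, 6, 9, 16, 15, 19, 10, 20, 8, 0, 17, 12],
  .X,
  .S 3251862,
  .P [23, 2, 13, 5, 12, 17, 19, 11, 3, 0, 16, 20, 14, 7, 9, 22, 6, 15, 10, 21, 1, 18, 8, 4] [9, 20, 1, 8, 23, 3, 16, 13, 22, 14, 18, 7, 4, 2, 12, 17, 10, 5, 21, 6, 11, 19, 15, 0]]

/-- the second generator -/
def x2W : List Letter := [
  .P [7, 6, 3, 0, 19, 23, 1, 16, 9, 20, 10, 15, 11, 5, 4, 12, 21, 22, 18, 13, 8, 2, 17, 14] [3, 6, 21, 2, 14, 13, 1, 0, 20, 8, 10, 12, 15, 19, 23, 11, 7, 22, 18, 4, 9, 16, 17, 5],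
  .S 14508919,
  .X,
  .S 10450718,
  .P [21, 11, 10, 4, 19, 3, 17, 5, 2, 20, 1, 9, 7, 15, 22, 12, 8, 13, 18, 14, 6, 16, 23, 0] [23, 10, 8, 5, 3, 7, 20, 12, 16, 11, 2, 1, 15, 17, 19, 13, 21, 6, 18, 4, 9, 0, 14, 22],
  .X,
  .S 10630149,
  .P [10, 11, 3, 2, 0, 16, 12, 17, 14, 6, 8, 18, 20, 4, 23, 5, 22, 1, 19, 7, 9, 15, 13, 21] [4, 17, 3, 2, 13, 15, 9, 19, 10, 20, 0, 1, 6, 22, 8, 21, 5, 7, 11, 18, 12, 23, 16, 14]]

/-- the fusing element -/
def g0W : List Letter := [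
  .P [16, 15, 4, 23, 20, 6, 17, 2, 21, 3, 11, 0, 8, 13, 5, 1, 9, 12, 14, 19, 7, 18, 10, 22] [11, 15, 7, 9, 2, 14, 5, 20, 12, 16, 22, 10, 17, 13, 18, 1, 0, 6, 21, 19, 4, 8, 23, 3],
  .S 4762989,
  .X,
  .S 11440842,
  .P [3, 9, 2, 10, 19, 13, 22, 15, 17, 12, 11, 20, 4, 18, 5, 7, 6, 0, 1, 23, 8, 14, 21, 16] [17, 18, 2, 0, 12, 14, 16, 15, 20, 1, 3, 10, 9, 5, 21, 7, 23, 8, 13, 4, 11, 22, 6, 19],
  .X,
  .S 8614557,
  .P [0, 13, 4, 1, 20, 2, 18, 5, 19, 11, 17, 7, 10, 15, 22, 8, 21, 16, 9, 12, 14, 3, 6, 23] [0, 3, 5, 21, 2, 7, 22, 11, 15, 18, 12, 9, 19, 1, 20, 13, 17, 10, 6, 8, 4, 16, 14, 23]]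

/-- the inverse of the fusing element -/
def g0iW : List Letter := [
  .P [0, 3, 5, 21, 2, 7, 22, 11, 15, 18, 12, 9, 19, 1, 20, 13, 17, 10, 6, 8, 4, 16, 14, 23] [0, 13, 4, 1, 20, 2, 18, 5, 19, 11, 17, 7, 10, 15, 22, 8, 21, 16, 9, 12, 14, 3, 6, 23],
  .S 8614557,
  .X,
  .P [17, 18, 2, 0, 12, 14, 16, 15, 20, 1, 3, 10, 9, 5, 21, 7, 23, 8, 13, 4, 11, 22, 6, 19] [3, 9, 2, 10, 19, 13, 22, 15, 17, 12, 11, 20, 4, 18, 5, 7, 6, 0, 1, 23, 8, 14, 21, 16],
  .S 11440842,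
  .X,
  .S 4762989,
  .P [11, 15, 7, 9, 2, 14, 5, 20, 12, 16, 22, 10, 17, 13, 18, 1, 0, 6, 21, 19, 4, 8, 23, 3] [16, 15, 4, 23, 20, 6, 17, 2, 21, 3, 11, 0, 8, 13, 5, 1, 9, 12, 14, 19, 7, 18, 10, 22]]

/-- the inverse of the first generator -/
def x1iW : List Letter := [
  .P [9, 20, 1, 8, 23, 3, 16, 13, 22, 14, 18, 7, 4, 2, 12, 17, 10, 5, 21, 6, 11, 19, 15, 0] [23, 2, 13, 5, 12, 17, 19, 11, 3, 0, 16, 20, 14, 7, 9, 22, 6, 15, 10, 21, 1, 18, 8, 4],
  .S 3251862,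
  .X,
  .P [22, 18, 11, 14, 1, 2, 7, 3, 5, 4, 13, 21, 23, 6, 9, 16, 15, 19, 10, 20, 8, 0, 17, 12] [21, 4, 5, 7, 9, 8, 13, 6, 20, 14, 18, 2, 23, 10, 3, 16, 15, 22, 1, 17, 19, 11, 0, 12],
  .S 6455896,
  .X,
  .S 14053784,
  .P [5, 20, 12, 3, 23, 6, 8, 19, 16, 9, 14, 0, 22, 2, 18, 11, 4, 15, 13, 10, 7, 17, 1, 21] [11, 22, 13, 3, 16, 0, 5, 20, 6, 9, 19, 15, 2, 18, 10, 17, 8, 21, 14, 7, 1, 23, 12, 4]]

/-- the generators -/
def genW (i : ℕ) : List Letter := [x1W, x2W].getD i []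

/-- the first conjugating element and its inverse -/
def h1W : List Letter := g0W ++ g0W
def h1iW : List Letter := g0iW ++ g0iW

/-- the second conjugating element and its inverse -/
def h2W : List Letter := (g0W ++ x1W) ++ g0W
def h2iW : List Letter := (g0iW ++ x1iW) ++ g0iW

/-- the two conjugates of the involution -/
def c1W : List Letter := (h1iW ++ tW) ++ h1W
def c2W : List Letter := (h2iW ++ tW) ++ h2W

/-- the product of the two conjugates -/
def cW : List Letter := c2W ++ c1W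

/-- the basis of `C_{K0}(a)` modulo the involution: `e0, f0, u, v` -/
def basT : List ℕ := [6, 69, 105, 161]

/-- the images of the basis under conjugation by the generators -/
def imgT : List (List ℕ) :=
  [[69, 298, 105, 338], [340, 69, 307, 251]]

def bas (j : ℕ) : ℕ := basT.getD j 0
def img (i j : ℕ) : ℕ := (imgT.getD i []).getD j 0

/-- sixteen elements of `K0`, an elementary abelian group meeting the centraliser of `a` trivially -/
def flT : List ℕ := [0, 182, 437, 284, 387, 106, 201, 63, 85, 252, 352, 470, 329, 319, 131, 490]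

def fl (i : ℕ) : ℕ := flT.getD i 0

/-- the coordinates in which the products with `a` differ -/
def witT : List ℕ := [3, 3, 3, 9, 3, 3, 3, 14, 6, 6, 6, 8, 15, 6, 6]

def wit (i : ℕ) : ℕ := witT.getD i 0

/-- the permutation of the roots induced by `a` -/
def sigAT : List ℕ := [184, 185, 60, 61, 143, 142, 5, 4, 158, 159, 112, 113, 237, 236, 127, 126, 183, 182, 114, 115, 220, 221, 75, 74, 209, 208, 55, 54, 145, 144, 116, 117, 235, 234, 70, 71, 181, 180, 57, 56, 147, 146, 3, 2, 211, 210, 59, 58, 141, 140, 0, 1, 186, 187, 110, 111, 218, 219, 77, 76, 156, 157, 109, 108, 207, 206, 25, 24, 216, 217, 103, 102, 170, 171, 27, 26, 232, 233, 35, 34, 160, 161, 78, 79, 151, 150, 33, 32, 197, 196, 84, 85, 136, 137, 80, 81, 149, 148, 107, 106, 162, 163, 82, 83, 138, 139, 105, 104, 198, 199, 23, 22, 239, 238, 37, 36, 205, 204, 29, 28, 223, 222, 30, 31, 169, 168, 73, 72, 93, 92, 122, 123, 154, 155, 200, 201, 213, 212,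 167, 166, 63, 62, 97, 96, 125, 124, 90, 91, 6, 7, 40, 41, 120, 121, 176, 177, 191, 190, 87, 86, 69, 68, 133, 132, 231, 230, 99, 98, 118, 119, 192, 193, 175, 174, 89, 88, 101, 100, 129, 128, 229, 228, 67, 66, 12, 13, 224, 225, 135, 134, 42, 43, 14, 15, 172, 173, 195, 194, 49, 48, 44, 45, 226, 227, 131, 130, 10, 11, 16, 17, 188, 189, 179, 178, 47, 46, 95, 94, 21, 20, 38, 39, 164, 165, 203, 202, 53, 52, 19, 18, 152, 153, 215, 214, 9, 8, 51, 50, 64, 65]

def sigA (k : ℕ) : ℕ := sigAT.getD k 0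

/-! ### kernel checks -/

set_option maxRecDepth 1000000

theorem aW_ok : okW aW = true := by decide +kernel
theorem genW_ok : ∀ i < 2, okW (genW i) = true := by decide +kernel
theorem g0W_ok : okW g0W = true := by decide +kernel
theorem g0iW_ok : okW g0iW = true := by decide +kernel
theorem x1iW_ok : okW x1iW = true := by decide +kernel
theorem cW_ok : okW cW = true := by decide +kernel

theorem aW_comm : ∀ k < 24, runW (aW ++ tW) (basisL k) = runW (tW ++ aW) (basisL k) := by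
  decide +kernel

theorem aW_pow : ∀ k < 24,
    runW ((((aW ++ aW) ++ aW) ++ aW) ++ aW) (basisL k) = runW [] (basisL k) := by
  decide +kernel

theorem aW_ne : (runW aW (basisL 0)).getD 0 0 ≠ (runW [] (basisL 0)).getD 0 0 := by
  decide +kernel

theorem genW_comm_t : ∀ i < 2, ∀ k < 24,
    runW (genW i ++ tW) (basisL k) = runW (tW ++ genW i) (basisL k) := by decide +kernel

theorem genW_comm_a : ∀ i < 2, ∀ k < 24,
    runW (genW i ++ aW) (basisL k) = runW (aW ++ genW i) (basisL k) := by decide +kernel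

theorem g0W_comm_a : ∀ k < 24, runW (g0W ++ aW) (basisL k) = runW (aW ++ g0W) (basisL k) := by
  decide +kernel

theorem g0i_chk : ∀ k < 24, runW (g0W ++ g0iW) (basisL k) = runW [] (basisL k) := by
  decide +kernel

theorem x1i_chk : ∀ k < 24, runW (genW 0 ++ x1iW) (basisL k) = runW [] (basisL k) := by
  decide +kernel

theorem cW_comm_t : ∀ k < 24, runW (cW ++ tW) (basisL k) = runW (tW ++ cW) (basisL k) := by
  decide +kernel

theorem bas_comm_a : ∀ j < 4, ∀ k < 24,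
    runW (WN (bas j) ++ aW) (basisL k) = runW (aW ++ WN (bas j)) (basisL k) := by decide +kernel

theorem img_chk : ∀ i < 2, ∀ j < 4, ∀ k < 24,
    runW (WN (bas j) ++ genW i) (basisL k) = runW (genW i ++ WN (img i j)) (basisL k) := by
  decide +kernel

theorem g0_fuse : ∀ k < 24,
    runW (tW ++ g0W) (basisL k) = runW (g0W ++ WN 6 ++ negW) (basisL k) := by decide +kernel

theorem move_chk :
    (runW (WN 69 ++ cW) (basisL 3)).getD 6 0 ≠ (runW (cW ++ WN 69) (basisL 3)).getD 6 0 ∧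
    (runW (WN 69 ++ cW) (basisL 3)).getD 6 0 ≠
      (runW (cW ++ WN 69 ++ tW) (basisL 3)).getD 6 0 := by decide +kernel

theorem fl_chk : ∀ i < 15,
    (runW (aW ++ WN (fl (i + 1))) (basisL 3)).getD (wit i) 0 ≠
      (runW (WN (fl (i + 1)) ++ aW) (basisL 3)).getD (wit i) 0 := by decide +kernel

/-- the action of `a` on the roots -/
theorem sigA_chk : ∀ k < 240, runW aW (r8L k) = r8L (sigA k) := by decide +kernel

end Cfsg.Agent.Helper26.J2Sec
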