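import Cfsg.Agent.Helper26.SecG

/-!
# Simple sections of `Co0`: simplicity and the final statement
-/

set_option autoImplicit false
set_option linter.unusedSectionVars false
set_option linter.style.haveILetI false

namespace Cfsg.Agent.Helper26.SecG

open Cfsg Cfsg.Agent.Helper7 Cfsg.Agent.Helper8 Cfsg.Agent.Helper27 Cfsg.Agent.Helper26.Co2Inv
  Cfsg.Agent.Helper26.Co1Inv Cfsg.Agent.Helper26.SecLocal Cfsg.Agent.Helper26.SecAsm MulAction

section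

variable {ι : Type} [Fintype ι] [DecidableEq ι] {Qm : (ι → ZMod 2) → ZMod 2} {p k : ℕ}
  (D : SecInputG ι Qm p k)

namespace SecInputG

/-- the extraspecial group as a subgroup of the section -/
noncomputable def QS : Subgroup D.Sec := D.PsiX.ker.map D.X1.subtype

theorem mem_QS {y : D.Sec} : y ∈ D.QS ↔ ∃ e ∈ ES D.a, y = D.mk0 e := by
  constructor
  · rintro ⟨x, hx, rfl⟩
    obtain ⟨e, rfl⟩ := (D.mem_ker_iff x).mp hx
    exact ⟨e.1, e.2, rfl⟩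
  · rintro ⟨e, he, rfl⟩
    exact ⟨D.piX (D.eX ⟨e, he⟩), (D.mem_ker_iff _).mpr ⟨_, rfl⟩, rfl⟩

theorem QS_le : D.QS ≤ D.X1 := by
  rintro _ ⟨x, _, rfl⟩
  exact x.2

theorem mem_QS_iff (x : ↥D.X1) : (x : D.Sec) ∈ D.QS ↔ x ∈ D.PsiX.ker := by
  constructor
  · rintro ⟨y, hy, e⟩
    have : y = x := Subtype.ext e
    rwa [← this]
  · intro h
    exact ⟨x, h, rfl⟩

theorem neg_conj (x : ↥Co0) : x = negCo0 * x * negCo0 := by
  rw [mul_assoc, neg_comm x, ← mul_assoc, neg_mul_neg, one_mul]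

/-- the conjugating element -/
noncomputable def gS : D.Sec := D.mk0 D.g0

theorem g0_mem_CA : D.g0 ∈ D.CA := D.mem_CA.mpr D.hg0

theorem conj_zS : D.gS * D.zS * D.gS⁻¹ = D.mk0 D.s := by
  unfold gS zS
  rw [← D.mk0_conj D.g0_mem_CA D.tE_mem_CA, D.hconj]
  have hs := D.ES_le_CA D.hs
  have hn : negCo0 * D.s ∈ D.CA := D.CA.mul_mem (D.AZ_le_CA D.neg_mem_AZ) hs
  rw [D.mk0_eq_iff hn hs]
  exact ⟨negCo0, D.neg_mem_AZ, neg_conj _⟩

theorem conj_zS_ne : D.gS * D.zS * D.gS⁻¹ ≠ D.zS := by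
  rw [conj_zS]
  intro h
  exact D.hs1 (D.mk0_inj_K0 D.hs D.tE_mem_ES h)

theorem conj_zS_mem : D.gS * D.zS * D.gS⁻¹ ∈ D.QS := by
  rw [conj_zS]
  exact D.mem_QS.mpr ⟨D.s, D.hs, rfl⟩

variable [hS : IsSimpleGroup ↥(Cfsg.Omega (ZMod 2) Qm)]

/-- the outer element lies in the normal closure of the involution -/
theorem mk0_c_mem : D.mk0 D.c ∈ Subgroup.normalClosure ({D.zS} : Set D.Sec) := by
  set NC : Subgroup D.Sec := Subgroup.normalClosure ({D.zS} : Set D.Sec) with hNC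
  have hz : D.zS ∈ NC := Subgroup.subset_normalClosure rfl
  have hNn : NC.Normal := Subgroup.normalClosure_normal
  let M : Subgroup ↥Co0 := (NC.comap (QuotientGroup.mk' D.B)).map D.CA.subtype
  have hM : ∀ g : ↥Co0, g ∈ M ↔ g ∈ D.CA ∧ D.mk0 g ∈ NC := by
    intro g
    constructor
    · rintro ⟨x, hx, rfl⟩
      refine ⟨x.2, ?_⟩
      show D.mk0 x.1 ∈ NC
      rw [D.mk0_of x.2]
      exact hx
    · rintro ⟨hg, h⟩
      refine ⟨⟨g, hg⟩, ?_, rfl⟩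
      rw [D.mk0_of hg] at h
      exact h
  have h1 : negCo0 ∈ M := by
    refine (hM _).mpr ⟨D.AZ_le_CA D.neg_mem_AZ, ?_⟩
    have e : D.mk0 negCo0 = D.mk0 1 := by
      rw [D.mk0_eq_iff (D.AZ_le_CA D.neg_mem_AZ) D.CA.one_mem]
      exact ⟨negCo0, D.neg_mem_AZ, by rw [neg_mul_neg]⟩
    rw [e, mk0_one]
    exact NC.one_mem
  have h2 : ∀ g : ↥Co0, g * D.a = D.a * g → g * tE * g⁻¹ ∈ M := by
    intro g hg
    have hg' : g ∈ D.CA := D.mem_CA.mpr hg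
    refine (hM _).mpr ⟨D.CA.mul_mem (D.CA.mul_mem hg' D.tE_mem_CA) (D.CA.inv_mem hg'), ?_⟩
    rw [D.mk0_conj hg' D.tE_mem_CA]
    exact hNn.conj_mem _ hz _
  exact ((hM _).mp (D.hc M h1 h2)).2

theorem mk0_c_not_mem : D.mk0 D.c ∉ D.QS := by
  intro h
  obtain ⟨e, he, h1⟩ := D.mem_QS.mp h
  obtain ⟨w, hw, h2⟩ := (D.mk0_eq_iff (D.XS_le_CA D.hcX) (D.ES_le_CA he)).mp h1
  -- `e = c * w`
  have hwi : w⁻¹ ∈ AZS D.a := (AZS D.a).inv_mem hw
  have hc : D.c = e * w⁻¹ := by rw [h2, mul_inv_cancel_right]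
  have hcomm : w⁻¹ * D.em = D.em * w⁻¹ := D.AZ_comm hwi (D.ES_le_CA D.hem)
  have e1 : D.c * D.em * D.c⁻¹ = e * D.em * e⁻¹ := by
    rw [hc]
    calc e * w⁻¹ * D.em * (e * w⁻¹)⁻¹ = e * (w⁻¹ * D.em) * w * e⁻¹ := by group
      _ = e * (D.em * w⁻¹) * w * e⁻¹ := by rw [hcomm]
      _ = _ := by group
  rcases K0_comm he.1 D.hem.1 with h3 | h3
  · apply D.hmove1
    rw [e1, h3, mul_inv_cancel_right]
  · apply D.hmove2
    rw [e1, h3]
    group

theorem localData : LocalData D.zS D.QS where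
  hz1 := D.zS_ne_one
  hz2 := D.zS_mul_self
  hQC := D.QS_le
  hQn := by
    intro c hc q hq
    obtain ⟨x, hx, rfl⟩ := hq
    have hn : D.PsiX.ker.Normal := MonoidHom.normal_ker D.PsiX
    exact ⟨⟨c, hc⟩ * x * ⟨c, hc⟩⁻¹, hn.conj_mem x hx ⟨c, hc⟩, rfl⟩
  hQ2 := D.isPGroup_ker.map D.X1.subtype
  hzQ := D.mem_QS.mpr ⟨tE, D.tE_mem_ES, rfl⟩
  hZQ := by
    intro q hq hc
    obtain ⟨e, he, rfl⟩ := D.mem_QS.mp hq
    have h1 : ∀ e' ∈ ES D.a, e' * e = e * e' := by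
      intro e' he'
      have h2 := hc (D.mk0 e') (D.mem_QS.mpr ⟨e', he', rfl⟩)
      rw [← D.mk0_mul (D.ES_le_CA he') (D.ES_le_CA he),
        ← D.mk0_mul (D.ES_le_CA he) (D.ES_le_CA he')] at h2
      exact D.mk0_inj_K0 ((ES D.a).mul_mem he' he) ((ES D.a).mul_mem he he') h2
    rcases D.hcen e he h1 with h | h
    · left; rw [h, mk0_one]
    · right; rw [h]; rfl
  hcomm := by
    intro x hx y hy
    obtain ⟨e, he, rfl⟩ := D.mem_QS.mp hx
    obtain ⟨e', he', rfl⟩ := D.mem_QS.mp hy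
    exact D.comm_mk0 he he'
  hCQ := by
    intro c hc hq
    have h1 : (⟨c, hc⟩ : ↥D.X1) ∈ Subgroup.centralizer (D.PsiX.ker : Set ↥D.X1) := by
      rw [Subgroup.mem_centralizer_iff]
      intro y hy
      apply Subtype.ext
      exact hq y.1 ((D.mem_QS_iff y).mpr hy)
    exact (D.mem_QS_iff ⟨c, hc⟩).mpr (D.cent_ker_le h1)
  hmax := by
    intro M hQM hMC hinv
    have hn : (M.subgroupOf D.X1).Normal := by
      refine ⟨fun n hn g => ?_⟩
      rw [Subgroup.mem_subgroupOf] at hn ⊢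
      exact hinv g.1 g.2 n.1 hn
    have hmap : ((M.subgroupOf D.X1).map D.PsiX).Normal := Subgroup.Normal.map hn D.PsiX D.PsiX_surj
    rcases hmap.eq_bot_or_eq_top with h | h
    · left
      apply le_antisymm _ hQM
      intro m hm
      have h1 : (⟨m, hMC hm⟩ : ↥D.X1) ∈ D.PsiX.ker := by
        apply (Subgroup.map_eq_bot_iff _).mp h
        exact Subgroup.mem_subgroupOf.mpr hm
      exact (D.mem_QS_iff ⟨m, hMC hm⟩).mpr h1
    · right
      apply le_antisymm hMC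
      intro x hx
      have hxm : D.PsiX ⟨x, hx⟩ ∈ (M.subgroupOf D.X1).map D.PsiX := by
        rw [h]
        trivial
      obtain ⟨m, hm, hmx⟩ := hxm
      have hk : m⁻¹ * ⟨x, hx⟩ ∈ D.PsiX.ker := by
        rw [MonoidHom.mem_ker, map_mul, map_inv, hmx, inv_mul_cancel]
      have hkM : ((m⁻¹ * ⟨x, hx⟩ : ↥D.X1) : D.Sec) ∈ M := hQM ((D.mem_QS_iff _).mpr hk)
      have hmM : (m : D.Sec) ∈ M := Subgroup.mem_subgroupOf.mp hm
      have : x = (m : D.Sec) * ((m⁻¹ * ⟨x, hx⟩ : ↥D.X1) : D.Sec) := by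
        show x = (m : D.Sec) * ((m : D.Sec)⁻¹ * x)
        rw [mul_inv_cancel_left]
      rw [this]
      exact M.mul_mem hmM hkM
  hconj := ⟨D.gS, D.conj_zS_mem, D.conj_zS_ne⟩
  hgen := by
    set NC : Subgroup D.Sec := Subgroup.normalClosure ({D.zS} : Set D.Sec) with hNC
    have hz : D.zS ∈ NC := Subgroup.subset_normalClosure rfl
    have hNn : NC.Normal := Subgroup.normalClosure_normal
    -- the preimage
    let M : Subgroup ↥Co0 := (NC.comap (QuotientGroup.mk' D.B)).map D.CA.subtype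
    have hM : ∀ g : ↥Co0, g ∈ M ↔ g ∈ D.CA ∧ D.mk0 g ∈ NC := by
      intro g
      constructor
      · rintro ⟨x, hx, rfl⟩
        refine ⟨x.2, ?_⟩
        show D.mk0 x.1 ∈ NC
        rw [D.mk0_of x.2]
        exact hx
      · rintro ⟨hg, h⟩
        refine ⟨⟨g, hg⟩, ?_, rfl⟩
        rw [D.mk0_of hg] at h
        exact h
    have h1 : tE ∈ M := (hM _).mpr ⟨D.tE_mem_CA, hz⟩
    have h2 : D.s ∈ M := by
      refine (hM _).mpr ⟨D.ES_le_CA D.hs, ?_⟩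
      rw [← D.conj_zS]
      exact hNn.conj_mem _ hz _
    have h3 : ∀ x ∈ XS D.a, ∀ m ∈ M, x * m * x⁻¹ ∈ M := by
      intro x hx m hm
      obtain ⟨hm1, hm2⟩ := (hM m).mp hm
      have hx' := D.XS_le_CA hx
      refine (hM _).mpr ⟨D.CA.mul_mem (D.CA.mul_mem hx' hm1) (D.CA.inv_mem hx'), ?_⟩
      rw [D.mk0_conj hx' hm1]
      exact hNn.conj_mem _ hm2 _
    have h4 := D.hgen M h1 h2 h3
    intro y hy
    obtain ⟨e, he, rfl⟩ := D.mem_QS.mp hy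
    exact ((hM e).mp (h4 he)).2
  hout := by
    refine ⟨D.mk0 D.c, (D.mem_X1 (D.XS_le_CA D.hcX)).mpr D.hcX.1, D.mk0_c_not_mem, ?_⟩
    exact D.mk0_c_mem

theorem simple_Sec : IsSimpleGroup D.Sec := D.localData.isSimpleGroup

theorem not_comm_Sec : ¬ IsMulCommutative D.Sec := by
  intro h
  obtain ⟨e, he, e', he', hne⟩ := D.hnc
  have h1 := (isMulCommutative_iff.mp h) (D.mk0 e) (D.mk0 e')
  rw [← D.mk0_mul (D.ES_le_CA he) (D.ES_le_CA he'),
    ← D.mk0_mul (D.ES_le_CA he') (D.ES_le_CA he)] at h1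
  exact hne (D.mk0_inj_K0 ((ES D.a).mul_mem he he') ((ES D.a).mul_mem he' he) h1)

end SecInputG

/-- **the section is simple and satisfies the large extraspecial hypothesis** -/
theorem main_of_inputG (D : SecInputG ι Qm p k) : ∃ A : Subgroup ↥Cfsg.Co0, Nat.card A = p ∧ ∃ (hn : ((A ⊔ Subgroup.center ↥Cfsg.Co0).subgroupOf (Subgroup.centralizer (A : Set ↥Cfsg.Co0))).Normal), ∃ (S : Type) (_ : Group S) (_ : Finite S), Nonempty (S ≃* ↥(Subgroup.centralizer (A : Set ↥Cfsg.Co0)) ⧸ (A ⊔ Subgroup.center ↥Cfsg.Co0).subgroupOf (Subgroup.centralizer (A : Set ↥Cfsg.Co0))) ∧ IsSimpleGroup S ∧ ¬ IsMulCommutative S ∧ ∃ z : S, orderOf z = 2 ∧ ∃ (Q : Subgroup (Subgroup.centralizer ({z} : Set S))) (_ : Q.Normal), Cfsg.generalizedFittingSubgroup (Subgroup.centralizer ({z} : Set S)) = Q ∧ Cfsg.IsExtraspecial 2 Q ∧ Nat.card Q = 2 ^ k ∧ Nonempty ((Subgroup.centralizer ({z} : Set S)) ⧸ Q ≃* Cfsg.Omega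 (ZMod 2) Qm) ∧ ∃ g : S, (∃ hq : g * z * g⁻¹ ∈ Subgroup.centralizer ({z} : Set S), (⟨g * z * g⁻¹, hq⟩ : Subgroup.centralizer ({z} : Set S)) ∈ Q) ∧ g * z * g⁻¹ ≠ z := by
  haveI := D.hsimple
  refine ⟨D.A, D.card_A, D.normal_B, D.Sec, inferInstance, inferInstance, ⟨MulEquiv.refl _⟩,
    D.simple_Sec, D.not_comm_Sec, D.zS, D.orderOf_zS, D.PsiX.ker, MonoidHom.normal_ker D.PsiX,
    D.gfs_X1, D.extraspecial_ker, D.card_ker,
    ⟨QuotientGroup.quotientKerEquivOfSurjective D.PsiX D.PsiX_surj⟩, D.gS, ?_, D.conj_zS_ne⟩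
  have hq : D.gS * D.zS * D.gS⁻¹ ∈ D.X1 := D.QS_le D.conj_zS_mem
  exact ⟨hq, (D.mem_QS_iff ⟨_, hq⟩).mp D.conj_zS_mem⟩

end

end Cfsg.Agent.Helper26.SecG
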