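import Cfsg.Agent.Helper26.J2Count
import Cfsg.Agent.Helper26.SecG2

/-!
# The Hall–Janko section of `Co0`: the theorem
-/

set_option autoImplicit false

namespace Cfsg.Agent.Helper26.J2Sec

open Cfsg Cfsg.Agent.Helper7 Cfsg.Agent.Helper8 Cfsg.Agent.Helper27 Cfsg.Agent.Helper26.Co2Inv
  Cfsg.Agent.Helper26.Co1Inv Cfsg.Agent.Helper26.SecAsm Cfsg.Agent.Helper26.SecG
  Cfsg.Agent.Helper26.ExCoord Cfsg.Agent.Helper26.OmegaM4 Cfsg.Agent.Helper26.SecLocal
  MulAction Matrix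
open Cfsg.Agent.Helper26.SuzSec (WN WN_ok wE acts_wE acts_one acts_eN comm_of_chk tb eqT eqT_iff
  cmT eN_comm_iff cP_eN tabPL qP_of_tab)

set_option maxRecDepth 1000000

/-- the element of order five -/
noncomputable def baseS : SecBase 5 := ⟨aE, by decide, orderOf_aE, aE_mem_N⟩

theorem rho0_eq_one_iff (x : ↥(XS aE)) : rho0 x = 1 ↔
    ∀ j : I4, x.1 * bE j * x.1⁻¹ = bE j ∨ x.1 * bE j * x.1⁻¹ = tE * bE j :=
  frame.rho_eq_one_iff _ Qf_eq x

theorem conj_K0 {e b : ↥Co0} (he : e ∈ K0) (hb : b ∈ K0) :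
    e * b * e⁻¹ = b ∨ e * b * e⁻¹ = tE * b := by
  rcases K0_comm he hb with h | h
  · left
    rw [h, mul_inv_cancel_right]
  · right
    rw [h]
    group

theorem rho0_trivial : ∀ e ∈ ES aE, ∀ w ∈ AZS aE, ∀ h : e * w ∈ XS aE,
    rho0 ⟨e * w, h⟩ = 1 := by
  intro e he w hw h
  rw [rho0_eq_one_iff]
  intro j
  have hb := bE_mem j
  have hc : w * bE j = bE j * w := baseS.AZ_comm hw (baseS.ES_le_CA hb)
  have e1 : (e * w) * bE j * (e * w)⁻¹ = e * bE j * e⁻¹ := by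
    calc (e * w) * bE j * (e * w)⁻¹ = e * (w * bE j) * w⁻¹ * e⁻¹ := by group
      _ = e * (bE j * w) * w⁻¹ * e⁻¹ := by rw [hc]
      _ = _ := by group
  show (e * w) * bE j * (e * w)⁻¹ = bE j ∨ (e * w) * bE j * (e * w)⁻¹ = tE * bE j
  rw [e1]
  exact conj_K0 he.1 hb.1

theorem count_S : Nat.card ↥rho0.range = 60 ∧
    ∀ x : ↥(XS aE), rho0 x = 1 → ∃ e ∈ ES aE, ∃ w ∈ AZS aE, x.1 = e * w := by
  apply baseS.count rho0 rho0_trivial 60 (by norm_num) _ card_range_ge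
  show Nat.card ↥(XS aE) ≤ Nat.card ↥(ES aE) * (2 * 5) * 60
  rw [card_ES]
  exact card_XS_le

theorem range_rho0 : rho0.range = Om4 := eq_Om4_of_card _ count_S.1

/-- the homomorphism onto the commutator subgroup of the orthogonal group -/
noncomputable def rhoS : ↥(XS aE) →* ↥Om4 :=
  rho0.codRestrict Om4 (fun x => by rw [← range_rho0]; exact ⟨x, rfl⟩)

theorem rhoS_surj : Function.Surjective rhoS := by
  rintro ⟨y, hy⟩
  rw [← range_rho0] at hy
  obtain ⟨x, rfl⟩ := hy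
  exact ⟨x, rfl⟩

theorem rhoS_eq_one_iff (x : ↥(XS aE)) : rhoS x = 1 ↔ rho0 x = 1 := by
  rw [Subtype.ext_iff]
  rfl

theorem rhoS_ker (x : ↥(XS aE)) :
    rhoS x = 1 ↔ ∃ e ∈ ES aE, ∃ c ∈ AZS aE, x.1 = e * c := by
  rw [rhoS_eq_one_iff]
  constructor
  · exact count_S.2 x
  · rintro ⟨e, he, c, hc, h⟩
    have hm : e * c ∈ XS aE := by rw [← h]; exact x.2
    have : x = ⟨e * c, hm⟩ := Subtype.ext h
    rw [this]
    exact rho0_trivial e he c hc hm

/-! ### the centre of `E` -/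

theorem cen_ES : ∀ e ∈ ES aE, (∀ e' ∈ ES aE, e' * e = e * e') → e = 1 ∨ e = tE := by
  intro e he hc
  apply frame.eq_of_cvec_zero he
  funext i
  exact cP_eq_zero (hc _ (dE_mem i)).symm

theorem nc_ES : ∃ e ∈ ES aE, ∃ e' ∈ ES aE, e * e' ≠ e' * e := by
  refine ⟨bE (.inr 0), bE_mem _, dE (.inr 0), dE_mem _, ?_⟩
  intro h
  have h1 := frame.hbd (.inr 0) (.inr 0)
  rw [if_pos rfl] at h1
  have h2 : cP (bE (.inr 0)) (dE (.inr 0)) = 0 := cP_eq_zero h
  have h3 : cP (frame.b (.inr 0)) (frame.d (.inr 0)) = cP (bE (.inr 0)) (dE (.inr 0)) := rfl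
  rw [h3, h2] at h1
  exact absurd h1 (by decide)

/-! ### the fusing element -/

theorem h6 : (6 : ℕ) < 512 := by norm_num

theorem s6_mem : eN 6 ∈ ES aE := bas_mem (by norm_num : 0 < 4)

theorem s6_ne : eN 6 ≠ tE := by
  intro h
  have h1 := eN_tab h6
  rw [h] at h1
  have h2 := hasTab_tE.unique h1
  revert h2
  decide +kernel

theorem g0_tE : g0E * tE = negCo0 * (eN 6 * g0E) :=
  Acts.ext (acts_tE.mul acts_g0E) ((acts_g0E.mul (acts_eN h6)).mul acts_neg)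
    (okW_append tW_ok g0W_ok) (okW_append (okW_append g0W_ok (WN_ok 6 h6)) negW_ok) g0_fuse

theorem g0_conj : g0E * tE * g0E⁻¹ = negCo0 * eN 6 := by
  rw [g0_tE, ← mul_assoc, mul_inv_cancel_right]

/-! ### the moving element -/

theorem h69 : (69 : ℕ) < 512 := by norm_num

theorem e69_mem : eN 69 ∈ ES aE := bas_mem (by norm_num : 1 < 4)

theorem move1 : cE * eN 69 * cE⁻¹ ≠ eN 69 := by
  intro h
  have h1 : cE * eN 69 = eN 69 * cE := by
    calc cE * eN 69 = (cE * eN 69 * cE⁻¹) * cE := by group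
      _ = eN 69 * cE := by rw [h]
  exact Acts.ne ((acts_eN h69).mul acts_cE) (acts_cE.mul (acts_eN h69))
    (okW_append (WN_ok 69 h69) cW_ok) (okW_append cW_ok (WN_ok 69 h69)) (by norm_num) (by norm_num)
    move_chk.1 h1

theorem move2 : cE * eN 69 * cE⁻¹ ≠ tE * eN 69 := by
  intro h
  have h1 : cE * eN 69 = tE * (eN 69 * cE) := by
    calc cE * eN 69 = (cE * eN 69 * cE⁻¹) * cE := by group
      _ = tE * eN 69 * cE := by rw [h]
      _ = tE * (eN 69 * cE) := mul_assoc _ _ _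
  exact Acts.ne ((acts_eN h69).mul acts_cE) ((acts_cE.mul (acts_eN h69)).mul acts_tE)
    (okW_append (WN_ok 69 h69) cW_ok) (okW_append (okW_append cW_ok (WN_ok 69 h69)) tW_ok)
    (by norm_num) (by norm_num) move_chk.2 h1

/-! ### generation -/

/-- the words conjugating the fused involution to a generating set -/
def hgW : List (List ℕ) := [[], [0], [0, 0], [1]]

/-- the coordinates of the conjugate by the `i`-th word -/
def hgV (i : ℕ) : ℕ := actW (hgW.getD i []) 1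

/-- the sum of the coordinates along a list of indices -/
def xl : List ℕ → ℕ
  | [] => 0
  | i :: l => hgV i ^^^ xl l

theorem cvN6 : cvN 6 = 1 := by decide +kernel

theorem hgW_ok : ∀ i < 4, ∀ j ∈ hgW.getD i [], j < 2 := by decide

theorem bitsV4_xor : ∀ a < 16, ∀ b < 16, a ^^^ b < 16 ∧
    bitsV4 (a ^^^ b) = bitsV4 a + bitsV4 b := by decide +kernel

theorem span_chk : ∀ n < 16, ∃ l ∈ [0, 1, 2, 3].sublists, xl l = n := by decide +kernel

theorem bitsV4_zero : bitsV4 0 = 0 := by decide +kernel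

theorem gen_ES : ∀ M : Subgroup ↥Co0, tE ∈ M → eN 6 ∈ M →
    (∀ x ∈ XS aE, ∀ m ∈ M, x * m * x⁻¹ ∈ M) → ES aE ≤ M := by
  intro M hz hs hinv
  -- the conjugates
  let gc : ℕ → ↥Co0 := fun i => (xW (hgW.getD i [])).1 * eN 6 * (xW (hgW.getD i [])).1⁻¹
  have hgc : ∀ i < 4, gc i ∈ M ∧ gc i ∈ ES aE ∧ hgV i < 16 ∧ frame.cvec (gc i) = bitsV4 (hgV i) := by
    intro i hi
    refine ⟨hinv _ (xW _).2 _ hs, ES_normal' (xW _).2 s6_mem, ?_, ?_⟩
    · exact (act_xW _ (hgW_ok i hi) (by norm_num : 1 < 16)).1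
    · have h1 := frame.cvec_conj (x := (xW (hgW.getD i [])).1) (xW _).2 s6_mem
      rw [cvec_eN h6, cvN6] at h1
      have h2 := (act_xW _ (hgW_ok i hi) (by norm_num : 1 < 16)).2
      unfold act at h2
      rw [rho0_val] at h2
      exact h1.trans h2
  -- products
  have hprod : ∀ l : List ℕ, (∀ i ∈ l, i < 4) → ∃ g : ↥Co0, g ∈ M ∧ g ∈ ES aE ∧ xl l < 16 ∧
      frame.cvec g = bitsV4 (xl l) := by
    intro l
    induction l with
    | nil =>
      intro _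
      refine ⟨1, M.one_mem, (ES aE).one_mem, by decide, ?_⟩
      rw [frame.cvec_one]
      exact bitsV4_zero.symm
    | cons i l ih =>
      intro hl
      obtain ⟨g, g1, g2, g3, g4⟩ := ih (fun j hj => hl j (List.mem_cons_of_mem _ hj))
      obtain ⟨c1, c2, c3, c4⟩ := hgc i (hl i List.mem_cons_self)
      obtain ⟨x1, x2⟩ := bitsV4_xor _ c3 _ g3
      refine ⟨gc i * g, M.mul_mem c1 g1, (ES aE).mul_mem c2 g2, x1, ?_⟩
      rw [frame.cvec_mul c2.1 g2.1, c4, g4]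
      exact x2.symm
  intro e he
  obtain ⟨hn, hv⟩ := bitsV4_enc (frame.cvec e)
  obtain ⟨l, hl, hx⟩ := span_chk _ hn
  have hl4 : ∀ i ∈ l, i < 4 := by
    intro i hi
    have h1 := (List.mem_sublists.mp hl).subset hi
    have h2 : ∀ j ∈ [0, 1, 2, 3], j < 4 := by decide
    exact h2 i h1
  obtain ⟨g, g1, g2, _, g4⟩ := hprod l hl4
  rw [hx, hv] at g4
  rcases frame.eq_of_cvec_eq he g2 g4.symm with h | h
  · rw [h]; exact g1
  · rw [h]; exact M.mul_mem hz g1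

/-! ### the theorem -/

/-- the input of the construction -/
noncomputable def inputJ : SecInputG I4 (Cfsg.quadFormMinus 1 (ZMod 2) 1 1) 5 5 where
  toSecBase := baseS
  rho := rhoS
  hsurj := rhoS_surj
  hker := rhoS_ker
  hsimple := simple_Om4
  hnot2 := not_isPGroup_Om4
  hcard := card_ES
  hcen := cen_ES
  hnc := nc_ES
  g0 := g0E
  s := eN 6
  hg0 := g0E_comm
  hs := s6_mem
  hs1 := s6_ne
  hconj := g0_conj
  hgen := gen_ES
  c := cE
  hcX := cE_mem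
  hc := cE_closure
  em := eN 69
  hem := e69_mem
  hmove1 := move1
  hmove2 := move2

theorem main : ∃ A : Subgroup ↥Cfsg.Co0, Nat.card A = 5 ∧ ∃ (hn : ((A ⊔ Subgroup.center ↥Cfsg.Co0).subgroupOf (Subgroup.centralizer (A : Set ↥Cfsg.Co0))).Normal), ∃ (S : Type) (_ : Group S) (_ : Finite S), Nonempty (S ≃* ↥(Subgroup.centralizer (A : Set ↥Cfsg.Co0)) ⧸ (A ⊔ Subgroup.center ↥Cfsg.Co0).subgroupOf (Subgroup.centralizer (A : Set ↥Cfsg.Co0))) ∧ IsSimpleGroup S ∧ ¬ IsMulCommutative S ∧ ∃ z : S, orderOf z = 2 ∧ ∃ (Q : Subgroup (Subgroup.centralizer ({z} : Set S))) (_ : Q.Normal), Cfsg.generalizedFittingSubgroup (Subgroup.centralizer ({z} : Set S)) = Q ∧ Cfsg.IsExtraspecial 2 Q ∧ Nat.card Q = 2 ^ 5 ∧ Nonempty ((Subgroup.centralizer ({z} : Set S)) ⧸ Q ≃* Cfsg.Omega (ZMod 2) (Cfsg.quadFormMinus 1 (ZMod 2) 1 1)) ∧ ∃ g : S, (∃ hq : g * z * g⁻¹ ∈ Subgroup.centralizer ({z} : Set S), (⟨g * z * g⁻¹, hq⟩ : Subgroup.centralizer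 ({z} : Set S)) ∈ Q) ∧ g * z * g⁻¹ ≠ z :=
  main_of_inputG inputJ

end Cfsg.Agent.Helper26.J2Sec
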