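import Mathlib
import Cfsg.Agent.Helper5.OrthSimpleStd
import Cfsg.Agent.Helper5.GrpIndex
import Cfsg.Agent.S0288

/-!
# The orthogonal group of minus type in dimension 4 over the field with two elements

It acts faithfully on its five singular vectors, hence is the symmetric group of degree five; its
commutator subgroup has order 60, index 2 and is simple.
-/

set_option autoImplicit false
set_option linter.unusedSectionVars false
set_option linter.unusedSimpArgs false

namespace Cfsg.Agent.Helper26.OmegaM4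

open Matrix QuadraticMap Module Cfsg Cfsg.Agent.Helper5 Cfsg.Agent.Helper44
  Cfsg.Agent.Helper45.OmegaParity Equiv

/-- the index type of the four coordinates -/
abbrev I4 : Type := (Fin 1 ⊕ Fin 1) ⊕ Fin 2

theorem hab4 : ∀ z₁ z₂ : ZMod 2, z₁ ^ 2 + 1 * z₁ * z₂ + 1 * z₂ ^ 2 = 0 → z₁ = 0 ∧ z₂ = 0 := by
  decide

/-- the quadratic form -/
noncomputable abbrev Q4 : QuadraticForm (ZMod 2) (I4 → ZMod 2) := minusForm 1 (ZMod 2) 1 1

theorem card_I4 : Fintype.card I4 = 4 := by decide

/-- the isometry group -/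
abbrev O4 : Subgroup (GL I4 (ZMod 2)) :=
  Cfsg.isometryGroup (ZMod 2) (Cfsg.quadFormMinus 1 (ZMod 2) 1 1)

/-- its commutator subgroup -/
abbrev Om4 : Subgroup ↥O4 := Cfsg.Omega (ZMod 2) (Cfsg.quadFormMinus 1 (ZMod 2) 1 1)

theorem card_O4 : Nat.card ↥O4 = 120 := by
  have h := Cfsg.Agent.S0288.result (F := ZMod 2) (q := 2) (ZMod.card 2) 2 (by norm_num) 1 1 hab4
  rw [h]
  norm_num [Finset.prod_range_succ]

instance finite_O4 : Finite ↥O4 := Nat.finite_of_card_ne_zero (by rw [card_O4]; norm_num)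

/-- the nonzero singular vectors -/
abbrev SV : Type := {v : I4 → ZMod 2 // v ≠ 0 ∧ Cfsg.quadFormMinus 1 (ZMod 2) 1 1 v = 0}

set_option maxRecDepth 100000 in
theorem card_SV : Fintype.card SV = 5 := by decide +kernel

/-- the action on the singular vectors -/
noncomputable def smulSV (g : ↥O4) (s : SV) : SV :=
  ⟨lin Q4 g s.1, by
    constructor
    · intro h
      apply s.2.1
      apply lin_injective Q4 g
      rw [h, map_zero]
    · exact (lin_isometry Q4 g s.1).trans s.2.2⟩

noncomputable instance mulActionSV : MulAction ↥O4 SV where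
  smul := smulSV
  one_smul s := Subtype.ext (lin_one_apply Q4 s.1)
  mul_smul g h s := Subtype.ext (lin_mul_apply Q4 g h s.1)

theorem smul_val (g : ↥O4) (s : SV) : ((g • s : SV) : I4 → ZMod 2) = lin Q4 g s.1 := rfl

/-- the standard basis -/
def bv (i : I4) : I4 → ZMod 2 := Pi.single i 1

/-- four singular vectors -/
def w1 : I4 → ZMod 2 := bv (.inl (.inl 0))
def w2 : I4 → ZMod 2 := bv (.inl (.inr 0))
def w3 : I4 → ZMod 2 := bv (.inl (.inl 0)) + bv (.inl (.inr 0)) + bv (.inr 0)
def w4 : I4 → ZMod 2 := bv (.inl (.inl 0)) + bv (.inl (.inr 0)) + bv (.inr 1)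

set_option maxRecDepth 100000 in
theorem w_sing : (w1 ≠ 0 ∧ Cfsg.quadFormMinus 1 (ZMod 2) 1 1 w1 = 0) ∧
    (w2 ≠ 0 ∧ Cfsg.quadFormMinus 1 (ZMod 2) 1 1 w2 = 0) ∧
    (w3 ≠ 0 ∧ Cfsg.quadFormMinus 1 (ZMod 2) 1 1 w3 = 0) ∧
    (w4 ≠ 0 ∧ Cfsg.quadFormMinus 1 (ZMod 2) 1 1 w4 = 0) := by decide +kernel

set_option maxRecDepth 100000 in
theorem bv_eq : bv (.inr 0) = w1 + w2 + w3 ∧ bv (.inr 1) = w1 + w2 + w4 := by decide +kernel

theorem toPerm_injective : Function.Injective (MulAction.toPermHom ↥O4 SV) := by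
  rw [injective_iff_map_eq_one]
  intro g hg
  have hfix : ∀ s : SV, lin Q4 g s.1 = s.1 := by
    intro s
    have h1 : (MulAction.toPermHom ↥O4 SV g) s = s := by rw [hg]; rfl
    exact congrArg Subtype.val h1
  obtain ⟨s1, s2, s3, s4⟩ := w_sing
  have f1 : lin Q4 g w1 = w1 := hfix ⟨w1, s1⟩
  have f2 : lin Q4 g w2 = w2 := hfix ⟨w2, s2⟩
  have f3 : lin Q4 g w3 = w3 := hfix ⟨w3, s3⟩
  have f4 : lin Q4 g w4 = w4 := hfix ⟨w4, s4⟩
  have hb : ∀ i : I4, lin Q4 g (bv i) = bv i := by
    intro i
    rcases i with ((j | j) | j)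
    · fin_cases j
      exact f1
    · fin_cases j
      exact f2
    · fin_cases j
      · show lin Q4 g (bv (.inr 0)) = bv (.inr 0)
        rw [bv_eq.1, map_add, map_add, f1, f2, f3]
      · show lin Q4 g (bv (.inr 1)) = bv (.inr 1)
        rw [bv_eq.2, map_add, map_add, f1, f2, f4]
  have hid : lin Q4 g = LinearMap.id := by
    apply LinearMap.pi_ext
    intro i c
    have hc : c = 0 ∨ c = 1 := by
      fin_cases c
      · left; rfl
      · right; rfl
    rcases hc with rfl | rfl
    · rw [Pi.single_zero, map_zero, map_zero]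
    · exact hb i
  apply isom_ext Q4
  intro x
  have h1 : lin Q4 g x = x := by rw [hid]; rfl
  exact h1.trans (lin_one_apply Q4 x).symm

theorem card_perm_SV : Nat.card (Perm SV) = 120 := by
  rw [Nat.card_perm, Nat.card_eq_fintype_card, card_SV]
  rfl

/-- the isometry group is the symmetric group of degree five -/
noncomputable def eqv : ↥O4 ≃* Perm SV :=
  MulEquiv.ofBijective (MulAction.toPermHom ↥O4 SV)
    (toPerm_injective.bijective_of_nat_card_le (by rw [card_perm_SV, card_O4]))

theorem five_le : 5 ≤ Nat.card SV := by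
  rw [Nat.card_eq_fintype_card, card_SV]

theorem map_Om4 : Om4.map eqv.toMonoidHom = alternatingGroup SV := by
  rw [← alternatingGroup.commutator_perm_eq five_le]
  show (commutator ↥O4).map eqv.toMonoidHom = commutator (Perm SV)
  rw [commutator_def, Subgroup.map_commutator,
    Subgroup.map_top_of_surjective eqv.toMonoidHom eqv.surjective, ← commutator_def]

/-- the commutator subgroup is the alternating group of degree five -/
noncomputable def eqvOm : ↥Om4 ≃* ↥(alternatingGroup SV) :=
  (eqv.subgroupMap Om4).trans (MulEquiv.subgroupCongr map_Om4)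

instance nontrivial_SV : Nontrivial SV := by
  rw [← Fintype.one_lt_card_iff_nontrivial, card_SV]
  norm_num

theorem card_Om4 : Nat.card ↥Om4 = 60 := by
  rw [Nat.card_congr eqvOm.toEquiv, nat_card_alternatingGroup, Nat.card_eq_fintype_card, card_SV]
  rfl

instance simple_Om4 : IsSimpleGroup ↥Om4 := by
  have : IsSimpleGroup ↥(alternatingGroup SV) := alternatingGroup.isSimpleGroup five_le
  exact eqvOm.isSimpleGroup

theorem not_isPGroup_Om4 : ¬ IsPGroup 2 ↥Om4 := by
  intro hp
  obtain ⟨k, hk⟩ := hp.exists_card_eq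
  rw [card_Om4] at hk
  have h3 : (3 : ℕ) ∣ 2 ^ k := by rw [← hk]; norm_num
  have := Nat.Prime.dvd_of_dvd_pow Nat.prime_three h3
  omega

/-- a subgroup of the isometry group of the order of the commutator subgroup is that subgroup -/
theorem eq_Om4_of_card (H : Subgroup ↥O4) (hH : Nat.card ↥H = 60) : H = Om4 := by
  have hidx : H.index = 2 := by
    have h := Subgroup.card_mul_index H
    rw [hH, card_O4] at h
    omega
  have hle : Om4 ≤ H := commutator_le_of_index_two H hidx
  exact (Subgroup.eq_of_le_of_card_ge hle (by rw [hH, card_Om4])).symm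

end Cfsg.Agent.Helper26.OmegaM4
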