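import Cfsg.Agent.Helper26.SecLocal

/-!
# Two counting lemmas: index at least four, and cosets of a subgroup
-/

set_option autoImplicit false

namespace Cfsg.Agent.Helper26.SecLocal

open Subgroup

variable {G : Type*} [Group G]

theorem conj_eq_comm {x y b : G} (h : x * b * x⁻¹ = y * b * y⁻¹) :
    (x⁻¹ * y) * b = b * (x⁻¹ * y) := by
  calc (x⁻¹ * y) * b = x⁻¹ * (y * b * y⁻¹) * y := by group
    _ = x⁻¹ * (x * b * x⁻¹) * y := by rw [h]
    _ = b * (x⁻¹ * y) := by group

/-- the four elements of a Klein four group -/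
def v4 (s t : G) : Fin 4 → G := ![1, s, t, s * t]

/-- the centraliser of an element has index at least four if a Klein four subgroup meets it
trivially -/
theorem four_mul_card_le [Finite G] (H : Subgroup G) (b s t : G) (hs : s ∈ H) (ht : t ∈ H)
    (hs2 : s * s = 1) (ht2 : t * t = 1) (hst : s * t = t * s)
    (h1 : s * b ≠ b * s) (h2 : t * b ≠ b * t) (h3 : (s * t) * b ≠ b * (s * t)) :
    4 * Nat.card ↥(H ⊓ centralizer {b}) ≤ Nat.card ↥H := by
  have hsi : s⁻¹ = s := inv_eq_of_mul_eq_one_left hs2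
  have hti : t⁻¹ = t := inv_eq_of_mul_eq_one_left ht2
  have e01 : (1 : G)⁻¹ * s = s := by group
  have e02 : (1 : G)⁻¹ * t = t := by group
  have e03 : (1 : G)⁻¹ * (s * t) = s * t := by group
  have e10 : s⁻¹ * 1 = s := by rw [mul_one, hsi]
  have e12 : s⁻¹ * t = s * t := by rw [hsi]
  have e13 : s⁻¹ * (s * t) = t := by group
  have e20 : t⁻¹ * 1 = t := by rw [mul_one, hti]
  have e21 : t⁻¹ * s = s * t := by rw [hti, hst]
  have e23 : t⁻¹ * (s * t) = s := by rw [hst]; group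
  have e30 : (s * t)⁻¹ * 1 = s * t := by rw [mul_one, mul_inv_rev, hsi, hti, hst]
  have e31 : (s * t)⁻¹ * s = t := by rw [mul_inv_rev, inv_mul_cancel_right, hti]
  have e32 : (s * t)⁻¹ * t = s := by rw [hst, mul_inv_rev, inv_mul_cancel_right, hsi]
  apply card_ge_mul H b 4 (v4 s t)
  · intro i
    fin_cases i
    · exact H.one_mem
    · exact hs
    · exact ht
    · exact H.mul_mem hs ht
  · intro i j hij
    have hc := conj_eq_comm hij
    fin_cases i <;> fin_cases j
    · rfl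
    · exfalso; change (1 : G)⁻¹ * s * b = b * ((1 : G)⁻¹ * s) at hc; rw [e01] at hc; exact h1 hc
    · exfalso; change (1 : G)⁻¹ * t * b = b * ((1 : G)⁻¹ * t) at hc; rw [e02] at hc; exact h2 hc
    · exfalso; change (1 : G)⁻¹ * (s * t) * b = b * ((1 : G)⁻¹ * (s * t)) at hc
      rw [e03] at hc; exact h3 hc
    · exfalso; change s⁻¹ * 1 * b = b * (s⁻¹ * 1) at hc; rw [e10] at hc; exact h1 hc
    · rfl
    · exfalso; change s⁻¹ * t * b = b * (s⁻¹ * t) at hc; rw [e12] at hc; exact h3 hc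
    · exfalso; change s⁻¹ * (s * t) * b = b * (s⁻¹ * (s * t)) at hc; rw [e13] at hc; exact h2 hc
    · exfalso; change t⁻¹ * 1 * b = b * (t⁻¹ * 1) at hc; rw [e20] at hc; exact h2 hc
    · exfalso; change t⁻¹ * s * b = b * (t⁻¹ * s) at hc; rw [e21] at hc; exact h3 hc
    · rfl
    · exfalso; change t⁻¹ * (s * t) * b = b * (t⁻¹ * (s * t)) at hc; rw [e23] at hc; exact h1 hc
    · exfalso; change (s * t)⁻¹ * 1 * b = b * ((s * t)⁻¹ * 1) at hc; rw [e30] at hc; exact h3 hc
    · exfalso; change (s * t)⁻¹ * s * b = b * ((s * t)⁻¹ * s) at hc; rw [e31] at hc; exact h2 hc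
    · exfalso; change (s * t)⁻¹ * t * b = b * ((s * t)⁻¹ * t) at hc; rw [e32] at hc; exact h1 hc
    · rfl

/-- a lower bound for the order of a subgroup from elements in distinct cosets -/
theorem card_ge_cosets [Finite G] (H K : Subgroup G) (n : ℕ) (f : Fin n → G)
    (hf : ∀ i, f i ∈ H) (hinj : ∀ i j, (f i)⁻¹ * f j ∈ K → i = j) :
    n * Nat.card ↥(H ⊓ K) ≤ Nat.card ↥H := by
  let F : Fin n × ↥(H ⊓ K) → ↥H := fun p =>
    ⟨f p.1 * p.2.1, H.mul_mem (hf p.1) (mem_inf.mp p.2.2).1⟩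
  have hF : Function.Injective F := by
    rintro ⟨i, c⟩ ⟨j, d⟩ h
    have h' : f i * c.1 = f j * d.1 := congrArg Subtype.val h
    have e : (f i)⁻¹ * f j = c.1 * d.1⁻¹ := by
      calc (f i)⁻¹ * f j = (f i)⁻¹ * (f j * d.1) * d.1⁻¹ := by group
        _ = (f i)⁻¹ * (f i * c.1) * d.1⁻¹ := by rw [h']
        _ = c.1 * d.1⁻¹ := by group
    have hij : i = j := hinj i j (by
      rw [e]
      exact K.mul_mem (mem_inf.mp c.2).2 (K.inv_mem (mem_inf.mp d.2).2))
    subst hij
    exact Prod.ext rfl (Subtype.ext (mul_left_cancel h'))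
  have := Nat.card_le_card_of_injective F hF
  rwa [Nat.card_prod, Nat.card_fin] at this

end Cfsg.Agent.Helper26.SecLocal
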