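import Cfsg.Agent.Helper26.SuzRho
import Cfsg.Agent.Helper26.SecIdx

/-!
# The Suzuki section of `Co0`: the frame, the quadratic form and the homomorphism
-/

set_option autoImplicit false

namespace Cfsg.Agent.Helper26.SuzSec

open Cfsg Cfsg.Agent.Helper7 Cfsg.Agent.Helper8 Cfsg.Agent.Helper27 Cfsg.Agent.Helper26.Co2Inv
  Cfsg.Agent.Helper26.Co1Inv Cfsg.Agent.Helper26.SecAsm Cfsg.Agent.Helper26.ExCoord
  Cfsg.Agent.Helper26.OmegaM6 Cfsg.Agent.Helper26.SecLocal

theorem card_ES_le : Nat.card ↥(ES aE) ≤ 2 * 2 ^ Fintype.card I6 := by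
  have h1 : (1 : ℕ) < 32 := by norm_num
  have h4 : (4 : ℕ) < 32 := by norm_num
  obtain ⟨c1, c2, c3⟩ := sE_not_comm
  have h := four_mul_card_le K0 aE (sE 1) (sE 4) (sE_mem_K0 h1) (sE_mem_K0 h4) (sE_sq h1)
    (sE_sq h4) (sE_comm h1 h4) c1 c2 (by rw [sE_mul]; exact c3)
  rw [card_K0] at h
  rw [card_I6]
  show Nat.card ↥(K0 ⊓ Subgroup.centralizer {aE}) ≤ 2 * 2 ^ 6
  omega

/-- the frame -/
noncomputable def frame : Frame I6 ↥Co0 where
  z := tE
  K := K0
  E := ES aE
  X := XS aE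
  b := bE
  d := dE
  L := L6
  hz1 := tE_ne_one
  hz2 := tE_mul_self
  hzc := fun _ hg => K0_tE_comm hg
  hcomm := fun _ hg _ hh => K0_comm hg hh
  hEK := inf_le_left
  hzE := ⟨tE_mem_K0, mem_cent_aE.mpr (mem_N.mp aE_mem_N)⟩
  hb := bE_mem
  hd := fun i => (dE_mem i).1
  hbd := fun i j => by
    show cP (eN _) (eN _) = _
    rw [cP_eN (bas_lt _ (idx6_lt j)) (bas_lt _ (dl_lt _ (idx6_lt i)))]
    exact dual_chk i j
  hLn := by decide
  hLm := fun i => by rcases i with ((i | i) | i) <;> fin_cases i <;> simp [L6]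
  hXz := fun _ hx => (mem_N.mp hx.1).symm
  hXE := fun _ hx _ he => ES_normal' hx he
  hcard := card_ES_le

theorem card_ES : Nat.card ↥(ES aE) = 2 ^ 7 := by
  have h := frame.card_E
  rw [card_I6] at h
  exact h

/-! ### the quadratic form -/

/-- the table of a product of elements -/
def tabPL : List ℕ → (ℕ → ℕ)
  | [] => fun k => 2 * k
  | n :: l => compT (tb n) (tabPL l)

theorem hasTab_PL (l : List I6) :
    HasTab (frame.PL l) (tabPL (l.map fun i => bas (idx6 i))) := by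
  induction l with
  | nil => exact hasTab_one
  | cons j l ih =>
    rw [Frame.PL_cons]
    exact ih.mul (eN_tab (bas_lt _ (idx6_lt j)))

theorem qP_of_tab {g : ↥Co0} {τ : ℕ → ℕ} (h : HasTab g τ) :
    qP g = if eqT (compT τ τ) (fun k => 2 * k) = true then 0 else 1 := by
  have h2 : HasTab (g * g) (compT τ τ) := h.mul h
  by_cases e : eqT (compT τ τ) (fun k => 2 * k) = true
  · rw [if_pos e]
    exact qP_eq_zero (h2.ext hasTab_one ((eqT_iff _ _).mp e))
  · rw [if_neg e]
    apply qP_eq_one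
    intro e'
    apply e
    rw [eqT_iff]
    rw [e'] at h2
    exact h2.unique hasTab_one

set_option maxRecDepth 1000000 in
theorem qf_chk : ∀ v : I6 → ZMod 2,
    (if eqT (compT (tabPL ((L6.filter fun i => v i = 1).map fun i => bas (idx6 i)))
      (tabPL ((L6.filter fun i => v i = 1).map fun i => bas (idx6 i)))) (fun k => 2 * k) = true
      then (0 : ZMod 2) else 1) = Cfsg.quadFormMinus 2 (ZMod 2) 1 1 v := by decide +kernel

theorem Qf_eq (v : I6 → ZMod 2) : frame.Qf v = Cfsg.quadFormMinus 2 (ZMod 2) 1 1 v := by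
  rw [← qf_chk v]
  exact qP_of_tab (hasTab_PL _)

/-- the homomorphism to the isometry group -/
noncomputable def rho0 : ↥(XS aE) →* ↥O6 := frame.rho _ Qf_eq

/-! ### vectors as numbers -/

/-- the vector with given bits -/
def bitsV6 (n : ℕ) : I6 → ZMod 2 := fun i => ((n >>> idx6 i % 2 : ℕ) : ZMod 2)

/-- the number of a vector -/
def enc6 (w : I6 → ZMod 2) : ℕ :=
  (w (.inl (.inl 0))).val + 2 * (w (.inl (.inl 1))).val + 4 * (w (.inl (.inr 0))).val +
    8 * (w (.inl (.inr 1))).val + 16 * (w (.inr 0)).val + 32 * (w (.inr 1)).val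

set_option maxRecDepth 1000000 in
theorem bitsV6_enc : ∀ w : I6 → ZMod 2, enc6 w < 64 ∧ bitsV6 (enc6 w) = w := by decide +kernel

set_option maxRecDepth 1000000 in
theorem enc6_bits : ∀ n < 64, enc6 (bitsV6 n) = n := by decide +kernel

theorem bitsV6_inj {m n : ℕ} (hm : m < 64) (hn : n < 64) (h : bitsV6 m = bitsV6 n) : m = n := by
  rw [← enc6_bits m hm, ← enc6_bits n hn, h]

/-- the coordinates of the `n`-th element, as a number -/
def cvN (n : ℕ) : ℕ :=
  ((List.range 6).map fun i => if cmT n (bas (dl i)) = true then 0 else 2 ^ i).sum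

theorem cvN_chk : ∀ n < 512, ∀ i : I6,
    (if cmT n (bas (dl (idx6 i))) = true then (0 : ZMod 2) else 1) = bitsV6 (cvN n) i := by
  decide +kernel

theorem cvec_eN {n : ℕ} (hn : n < 512) : frame.cvec (eN n) = bitsV6 (cvN n) := by
  funext i
  show cP (eN n) (eN _) = _
  rw [cP_eN hn (bas_lt _ (dl_lt _ (idx6_lt i)))]
  exact cvN_chk n hn i

end Cfsg.Agent.Helper26.SuzSec
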