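import Cfsg.Agent.Helper26.J2Data
import Cfsg.Agent.Helper26.SuzRho2
import Cfsg.Agent.Helper26.SecG
import Cfsg.Agent.Helper26.OmegaM4

/-!
# The Hall–Janko section of `Co0`: the elements, the coordinates and the homomorphism
-/

set_option autoImplicit false

namespace Cfsg.Agent.Helper26.J2Sec

open Cfsg Cfsg.Agent.Helper7 Cfsg.Agent.Helper8 Cfsg.Agent.Helper27 Cfsg.Agent.Helper26.Co2Inv
  Cfsg.Agent.Helper26.Co1Inv Cfsg.Agent.Helper26.SecAsm Cfsg.Agent.Helper26.ExCoord
  Cfsg.Agent.Helper26.OmegaM4 Cfsg.Agent.Helper26.SecLocal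
open Cfsg.Agent.Helper26.SuzSec (WN WN_ok wE acts_wE acts_one acts_eN comm_of_chk tb eqT eqT_iff
  cmT eN_comm_iff cP_eN tabPL qP_of_tab)

/-! ### elements from words -/

/-- the element of order five -/
noncomputable def aE : ↥Co0 := wE aW

theorem acts_aE : Acts aE aW := acts_wE aW_ok

theorem aE_mem_N : aE ∈ N := mem_N.mpr (comm_of_chk acts_aE acts_tE aW_ok tW_ok aW_comm)

theorem aE_pow : aE ^ 5 = 1 := by
  have h := Acts.ext ((((acts_aE.mul acts_aE).mul acts_aE).mul acts_aE).mul acts_aE) acts_one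
    (okW_append (okW_append (okW_append (okW_append aW_ok aW_ok) aW_ok) aW_ok) aW_ok) rfl aW_pow
  have e : aE ^ 5 = aE * (aE * (aE * (aE * aE))) := by
    rw [pow_succ, pow_succ, pow_succ, pow_succ, pow_one, mul_assoc, mul_assoc, mul_assoc]
  rw [e]
  exact h

theorem aE_ne_one : aE ≠ 1 :=
  Acts.ne acts_aE acts_one aW_ok rfl (by norm_num) (by norm_num) aW_ne

theorem orderOf_aE : orderOf aE = 5 := by
  haveI : Fact (Nat.Prime 5) := ⟨by norm_num⟩
  exact orderOf_eq_prime aE_pow aE_ne_one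

theorem mem_cent_aE {g : ↥Co0} : g ∈ Subgroup.centralizer {aE} ↔ g * aE = aE * g := by
  rw [Subgroup.mem_centralizer_singleton_iff]

/-- membership in the centraliser of `a` in `N` from checks on the basis -/
theorem mem_XS_of_chk {g : ↥Co0} {W : List Letter} (h : Acts g W) (hW : okW W = true)
    (H1 : ∀ k < 24, runW (W ++ tW) (basisL k) = runW (tW ++ W) (basisL k))
    (H2 : ∀ k < 24, runW (W ++ aW) (basisL k) = runW (aW ++ W) (basisL k)) : g ∈ XS aE :=
  ⟨mem_N.mpr (comm_of_chk h acts_tE hW tW_ok H1),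
    mem_cent_aE.mpr (comm_of_chk acts_aE h aW_ok hW (fun k hk => (H2 k hk).symm))⟩

/-- the generators -/
noncomputable def gE (i : ℕ) : ↥Co0 := wE (genW i)

theorem acts_gE {i : ℕ} (hi : i < 2) : Acts (gE i) (genW i) := acts_wE (genW_ok i hi)

theorem gE_mem {i : ℕ} (hi : i < 2) : gE i ∈ XS aE :=
  mem_XS_of_chk (acts_gE hi) (genW_ok i hi) (genW_comm_t i hi) (genW_comm_a i hi)

/-- the fusing element -/
noncomputable def g0E : ↥Co0 := wE g0W

theorem acts_g0E : Acts g0E g0W := acts_wE g0W_ok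

theorem g0E_comm : g0E * aE = aE * g0E :=
  comm_of_chk acts_aE acts_g0E aW_ok g0W_ok (fun k hk => (g0W_comm_a k hk).symm)

/-! ### inverses -/

/-- the inverse of the fusing element -/
noncomputable def g0iE : ↥Co0 := wE g0iW

theorem acts_g0iE : Acts g0iE g0iW := acts_wE g0iW_ok

theorem g0iE_eq : g0iE = g0E⁻¹ := by
  have h : g0iE * g0E = 1 :=
    Acts.ext (acts_g0E.mul acts_g0iE) acts_one (okW_append g0W_ok g0iW_ok) rfl g0i_chk
  exact eq_inv_of_mul_eq_one_left h

/-- the inverse of the first generator -/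
noncomputable def x1iE : ↥Co0 := wE x1iW

theorem acts_x1iE : Acts x1iE x1iW := acts_wE x1iW_ok

theorem h02 : (0 : ℕ) < 2 := by norm_num

theorem x1iE_eq : x1iE = (gE 0)⁻¹ := by
  have h : x1iE * gE 0 = 1 :=
    Acts.ext ((acts_gE h02).mul acts_x1iE) acts_one (okW_append (genW_ok 0 h02) x1iW_ok) rfl
      x1i_chk
  exact eq_inv_of_mul_eq_one_left h

/-! ### the product of two conjugates of the involution -/

/-- the first conjugating element -/
noncomputable def h1E : ↥Co0 := g0E * g0E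

/-- the second conjugating element -/
noncomputable def h2E : ↥Co0 := g0E * (gE 0 * g0E)

theorem acts_h1E : Acts h1E h1W := acts_g0E.mul acts_g0E

theorem acts_h2E : Acts h2E h2W := (acts_g0E.mul (acts_gE h02)).mul acts_g0E

theorem acts_h1iE : Acts h1E⁻¹ h1iW := by
  have e : h1E⁻¹ = g0iE * g0iE := by
    rw [g0iE_eq]
    unfold h1E
    group
  rw [e]
  exact acts_g0iE.mul acts_g0iE

theorem acts_h2iE : Acts h2E⁻¹ h2iW := by
  have e : h2E⁻¹ = g0iE * (x1iE * g0iE) := by
    rw [g0iE_eq, x1iE_eq]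
    unfold h2E
    group
  rw [e]
  exact (acts_g0iE.mul acts_x1iE).mul acts_g0iE

/-- the first conjugate -/
noncomputable def c1E : ↥Co0 := h1E * (tE * h1E⁻¹)

/-- the second conjugate -/
noncomputable def c2E : ↥Co0 := h2E * (tE * h2E⁻¹)

theorem acts_c1E : Acts c1E c1W := (acts_h1iE.mul acts_tE).mul acts_h1E

theorem acts_c2E : Acts c2E c2W := (acts_h2iE.mul acts_tE).mul acts_h2E

/-- the outer element -/
noncomputable def cE : ↥Co0 := c1E * c2E

theorem acts_cE : Acts cE cW := acts_c2E.mul acts_c1E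

theorem tE_cent : tE ∈ Subgroup.centralizer {aE} := mem_cent_aE.mpr (mem_N.mp aE_mem_N)

theorem g0E_cent : g0E ∈ Subgroup.centralizer {aE} := mem_cent_aE.mpr g0E_comm

theorem h1E_comm : h1E * aE = aE * h1E :=
  mem_cent_aE.mp ((Subgroup.centralizer {aE}).mul_mem g0E_cent g0E_cent)

theorem h2E_comm : h2E * aE = aE * h2E :=
  mem_cent_aE.mp ((Subgroup.centralizer {aE}).mul_mem g0E_cent
    ((Subgroup.centralizer {aE}).mul_mem (gE_mem h02).2 g0E_cent))

theorem c1E_eq : c1E = h1E * tE * h1E⁻¹ := (mul_assoc _ _ _).symm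

theorem c2E_eq : c2E = h2E * tE * h2E⁻¹ := (mul_assoc _ _ _).symm

theorem conj_cent {g : ↥Co0} (hg : g * aE = aE * g) :
    g * tE * g⁻¹ ∈ Subgroup.centralizer {aE} :=
  (Subgroup.centralizer {aE}).mul_mem ((Subgroup.centralizer {aE}).mul_mem (mem_cent_aE.mpr hg)
    tE_cent) ((Subgroup.centralizer {aE}).inv_mem (mem_cent_aE.mpr hg))

theorem cE_mem : cE ∈ XS aE := by
  refine ⟨mem_N.mpr (comm_of_chk acts_cE acts_tE cW_ok tW_ok cW_comm_t), ?_⟩
  unfold cE
  rw [c1E_eq, c2E_eq]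
  exact (Subgroup.centralizer {aE}).mul_mem (conj_cent h1E_comm) (conj_cent h2E_comm)

theorem cE_closure (M : Subgroup ↥Co0) (_ : negCo0 ∈ M)
    (h : ∀ g : ↥Co0, g * aE = aE * g → g * tE * g⁻¹ ∈ M) : cE ∈ M := by
  unfold cE
  rw [c1E_eq, c2E_eq]
  exact M.mul_mem (h _ h1E_comm) (h _ h2E_comm)

/-! ### elements of the extraspecial group centralising `a` -/

theorem bas_lt : ∀ j < 4, bas j < 512 := by decide

theorem eN_mem_ES {n : ℕ} (hn : n < 512)
    (H : ∀ k < 24, runW (WN n ++ aW) (basisL k) = runW (aW ++ WN n) (basisL k)) :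
    eN n ∈ ES aE :=
  ⟨eN_mem_K0 hn, mem_cent_aE.mpr (comm_of_chk acts_aE (acts_eN hn) aW_ok (WN_ok n hn)
    (fun k hk => (H k hk).symm))⟩

theorem bas_mem {j : ℕ} (hj : j < 4) : eN (bas j) ∈ ES aE :=
  eN_mem_ES (bas_lt j hj) (bas_comm_a j hj)

theorem ES_normal' {x : ↥Co0} (hx : x ∈ XS aE) {e : ↥Co0} (he : e ∈ ES aE) :
    x * e * x⁻¹ ∈ ES aE :=
  ⟨K0_normal hx.1 he.1, (Subgroup.centralizer {aE}).mul_mem
    ((Subgroup.centralizer {aE}).mul_mem hx.2 he.2) ((Subgroup.centralizer {aE}).inv_mem hx.2)⟩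

/-! ### the frame -/

/-- the position of a coordinate -/
def idx4 : I4 → ℕ
  | .inl (.inl _) => 0
  | .inl (.inr _) => 1
  | .inr i => 2 + i.val

/-- the dual position -/
def dl (j : ℕ) : ℕ := [1, 0, 3, 2].getD j 0

theorem idx4_lt (i : I4) : idx4 i < 4 := by
  revert i
  decide

theorem dl_lt : ∀ j < 4, dl j < 4 := by decide

/-- the enumeration of the coordinates -/
def L4 : List I4 := [.inl (.inl 0), .inl (.inr 0), .inr 0, .inr 1]

/-- the basis -/
noncomputable def bE (i : I4) : ↥Co0 := eN (bas (idx4 i))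

/-- the dual family -/
noncomputable def dE (i : I4) : ↥Co0 := eN (bas (dl (idx4 i)))

theorem bE_mem (i : I4) : bE i ∈ ES aE := bas_mem (idx4_lt i)

theorem dE_mem (i : I4) : dE i ∈ ES aE := bas_mem (dl_lt _ (idx4_lt i))

set_option maxRecDepth 1000000 in
theorem dual_chk : ∀ i j : I4,
    (if cmT (bas (idx4 j)) (bas (dl (idx4 i))) = true then (0 : ZMod 2) else 1) =
      if i = j then 1 else 0 := by decide +kernel

/-! ### the index of the subgroup: sixteen cosets -/

theorem fl_lt : ∀ i < 16, fl i < 512 := by decide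

theorem wit_lt : ∀ i < 15, wit i < 24 := by decide

set_option maxRecDepth 1000000 in
theorem fl_mul_chk : ∀ i < 16, ∀ j < 16, i ^^^ j < 16 ∧
    ∀ k < 16, compT (tb (fl i)) (tb (fl j)) k = tb (fl (i ^^^ j)) k := by decide +kernel

set_option maxRecDepth 1000000 in
theorem eN_zero : eN 0 = 1 :=
  (eN_tab (by norm_num : (0 : ℕ) < 512)).ext hasTab_one (by decide +kernel)

theorem xor16 : ∀ i < 16, ∀ j < 16, i ^^^ j = 0 → i = j := by decide

theorem fl_mul {i j : ℕ} (hi : i < 16) (hj : j < 16) :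
    eN (fl i) * eN (fl j) = eN (fl (i ^^^ j)) :=
  ((eN_tab (fl_lt j hj)).mul (eN_tab (fl_lt i hi))).ext
    (eN_tab (fl_lt _ (fl_mul_chk i hi j hj).1)) (fl_mul_chk i hi j hj).2

theorem fl_not_comm {m : ℕ} (h0 : m ≠ 0) (hm : m < 16) : eN (fl m) * aE ≠ aE * eN (fl m) := by
  obtain ⟨i, rfl⟩ : ∃ i, m = i + 1 := Nat.exists_eq_succ_of_ne_zero h0
  have hi : i < 15 := by omega
  have hl := fl_lt (i + 1) hm
  exact Acts.ne (acts_aE.mul (acts_eN hl)) ((acts_eN hl).mul acts_aE)
    (okW_append aW_ok (WN_ok _ hl)) (okW_append (WN_ok _ hl) aW_ok) (by norm_num) (wit_lt i hi)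
    (fl_chk i hi)

theorem card_ES_le : Nat.card ↥(ES aE) ≤ 2 * 2 ^ Fintype.card I4 := by
  have h := card_ge_cosets K0 (Subgroup.centralizer {aE}) 16 (fun i => eN (fl i.val))
    (fun i => eN_mem_K0 (fl_lt _ i.isLt)) (by
      intro i j hij
      by_contra hne
      have hne' : i.val ^^^ j.val ≠ 0 := fun e => hne (Fin.ext (xor16 _ i.isLt _ j.isLt e))
      have hsq : eN (fl i.val) * eN (fl i.val) = 1 := by
        rw [fl_mul i.isLt i.isLt, Nat.xor_self]
        exact eN_zero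
      have hinv : (eN (fl i.val))⁻¹ = eN (fl i.val) := inv_eq_of_mul_eq_one_left hsq
      rw [hinv, fl_mul i.isLt j.isLt] at hij
      exact fl_not_comm hne' (fl_mul_chk _ i.isLt _ j.isLt).1 (mem_cent_aE.mp hij))
  rw [card_K0] at h
  rw [card_I4]
  show Nat.card ↥(K0 ⊓ Subgroup.centralizer {aE}) ≤ 2 * 2 ^ 4
  omega

/-- the frame -/
noncomputable def frame : Frame I4 ↥Co0 where
  z := tE
  K := K0
  E := ES aE
  X := XS aE
  b := bE
  d := dE
  L := L4
  hz1 := tE_ne_one
  hz2 := tE_mul_self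
  hzc := fun _ hg => K0_tE_comm hg
  hcomm := fun _ hg _ hh => K0_comm hg hh
  hEK := inf_le_left
  hzE := ⟨tE_mem_K0, tE_cent⟩
  hb := bE_mem
  hd := fun i => (dE_mem i).1
  hbd := fun i j => by
    show cP (eN _) (eN _) = _
    rw [cP_eN (bas_lt _ (idx4_lt j)) (bas_lt _ (dl_lt _ (idx4_lt i)))]
    exact dual_chk i j
  hLn := by decide
  hLm := fun i => by rcases i with ((i | i) | i) <;> fin_cases i <;> simp [L4]
  hXz := fun _ hx => (mem_N.mp hx.1).symm
  hXE := fun _ hx _ he => ES_normal' hx he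
  hcard := card_ES_le

theorem card_ES : Nat.card ↥(ES aE) = 2 ^ 5 := by
  have h := frame.card_E
  rw [card_I4] at h
  exact h

/-! ### the quadratic form -/

theorem hasTab_PL (l : List I4) :
    HasTab (frame.PL l) (tabPL (l.map fun i => bas (idx4 i))) := by
  induction l with
  | nil => exact hasTab_one
  | cons j l ih =>
    rw [Frame.PL_cons]
    exact ih.mul (eN_tab (bas_lt _ (idx4_lt j)))

set_option maxRecDepth 1000000 in
theorem qf_chk : ∀ v : I4 → ZMod 2,
    (if eqT (compT (tabPL ((L4.filter fun i => v i = 1).map fun i => bas (idx4 i)))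
      (tabPL ((L4.filter fun i => v i = 1).map fun i => bas (idx4 i)))) (fun k => 2 * k) = true
      then (0 : ZMod 2) else 1) = Cfsg.quadFormMinus 1 (ZMod 2) 1 1 v := by decide +kernel

theorem Qf_eq (v : I4 → ZMod 2) : frame.Qf v = Cfsg.quadFormMinus 1 (ZMod 2) 1 1 v := by
  rw [← qf_chk v]
  exact qP_of_tab (hasTab_PL _)

/-- the homomorphism to the isometry group -/
noncomputable def rho0 : ↥(XS aE) →* ↥O4 := frame.rho _ Qf_eq

/-! ### vectors as numbers -/

/-- the vector with given bits -/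
def bitsV4 (n : ℕ) : I4 → ZMod 2 := fun i => ((n >>> idx4 i % 2 : ℕ) : ZMod 2)

/-- the number of a vector -/
def enc4 (w : I4 → ZMod 2) : ℕ :=
  (w (.inl (.inl 0))).val + 2 * (w (.inl (.inr 0))).val + 4 * (w (.inr 0)).val +
    8 * (w (.inr 1)).val

set_option maxRecDepth 1000000 in
theorem bitsV4_enc : ∀ w : I4 → ZMod 2, enc4 w < 16 ∧ bitsV4 (enc4 w) = w := by decide +kernel

set_option maxRecDepth 1000000 in
theorem enc4_bits : ∀ n < 16, enc4 (bitsV4 n) = n := by decide +kernel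

theorem bitsV4_inj {m n : ℕ} (hm : m < 16) (hn : n < 16) (h : bitsV4 m = bitsV4 n) : m = n := by
  rw [← enc4_bits m hm, ← enc4_bits n hn, h]

/-- the coordinates of the `n`-th element, as a number -/
def cvN (n : ℕ) : ℕ :=
  ((List.range 4).map fun i => if cmT n (bas (dl i)) = true then 0 else 2 ^ i).sum

set_option maxRecDepth 1000000 in
theorem cvN_chk : ∀ n < 512, ∀ i : I4,
    (if cmT n (bas (dl (idx4 i))) = true then (0 : ZMod 2) else 1) = bitsV4 (cvN n) i := by
  decide +kernel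

theorem cvec_eN {n : ℕ} (hn : n < 512) : frame.cvec (eN n) = bitsV4 (cvN n) := by
  funext i
  show cP (eN n) (eN _) = _
  rw [cP_eN hn (bas_lt _ (dl_lt _ (idx4_lt i)))]
  exact cvN_chk n hn i

end Cfsg.Agent.Helper26.J2Sec
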