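import Cfsg.Agent.Helper26.LeechModTwo
import Cfsg.Agent.Helper26.PairData

/-!
# The invariant quadratic form on the rank-24 lattice modulo twice itself
-/

set_option autoImplicit false

namespace Cfsg.Agent.Helper26

open Cfsg Cfsg.Agent.Helper8 Cfsg.Agent.Helper27

/-- inner products of lattice vectors are divisible by 8 -/
theorem eight_dvd_dotInt {x y : IVec} (hx : x ∈ leechLattice) (hy : y ∈ leechLattice) :
    (8 : ℤ) ∣ dotInt x y := by
  have h1 := Cfsg.Agent.Helper92.sixteen_dvd_sqNorm (leechLattice.add_mem hx hy)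
  have h2 := Cfsg.Agent.Helper92.sixteen_dvd_sqNorm hx
  have h3 := Cfsg.Agent.Helper92.sixteen_dvd_sqNorm hy
  rw [sqNorm_add'] at h1
  omega

theorem sqNorm_smul_two (z : IVec) : sqNorm ((2 : ℤ) • z) = 4 * sqNorm z := by
  unfold sqNorm
  rw [Finset.mul_sum]
  refine Finset.sum_congr rfl fun i _ => ?_
  rw [Pi.smul_apply, smul_eq_mul]
  ring

theorem dotInt_smul_two (y z : IVec) : dotInt y ((2 : ℤ) • z) = 2 * dotInt y z := by
  unfold dotInt
  rw [Finset.mul_sum]
  refine Finset.sum_congr rfl fun i _ => ?_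
  rw [Pi.smul_apply, smul_eq_mul]
  ring

/-- the squared length modulo 32 depends only on the class modulo twice the lattice -/
theorem sqNorm_add_two_smul {y z : IVec} (hy : y ∈ leechLattice) (hz : z ∈ leechLattice) :
    (32 : ℤ) ∣ sqNorm (y + (2 : ℤ) • z) - sqNorm y := by
  rw [sqNorm_add', sqNorm_smul_two, dotInt_smul_two]
  have h1 := eight_dvd_dotInt hy hz
  have h2 := Cfsg.Agent.Helper92.sixteen_dvd_sqNorm hz
  omega

/-! ### explicit vectors -/

/-- `4 e_0 + 4 e_1` -/
def qV : IVec := vPlus (gPt 0) (gPt 1)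
/-- `4 e_2 - 4 e_1` -/
def qW : IVec := vPQ (gPt 2) (gPt 1)
/-- an octad vector with inner products `-16`, `8` with `qV`, `qW` -/
def qU1 : IVec := octVec 9347075 3
/-- an octad vector with inner products `0`, `-8` with `qV`, `qW` -/
def qU2 : IVec := octVec 9347075 8193

set_option maxRecDepth 100000 in
theorem qU_chk : leechChk qU1 = true ∧ leechChk qU2 = true := by decide +kernel

theorem qV_mem : qV ∈ leechLattice := vPlus_mem (by decide)
theorem qW_mem : qW ∈ leechLattice := vPQ_mem (by decide)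
theorem qU1_mem : qU1 ∈ leechLattice := mem_of_leechChk qU_chk.1
theorem qU2_mem : qU2 ∈ leechLattice := mem_of_leechChk qU_chk.2

set_option maxRecDepth 100000 in
theorem q_norms1 : sqNorm qV = 32 ∧ sqNorm qW = 32 ∧ sqNorm qU1 = 32 ∧ sqNorm (qV + qW) = 32 ∧
    sqNorm (qU1 + qV) = 32 ∧ sqNorm (qU1 - qW) = 48 ∧ sqNorm (qU1 + (qV + qW)) = 48 := by
  decide +kernel

set_option maxRecDepth 100000 in
theorem q_norms2 : sqNorm qU2 = 32 ∧ sqNorm (qU2 + qV) = 64 ∧ sqNorm (qU2 + qW) = 48 ∧
    sqNorm (qU2 + (qV + qW)) = 48 := by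
  decide +kernel

theorem z2_aux0 : ∀ q : ZMod 2, q + q + q + q = q + q + q → q = 0 := by decide

theorem z2_aux1 : ∀ s u x y xy ux uy : ZMod 2, s + u + x + y = ux + uy + xy →
    s + u + xy = (ux + u + x) + (uy + u + y) := by decide

theorem z2_aux2 : ∀ X a : ZMod 2, X + a + a = a + a + a + (X + a + a) → a = 0 := by decide

theorem z2_aux3 : ∀ X c : ZMod 2, X + 0 + 0 = c + 0 + 0 + (X + 0 + 0) → c = 0 := by decide

/-- the invariant quadratic form is the squared length over 16 modulo 2 -/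
theorem quad_form_unique (h48 : Trans48) (Q : ↥leechLattice → ZMod 2)
    (hcoset : ∀ v w : ↥leechLattice, Q (v + (w + w)) = Q v)
    (hquad : ∀ u v w : ↥leechLattice,
      Q (u + v + w) + Q u + Q v + Q w = Q (u + v) + Q (u + w) + Q (v + w))
    (hinv : ∀ (g : ↥Co0) (v : ↥leechLattice), Q (g • v) = Q v)
    (hne : ∃ v : ↥leechLattice, Q v ≠ 0) (v : ↥leechLattice) :
    Q v = ((sqNorm (v : IVec) / 16 : ℤ) : ZMod 2) := by
  classical
  have z2 : ∀ a : ZMod 2, a + a = 0 := by decide
  -- constancy on the shells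
  have c32 : ∀ x y : ↥leechLattice, sqNorm (x : IVec) = 32 → sqNorm (y : IVec) = 32 → Q x = Q y := by
    intro x y hx hy
    obtain ⟨g, hg⟩ := co0_transitive_min32 x y hx hy
    rw [← hg, hinv]
  have c48 : ∀ x y : ↥leechLattice, sqNorm (x : IVec) = 48 → sqNorm (y : IVec) = 48 → Q x = Q y := by
    intro x y hx hy
    obtain ⟨g, hg⟩ := h48 x y hx hy
    rw [← hg, hinv]
  have c64 : ∀ x y : ↥leechLattice, sqNorm (x : IVec) = 64 → sqNorm (y : IVec) = 64 → Q x = Q y := by
    intro x y hx hy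
    obtain ⟨g, hg⟩ := co0_transitive_norm64 x y hx hy
    rw [← hg, hinv]
  have Q0 : Q 0 = 0 := by
    have := hquad 0 0 0
    simp only [add_zero] at this
    exact z2_aux0 _ this
  -- the polar form is additive in the second variable
  have hbil : ∀ u x y : ↥leechLattice,
      Q (u + (x + y)) + Q u + Q (x + y) = (Q (u + x) + Q u + Q x) + (Q (u + y) + Q u + Q y) := by
    intro u x y
    have h := hquad u x y
    have e : u + x + y = u + (x + y) := add_assoc u x y
    rw [e] at h
    exact z2_aux1 _ _ _ _ _ _ _ h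
  -- the lattice vectors
  set V : ↥leechLattice := ⟨qV, qV_mem⟩ with hV
  set W : ↥leechLattice := ⟨qW, qW_mem⟩ with hW
  set U1 : ↥leechLattice := ⟨qU1, qU1_mem⟩ with hU1
  set U2 : ↥leechLattice := ⟨qU2, qU2_mem⟩ with hU2
  obtain ⟨n1, n2, n3, n4, n5, n6, n7⟩ := q_norms1
  obtain ⟨m1, m2, m3, m4⟩ := q_norms2
  set a := Q V with ha
  -- values
  have hW' : Q W = a := c32 W V n2 n1
  have hU1' : Q U1 = a := c32 U1 V n3 n1
  have hU2' : Q U2 = a := c32 U2 V m1 n1
  have hVW : Q (V + W) = a := c32 (V + W) V n4 n1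
  have hU1V : Q (U1 + V) = a := c32 (U1 + V) V n5 n1
  have hsub : U1 + W = (U1 - W) + (W + W) := by abel
  have hU1W : Q (U1 + W) = Q (U1 - W) := by rw [hsub, hcoset]
  have hb1 : Q (U1 - W) = Q (U1 + (V + W)) := c48 _ _ n6 n7
  -- a = 0
  have h1 := hbil U1 V W
  rw [hU1V, hU1W, hb1, hVW, hU1', hW', ← ha] at h1
  have a0 : a = 0 := z2_aux2 _ _ h1
  -- c = 0
  have hb2 : Q (U2 + W) = Q (U2 + (V + W)) := c48 _ _ m3 m4
  have h2 := hbil U2 V W
  rw [hb2, hVW, hU2', hW', ← ha, a0] at h2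
  have c0 : Q (U2 + V) = 0 := z2_aux3 _ _ h2
  -- reduction of an arbitrary vector to a short one
  have key : ∀ x : ↥leechLattice, ∃ y : ↥leechLattice, Q x = Q y ∧
      (32 : ℤ) ∣ sqNorm (x : IVec) - sqNorm (y : IVec) ∧
      (sqNorm (y : IVec) = 0 ∨ sqNorm (y : IVec) = 32 ∨ sqNorm (y : IVec) = 48 ∨
        sqNorm (y : IVec) = 64) := by
    intro x
    have h1 : phi (x : IVec) ∈ (shortClasses : Set ((GolayPt → ℤ) ⧸ twoL)) := by
      rw [shortClasses_eq]
      exact AddSubgroup.mem_map_of_mem phi x.2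
    rw [Finset.mem_coe] at h1
    have hy : ∃ y : IVec, y ∈ leechLattice ∧ phi y = phi (x : IVec) ∧
        (sqNorm y = 0 ∨ sqNorm y = 32 ∨ sqNorm y = 48 ∨ sqNorm y = 64) := by
      unfold shortClasses at h1
      rw [Finset.mem_insert] at h1
      rcases h1 with h1 | h1
      · exact ⟨0, leechLattice.zero_mem, by rw [h1, map_zero], Or.inl sqNorm_zero⟩
      · have keyN : ∀ N : ℤ, N ≤ 64 → phi (x : IVec) ∈ img N →
            ∃ y : IVec, y ∈ leechLattice ∧ phi y = phi (x : IVec) ∧ sqNorm y = N := by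
          intro N hN hb
          unfold img at hb
          rw [Finset.mem_image] at hb
          obtain ⟨y, hy, hyx⟩ := hb
          rw [mem_leechF (by omega)] at hy
          exact ⟨y, hy.1, hyx, hy.2⟩
        simp only [Finset.mem_union] at h1
        rcases h1 with h | h | h
        · obtain ⟨y, h1, h2, h3⟩ := keyN 32 (by norm_num) h
          exact ⟨y, h1, h2, Or.inr (Or.inl h3)⟩
        · obtain ⟨y, h1, h2, h3⟩ := keyN 48 (by norm_num) h
          exact ⟨y, h1, h2, Or.inr (Or.inr (Or.inl h3))⟩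
        · obtain ⟨y, h1, h2, h3⟩ := keyN 64 (by norm_num) h
          exact ⟨y, h1, h2, Or.inr (Or.inr (Or.inr h3))⟩
    obtain ⟨y, hyL, hyx, hyn⟩ := hy
    rw [phi_eq_iff] at hyx
    obtain ⟨z, hz, hyz⟩ := hyx
    rw [two_nsmul] at hyz
    have hx : x = (⟨y, hyL⟩ : ↥leechLattice) + ((⟨-z, leechLattice.neg_mem hz⟩ : ↥leechLattice)
        + ⟨-z, leechLattice.neg_mem hz⟩) := by
      apply Subtype.ext
      show (x : IVec) = y + (-z + -z)
      have : (x : IVec) = y - (z + z) := by rw [← hyz]; abel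
      rw [this]; abel
    refine ⟨⟨y, hyL⟩, by rw [hx, hcoset], ?_, hyn⟩
    have h32 := sqNorm_add_two_smul hyL (leechLattice.neg_mem hz)
    have e : (x : IVec) = y + (2 : ℤ) • (-z) := by
      rw [two_zsmul]
      have : (x : IVec) = y - (z + z) := by rw [← hyz]; abel
      rw [this]; abel
    rw [e]
    exact h32
  -- value of the form on short vectors
  have hshort : ∀ y : ↥leechLattice, sqNorm (y : IVec) = 0 ∨ sqNorm (y : IVec) = 32 ∨
      sqNorm (y : IVec) = 64 → Q y = 0 := by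
    intro y hy
    rcases hy with h | h | h
    · have : y = 0 := by
        apply Subtype.ext
        ext i
        unfold sqNorm at h
        have hi := (Finset.sum_eq_zero_iff_of_nonneg (fun j _ => sq_nonneg ((y : IVec) j))).mp h i
          (Finset.mem_univ i)
        simpa using hi
      rw [this, Q0]
    · rw [c32 y V h n1, ← ha, a0]
    · rw [c64 y (U2 + V) h m2, c0]
  -- the value on the middle shell is 1
  have hb : ∀ y : ↥leechLattice, sqNorm (y : IVec) = 48 → Q y = 1 := by
    intro y hy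
    obtain ⟨x, hx⟩ := hne
    obtain ⟨y', hQ, -, hn⟩ := key x
    have : sqNorm (y' : IVec) = 48 := by
      rcases hn with h | h | h | h
      · exact absurd (hQ.trans (hshort y' (Or.inl h))) hx
      · exact absurd (hQ.trans (hshort y' (Or.inr (Or.inl h)))) hx
      · exact h
      · exact absurd (hQ.trans (hshort y' (Or.inr (Or.inr h)))) hx
    have hne' : Q y ≠ 0 := by rw [c48 y y' hy this, ← hQ]; exact hx
    revert hne'
    generalize Q y = t
    revert t
    decide
  -- conclusion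
  obtain ⟨y, hQ, h32, hn⟩ := key v
  obtain ⟨k, hk⟩ := h32
  have e : sqNorm (v : IVec) = sqNorm (y : IVec) + 32 * k := by omega
  rw [hQ, e]
  have hc : ∀ t : ℤ, ((((t + 32 * k) / 16 : ℤ) : ℤ) : ZMod 2) = (((t / 16 : ℤ) : ℤ) : ZMod 2) := by
    intro t
    have : (t + 32 * k) / 16 = t / 16 + 2 * k := by omega
    rw [this]
    push_cast
    have h2 : (2 : ZMod 2) = 0 := by decide
    rw [h2, zero_mul, add_zero]
  rw [hc]
  rcases hn with h | h | h | h
  · rw [hshort y (Or.inl h), h]; decide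
  · rw [hshort y (Or.inr (Or.inl h)), h]; decide
  · rw [hb y h, h]; decide
  · rw [hshort y (Or.inr (Or.inr h)), h]; decide

end Cfsg.Agent.Helper26
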