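import Cfsg.Agent.Helper26.OutAbs

/-!
# The Sylow chain lemma for a property of automorphisms invariant under inner automorphisms

The chain lemma of `OutAbs` with the conclusion that all automorphisms have a property `P`
which passes from `conj T * ψ` to `ψ`; used for groups whose outer automorphism group is not
trivial.
-/

set_option autoImplicit false

namespace Cfsg.Agent.Helper26.OutAbs

open Cfsg.Agent.Helper27 MulAction

/-- chain lemma with a property: `A` of prime order `p` with `p ^ 2` not dividing the order,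
self-centralising, normalised by `C`; `D` normalises `⟨C⟩`; elements `z` centralising `C` such
that `D * z` has order dividing `n` lie in `⟨C⟩`; automorphisms fixing `C`, `D` and `⟨A⟩` have
the property. -/
theorem forall_of_chain {G : Type*} [Group G] [Finite G] (p : ℕ) [Fact p.Prime]
    (A C D : G) (s k n : ℕ) (P : MulAut G → Prop)
    (hP : ∀ (T : G) (ψ : MulAut G), P (MulAut.conj T * ψ) → P ψ)
    (hoA : orderOf A = p) (hp2 : ¬ p ^ 2 ∣ Nat.card G)
    (hcA : ∀ g : G, g * A = A * g → g ∈ Subgroup.zpowers A)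
    (hCA : C * A * C⁻¹ = A ^ s)
    (hnA : ∀ z ∈ Subgroup.zpowers A, ∃ T ∈ Subgroup.zpowers A, T * (C * z) * T⁻¹ = C)
    (hDC : D * C * D⁻¹ = C ^ k)
    (hnC : ∀ z ∈ Subgroup.zpowers C, ∃ T ∈ Subgroup.zpowers C, T * (D * z) * T⁻¹ = D)
    (hDn : D ^ n = 1)
    (hwC : ∀ z : G, z * C = C * z → (D * z) ^ n = 1 → z ∈ Subgroup.zpowers C)
    (hfin : ∀ ψ : MulAut G, ψ A ∈ Subgroup.zpowers A → ψ C = C → ψ D = D → P ψ) :
    ∀ φ : MulAut G, P φ := by
  have hpp : p.Prime := Fact.out
  -- step 2
  have R2 : ∀ ψ : MulAut G, ψ A ∈ Subgroup.zpowers A → ψ C = C → P ψ := by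
    intro ψ h1 h2
    have e1 : ψ D * C * (ψ D)⁻¹ = C ^ k := by
      have := congrArg ψ hDC
      rwa [map_mul, map_mul, map_inv, map_pow, h2] at this
    have hZ : (D⁻¹ * ψ D) * C = C * (D⁻¹ * ψ D) := by
      have e2 : ψ D * C = C ^ k * ψ D := by rw [← e1]; group
      have e3 : D * C = C ^ k * D := by rw [← hDC]; group
      have e4 : D⁻¹ * C ^ k = C * D⁻¹ := by
        rw [inv_mul_eq_iff_eq_mul, ← mul_assoc, e3, mul_inv_cancel_right]
      rw [mul_assoc, e2, ← mul_assoc, e4, mul_assoc]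
    have hpow : (D * (D⁻¹ * ψ D)) ^ n = 1 := by
      rw [mul_inv_cancel_left, ← map_pow, hDn, map_one]
    have hZm := hwC _ hZ hpow
    obtain ⟨T, hT, hTD⟩ := hnC _ hZm
    apply hP T
    apply hfin
    · rw [MulAut.mul_apply, MulAut.conj_apply]
      exact conj_mem_zpowers_of_normalizes hCA hT h1
    · rw [MulAut.mul_apply, MulAut.conj_apply, h2,
        commute_of_mem_zpowers hT (Subgroup.mem_zpowers C), mul_inv_cancel_right]
    · rw [MulAut.mul_apply, MulAut.conj_apply]
      rw [mul_inv_cancel_left] at hTD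
      exact hTD
  -- step 1
  have R1 : ∀ ψ : MulAut G, ψ A ∈ Subgroup.zpowers A → P ψ := by
    intro ψ h1
    set x := ψ A with hx
    have hox : orderOf x = p := by rw [hx, MulEquiv.orderOf_eq, hoA]
    have hzp : Subgroup.zpowers x = Subgroup.zpowers A := by
      apply Subgroup.eq_of_le_of_card_ge (Subgroup.zpowers_le.mpr h1)
      rw [Nat.card_zpowers, Nat.card_zpowers, hox, hoA]
    have hAx : A ∈ Subgroup.zpowers x := by rw [hzp]; exact Subgroup.mem_zpowers A
    have e0 : C * x * C⁻¹ = x ^ s := by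
      obtain ⟨z, hz⟩ := Subgroup.mem_zpowers_iff.mp h1
      rw [← hz, ← conj_zpow, hCA, ← zpow_natCast, ← zpow_natCast, ← zpow_mul, ← zpow_mul,
        mul_comm]
    have e1 : ψ C * x * (ψ C)⁻¹ = x ^ s := by
      have := congrArg ψ hCA
      rwa [map_mul, map_mul, map_inv, map_pow] at this
    have hZx : (C⁻¹ * ψ C) * x = x * (C⁻¹ * ψ C) := by
      have e2 : ψ C * x = x ^ s * ψ C := by rw [← e1]; group
      have e3 : C * x = x ^ s * C := by rw [← e0]; group
      have e4 : C⁻¹ * x ^ s = x * C⁻¹ := by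
        rw [inv_mul_eq_iff_eq_mul, ← mul_assoc, e3, mul_inv_cancel_right]
      rw [mul_assoc, e2, ← mul_assoc, e4, mul_assoc]
    have hZ : (C⁻¹ * ψ C) * A = A * (C⁻¹ * ψ C) := by
      obtain ⟨z, hz⟩ := Subgroup.mem_zpowers_iff.mp hAx
      rw [← hz]
      exact ((show Commute (C⁻¹ * ψ C) x from hZx).zpow_right z).eq
    have hZm := hcA _ hZ
    obtain ⟨T, hT, hTC⟩ := hnA _ hZm
    apply hP T
    apply R2
    · rw [MulAut.mul_apply, MulAut.conj_apply, ← hx, commute_of_mem_zpowers hT h1,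
        mul_inv_cancel_right]
      exact h1
    · rw [MulAut.mul_apply, MulAut.conj_apply]
      rw [mul_inv_cancel_left] at hTC
      exact hTC
  intro φ
  obtain ⟨g, hg⟩ := exists_conj_mem_zpowers p A hoA hp2 φ
  apply hP g
  apply R1
  rw [MulAut.mul_apply, MulAut.conj_apply]
  exact hg

end Cfsg.Agent.Helper26.OutAbs
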