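import Cfsg.Agent.Helper26.OutCo2D
import Cfsg.Agent.Helper26.OutAbs2
import Cfsg.Agent.Helper27.M22Main

/-!
# The stabiliser of `(-3, 1^23)` and `(4, 4, 0^22)`: the McLaughlin group

`LM = Stab_{Co0}(v1) ⊓ Stab_{Co0}(x0)`; it contains the coordinate permutations of `M22`
(fixing the points `none` and `0`), which form the stabiliser of `(-4, 4, 0^22)`.  The first
hypotheses of the Sylow chain for the element of order 11.
-/

set_option autoImplicit false

namespace Cfsg.Agent.Helper26.OutMcL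

open Cfsg Cfsg.Agent.Helper7 Cfsg.Agent.Helper27 Cfsg.Agent.Helper93.HSL
  Cfsg.Agent.Helper26.OutCo2 MulAction
open Cfsg.Agent.Helper8 hiding x0L

/-- the stabiliser of the two vectors -/
abbrev LM : Subgroup ↥Co0 := stabilizer ↥Co0 v1L ⊓ stabilizer ↥Co0 x0L

theorem mem_LM {g : ↥Co0} : g ∈ LM ↔ g • v1L = v1L ∧ g • x0L = x0L := by
  rw [Subgroup.mem_inf, mem_stabilizer_iff, mem_stabilizer_iff]

theorem LM_smul_v1 (g : ↥LM) : (g : ↥Co0) • v1L = v1L := (mem_LM.mp g.2).1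

theorem LM_smul_x0 (g : ↥LM) : (g : ↥Co0) • x0L = x0L := (mem_LM.mp g.2).2

/-- the inclusion into the stabiliser of the first vector -/
def toG2 : ↥LM →* ↥G2 where
  toFun g := ⟨g.1, g.2.1⟩
  map_one' := rfl
  map_mul' _ _ := rfl

theorem toG2_val (g : ↥LM) : ((toG2 g : ↥G2) : ↥Co0) = g.1 := rfl

theorem toG2_injective : Function.Injective toG2 := by
  intro g h e
  exact Subtype.ext (congrArg (fun x : ↥G2 => (x : ↥Co0)) e)

instance : Finite ↥LM := Finite.of_injective toG2 toG2_injective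

theorem not_sq_dvd_card_LM : ¬ 11 ^ 2 ∣ Nat.card ↥LM := by
  intro h
  have h1 : Nat.card ↥LM ∣ Nat.card ↥G2 := by
    have := Subgroup.card_subgroup_dvd_card (toG2.range)
    rwa [Nat.card_congr (MonoidHom.ofInjective toG2_injective).toEquiv.symm] at this
  have h2 := h.trans h1
  rw [card_G2] at h2
  norm_num at h2

theorem monoHom_smul_x0 {σ : ↥M24} (h1 : σ.1 none = none) (h0 : σ.1 (some 0) = some 0) :
    monoHom σ • x0L = x0L := by
  apply Subtype.ext
  funext i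
  rw [monoHom_smul]
  show Spor.vecU ((σ : Equiv.Perm GolayPt).symm i) = Spor.vecU i
  have e1 : (σ : Equiv.Perm GolayPt).symm i = none ↔ i = none := by
    rw [Equiv.symm_apply_eq]
    constructor
    · intro h; rw [h, h1]
    · intro h; rw [h, h1]
  have e0 : (σ : Equiv.Perm GolayPt).symm i = some 0 ↔ i = some 0 := by
    rw [Equiv.symm_apply_eq]
    constructor
    · intro h; rw [h, h0]
    · intro h; rw [h, h0]
  unfold Spor.vecU
  simp only [e1, e0]

/-- the coordinate permutations of `M22` inside `LM` -/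
noncomputable def m22 : ↥M22p →* ↥LM where
  toFun σ := ⟨monoHom ⟨σ.1, (mem_M22p.mp σ.2).1⟩, mem_LM.mpr
    ⟨monoHom_smul_v1 (mem_M22p.mp σ.2).2.2,
      monoHom_smul_x0 (mem_M22p.mp σ.2).2.2 (mem_M22p.mp σ.2).2.1⟩⟩
  map_one' := by
    apply Subtype.ext
    show monoHom ⟨(1 : ↥M22p).1, _⟩ = 1
    exact map_one monoHom
  map_mul' := by
    intro σ τ
    apply Subtype.ext
    show monoHom ⟨(σ * τ : ↥M22p).1, _⟩ =
      monoHom ⟨σ.1, (mem_M22p.mp σ.2).1⟩ * monoHom ⟨τ.1, (mem_M22p.mp τ.2).1⟩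
    rw [← map_mul]
    rfl

theorem m22_val (σ : ↥M22p) : ((m22 σ : ↥LM) : ↥Co0) = monoHom ⟨σ.1, (mem_M22p.mp σ.2).1⟩ := rfl

theorem m22_injective : Function.Injective m22 := by
  intro σ τ h
  have h1 : monoHom ⟨σ.1, (mem_M22p.mp σ.2).1⟩ = monoHom ⟨τ.1, (mem_M22p.mp τ.2).1⟩ :=
    congrArg Subtype.val h
  have h2 := monoHom_injective h1
  exact Subtype.ext (congrArg (fun x : ↥M24 => (x : Equiv.Perm GolayPt)) h2)

theorem m22_congr {x y : ↥M22p} (h : x.1 = y.1) : m22 x = m22 y := by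
  rw [Subtype.ext h]

theorem toG2_m22 (σ : ↥M22p) : toG2 (m22 σ) = m23 ⟨σ.1, M22p_le_M23p σ.2⟩ := rfl

theorem x0_apply_none : x0L.1 none = 4 := x0_vals.1

theorem x0_apply_ne {i : GolayPt} (h1 : i ≠ none) (h0 : i ≠ some 0) : x0L.1 i = 0 := by
  show Spor.vecU i = 0
  unfold Spor.vecU
  rw [if_neg]
  rintro (h | h)
  · exact h1 h
  · exact h0 h

/-- an element of `LM` fixing `(-4, 4, 0^22)` is a coordinate permutation of `M22` -/
theorem exists_m22_of_fix_z0 (g : ↥LM) (hz : (g : ↥Co0) • z0L = z0L) : ∃ σ : ↥M22p, g = m22 σ := by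
  have h8 : (g : ↥Co0) • vec8 none = vec8 none := by
    rw [vec8_none_eq', co0_smul_sub, LM_smul_x0, hz]
  obtain ⟨σ, hσ⟩ := exists_m23_of_fix8 (toG2 g) h8
  have hg : (g : ↥Co0) = monoHom ⟨σ.1, σ.2.1⟩ := congrArg (fun x : ↥G2 => (x : ↥Co0)) hσ
  have hx := LM_smul_x0 g
  rw [hg] at hx
  have h0 : σ.1 (some 0) = some 0 := by
    have h1 := fixed_apply hx (some 0)
    by_contra hne
    have hn : σ.1 (some 0) ≠ none := by
      intro h
      have h2 : σ.1 none = none := mem_stabilizer_iff.mp σ.2.2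
      have := σ.1.injective (h.trans h2.symm)
      exact Option.some_ne_none _ this
    have h3 : x0L.1 (σ.1 (some 0)) = 0 := x0_apply_ne hn hne
    have h4 : x0L.1 (some 0) = 4 := x0_vals.2.1
    change x0L.1 (σ.1 (some 0)) = x0L.1 (some 0) at h1
    rw [h3, h4] at h1
    norm_num at h1
  have hm : σ.1 ∈ M22p := mem_M22p.mpr ⟨σ.2.1, h0, mem_stabilizer_iff.mp σ.2.2⟩
  exact ⟨⟨σ.1, hm⟩, Subtype.ext hg⟩

/-! ### the elements of order 11 and 5 -/

/-- the doubling in `M22` -/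
def cQ : ↥M22p := ⟨mu23, mu23_mem_M22p⟩

/-- the cube twist in `M22` -/
noncomputable def dQ : ↥M22p := ⟨cubeTwist, cubeTwist_mem_M22p⟩

/-- the element of order 11 -/
noncomputable def cL : ↥LM := m22 cQ

/-- the element of order 5 -/
noncomputable def dL : ↥LM := m22 dQ

theorem toG2_cL : toG2 cL = elC := rfl

theorem toG2_dL : toG2 dL = elD := rfl

theorem cL_val : (cL : ↥Co0) = (elC : ↥Co0) := rfl

theorem dL_val : (dL : ↥Co0) = (elD : ↥Co0) := rfl

theorem orderOf_cL : orderOf cL = 11 := by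
  rw [← orderOf_injective toG2 toG2_injective, toG2_cL, orderOf_elC]

theorem orderOf_dL : orderOf dL = 5 := by
  rw [← orderOf_injective toG2 toG2_injective, toG2_dL, orderOf_elD]

theorem cL_pow : cL ^ 11 = 1 := by
  rw [← orderOf_cL]; exact pow_orderOf_eq_one cL

theorem dL_pow : dL ^ 5 = 1 := by
  rw [← orderOf_dL]; exact pow_orderOf_eq_one dL

theorem dL_conj_cL : dL * cL * dL⁻¹ = cL ^ 3 := by
  apply toG2_injective
  rw [map_mul, map_mul, map_inv, map_pow, toG2_cL, toG2_dL]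
  exact elD_conj_elC

theorem normalises_cL : ∀ z ∈ Subgroup.zpowers cL, ∃ T ∈ Subgroup.zpowers cL,
    T * (dL * z) * T⁻¹ = dL :=
  OutAbs.exists_conj_eq_of_cube cL_pow dL_conj_cL

theorem mem_zpowers_of_toG2 {g c : ↥LM} (h : toG2 g ∈ Subgroup.zpowers (toG2 c)) :
    g ∈ Subgroup.zpowers c := by
  obtain ⟨k, hk⟩ := Subgroup.mem_zpowers_iff.mp h
  rw [Subgroup.mem_zpowers_iff]
  refine ⟨k, toG2_injective ?_⟩
  rw [map_zpow, hk]

/-- the centraliser of the element of order 11 -/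
theorem cent_cL (g : ↥LM) (hg : g * cL = cL * g) : g ∈ Subgroup.zpowers cL := by
  apply mem_zpowers_of_toG2
  rw [toG2_cL]
  apply cent_elC_of_fix (toG2 g) (LM_smul_x0 g)
  rw [← toG2_cL, ← map_mul, ← map_mul, hg]

/-- an element of `⟨cL⟩` commuting with `dL` is trivial -/
theorem eq_one_of_commute_dL {z : ↥LM} (hz : z ∈ Subgroup.zpowers cL) (hzD : z * dL = dL * z) :
    z = 1 :=
  OutAbs.eq_one_of_commute_cube orderOf_cL dL_conj_cL hz hzD

end Cfsg.Agent.Helper26.OutMcL
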