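import Cfsg.Agent.Helper27.M22Main

/-!
# The centraliser of the cube twist in `M22`

A permutation in `M24` fixing the points `none` and `0` and commuting with the cube twist is
determined by the images of five points; a kernel enumeration of the candidates shows that it
is a power of the cube twist.
-/

set_option autoImplicit false

namespace Cfsg.Agent.Helper26.OutMcL

open Cfsg Cfsg.Agent.Helper7 Cfsg.Agent.Helper27

/-- the cube twist on indices -/
def dT (x : ℕ) : ℕ := tC.getD x 0

/-- the candidate table of a permutation commuting with the cube twist -/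
def mkTab (a b p1 p5 p8 p11 : ℕ) : List ℕ :=
  [0, p1, dT (dT (dT p1)), a, dT (dT p1), p5, dT (dT (dT (dT p1))), dT (dT (dT (dT p5))), p8,
   dT (dT (dT p8)), dT (dT (dT p5)), p11, dT (dT (dT (dT p8))), dT (dT p8), dT (dT (dT p11)), b,
   dT p8, dT (dT (dT (dT p11))), dT p1, dT p11, dT (dT p5), dT p5, dT (dT p11), 23]

/-- the points moved by the cube twist -/
def movL : List ℕ := [1, 18, 4, 2, 6, 5, 21, 20, 10, 7, 8, 16, 13, 9, 12, 11, 19, 22, 14, 17]

/-- the table of the cycles of the cube twist -/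
def cyT : List ℕ := [9, 0, 0, 9, 0, 1, 0, 1, 2, 2, 1, 3, 2, 2, 3, 9, 2, 3, 0, 3, 1, 1, 3, 9]

/-- the cycle of an index -/
def cyI (x : ℕ) : ℕ := cyT.getD x 9

/-- the tables of the powers of the cube twist -/
def powD : List (List ℕ) := (List.range 5).map (tpow tC)

set_option maxRecDepth 1000000 in
theorem cent_enum : ∀ p1 ∈ movL, ∀ p5 ∈ movL, cyI p5 ≠ cyI p1 → ∀ p8 ∈ movL, cyI p8 ≠ cyI p1 →
    cyI p8 ≠ cyI p5 → ∀ p11 ∈ movL, cyI p11 ≠ cyI p1 → cyI p11 ≠ cyI p5 → cyI p11 ≠ cyI p8 →
    ∀ ab ∈ [((3 : ℕ), (15 : ℕ)), (15, 3)], m24chk (mkTab ab.1 ab.2 p1 p5 p8 p11) = true →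
      mkTab ab.1 ab.2 p1 p5 p8 p11 ∈ powD := by decide +kernel

theorem dT_lt : ∀ x < 24, dT x < 24 := by decide

theorem dT_fix : ∀ x < 24, dT x = x → x = 0 ∨ x = 3 ∨ x = 15 ∨ x = 23 := by decide

theorem mem_movL : ∀ x < 24, dT x ≠ x → x ∈ movL := by decide

theorem same_cycle : ∀ x ∈ movL, ∀ y ∈ movL, cyI y = cyI x →
    y = x ∨ y = dT x ∨ y = dT (dT x) ∨ y = dT (dT (dT x)) ∨ y = dT (dT (dT (dT x))) := by
  decide

theorem cubeTwist_pt (i : ℕ) (hi : i < 24) : cubeTwist (pt i) = pt (dT i) := by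
  rw [isTable_cubeTwist.apply, idx_pt hi]
  rfl

/-- the centraliser of the cube twist in `M22` -/
theorem mem_zpowers_of_commute {g : Equiv.Perm GolayPt} (hg : g ∈ M24) (hn : g none = none)
    (h0 : g (some 0) = some 0) (hc : g * cubeTwist = cubeTwist * g) :
    g ∈ Subgroup.zpowers cubeTwist := by
  -- the function on indices
  obtain ⟨f, hf⟩ : ∃ f : ℕ → ℕ, ∀ i, f i = idx (g (pt i)) := ⟨fun i => idx (g (pt i)), fun _ => rfl⟩
  have hflt : ∀ i, f i < 24 := fun i => by rw [hf]; exact idx_lt _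
  have hgf : ∀ i, g (pt i) = pt (f i) := fun i => by rw [hf, pt_idx]
  have hinj : ∀ i < 24, ∀ j < 24, f i = f j → i = j := by
    intro i hi j hj h
    have h1 : g (pt i) = g (pt j) := by rw [hgf, hgf, h]
    have h2 := g.injective h1
    have h3 := congrArg idx h2
    rwa [idx_pt hi, idx_pt hj] at h3
  have hd : ∀ i < 24, f (dT i) = dT (f i) := by
    intro i hi
    have h1 := congrArg (fun σ : Equiv.Perm GolayPt => σ (pt i)) hc
    simp only [Equiv.Perm.mul_apply] at h1
    rw [cubeTwist_pt i hi, hgf, hgf, cubeTwist_pt _ (hflt i)] at h1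
    have h2 := congrArg idx h1
    rwa [idx_pt (hflt _), idx_pt (dT_lt _ (hflt i))] at h2
  have hd2 : ∀ i < 24, f (dT (dT i)) = dT (dT (f i)) := fun i hi => by
    rw [hd _ (dT_lt i hi), hd i hi]
  have hd3 : ∀ i < 24, f (dT (dT (dT i))) = dT (dT (dT (f i))) := fun i hi => by
    rw [hd _ (dT_lt _ (dT_lt i hi)), hd2 i hi]
  have hd4 : ∀ i < 24, f (dT (dT (dT (dT i)))) = dT (dT (dT (dT (f i)))) := fun i hi => by
    rw [hd _ (dT_lt _ (dT_lt _ (dT_lt i hi))), hd3 i hi]
  have f23 : f 23 = 23 := by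
    rw [hf]
    show idx (g none) = 23
    rw [hn]; rfl
  have f0 : f 0 = 0 := by
    rw [hf]
    show idx (g (some 0)) = 0
    rw [h0]; rfl
  -- the fixed points
  have hfixv : ∀ i < 24, dT i = i → i ≠ 0 → i ≠ 23 → f i = 3 ∨ f i = 15 := by
    intro i hi hdi hi0 hi23
    have h1 := hd i hi
    rw [hdi] at h1
    rcases dT_fix _ (hflt i) h1.symm with h | h | h | h
    · exact absurd (hinj i hi 0 (by norm_num) (h.trans f0.symm)) hi0
    · exact Or.inl h
    · exact Or.inr h
    · exact absurd (hinj i hi 23 (by norm_num) (h.trans f23.symm)) hi23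
  have ha := hfixv 3 (by norm_num) (by decide) (by norm_num) (by norm_num)
  have hb := hfixv 15 (by norm_num) (by decide) (by norm_num) (by norm_num)
  have hab : f 3 ≠ f 15 := fun h => absurd (hinj 3 (by norm_num) 15 (by norm_num) h) (by norm_num)
  have habm : (f 3, f 15) ∈ [((3 : ℕ), (15 : ℕ)), (15, 3)] := by
    rcases ha with ha | ha <;> rcases hb with hb | hb
    · exact absurd (ha.trans hb.symm) hab
    · rw [ha, hb]; simp
    · rw [ha, hb]; simp
    · exact absurd (ha.trans hb.symm) hab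
  -- the moved points
  have hmov : ∀ i < 24, dT i ≠ i → f i ∈ movL := by
    intro i hi hdi
    apply mem_movL _ (hflt i)
    intro h
    have h1 := hd i hi
    rw [h] at h1
    exact hdi (hinj _ (dT_lt i hi) i hi h1)
  have hcyc : ∀ i < 24, ∀ j < 24, dT i ≠ i → dT j ≠ j → j ≠ i → j ≠ dT i → j ≠ dT (dT i) →
      j ≠ dT (dT (dT i)) → j ≠ dT (dT (dT (dT i))) → cyI (f j) ≠ cyI (f i) := by
    intro i hi j hj hdi hdj n0 n1 n2 n3 n4 h
    rcases same_cycle _ (hmov i hi hdi) _ (hmov j hj hdj) h with e | e | e | e | e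
    · exact n0 (hinj j hj i hi e)
    · rw [← hd i hi] at e
      exact n1 (hinj j hj _ (dT_lt i hi) e)
    · rw [← hd2 i hi] at e
      exact n2 (hinj j hj _ (dT_lt _ (dT_lt i hi)) e)
    · rw [← hd3 i hi] at e
      exact n3 (hinj j hj _ (dT_lt _ (dT_lt _ (dT_lt i hi))) e)
    · rw [← hd4 i hi] at e
      exact n4 (hinj j hj _ (dT_lt _ (dT_lt _ (dT_lt _ (dT_lt i hi)))) e)
  have m1 := hmov 1 (by norm_num) (by decide)
  have m5 := hmov 5 (by norm_num) (by decide)
  have m8 := hmov 8 (by norm_num) (by decide)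
  have m11 := hmov 11 (by norm_num) (by decide)
  have c51 := hcyc 1 (by norm_num) 5 (by norm_num) (by decide) (by decide) (by decide) (by decide)
    (by decide) (by decide) (by decide)
  have c81 := hcyc 1 (by norm_num) 8 (by norm_num) (by decide) (by decide) (by decide) (by decide)
    (by decide) (by decide) (by decide)
  have c85 := hcyc 5 (by norm_num) 8 (by norm_num) (by decide) (by decide) (by decide) (by decide)
    (by decide) (by decide) (by decide)
  have c111 := hcyc 1 (by norm_num) 11 (by norm_num) (by decide) (by decide) (by decide)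
    (by decide) (by decide) (by decide) (by decide)
  have c115 := hcyc 5 (by norm_num) 11 (by norm_num) (by decide) (by decide) (by decide)
    (by decide) (by decide) (by decide) (by decide)
  have c118 := hcyc 8 (by norm_num) 11 (by norm_num) (by decide) (by decide) (by decide)
    (by decide) (by decide) (by decide) (by decide)
  -- the table
  have htab : tabOfFun g = mkTab (f 3) (f 15) (f 1) (f 5) (f 8) (f 11) := by
    have e2 := hd3 1 (by norm_num)
    have e4 := hd2 1 (by norm_num)
    have e6 := hd4 1 (by norm_num)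
    have e7 := hd4 5 (by norm_num)
    have e9 := hd3 8 (by norm_num)
    have e10 := hd3 5 (by norm_num)
    have e12 := hd4 8 (by norm_num)
    have e13 := hd2 8 (by norm_num)
    have e14 := hd3 11 (by norm_num)
    have e16 := hd 8 (by norm_num)
    have e17 := hd4 11 (by norm_num)
    have e18 := hd 1 (by norm_num)
    have e19 := hd 11 (by norm_num)
    have e20 := hd2 5 (by norm_num)
    have e21 := hd 5 (by norm_num)
    have e22 := hd2 11 (by norm_num)
    rw [show dT (dT (dT 1)) = 2 from rfl] at e2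
    rw [show dT (dT 1) = 4 from rfl] at e4
    rw [show dT (dT (dT (dT 1))) = 6 from rfl] at e6
    rw [show dT (dT (dT (dT 5))) = 7 from rfl] at e7
    rw [show dT (dT (dT 8)) = 9 from rfl] at e9
    rw [show dT (dT (dT 5)) = 10 from rfl] at e10
    rw [show dT (dT (dT (dT 8))) = 12 from rfl] at e12
    rw [show dT (dT 8) = 13 from rfl] at e13
    rw [show dT (dT (dT 11)) = 14 from rfl] at e14
    rw [show dT 8 = 16 from rfl] at e16
    rw [show dT (dT (dT (dT 11))) = 17 from rfl] at e17
    rw [show dT 1 = 18 from rfl] at e18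
    rw [show dT 11 = 19 from rfl] at e19
    rw [show dT (dT 5) = 20 from rfl] at e20
    rw [show dT 5 = 21 from rfl] at e21
    rw [show dT (dT 11) = 22 from rfl] at e22
    unfold tabOfFun mkTab
    rw [show List.range 24 = [0, 1, 2, 3, 4, 5, 6, 7, 8, 9, 10, 11, 12, 13, 14, 15, 16, 17, 18, 19,
      20, 21, 22, 23] from rfl]
    simp only [List.map_cons, List.map_nil, ← hf]
    rw [f0, f23, e2, e4, e6, e7, e9, e10, e12, e13, e14, e16, e17, e18, e19, e20, e21, e22]
  have hchk : m24chk (mkTab (f 3) (f 15) (f 1) (f 5) (f 8) (f 11)) = true := by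
    rw [← htab]
    exact m24chk_of_mem hg (isTable_tabOfFun g)
  have hmem := cent_enum _ m1 _ m5 c51 _ m8 c81 c85 _ m11 c111 c115 c118 _ habm hchk
  rw [← htab] at hmem
  unfold powD at hmem
  rw [List.mem_map] at hmem
  obtain ⟨k, -, hk⟩ := hmem
  have t1 := isTable_tpow isTable_cubeTwist k
  rw [hk] at t1
  rw [(isTable_tabOfFun g).inj t1]
  exact Subgroup.pow_mem _ (Subgroup.mem_zpowers _) _

end Cfsg.Agent.Helper26.OutMcL
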