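import Mathlib
import Cfsg.Prelude.Def_SporadicCombinatorics
import Cfsg.Agent.Helper26.GolayAbs
import Cfsg.Agent.Helper26.Steiner

/-!
Trios: counting them from `IsSteinerSystem 5 8 octads` and "30 octads disjoint from an octad".
-/

set_option autoImplicit false
set_option linter.unusedSectionVars false

namespace Cfsg.Agent.Helper26

open Cfsg

/-- The number of octads, from the Steiner property. -/
theorem card_octads_of_steiner (hS : IsSteinerSystem 5 8 octads) : octads.ncard = 759 := by
  have h := card_blocks hS
  rw [card_golayPt] at h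
  have h1 : Nat.choose 8 5 = 56 := by decide +kernel
  have h2 : Nat.choose 24 5 = 42504 := by decide +kernel
  rw [h1, h2] at h
  omega

theorem card_of_mem_octads {o : Finset GolayPt} (ho : o ∈ octads) : o.card = 8 := ho.2

/-- If `c` is an octad disjoint from the disjoint octads `a`, `b`, it is the complement of `a ∪ b`.-/
theorem eq_compl_union {a b c : Finset GolayPt} (ha : a ∈ octads) (hb : b ∈ octads)
    (hc : c ∈ octads) (hab : Disjoint a b) (hac : Disjoint a c) (hbc : Disjoint b c) :
    c = (a ∪ b)ᶜ := by
  apply Finset.eq_of_subset_of_card_le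
  · intro x hx
    rw [Finset.mem_compl, Finset.mem_union]
    rintro (h | h)
    · exact Finset.disjoint_left.1 hac h hx
    · exact Finset.disjoint_left.1 hbc h hx
  · rw [Finset.card_compl, card_golayPt, Finset.card_union_of_disjoint hab, ha.2, hb.2, hc.2]

theorem trio_of_disjoint {a b : Finset GolayPt} (ha : a ∈ octads) (hb : b ∈ octads)
    (hab : Disjoint a b) : ({a, b, (a ∪ b)ᶜ} : Finset (Finset GolayPt)) ∈ trios := by
  have hc : (a ∪ b)ᶜ ∈ octads := compl_union_mem_octads ha hb hab
  have hac : Disjoint a (a ∪ b)ᶜ := by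
    rw [Finset.disjoint_left]
    intro x hx h
    exact Finset.mem_compl.1 h (Finset.mem_union_left _ hx)
  have hbc : Disjoint b (a ∪ b)ᶜ := by
    rw [Finset.disjoint_left]
    intro x hx h
    exact Finset.mem_compl.1 h (Finset.mem_union_right _ hx)
  have hne : ∀ {x y : Finset GolayPt}, x ∈ octads → Disjoint x y → x ≠ y := by
    intro x y hx hxy h
    subst h
    rw [disjoint_self, Finset.bot_eq_empty] at hxy
    have := hx.2
    rw [hxy] at this
    simp at this
  refine ⟨?_, ?_, ?_⟩
  · rw [Finset.card_eq_three]
    exact ⟨a, b, (a ∪ b)ᶜ, hne ha hab, hne ha hac, hne hb hbc, rfl⟩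
  · intro o ho
    simp only [Finset.mem_insert, Finset.mem_singleton] at ho
    rcases ho with rfl | rfl | rfl
    · exact ha
    · exact hb
    · exact hc
  · intro o ho o' ho' hoo'
    simp only [Finset.mem_insert, Finset.mem_singleton] at ho ho'
    rcases ho with rfl | rfl | rfl <;> rcases ho' with rfl | rfl | rfl
    · exact absurd rfl hoo'
    · exact hab
    · exact hac
    · exact hab.symm
    · exact absurd rfl hoo'
    · exact hbc
    · exact hac.symm
    · exact hbc.symm
    · exact absurd rfl hoo'

/-- The number of trios, given the Steiner property and the count of octads disjoint from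
an octad. -/
theorem card_trios (hS : IsSteinerSystem 5 8 octads)
    (h30 : ∀ o ∈ octads, {c : Finset GolayPt | c ∈ octads ∧ Disjoint o c}.ncard = 30) :
    trios.ncard = 3795 := by
  classical
  let Oct : Finset (Finset GolayPt) := Finset.univ.filter (fun o => o ∈ octads)
  have hOct : ∀ o, o ∈ Oct ↔ o ∈ octads := by
    intro o; simp [Oct]
  let D : Finset GolayPt → Finset (Finset GolayPt) := fun a =>
    Finset.univ.filter (fun c => c ∈ octads ∧ Disjoint a c)
  have hD : ∀ a c, c ∈ D a ↔ c ∈ octads ∧ Disjoint a c := by
    intro a c; simp [D]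
  let Tr : Finset (Finset (Finset GolayPt)) := Finset.univ.filter (fun T => T ∈ trios)
  have hTr : ∀ T, T ∈ Tr ↔ T ∈ trios := by
    intro T; simp [Tr]
  let Ord := Oct.sigma D
  let φ : (Σ _ : Finset GolayPt, Finset GolayPt) → Finset (Finset GolayPt) :=
    fun p => {p.1, p.2, (p.1 ∪ p.2)ᶜ}
  have hmaps : ∀ p ∈ Ord, φ p ∈ Tr := by
    rintro ⟨a, b⟩ hp
    rw [Finset.mem_sigma, hOct, hD] at hp
    rw [hTr]
    exact trio_of_disjoint hp.1 hp.2.1 hp.2.2
  have hne : ∀ {x y : Finset GolayPt}, x ∈ octads → Disjoint x y → x ≠ y := by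
    intro x y hx hxy h
    subst h
    rw [disjoint_self, Finset.bot_eq_empty] at hxy
    have := hx.2
    rw [hxy] at this
    simp at this
  have hfib : ∀ T ∈ Tr, (Ord.filter (fun p => φ p = T)).card = 6 := by
    intro T hT
    rw [hTr] at hT
    obtain ⟨hc, hoct, hdis⟩ := hT
    have : (Ord.filter (fun p => φ p = T)) =
        T.offDiag.map ⟨fun q => (⟨q.1, q.2⟩ : Σ _ : Finset GolayPt, Finset GolayPt), by
          rintro ⟨a, b⟩ ⟨a', b'⟩ h
          simp only [Sigma.mk.injEq, heq_eq_eq] at h
          exact Prod.ext h.1 h.2⟩ := by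
      ext ⟨a, b⟩
      rw [Finset.mem_filter, Finset.mem_map]
      constructor
      · rintro ⟨hp, hφ⟩
        rw [Finset.mem_sigma, hOct, hD] at hp
        refine ⟨(a, b), ?_, rfl⟩
        rw [Finset.mem_offDiag]
        simp only [φ] at hφ
        refine ⟨?_, ?_, hne hp.1 hp.2.2⟩
        · rw [← hφ]; simp
        · rw [← hφ]; simp
      · rintro ⟨⟨a', b'⟩, hq, he⟩
        have h1 : a' = a := congrArg (fun p : (Σ _ : Finset GolayPt, Finset GolayPt) => p.1) he
        have h2 : b' = b := congrArg (fun p : (Σ _ : Finset GolayPt, Finset GolayPt) => p.2) he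
        subst h1 h2
        rw [Finset.mem_offDiag] at hq
        obtain ⟨haT, hbT, hab⟩ := hq
        have hdab : Disjoint a' b' := hdis a' haT b' hbT hab
        refine ⟨?_, ?_⟩
        · rw [Finset.mem_sigma, hOct, hD]
          exact ⟨hoct a' haT, hoct b' hbT, hdab⟩
        · -- T = {a', b', c}
          simp only [φ]
          symm
          apply Finset.eq_of_subset_of_card_le
          · intro x hx
            by_cases hxa : x = a'
            · rw [hxa]; simp
            by_cases hxb : x = b'
            · rw [hxb]; simp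
            have hxc : x = (a' ∪ b')ᶜ :=
              eq_compl_union (hoct a' haT) (hoct b' hbT) (hoct x hx) hdab
                (hdis a' haT x hx (Ne.symm hxa)) (hdis b' hbT x hx (Ne.symm hxb))
            rw [hxc]; simp
          · rw [hc]
            exact Finset.card_le_three
    rw [this, Finset.card_map, Finset.offDiag_card, hc]
  have hcount := Finset.card_eq_sum_card_fiberwise (f := φ) (s := Ord) (t := Tr) hmaps
  have hsum : ∑ T ∈ Tr, (Ord.filter (fun p => φ p = T)).card = ∑ _T ∈ Tr, 6 :=
    Finset.sum_congr rfl hfib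
  rw [hsum, Finset.sum_const, smul_eq_mul] at hcount
  have hOctcard : Oct.card = 759 := by
    rw [← card_octads_of_steiner hS]
    have : octads = (↑Oct : Set (Finset GolayPt)) := by
      ext o
      simp only [Finset.mem_coe, hOct]
    rw [this, Set.ncard_coe_finset]
  have hOrd : Ord.card = 759 * 30 := by
    rw [Finset.card_sigma]
    have : ∑ a ∈ Oct, (D a).card = ∑ _a ∈ Oct, 30 := by
      apply Finset.sum_congr rfl
      intro a ha
      rw [hOct] at ha
      rw [← h30 a ha]
      have : {c : Finset GolayPt | c ∈ octads ∧ Disjoint a c} =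
          (↑(D a) : Set (Finset GolayPt)) := by
        ext c
        simp only [Finset.mem_coe, hD]
        rfl
      rw [this, Set.ncard_coe_finset]
    rw [this, Finset.sum_const, smul_eq_mul, hOctcard]
  have hn : trios.ncard = Tr.card := by
    have : trios = (↑Tr : Set (Finset (Finset GolayPt))) := by
      ext T
      simp only [Finset.mem_coe, hTr]
    rw [this, Set.ncard_coe_finset]
  rw [hn]
  omega

end Cfsg.Agent.Helper26
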