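import Cfsg.Agent.Helper26.McLA
import Cfsg.Agent.Helper92.CentTools

/-!
# The McLaughlin group: an involution of `M22` and an element of order 5 outside `M22`

The involution `uL` of `M22` inverts the element `dL` of order 5; the element `zL`, given by a
word, centralises `dL` and `uL` and permutes five vectors fixed by `dL` cyclically.
-/

set_option autoImplicit false

namespace Cfsg.Agent.Helper26.OutMcL

open Cfsg Cfsg.Agent.Helper7 Cfsg.Agent.Helper27 Cfsg.Agent.Helper92 Cfsg.Agent.Helper93.HSL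
  Cfsg.Agent.Helper26.OutCo2 MulAction
open Cfsg.Agent.Helper8 hiding x0L

/-! ### the involution -/

/-- the table of the involution -/
def tU : List ℕ := [0, 1, 4, 3, 2, 20, 18, 10, 9, 8, 7, 17, 12, 16, 19, 15, 13, 11, 6, 14, 5, 21,
  22, 23]

theorem tU_inv : isInvPair tU tU = true := by decide +kernel

theorem tU_chk : checkM24 tU = true := by decide +kernel

/-- the involution as a permutation -/
def uP : Equiv.Perm GolayPt := permOfTabs tU tU

theorem uP_mem_M24 : uP ∈ M24 := permOfTabs_mem_M24 tU_inv tU_chk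

theorem isTable_uP : IsTable tU uP := isTable_permOfTabs tU_inv (by decide)

theorem uP_mem_M22p : uP ∈ M22p := by
  rw [mem_M22p]
  refine ⟨uP_mem_M24, ?_, ?_⟩
  · have := isTable_uP.apply (some 0)
    rw [this]
    decide +kernel
  · have := isTable_uP.apply none
    rw [this]
    decide +kernel

theorem uP_conj : uP * cubeTwist = cubeTwist ^ 4 * uP := by
  have t1 := isTable_uP.mul isTable_cubeTwist
  have t2 := (isTable_tpow isTable_cubeTwist 4).mul isTable_uP
  have e : compT tU tC = compT (tpow tC 4) tU := by decide +kernel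
  rw [e] at t1
  exact t1.inj t2

theorem uP_sq : uP * uP = 1 := by
  have t1 := isTable_uP.mul isTable_uP
  have e : compT tU tU = idT := by decide +kernel
  rw [e] at t1
  exact t1.inj isTable_one

/-- the involution in `M22` -/
def uQ : ↥M22p := ⟨uP, uP_mem_M22p⟩

/-- the involution in the McLaughlin group -/
noncomputable def uL : ↥LM := m22 uQ

theorem uL_sq : uL ^ 2 = 1 := by
  unfold uL
  rw [← map_pow]
  have : uQ ^ 2 = 1 := by
    apply Subtype.ext
    show uP ^ 2 = 1
    rw [pow_two, uP_sq]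
  rw [this, map_one]

theorem uL_conj_dL : uL * dL * uL⁻¹ = dL ^ 4 := by
  have h : uQ * dQ = dQ ^ 4 * uQ := by
    apply Subtype.ext
    show uP * cubeTwist = cubeTwist ^ 4 * uP
    exact uP_conj
  unfold uL dL
  rw [mul_inv_eq_iff_eq_mul, ← map_mul, ← map_pow, ← map_mul, h]

theorem acts_uL : Acts (uL : ↥Co0) [.P tU tU] := acts_perm tU_inv tU_chk

theorem acts_dL : Acts (dL : ↥Co0) [.P tC sC] := acts_elD

theorem acts_cL : Acts (cL : ↥Co0) [.P tM sM] := acts_elC

/-! ### the element of order 5 -/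

/-- the word of the element of order 5 -/
def wZ : List Letter := [
  .P [9, 16, 4, 1, 6, 7, 21, 22, 20, 15, 18, 23, 14, 10, 12, 3, 17, 13, 0, 2, 8, 11, 19, 5] [18, 3, 19, 15, 2, 23, 4, 5, 20, 0, 13, 21, 14, 17, 12, 9, 1, 16, 10, 22, 8, 6, 7, 11],
  .S 7770270,
  .X,
  .S 9256176,
  .P [12, 22, 10, 17, 11, 3, 23, 20, 18, 19, 14, 9, 13, 16, 5, 7, 2, 6, 1, 8, 21, 4, 15, 0] [23, 18, 16, 5, 21, 14, 17, 15, 19, 11, 2, 4, 0, 12, 10, 22, 13, 3, 8, 9, 7, 20, 1, 6],
  .X,
  .S 2331547,
  .P [18, 15, 9, 10, 2, 3, 7, 5, 19, 17, 22, 4, 6, 11, 23, 14, 16, 21, 12, 0, 8, 20, 1, 13] [19, 22, 4, 5, 11, 7, 12, 6, 20, 2, 3, 13, 18, 23, 15, 1, 16, 9, 0, 8, 21, 17, 10, 14]]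

set_option maxRecDepth 100000 in
theorem wZ_ok : okW wZ = true := by decide +kernel

/-- the element of order 5 -/
noncomputable def zE : ↥Co0 := Classical.choose (exists_co0_word wZ wZ_ok)

theorem acts_zE : Acts zE wZ := Classical.choose_spec (exists_co0_word wZ wZ_ok)

/-- the lists of the images of `(-4, 4, 0^22)` -/
def ly1 : List ℤ := [2, 0, 0, -2, 0, 2, 0, 2, 0, 0, 2, 0, 0, 0, 0, 0, 0, 0, 0, 0, 2, 2, 0, -2]
def ly2 : List ℤ := [1, -1, -1, -1, -1, 1, -1, 1, 1, 1, 1, 1, 1, 1, 1, 3, 1, 1, -1, 1, 1, 1, 1, -1]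
def ly3 : List ℤ := [1, -1, -1, 3, -1, 1, -1, 1, 1, 1, 1, 1, 1, 1, 1, -1, 1, 1, -1, 1, 1, 1, 1, -1]
def ly4 : List ℤ := [2, 0, 0, 0, 0, 0, 0, 0, 2, 2, 0, 0, 2, 2, 0, -2, 2, 0, 0, 0, 0, 0, 0, -2]

set_option maxRecDepth 100000 in
theorem wZ_v1 : runW wZ lv1 = lv1 := by decide +kernel

set_option maxRecDepth 100000 in
theorem wZ_x0 : runW wZ lx0 = lx0 := by decide +kernel

set_option maxRecDepth 100000 in
theorem wZ_z0 : runW wZ lz0 = ly1 := by decide +kernel

set_option maxRecDepth 100000 in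
theorem wZ_y1 : runW wZ ly1 = ly2 := by decide +kernel

set_option maxRecDepth 100000 in
theorem wZ_y2 : runW wZ ly2 = ly3 := by decide +kernel

set_option maxRecDepth 100000 in
theorem wZ_y3 : runW wZ ly3 = ly4 := by decide +kernel

set_option maxRecDepth 100000 in
theorem wZ_y4 : runW wZ ly4 = lz0 := by decide +kernel

theorem zE_v1 : zE • v1L = v1L := by
  apply Subtype.ext
  rw [acts_zE.run wZ_ok v1_list, wZ_v1]
  exact v1_list.symm

theorem zE_x0 : zE • x0L = x0L := by
  apply Subtype.ext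
  rw [acts_zE.run wZ_ok x0_list, wZ_x0]
  exact x0_list.symm

/-- the element of order 5 in the McLaughlin group -/
noncomputable def zL : ↥LM := ⟨zE, mem_LM.mpr ⟨zE_v1, zE_x0⟩⟩

theorem zL_val : (zL : ↥Co0) = zE := rfl

/-- the images of `(-4, 4, 0^22)` -/
noncomputable def y1L : ↥leechLattice := zE • z0L
noncomputable def y2L : ↥leechLattice := zE • y1L
noncomputable def y3L : ↥leechLattice := zE • y2L
noncomputable def y4L : ↥leechLattice := zE • y3L

theorem y1_list : (y1L : IVec) = vecOf ly1 := by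
  unfold y1L
  rw [acts_zE.run wZ_ok z0_list, wZ_z0]

theorem y2_list : (y2L : IVec) = vecOf ly2 := by
  unfold y2L
  rw [acts_zE.run wZ_ok y1_list, wZ_y1]

theorem y3_list : (y3L : IVec) = vecOf ly3 := by
  unfold y3L
  rw [acts_zE.run wZ_ok y2_list, wZ_y2]

theorem y4_list : (y4L : IVec) = vecOf ly4 := by
  unfold y4L
  rw [acts_zE.run wZ_ok y3_list, wZ_y3]

theorem zE_y4 : zE • y4L = z0L := by
  apply Subtype.ext
  rw [acts_zE.run wZ_ok y4_list, wZ_y4]
  exact z0_list.symm

/-! ### commutation -/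

set_option maxRecDepth 100000 in
theorem zE_comm_dL : zE * (dL : ↥Co0) = (dL : ↥Co0) * zE := by
  apply Acts.ext (acts_dL.mul acts_zE) (acts_zE.mul acts_dL) (by decide +kernel) (by decide +kernel)
  decide +kernel

set_option maxRecDepth 100000 in
theorem zE_comm_uL : zE * (uL : ↥Co0) = (uL : ↥Co0) * zE := by
  apply Acts.ext (acts_uL.mul acts_zE) (acts_zE.mul acts_uL) (by decide +kernel) (by decide +kernel)
  decide +kernel

theorem zL_comm_dL : zL * dL = dL * zL := Subtype.ext zE_comm_dL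

theorem zL_comm_uL : zL * uL = uL * zL := Subtype.ext zE_comm_uL

end Cfsg.Agent.Helper26.OutMcL
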