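import Cfsg.Agent.Helper26.McLC
import Cfsg.Agent.Helper26.McLB

/-!
# Lattice vectors fixed by the element of order 5

Functions on the 24 points invariant under the cube twist are constant on its four cycles of
length 5; formulas for sums and inner products of such functions.
-/

set_option autoImplicit false

namespace Cfsg.Agent.Helper26.OutMcL

open Cfsg Cfsg.Agent.Helper7 Cfsg.Agent.Helper27 Cfsg.Agent.Helper92 Cfsg.Agent.Helper93.HSL
  Cfsg.Agent.Helper26.OutCo2 MulAction
open Cfsg.Agent.Helper8 hiding x0L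

/-- the cube twist on residues -/
def dZ (t : ZMod 23) : ZMod 23 := ((tC.getD t.val 0 : ℕ) : ZMod 23)

theorem cubeTwist_some (t : ZMod 23) : cubeTwist (some t) = some (dZ t) := by
  rw [isTable_cubeTwist.apply]
  revert t
  decide +kernel

theorem fixD_step {y : ↥leechLattice} (hD : (dL : ↥Co0) • y = y) (t : ZMod 23) :
    y.1 (some (dZ t)) = y.1 (some t) := by
  rw [dL_val, elD_val] at hD
  have h := fixed_apply hD (some t)
  rw [← cubeTwist_some t]
  exact h

/-- the values of a function invariant under the cube twist -/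
theorem vals_of_dZ {α : Type*} (f : GolayPt → α) (h : ∀ t : ZMod 23, f (some (dZ t)) = f (some t)) :
    (f (some 18) = f (some 1) ∧ f (some 4) = f (some 1) ∧ f (some 2) = f (some 1) ∧
      f (some 6) = f (some 1)) ∧
    (f (some 21) = f (some 5) ∧ f (some 20) = f (some 5) ∧ f (some 10) = f (some 5) ∧
      f (some 7) = f (some 5)) ∧
    (f (some 16) = f (some 8) ∧ f (some 13) = f (some 8) ∧ f (some 9) = f (some 8) ∧
      f (some 12) = f (some 8)) ∧
    (f (some 19) = f (some 11) ∧ f (some 22) = f (some 11) ∧ f (some 14) = f (some 11) ∧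
      f (some 17) = f (some 11)) := by
  have h18 := h 1
  rw [show dZ 1 = 18 from by decide] at h18
  have h4 := h 18
  rw [show dZ 18 = 4 from by decide] at h4
  rw [h18] at h4
  have h2 := h 4
  rw [show dZ 4 = 2 from by decide] at h2
  rw [h4] at h2
  have h6 := h 2
  rw [show dZ 2 = 6 from by decide] at h6
  rw [h2] at h6
  have h21 := h 5
  rw [show dZ 5 = 21 from by decide] at h21
  have h20 := h 21
  rw [show dZ 21 = 20 from by decide] at h20
  rw [h21] at h20
  have h10 := h 20
  rw [show dZ 20 = 10 from by decide] at h10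
  rw [h20] at h10
  have h7 := h 10
  rw [show dZ 10 = 7 from by decide] at h7
  rw [h10] at h7
  have h16 := h 8
  rw [show dZ 8 = 16 from by decide] at h16
  have h13 := h 16
  rw [show dZ 16 = 13 from by decide] at h13
  rw [h16] at h13
  have h9 := h 13
  rw [show dZ 13 = 9 from by decide] at h9
  rw [h13] at h9
  have h12 := h 9
  rw [show dZ 9 = 12 from by decide] at h12
  rw [h9] at h12
  have h19 := h 11
  rw [show dZ 11 = 19 from by decide] at h19
  have h22 := h 19
  rw [show dZ 19 = 22 from by decide] at h22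
  rw [h19] at h22
  have h14 := h 22
  rw [show dZ 22 = 14 from by decide] at h14
  rw [h22] at h14
  have h17 := h 14
  rw [show dZ 14 = 17 from by decide] at h17
  rw [h14] at h17
  exact ⟨⟨h18, h4, h2, h6⟩, ⟨h21, h20, h10, h7⟩, ⟨h16, h13, h9, h12⟩, ⟨h19, h22, h14, h17⟩⟩

theorem sum_of_dZ (f : GolayPt → ℤ) (h : ∀ t : ZMod 23, f (some (dZ t)) = f (some t)) :
    ∑ i, f i = f none + f (some 0) + f (some 3) + f (some 15) + 5 * f (some 1) +
      5 * f (some 5) + 5 * f (some 8) + 5 * f (some 11) := by
  obtain ⟨⟨h18, h4, h2, h6⟩, ⟨h21, h20, h10, h7⟩, ⟨h16, h13, h9, h12⟩, ⟨h19, h22, h14, h17⟩⟩ :=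
    vals_of_dZ f h
  rw [sum_golayPt, sum_zmod23 (fun t => f (some t))]
  simp only [h18, h4, h2, h6, h21, h20, h10, h7, h16, h13, h9, h12, h19, h22, h14, h17]
  ring

/-- the representative of the cycle of a residue -/
def repD (t : ZMod 23) : ZMod 23 :=
  (([0, 1, 1, 3, 1, 5, 1, 5, 8, 8, 5, 11, 8, 8, 11, 15, 8, 11, 1, 11, 5, 5, 11].getD t.val 0 : ℕ) :
    ZMod 23)

theorem repD_cases : ∀ t : ZMod 23, repD t = 0 ∨ repD t = 1 ∨ repD t = 3 ∨ repD t = 5 ∨
    repD t = 8 ∨ repD t = 11 ∨ repD t = 15 := by decide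

theorem val_repD {α : Type*} (f : GolayPt → α) (h : ∀ t : ZMod 23, f (some (dZ t)) = f (some t))
    (t : ZMod 23) : f (some t) = f (some (repD t)) := by
  obtain ⟨⟨h18, h4, h2, h6⟩, ⟨h21, h20, h10, h7⟩, ⟨h16, h13, h9, h12⟩, ⟨h19, h22, h14, h17⟩⟩ :=
    vals_of_dZ f h
  rcases zmod23_cases t with rfl | rfl | rfl | rfl | rfl | rfl | rfl | rfl | rfl | rfl | rfl | rfl | rfl | rfl | rfl | rfl | rfl | rfl | rfl | rfl | rfl | rfl | rfl
  · rfl
  · rfl
  · rw [show repD 2 = 1 from by decide]; exact h2
  · rfl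
  · rw [show repD 4 = 1 from by decide]; exact h4
  · rfl
  · rw [show repD 6 = 1 from by decide]; exact h6
  · rw [show repD 7 = 5 from by decide]; exact h7
  · rfl
  · rw [show repD 9 = 8 from by decide]; exact h9
  · rw [show repD 10 = 5 from by decide]; exact h10
  · rfl
  · rw [show repD 12 = 8 from by decide]; exact h12
  · rw [show repD 13 = 8 from by decide]; exact h13
  · rw [show repD 14 = 11 from by decide]; exact h14
  · rfl
  · rw [show repD 16 = 8 from by decide]; exact h16
  · rw [show repD 17 = 11 from by decide]; exact h17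
  · rw [show repD 18 = 1 from by decide]; exact h18
  · rw [show repD 19 = 11 from by decide]; exact h19
  · rw [show repD 20 = 5 from by decide]; exact h20
  · rw [show repD 21 = 5 from by decide]; exact h21
  · rw [show repD 22 = 11 from by decide]; exact h22

/-- two functions invariant under the cube twist agreeing at the eight representatives are
equal -/
theorem eq_of_valsD {α : Type*} (f f' : GolayPt → α)
    (h : ∀ t : ZMod 23, f (some (dZ t)) = f (some t))
    (h' : ∀ t : ZMod 23, f' (some (dZ t)) = f' (some t))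
    (hn : f none = f' none) (h0 : f (some 0) = f' (some 0)) (h1 : f (some 1) = f' (some 1))
    (h3 : f (some 3) = f' (some 3)) (h5 : f (some 5) = f' (some 5))
    (h8 : f (some 8) = f' (some 8)) (h11 : f (some 11) = f' (some 11))
    (h15 : f (some 15) = f' (some 15)) : f = f' := by
  funext i
  cases i with
  | none => exact hn
  | some t =>
    rw [val_repD f h t, val_repD f' h' t]
    rcases repD_cases t with e | e | e | e | e | e | e <;> rw [e]
    · exact h0
    · exact h1
    · exact h3
    · exact h5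
    · exact h8
    · exact h11
    · exact h15

/-- the inner product with a vector given by a list -/
theorem dot_vecOf (l : List ℤ) (y : IVec) : dotInt (vecOf l) y =
    l.getD 23 0 * y none + (l.getD 0 0 * y (some 0) + l.getD 1 0 * y (some 1) +
      l.getD 2 0 * y (some 2) + l.getD 3 0 * y (some 3) + l.getD 4 0 * y (some 4) +
      l.getD 5 0 * y (some 5) + l.getD 6 0 * y (some 6) + l.getD 7 0 * y (some 7) +
      l.getD 8 0 * y (some 8) + l.getD 9 0 * y (some 9) + l.getD 10 0 * y (some 10) +
      l.getD 11 0 * y (some 11) + l.getD 12 0 * y (some 12) + l.getD 13 0 * y (some 13) +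
      l.getD 14 0 * y (some 14) + l.getD 15 0 * y (some 15) + l.getD 16 0 * y (some 16) +
      l.getD 17 0 * y (some 17) + l.getD 18 0 * y (some 18) + l.getD 19 0 * y (some 19) +
      l.getD 20 0 * y (some 20) + l.getD 21 0 * y (some 21) + l.getD 22 0 * y (some 22)) := by
  unfold dotInt
  rw [sum_golayPt, sum_zmod23 (fun t => vecOf l (some t) * y (some t))]
  rfl

theorem fixD_sqNorm {y : ↥leechLattice} (hD : (dL : ↥Co0) • y = y) :
    sqNorm (y : IVec) = y.1 none ^ 2 + y.1 (some 0) ^ 2 + y.1 (some 3) ^ 2 + y.1 (some 15) ^ 2 +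
      5 * y.1 (some 1) ^ 2 + 5 * y.1 (some 5) ^ 2 + 5 * y.1 (some 8) ^ 2 +
      5 * y.1 (some 11) ^ 2 := by
  unfold sqNorm
  exact sum_of_dZ (fun i => y.1 i ^ 2) (fun t => by
    show y.1 (some (dZ t)) ^ 2 = y.1 (some t) ^ 2
    rw [fixD_step hD])

theorem fixD_dot_v1 {y : ↥leechLattice} (hD : (dL : ↥Co0) • y = y) :
    dotInt (v1L : IVec) (y : IVec) = y.1 none + y.1 (some 0) + y.1 (some 3) + y.1 (some 15) +
      5 * y.1 (some 1) + 5 * y.1 (some 5) + 5 * y.1 (some 8) + 5 * y.1 (some 11) -
      4 * y.1 none := by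
  show dotInt (oddBase none) y.1 = _
  rw [dotInt_oddBase, sum_of_dZ y.1 (fixD_step hD)]

end Cfsg.Agent.Helper26.OutMcL
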