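import Cfsg.Agent.Helper26.McLD

/-!
# The five vectors fixed by the element of order 5

The minimal vectors orthogonal to `(4, 4, 0^22)`, with inner product 16 with `(-3, 1^23)` and
fixed by `dL` are `(-4, 4, 0^22)` and its four images under the powers of `zE`.  The integral
solutions of the norm and inner product equations are cut down by the inner products with three
further lattice vectors.
-/

set_option autoImplicit false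

namespace Cfsg.Agent.Helper26.OutMcL

open Cfsg Cfsg.Agent.Helper7 Cfsg.Agent.Helper27 Cfsg.Agent.Helper92 Cfsg.Agent.Helper93.HSL
  Cfsg.Agent.Helper26.OutCo2 MulAction
open Cfsg.Agent.Helper8 hiding x0L

/-! ### the arithmetic -/

/-- the conditions on the values of a fixed vector -/
def dOK (a c e1 e2 e3 e4 : ℤ) : Bool :=
  (2 * (a * a) + c * c + (16 + 4 * a - c - 5 * (e1 + e2 + e3 + e4)) *
      (16 + 4 * a - c - 5 * (e1 + e2 + e3 + e4)) +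
      5 * (e1 * e1 + e2 * e2 + e3 * e3 + e4 * e4) == 32) &&
  ((-4 * a + 2 * c + 2 * e2 + 4 * e3) % 8 == 0) &&
  ((-4 * a + 2 * (16 + 4 * a - c - 5 * (e1 + e2 + e3 + e4)) + 4 * e2 + 2 * e3) % 8 == 0) &&
  ((-2 * a - c + 3 * (16 + 4 * a - c - 5 * (e1 + e2 + e3 + e4)) - 5 * e1 + 5 * e2 + 5 * e3 +
      5 * e4) % 8 == 0)

/-- the five solutions -/
def dSol (a c e1 e2 e3 e4 : ℤ) : Bool :=
  (a == -4 && c == 0 && e1 == 0 && e2 == 0 && e3 == 0 && e4 == 0) ||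
  (a == -2 && c == -2 && e1 == 0 && e2 == 2 && e3 == 0 && e4 == 0) ||
  (a == -2 && c == 0 && e1 == 0 && e2 == 0 && e3 == 2 && e4 == 0) ||
  (a == -1 && c == -1 && e1 == -1 && e2 == 1 && e3 == 1 && e4 == 1) ||
  (a == -1 && c == 3 && e1 == -1 && e2 == 1 && e3 == 1 && e4 == 1)

def dChk (a c e1 e2 e3 e4 : ℤ) : Bool := !dOK a c e1 e2 e3 e4 || dSol a c e1 e2 e3 e4

set_option maxRecDepth 1000000 in
theorem dioph_chk : ∀ a' : Fin 9, ∀ c' : Fin 11, ∀ e1' e2' e3' e4' : Fin 5,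
    dChk ((a'.val : ℤ) - 4) ((c'.val : ℤ) - 5) ((e1'.val : ℤ) - 2) ((e2'.val : ℤ) - 2)
      ((e3'.val : ℤ) - 2) ((e4'.val : ℤ) - 2) = true := by decide +kernel

theorem exists_fin (n : ℕ) (lo x : ℤ) (h1 : lo ≤ x) (h2 : x < lo + n) :
    ∃ k : Fin n, ((k.val : ℤ)) + lo = x := by
  refine ⟨⟨(x - lo).toNat, ?_⟩, ?_⟩
  · omega
  · show (((x - lo).toNat : ℕ) : ℤ) + lo = x
    omega

theorem dioph_D (a b c d e1 e2 e3 e4 : ℤ)
    (hN : a ^ 2 + b ^ 2 + c ^ 2 + d ^ 2 + 5 * e1 ^ 2 + 5 * e2 ^ 2 + 5 * e3 ^ 2 + 5 * e4 ^ 2 = 32)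
    (hX : 4 * a + 4 * b = 0)
    (hV : a + b + c + d + 5 * e1 + 5 * e2 + 5 * e3 + 5 * e4 - 4 * a = 16)
    (hT1 : (8 : ℤ) ∣ -2 * a + 2 * b + 2 * c + 2 * e2 + 4 * e3)
    (hT2 : (8 : ℤ) ∣ -2 * a + 2 * b + 2 * d + 4 * e2 + 2 * e3)
    (hT3 : (8 : ℤ) ∣ -a + b - c + 3 * d - 5 * e1 + 5 * e2 + 5 * e3 + 5 * e4) :
    (a = -4 ∧ b = 4 ∧ c = 0 ∧ d = 0 ∧ e1 = 0 ∧ e2 = 0 ∧ e3 = 0 ∧ e4 = 0) ∨
    (a = -2 ∧ b = 2 ∧ c = -2 ∧ d = 0 ∧ e1 = 0 ∧ e2 = 2 ∧ e3 = 0 ∧ e4 = 0) ∨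
    (a = -2 ∧ b = 2 ∧ c = 0 ∧ d = -2 ∧ e1 = 0 ∧ e2 = 0 ∧ e3 = 2 ∧ e4 = 0) ∨
    (a = -1 ∧ b = 1 ∧ c = -1 ∧ d = 3 ∧ e1 = -1 ∧ e2 = 1 ∧ e3 = 1 ∧ e4 = 1) ∨
    (a = -1 ∧ b = 1 ∧ c = 3 ∧ d = -1 ∧ e1 = -1 ∧ e2 = 1 ∧ e3 = 1 ∧ e4 = 1) := by
  have hb : b = -a := by linarith
  have hd : d = 16 + 4 * a - c - 5 * (e1 + e2 + e3 + e4) := by linarith
  have ha1 : -4 ≤ a := by
    nlinarith [sq_nonneg b, sq_nonneg c, sq_nonneg d, sq_nonneg e1, sq_nonneg e2, sq_nonneg e3, sq_nonneg e4]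
  have ha2 : a ≤ 4 := by
    nlinarith [sq_nonneg b, sq_nonneg c, sq_nonneg d, sq_nonneg e1, sq_nonneg e2, sq_nonneg e3, sq_nonneg e4]
  have hc1 : -5 ≤ c := by
    nlinarith [sq_nonneg a, sq_nonneg b, sq_nonneg d, sq_nonneg e1, sq_nonneg e2, sq_nonneg e3, sq_nonneg e4]
  have hc2 : c ≤ 5 := by
    nlinarith [sq_nonneg a, sq_nonneg b, sq_nonneg d, sq_nonneg e1, sq_nonneg e2, sq_nonneg e3, sq_nonneg e4]
  have he11 : -2 ≤ e1 := by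
    nlinarith [sq_nonneg a, sq_nonneg b, sq_nonneg c, sq_nonneg d, sq_nonneg e2, sq_nonneg e3, sq_nonneg e4]
  have he12 : e1 ≤ 2 := by
    nlinarith [sq_nonneg a, sq_nonneg b, sq_nonneg c, sq_nonneg d, sq_nonneg e2, sq_nonneg e3, sq_nonneg e4]
  have he21 : -2 ≤ e2 := by
    nlinarith [sq_nonneg a, sq_nonneg b, sq_nonneg c, sq_nonneg d, sq_nonneg e1, sq_nonneg e3, sq_nonneg e4]
  have he22 : e2 ≤ 2 := by
    nlinarith [sq_nonneg a, sq_nonneg b, sq_nonneg c, sq_nonneg d, sq_nonneg e1, sq_nonneg e3, sq_nonneg e4]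
  have he31 : -2 ≤ e3 := by
    nlinarith [sq_nonneg a, sq_nonneg b, sq_nonneg c, sq_nonneg d, sq_nonneg e1, sq_nonneg e2, sq_nonneg e4]
  have he32 : e3 ≤ 2 := by
    nlinarith [sq_nonneg a, sq_nonneg b, sq_nonneg c, sq_nonneg d, sq_nonneg e1, sq_nonneg e2, sq_nonneg e4]
  have he41 : -2 ≤ e4 := by
    nlinarith [sq_nonneg a, sq_nonneg b, sq_nonneg c, sq_nonneg d, sq_nonneg e1, sq_nonneg e2, sq_nonneg e3]
  have he42 : e4 ≤ 2 := by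
    nlinarith [sq_nonneg a, sq_nonneg b, sq_nonneg c, sq_nonneg d, sq_nonneg e1, sq_nonneg e2, sq_nonneg e3]
  obtain ⟨a', ha'⟩ := exists_fin 9 (-4) a ha1 (by omega)
  obtain ⟨c', hc'⟩ := exists_fin 11 (-5) c hc1 (by omega)
  obtain ⟨e1', he1'⟩ := exists_fin 5 (-2) e1 he11 (by omega)
  obtain ⟨e2', he2'⟩ := exists_fin 5 (-2) e2 he21 (by omega)
  obtain ⟨e3', he3'⟩ := exists_fin 5 (-2) e3 he31 (by omega)
  obtain ⟨e4', he4'⟩ := exists_fin 5 (-2) e4 he41 (by omega)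
  have key := dioph_chk a' c' e1' e2' e3' e4'
  rw [show ((a'.val : ℤ)) - 4 = a by linarith, show ((c'.val : ℤ)) - 5 = c by linarith,
    show ((e1'.val : ℤ)) - 2 = e1 by linarith, show ((e2'.val : ℤ)) - 2 = e2 by linarith,
    show ((e3'.val : ℤ)) - 2 = e3 by linarith, show ((e4'.val : ℤ)) - 2 = e4 by linarith] at key
  have hok : dOK a c e1 e2 e3 e4 = true := by
    unfold dOK
    rw [← hd]
    simp only [Bool.and_eq_true, beq_iff_eq]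
    refine ⟨⟨⟨?_, ?_⟩, ?_⟩, ?_⟩
    · rw [hb] at hN
      linarith
    · apply Int.emod_eq_zero_of_dvd
      rw [hb] at hT1
      have : -2 * a + 2 * -a + 2 * c + 2 * e2 + 4 * e3 = -4 * a + 2 * c + 2 * e2 + 4 * e3 := by
        ring
      rwa [this] at hT1
    · apply Int.emod_eq_zero_of_dvd
      rw [hb] at hT2
      have : -2 * a + 2 * -a + 2 * d + 4 * e2 + 2 * e3 = -4 * a + 2 * d + 4 * e2 + 2 * e3 := by
        ring
      rwa [this] at hT2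
    · apply Int.emod_eq_zero_of_dvd
      rw [hb] at hT3
      have : -a + -a - c + 3 * d - 5 * e1 + 5 * e2 + 5 * e3 + 5 * e4 =
          -2 * a - c + 3 * d - 5 * e1 + 5 * e2 + 5 * e3 + 5 * e4 := by ring
      rwa [this] at hT3
  unfold dChk at key
  rw [hok] at key
  simp only [Bool.not_true, Bool.false_or] at key
  unfold dSol at key
  simp only [Bool.or_eq_true, Bool.and_eq_true, beq_iff_eq] at key
  rcases key with (((h | h) | h) | h) | h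
  · obtain ⟨⟨⟨⟨⟨h1, h2⟩, h3⟩, h4⟩, h5⟩, h6⟩ := h
    left
    refine ⟨h1, by omega, h2, by omega, h3, h4, h5, h6⟩
  · obtain ⟨⟨⟨⟨⟨h1, h2⟩, h3⟩, h4⟩, h5⟩, h6⟩ := h
    right; left
    refine ⟨h1, by omega, h2, by omega, h3, h4, h5, h6⟩
  · obtain ⟨⟨⟨⟨⟨h1, h2⟩, h3⟩, h4⟩, h5⟩, h6⟩ := h
    right; right; left
    refine ⟨h1, by omega, h2, by omega, h3, h4, h5, h6⟩
  · obtain ⟨⟨⟨⟨⟨h1, h2⟩, h3⟩, h4⟩, h5⟩, h6⟩ := h
    right; right; right; left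
    refine ⟨h1, by omega, h2, by omega, h3, h4, h5, h6⟩
  · obtain ⟨⟨⟨⟨⟨h1, h2⟩, h3⟩, h4⟩, h5⟩, h6⟩ := h
    right; right; right; right
    refine ⟨h1, by omega, h2, by omega, h3, h4, h5, h6⟩

end Cfsg.Agent.Helper26.OutMcL
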