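import Cfsg.Agent.Helper26.McLE

/-!
# The centraliser of the element of order 5 in the McLaughlin group

The five minimal vectors fixed by `dL` in the orbit of `(-4, 4, 0^22)`; the centraliser of `dL`
is `⟨dL⟩ × ⟨zL⟩`; the weak centraliser hypothesis of the Sylow chain for the involution `uL`.
-/

set_option autoImplicit false

namespace Cfsg.Agent.Helper26.OutMcL

open Cfsg Cfsg.Agent.Helper7 Cfsg.Agent.Helper27 Cfsg.Agent.Helper92 Cfsg.Agent.Helper93.HSL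
  Cfsg.Agent.Helper26.OutCo2 MulAction
open Cfsg.Agent.Helper8 hiding x0L

/-! ### three test vectors -/

def tA3 : List ℕ := [3, 4, 5, 6, 7, 8, 9, 10, 11, 12, 13, 14, 15, 16, 17, 18, 19, 20, 21, 22, 0, 1,
  2, 23]
def sA3 : List ℕ := [20, 21, 22, 0, 1, 2, 3, 4, 5, 6, 7, 8, 9, 10, 11, 12, 13, 14, 15, 16, 17, 18,
  19, 23]
def tA7 : List ℕ := [7, 8, 9, 10, 11, 12, 13, 14, 15, 16, 17, 18, 19, 20, 21, 22, 0, 1, 2, 3, 4, 5,
  6, 23]
def sA7 : List ℕ := [16, 17, 18, 19, 20, 21, 22, 0, 1, 2, 3, 4, 5, 6, 7, 8, 9, 10, 11, 12, 13, 14,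
  15, 23]

theorem tA3_inv : isInvPair tA3 sA3 = true := by decide +kernel
theorem tA3_chk : checkM24 sA3 = true := by decide +kernel
theorem tA7_inv : isInvPair tA7 sA7 = true := by decide +kernel
theorem tA7_chk : checkM24 sA7 = true := by decide +kernel

/-- the first test vector -/
noncomputable def w1L : ↥leechLattice :=
  monoHom ⟨permOfTabs tA3 sA3, permOfTabs_mem_M24 tA3_inv tA3_chk⟩ • y1L

/-- the second test vector -/
noncomputable def w2L : ↥leechLattice :=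
  monoHom ⟨permOfTabs tA7 sA7, permOfTabs_mem_M24 tA7_inv tA7_chk⟩ • y4L

def lw1 : List ℤ := [2, 2, 0, 2, 0, 0, -2, 0, 2, 0, 2, 0, 0, 2, 0, 0, 0, 0, 0, 0, 0, 0, 0, -2]
def lw2 : List ℤ := [2, 0, 0, 0, 0, 0, 0, 2, 0, 0, 0, 0, 0, 0, 0, 2, 2, 0, 0, 2, 2, 0, -2, -2]

theorem w1_list : (w1L : IVec) = vecOf lw1 := by
  unfold w1L
  rw [(acts_perm tA3_inv tA3_chk).run (by decide +kernel) y1_list,
    show runW [.P tA3 sA3] ly1 = lw1 by decide +kernel]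

theorem w2_list : (w2L : IVec) = vecOf lw2 := by
  unfold w2L
  rw [(acts_perm tA7_inv tA7_chk).run (by decide +kernel) y4_list,
    show runW [.P tA7 sA7] ly4 = lw2 by decide +kernel]

theorem fixD_dot_w1 {y : ↥leechLattice} (hD : (dL : ↥Co0) • y = y) :
    dotInt (w1L : IVec) (y : IVec) = -2 * y.1 none + 2 * y.1 (some 0) + 2 * y.1 (some 3) +
      2 * y.1 (some 5) + 4 * y.1 (some 8) := by
  obtain ⟨⟨h18, h4, h2, h6⟩, ⟨h21, h20, h10, h7⟩, ⟨h16, h13, h9, h12⟩, ⟨h19, h22, h14, h17⟩⟩ :=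
    vals_of_dZ y.1 (fixD_step hD)
  rw [w1_list, dot_vecOf, h18, h4, h2, h6, h21, h20, h10, h7, h16, h13, h9, h12, h19, h22, h14,
    h17]
  simp only [lw1, List.getD_cons_succ, List.getD_cons_zero]
  ring

theorem fixD_dot_w2 {y : ↥leechLattice} (hD : (dL : ↥Co0) • y = y) :
    dotInt (w2L : IVec) (y : IVec) = -2 * y.1 none + 2 * y.1 (some 0) + 2 * y.1 (some 15) +
      4 * y.1 (some 5) + 2 * y.1 (some 8) := by
  obtain ⟨⟨h18, h4, h2, h6⟩, ⟨h21, h20, h10, h7⟩, ⟨h16, h13, h9, h12⟩, ⟨h19, h22, h14, h17⟩⟩ :=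
    vals_of_dZ y.1 (fixD_step hD)
  rw [w2_list, dot_vecOf, h18, h4, h2, h6, h21, h20, h10, h7, h16, h13, h9, h12, h19, h22, h14,
    h17]
  simp only [lw2, List.getD_cons_succ, List.getD_cons_zero]
  ring

theorem fixD_dot_y2 {y : ↥leechLattice} (hD : (dL : ↥Co0) • y = y) :
    dotInt (y2L : IVec) (y : IVec) = -y.1 none + y.1 (some 0) - y.1 (some 3) +
      3 * y.1 (some 15) - 5 * y.1 (some 1) + 5 * y.1 (some 5) + 5 * y.1 (some 8) +
      5 * y.1 (some 11) := by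
  obtain ⟨⟨h18, h4, h2, h6⟩, ⟨h21, h20, h10, h7⟩, ⟨h16, h13, h9, h12⟩, ⟨h19, h22, h14, h17⟩⟩ :=
    vals_of_dZ y.1 (fixD_step hD)
  rw [y2_list, dot_vecOf, h18, h4, h2, h6, h21, h20, h10, h7, h16, h13, h9, h12, h19, h22, h14,
    h17]
  simp only [ly2, List.getD_cons_succ, List.getD_cons_zero]
  ring

/-! ### the five fixed vectors -/

set_option maxRecDepth 100000 in
theorem dL_z0 : (dL : ↥Co0) • z0L = z0L := by
  apply Subtype.ext
  rw [acts_dL.run (by decide +kernel) z0_list, show runW [.P tC sC] lz0 = lz0 by decide +kernel]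
  exact z0_list.symm

theorem dL_y1 : (dL : ↥Co0) • y1L = y1L := by
  unfold y1L
  rw [← mul_smul, ← zE_comm_dL, mul_smul, dL_z0]

theorem dL_y2 : (dL : ↥Co0) • y2L = y2L := by
  unfold y2L
  rw [← mul_smul, ← zE_comm_dL, mul_smul, dL_y1]

theorem dL_y3 : (dL : ↥Co0) • y3L = y3L := by
  unfold y3L
  rw [← mul_smul, ← zE_comm_dL, mul_smul, dL_y2]

theorem dL_y4 : (dL : ↥Co0) • y4L = y4L := by
  unfold y4L
  rw [← mul_smul, ← zE_comm_dL, mul_smul, dL_y3]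

theorem z0_valsD : z0L.1 none = -4 ∧ z0L.1 (some 0) = 4 ∧ z0L.1 (some 1) = 0 ∧
    z0L.1 (some 3) = 0 ∧ z0L.1 (some 5) = 0 ∧ z0L.1 (some 8) = 0 ∧ z0L.1 (some 11) = 0 ∧
    z0L.1 (some 15) = 0 := by
  rw [z0_list]
  decide +kernel

theorem y1_valsD : y1L.1 none = -2 ∧ y1L.1 (some 0) = 2 ∧ y1L.1 (some 1) = 0 ∧
    y1L.1 (some 3) = -2 ∧ y1L.1 (some 5) = 2 ∧ y1L.1 (some 8) = 0 ∧ y1L.1 (some 11) = 0 ∧
    y1L.1 (some 15) = 0 := by
  rw [y1_list]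
  decide +kernel

theorem y2_valsD : y2L.1 none = -1 ∧ y2L.1 (some 0) = 1 ∧ y2L.1 (some 1) = -1 ∧
    y2L.1 (some 3) = -1 ∧ y2L.1 (some 5) = 1 ∧ y2L.1 (some 8) = 1 ∧ y2L.1 (some 11) = 1 ∧
    y2L.1 (some 15) = 3 := by
  rw [y2_list]
  decide +kernel

theorem y3_valsD : y3L.1 none = -1 ∧ y3L.1 (some 0) = 1 ∧ y3L.1 (some 1) = -1 ∧
    y3L.1 (some 3) = 3 ∧ y3L.1 (some 5) = 1 ∧ y3L.1 (some 8) = 1 ∧ y3L.1 (some 11) = 1 ∧
    y3L.1 (some 15) = -1 := by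
  rw [y3_list]
  decide +kernel

theorem y4_valsD : y4L.1 none = -2 ∧ y4L.1 (some 0) = 2 ∧ y4L.1 (some 1) = 0 ∧
    y4L.1 (some 3) = 0 ∧ y4L.1 (some 5) = 0 ∧ y4L.1 (some 8) = 2 ∧ y4L.1 (some 11) = 0 ∧
    y4L.1 (some 15) = -2 := by
  rw [y4_list]
  decide +kernel

/-- the minimal vectors fixed by `dL`, orthogonal to `(4, 4, 0^22)` and with inner product `16`
with `(-3, 1^23)` -/
theorem fixD_cases (y : ↥leechLattice) (hD : (dL : ↥Co0) • y = y)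
    (hn : sqNorm (y : IVec) = 32) (h0 : dotInt (x0L : IVec) (y : IVec) = 0)
    (hd : dotInt (v1L : IVec) (y : IVec) = 16) :
    y = z0L ∨ y = y1L ∨ y = y2L ∨ y = y3L ∨ y = y4L := by
  have h1 := fixD_sqNorm hD
  rw [hn] at h1
  have h2 := fixD_dot_v1 hD
  rw [hd] at h2
  have h3 := dot_x0 y
  rw [h0] at h3
  have t1 := Cfsg.Agent.Helper26.eight_dvd_dotInt w1L.2 y.2
  rw [fixD_dot_w1 hD] at t1
  have t2 := Cfsg.Agent.Helper26.eight_dvd_dotInt w2L.2 y.2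
  rw [fixD_dot_w2 hD] at t2
  have t3 := Cfsg.Agent.Helper26.eight_dvd_dotInt y2L.2 y.2
  rw [fixD_dot_y2 hD] at t3
  have key := dioph_D (y.1 none) (y.1 (some 0)) (y.1 (some 3)) (y.1 (some 15)) (y.1 (some 1))
    (y.1 (some 5)) (y.1 (some 8)) (y.1 (some 11)) (by linarith) h3.symm (by linarith) t1 t2 t3
  rcases key with ⟨a, b, c, d, e1, e2, e3, e4⟩ | ⟨a, b, c, d, e1, e2, e3, e4⟩ |
    ⟨a, b, c, d, e1, e2, e3, e4⟩ | ⟨a, b, c, d, e1, e2, e3, e4⟩ | ⟨a, b, c, d, e1, e2, e3, e4⟩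
  · left
    obtain ⟨v1, v2, v3, v4, v5, v6, v7, v8⟩ := z0_valsD
    apply Subtype.ext
    apply eq_of_valsD _ _ (fixD_step hD) (fixD_step dL_z0)
    · rw [a, v1]
    · rw [b, v2]
    · rw [e1, v3]
    · rw [c, v4]
    · rw [e2, v5]
    · rw [e3, v6]
    · rw [e4, v7]
    · rw [d, v8]
  · right; left
    obtain ⟨v1, v2, v3, v4, v5, v6, v7, v8⟩ := y1_valsD
    apply Subtype.ext
    apply eq_of_valsD _ _ (fixD_step hD) (fixD_step dL_y1)
    · rw [a, v1]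
    · rw [b, v2]
    · rw [e1, v3]
    · rw [c, v4]
    · rw [e2, v5]
    · rw [e3, v6]
    · rw [e4, v7]
    · rw [d, v8]
  · right; right; right; right
    obtain ⟨v1, v2, v3, v4, v5, v6, v7, v8⟩ := y4_valsD
    apply Subtype.ext
    apply eq_of_valsD _ _ (fixD_step hD) (fixD_step dL_y4)
    · rw [a, v1]
    · rw [b, v2]
    · rw [e1, v3]
    · rw [c, v4]
    · rw [e2, v5]
    · rw [e3, v6]
    · rw [e4, v7]
    · rw [d, v8]
  · right; right; left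
    obtain ⟨v1, v2, v3, v4, v5, v6, v7, v8⟩ := y2_valsD
    apply Subtype.ext
    apply eq_of_valsD _ _ (fixD_step hD) (fixD_step dL_y2)
    · rw [a, v1]
    · rw [b, v2]
    · rw [e1, v3]
    · rw [c, v4]
    · rw [e2, v5]
    · rw [e3, v6]
    · rw [e4, v7]
    · rw [d, v8]
  · right; right; right; left
    obtain ⟨v1, v2, v3, v4, v5, v6, v7, v8⟩ := y3_valsD
    apply Subtype.ext
    apply eq_of_valsD _ _ (fixD_step hD) (fixD_step dL_y3)
    · rw [a, v1]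
    · rw [b, v2]
    · rw [e1, v3]
    · rw [c, v4]
    · rw [e2, v5]
    · rw [e3, v6]
    · rw [e4, v7]
    · rw [d, v8]

end Cfsg.Agent.Helper26.OutMcL
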