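import Cfsg.Agent.Helper26.McLF

/-!
# The centraliser of the element of order 5 in the McLaughlin group, II

The centraliser of `dL` is `⟨dL⟩ × ⟨zL⟩`; the weak centraliser hypothesis of the Sylow chain
for the involution `uL`.
-/

set_option autoImplicit false

namespace Cfsg.Agent.Helper26.OutMcL

open Cfsg Cfsg.Agent.Helper7 Cfsg.Agent.Helper27 Cfsg.Agent.Helper92 Cfsg.Agent.Helper93.HSL
  Cfsg.Agent.Helper26.OutCo2 MulAction
open Cfsg.Agent.Helper8 hiding x0L

/-- the orbit of `(-4, 4, 0^22)` under `zE` -/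
noncomputable def yv : ℕ → ↥leechLattice
  | 0 => z0L
  | 1 => y1L
  | 2 => y2L
  | 3 => y3L
  | _ => y4L

theorem zE_smul_yv : ∀ i < 5, zE • yv i = yv ((i + 1) % 5) := by
  intro i hi
  interval_cases i
  · rfl
  · rfl
  · rfl
  · rfl
  · exact zE_y4

theorem zE_pow_z0 (k : ℕ) : zE ^ k • z0L = yv (k % 5) := by
  induction k with
  | zero => rw [pow_zero, one_smul]; rfl
  | succ k ih =>
    rw [pow_succ', mul_smul, ih, zE_smul_yv _ (Nat.mod_lt _ (by norm_num))]
    congr 1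
    omega

theorem yv_ne : ∀ i, 1 ≤ i → i < 5 → yv i ≠ z0L := by
  intro i h1 h5 h
  have hz := z0_valsD.1
  rw [← h] at hz
  interval_cases i
  · have := y1_valsD.1
    change y1L.1 none = -4 at hz
    rw [this] at hz
    norm_num at hz
  · have := y2_valsD.1
    change y2L.1 none = -4 at hz
    rw [this] at hz
    norm_num at hz
  · have := y3_valsD.1
    change y3L.1 none = -4 at hz
    rw [this] at hz
    norm_num at hz
  · have := y4_valsD.1
    change y4L.1 none = -4 at hz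
    rw [this] at hz
    norm_num at hz

theorem cubeTwist_pow_five : cubeTwist ^ 5 = 1 := by
  rw [← orderOf_cubeTwist]; exact pow_orderOf_eq_one _

/-- the centraliser of the element of order 5 -/
theorem cent_dL (z : ↥LM) (hz : z * dL = dL * z) : ∃ a < 5, ∃ b < 5, z = dL ^ a * zL ^ b := by
  have hD : (dL : ↥Co0) • ((z : ↥Co0) • z0L) = (z : ↥Co0) • z0L := by
    rw [← mul_smul, ← Subgroup.coe_mul, ← hz, Subgroup.coe_mul, mul_smul, dL_z0]
  have hn : sqNorm (((z : ↥Co0) • z0L : ↥leechLattice) : IVec) = 32 := by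
    rw [co0_sqNorm]; exact base_facts.2.2.1
  have h0 : dotInt (x0L : IVec) (((z : ↥Co0) • z0L : ↥leechLattice) : IVec) = 0 := by
    have := co0_dotInt (z : ↥Co0) x0L z0L
    rw [LM_smul_x0] at this
    rw [this]; exact base_facts.2.2.2.1
  have hd : dotInt (v1L : IVec) (((z : ↥Co0) • z0L : ↥leechLattice) : IVec) = 16 := by
    have := co0_dotInt (z : ↥Co0) v1L z0L
    rw [LM_smul_v1] at this
    rw [this]; exact base_facts.2.2.2.2
  have hk : ∃ b < 5, (z : ↥Co0) • z0L = zE ^ b • z0L := by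
    rcases fixD_cases _ hD hn h0 hd with h | h | h | h | h
    · exact ⟨0, by norm_num, by rw [h, pow_zero, one_smul]⟩
    · exact ⟨1, by norm_num, by rw [h, zE_pow_z0]; rfl⟩
    · exact ⟨2, by norm_num, by rw [h, zE_pow_z0]; rfl⟩
    · exact ⟨3, by norm_num, by rw [h, zE_pow_z0]; rfl⟩
    · exact ⟨4, by norm_num, by rw [h, zE_pow_z0]; rfl⟩
  obtain ⟨b, hb, hzb⟩ := hk
  obtain ⟨g, hgdef⟩ : ∃ g : ↥LM, g = (zL ^ b)⁻¹ * z := ⟨_, rfl⟩
  have hg0 : (g : ↥Co0) • z0L = z0L := by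
    rw [hgdef, Subgroup.coe_mul, Subgroup.coe_inv, Subgroup.coe_pow, zL_val, mul_smul, hzb,
      inv_smul_smul]
  obtain ⟨σ, hσ⟩ := exists_m22_of_fix_z0 g hg0
  have hc1 : Commute zL dL := zL_comm_dL
  have hgD : Commute g dL := by
    rw [hgdef]
    exact (hc1.pow_left b).inv_left.mul_left hz
  have hσD : σ * dQ = dQ * σ := by
    apply m22_injective
    rw [map_mul, map_mul, ← hσ]
    exact hgD.eq
  have hσz : σ.1 ∈ Subgroup.zpowers cubeTwist :=
    mem_zpowers_of_commute (mem_M22p.mp σ.2).1 (mem_M22p.mp σ.2).2.2 (mem_M22p.mp σ.2).2.1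
      (congrArg Subtype.val hσD)
  obtain ⟨a, ha, hσa⟩ := exists_lt_pow_of_mem_zpowers (by norm_num) cubeTwist_pow_five hσz
  have hga : g = dL ^ a := by
    rw [hσ]
    unfold dL
    rw [← map_pow]
    apply m22_congr
    rw [hσa]
    rfl
  refine ⟨a, ha, b, hb, ?_⟩
  have hz' : z = zL ^ b * g := by rw [hgdef, mul_inv_cancel_left]
  rw [hz', hga]
  exact ((hc1.pow_pow b a).eq)

/-- a computation in a group -/
theorem sq_formula {G : Type*} [Group G] {u D ζ : G} (hu2 : u * u = 1) (hD5 : D ^ 5 = 1)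
    (huD : u * D = D ^ 4 * u) (huζ : u * ζ = ζ * u) (hζD : ζ * D = D * ζ) (a b : ℕ) :
    (u * (D ^ a * ζ ^ b)) ^ 2 = ζ ^ (2 * b) := by
  have h1 : u * D ^ a = (D ^ 4) ^ a * u := ((show SemiconjBy u D (D ^ 4) from huD).pow_right a).eq
  have h2 : u * ζ ^ b = ζ ^ b * u := ((show Commute u ζ from huζ).pow_right b).eq
  have h3 : ζ ^ b * D ^ a = D ^ a * ζ ^ b := ((show Commute ζ D from hζD).pow_pow b a).eq
  have h4 : (D ^ 4) ^ a * D ^ a = 1 := by
    rw [← pow_mul, ← pow_add, show 4 * a + a = 5 * a by ring, pow_mul, hD5, one_pow]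
  calc (u * (D ^ a * ζ ^ b)) ^ 2 = (u * D ^ a) * (ζ ^ b * u) * (D ^ a * ζ ^ b) := by
        rw [pow_two]; simp only [mul_assoc]
    _ = ((D ^ 4) ^ a * u) * (u * ζ ^ b) * (D ^ a * ζ ^ b) := by rw [h1, h2]
    _ = (D ^ 4) ^ a * (u * u) * (ζ ^ b * D ^ a) * ζ ^ b := by simp only [mul_assoc]
    _ = (D ^ 4) ^ a * D ^ a * (ζ ^ b * ζ ^ b) := by rw [hu2, mul_one, h3]; simp only [mul_assoc]
    _ = ζ ^ (2 * b) := by rw [h4, one_mul, ← pow_add, two_mul]

theorem uL_mul_self : uL * uL = 1 := by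
  rw [← pow_two, uL_sq]

theorem uL_mul_dL : uL * dL = dL ^ 4 * uL := by
  rw [← uL_conj_dL, inv_mul_cancel_right]

/-- the weak centraliser hypothesis for the involution -/
theorem weak_cent_dL (z : ↥LM) (hz : z * dL = dL * z) (hpow : (uL * z) ^ 2 = 1) :
    z ∈ Subgroup.zpowers dL := by
  obtain ⟨a, ha, b, hb, rfl⟩ := cent_dL z hz
  rw [sq_formula uL_mul_self dL_pow uL_mul_dL zL_comm_uL.symm zL_comm_dL a b] at hpow
  have hb0 : b = 0 := by
    by_contra hne
    have h1 : ((zL ^ (2 * b) : ↥LM) : ↥Co0) • z0L = z0L := by rw [hpow]; exact one_smul _ _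
    rw [Subgroup.coe_pow, zL_val, zE_pow_z0] at h1
    exact yv_ne (2 * b % 5) (by omega) (Nat.mod_lt _ (by norm_num)) h1
  rw [hb0, pow_zero, mul_one]
  exact Subgroup.pow_mem _ (Subgroup.mem_zpowers _) _

/-- an element of the centraliser of `dL` commuting with `uL` is a power of `zL` -/
theorem eq_zL_pow_of_commute_uL (z : ↥LM) (hz : z * dL = dL * z) (hu : z * uL = uL * z) :
    ∃ b < 5, z = zL ^ b := by
  obtain ⟨a, ha, b, hb, rfl⟩ := cent_dL z hz
  refine ⟨b, hb, ?_⟩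
  have h1 : uL * dL ^ a = (dL ^ 4) ^ a * uL :=
    ((show SemiconjBy uL dL (dL ^ 4) from uL_mul_dL).pow_right a).eq
  have h2 : uL * zL ^ b = zL ^ b * uL :=
    ((show Commute uL zL from zL_comm_uL.symm).pow_right b).eq
  have h3 : dL ^ a * zL ^ b * uL = (dL ^ 4) ^ a * (zL ^ b * uL) := by
    rw [hu, ← mul_assoc, h1, mul_assoc, h2]
  have h4 : dL ^ a = (dL ^ 4) ^ a := by
    have := mul_right_cancel (a := dL ^ a) (b := zL ^ b * uL) (c := (dL ^ 4) ^ a)
      (by rw [← mul_assoc]; exact h3)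
    exact this
  have h5 : dL ^ (3 * a) = 1 := by
    have h6 : dL ^ a * dL ^ (3 * a) = dL ^ a * 1 := by
      rw [← pow_add, mul_one, show a + 3 * a = 4 * a by ring, pow_mul]
      exact h4.symm
    exact mul_left_cancel h6
  have h7 := orderOf_dvd_of_pow_eq_one h5
  rw [orderOf_dL] at h7
  have ha0 : a = 0 := by omega
  rw [ha0, pow_zero, one_mul]

end Cfsg.Agent.Helper26.OutMcL
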