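import Cfsg.Agent.Helper26.McLC
import Cfsg.Agent.Helper93.M22Index

/-!
# Generators of `M22`

The group `M22`, the stabiliser of the points `none` and `0` in `M24`, is generated by the
doubling, the cube twist and a third permutation `mP` of order 3: the subgroup they generate has
order `55 n` with `n ≡ 1 mod 11` by Sylow's theorem, contains elements of order 3 and 7, and `M22`
has no subgroup of index 12.
-/

set_option autoImplicit false

namespace Cfsg.Agent.Helper26.OutMcL

open Cfsg Cfsg.Agent.Helper7 Cfsg.Agent.Helper27 Cfsg.Agent.Helper92 MulAction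

/-- the table of the third generator -/
def tMp : List ℕ := [0, 4, 11, 3, 14, 19, 5, 2, 12, 9, 18, 7, 16, 13, 1, 15, 8, 20, 21, 6, 22, 10,
  17, 23]

/-- the inverse table -/
def sMp : List ℕ := [0, 14, 7, 3, 1, 6, 19, 11, 16, 9, 21, 2, 8, 13, 4, 15, 12, 22, 10, 5, 17, 18,
  20, 23]

theorem tMp_inv : isInvPair tMp sMp = true := by decide +kernel

theorem tMp_chk : checkM24 sMp = true := by decide +kernel

/-- the third generator -/
def mP : Equiv.Perm GolayPt := permOfTabs tMp sMp

theorem mP_mem_M24 : mP ∈ M24 := permOfTabs_mem_M24 tMp_inv tMp_chk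

theorem isTable_mP : IsTable tMp mP := isTable_permOfTabs tMp_inv (by decide)

theorem mP_mem_M22p : mP ∈ M22p := by
  rw [mem_M22p]
  refine ⟨mP_mem_M24, ?_, ?_⟩
  · have := isTable_mP.apply (some 0)
    rw [this]
    decide +kernel
  · have := isTable_mP.apply none
    rw [this]
    decide +kernel

theorem orderOf_mP : orderOf mP = 3 := by
  have : Fact (Nat.Prime 3) := ⟨by norm_num⟩
  apply orderOf_eq_prime
  · have t := isTable_tpow isTable_mP 3
    have e : tpow tMp 3 = idT := by decide +kernel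
    rw [e] at t
    exact t.inj isTable_one
  · exact permOfTabs_ne_one tMp_inv 1 (by norm_num) (by decide)

theorem orderOf_mu23_sq_mul_mP : orderOf (mu23 ^ 2 * mP) = 7 := by
  have : Fact (Nat.Prime 7) := ⟨by norm_num⟩
  have t0 := (isTable_tpow isTable_mu23 2).mul isTable_mP
  apply orderOf_eq_prime
  · have t := isTable_tpow t0 7
    have e : tpow (compT (tpow tM 2) tMp) 7 = idT := by decide +kernel
    rw [e] at t
    exact t.inj isTable_one
  · intro h
    rw [h] at t0
    have := IsTable.eq_of_eq t0 isTable_one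
    revert this
    decide +kernel

set_option maxRecDepth 100000 in
theorem arith_k : ∀ k < 385, (21 * k) % 11 = 1 → 8064 % (21 * k) = 0 →
    21 * k = 672 ∨ 21 * k = 8064 := by
  decide +kernel

theorem arith_n (n : ℕ) (hn : n < 8065) (h1 : n % 11 = 1) (h2 : 8064 % n = 0) (h3 : 21 ∣ n) :
    n = 672 ∨ n = 8064 := by
  obtain ⟨k, rfl⟩ := h3
  exact arith_k k (by omega) h1 h2

/-- the three permutations generate `M22` -/
theorem closure_M22p :
    Subgroup.closure ({mu23, cubeTwist, mP} : Set (Equiv.Perm GolayPt)) = M22p := by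
  set K := Subgroup.closure ({mu23, cubeTwist, mP} : Set (Equiv.Perm GolayPt)) with hKdef
  have hC : mu23 ∈ K := Subgroup.subset_closure (by simp)
  have hD : cubeTwist ∈ K := Subgroup.subset_closure (by simp)
  have hm : mP ∈ K := Subgroup.subset_closure (by simp)
  have hK : K ≤ M22p := by
    rw [hKdef, Subgroup.closure_le]
    rintro g (rfl | rfl | rfl)
    · exact mu23_mem_M22p
    · exact cubeTwist_mem_M22p
    · exact mP_mem_M22p
  have hfin : Finite ↥M22p := Nat.finite_of_card_ne_zero (by rw [card_M22p]; norm_num)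
  have hfinK : Finite ↥K := Finite.of_injective (Subgroup.inclusion hK)
    (Subgroup.inclusion_injective hK)
  have hdvd : Nat.card K ∣ 443520 := card_M22p ▸ Subgroup.card_dvd_of_le hK
  have h11 : ¬ 11 ^ 2 ∣ Nat.card K := fun h => absurd (h.trans hdvd) (by norm_num)
  have : Fact (Nat.Prime 11) := ⟨by norm_num⟩
  have hQK : Q23 ≤ K := Subgroup.zpowers_le.mpr hC
  obtain ⟨n, hn, hcard⟩ := sylow_count_rel 11 Q23 K hQK card_Q23 h11
  have hle := inf_normalizer_le_NQ23 hK
  set R := K ⊓ Subgroup.normalizer (Q23 : Set (Equiv.Perm GolayPt)) with hR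
  have hfinR : Finite ↥R := Finite.of_injective (Subgroup.inclusion (inf_le_left : R ≤ K))
    (Subgroup.inclusion_injective _)
  have hr : Nat.card ↥R ∣ 55 := by
    rw [← card_NQ23]
    exact Subgroup.card_dvd_of_le hle
  have hCR : mu23 ∈ R := ⟨hC, Subgroup.le_normalizer (Subgroup.mem_zpowers mu23)⟩
  have hDR : cubeTwist ∈ R := ⟨hD, cubeTwist_mem_NQ23.1⟩
  have h11R : 11 ∣ Nat.card ↥R := by
    have := orderOf_dvd_natCard (⟨mu23, hCR⟩ : ↥R)
    rwa [Subgroup.orderOf_mk, orderOf_mu23] at this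
  have h5R : 5 ∣ Nat.card ↥R := by
    have := orderOf_dvd_natCard (⟨cubeTwist, hDR⟩ : ↥R)
    rwa [Subgroup.orderOf_mk, orderOf_cubeTwist] at this
  have h55 : Nat.card ↥R = 55 := by
    have h1 : 55 ∣ Nat.card ↥R :=
      Nat.Coprime.mul_dvd_of_dvd_of_dvd (by norm_num : Nat.Coprime 5 11) h5R h11R
    exact Nat.dvd_antisymm hr h1
  rw [h55] at hcard
  have h3K : 3 ∣ Nat.card ↥K := by
    have := orderOf_dvd_natCard (⟨mP, hm⟩ : ↥K)
    rwa [Subgroup.orderOf_mk, orderOf_mP] at this
  have h7K : 7 ∣ Nat.card ↥K := by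
    have hx : mu23 ^ 2 * mP ∈ K := K.mul_mem (K.pow_mem hC 2) hm
    have := orderOf_dvd_natCard (⟨mu23 ^ 2 * mP, hx⟩ : ↥K)
    rwa [Subgroup.orderOf_mk, orderOf_mu23_sq_mul_mP] at this
  rw [hcard] at h3K h7K hdvd
  have h3n : 3 ∣ n := Nat.Coprime.dvd_of_dvd_mul_left (by norm_num : Nat.Coprime 3 55) h3K
  have h7n : 7 ∣ n := Nat.Coprime.dvd_of_dvd_mul_left (by norm_num : Nat.Coprime 7 55) h7K
  have h21 : 21 ∣ n := Nat.Coprime.mul_dvd_of_dvd_of_dvd (by norm_num : Nat.Coprime 3 7) h3n h7n
  have hn8 : n ∣ 8064 := by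
    have : 55 * n ∣ 55 * 8064 := by
      have e : 55 * 8064 = 443520 := by norm_num
      rw [e]; exact hdvd
    exact Nat.dvd_of_mul_dvd_mul_left (by norm_num) this
  have hnle : n < 8065 := Nat.lt_succ_of_le (Nat.le_of_dvd (by norm_num) hn8)
  rcases arith_n n hnle hn (Nat.mod_eq_zero_of_dvd hn8) h21 with h | h
  · exfalso
    rw [h] at hcard
    have hpq : (none : GolayPt) ≠ some 0 := by decide
    obtain ⟨e⟩ := stabEquivM22p hpq
    have hDc : Nat.card ↥(K.subgroupOf M22p) = 36960 := by
      rw [Nat.card_congr (Subgroup.subgroupOfEquivOfLe hK).toEquiv, hcard]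
    have hidx := Subgroup.card_mul_index (K.subgroupOf M22p)
    rw [hDc, card_M22p] at hidx
    have h12 : (K.subgroupOf M22p).index = 12 := by omega
    have := Cfsg.Agent.Helper93.M22Idx.index_eq_one_of_equiv hpq e.symm (K.subgroupOf M22p)
      (by rw [h12]) (by rw [h12]; norm_num)
    rw [h12] at this
    norm_num at this
  · rw [h] at hcard
    apply Subgroup.eq_of_le_of_card_ge hK
    rw [hcard, card_M22p]

end Cfsg.Agent.Helper26.OutMcL
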