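import Cfsg.Agent.Helper26.McLG
import Cfsg.Agent.Helper26.McLH

/-!
# The McLaughlin group: words for further elements

The inverse of `zE`, its fifth power, the third generator `mL` of `M22` as a word in `cL`,
`uL` and `zL`, and the involution `sE` of `Co0` interchanging `(-3, 1^23)` and `(4, 4, 0^22)`,
which centralises `cL`, `dL` and `uL` and inverts `zL`.
-/

set_option autoImplicit false

namespace Cfsg.Agent.Helper26.OutMcL

open Cfsg Cfsg.Agent.Helper7 Cfsg.Agent.Helper27 Cfsg.Agent.Helper92 Cfsg.Agent.Helper93.HSL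
  Cfsg.Agent.Helper26.OutCo2 MulAction
open Cfsg.Agent.Helper8 hiding x0L

/-! ### powers of words -/

/-- the power of a word -/
def wpow (W : List Letter) : ℕ → List Letter
  | 0 => []
  | n + 1 => W ++ wpow W n

theorem acts_one : Acts (1 : ↥Co0) [] := fun v => by rw [one_smul]; rfl

theorem acts_pow {g : ↥Co0} {W : List Letter} (h : Acts g W) (n : ℕ) : Acts (g ^ n) (wpow W n) := by
  induction n with
  | zero => rw [pow_zero]; exact acts_one
  | succ n ih =>
    rw [pow_succ]
    exact h.mul ih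

theorem okW_append {W W' : List Letter} (h : okW W = true) (h' : okW W' = true) :
    okW (W ++ W') = true := by
  unfold okW at *
  rw [List.all_append, h, h']
  rfl

theorem okW_wpow {W : List Letter} (h : okW W = true) (n : ℕ) : okW (wpow W n) = true := by
  induction n with
  | zero => rfl
  | succ n ih => exact okW_append h ih

/-! ### the inverse and the fifth power -/

/-- the word of the inverse of `zE` -/
def wZi : List Letter := [
  .P [19, 22, 4, 5, 11, 7, 12, 6, 20, 2, 3, 13, 18, 23, 15, 1, 16, 9, 0, 8, 21, 17, 10, 14] [18, 15, 9, 10, 2, 3, 7, 5, 19, 17, 22, 4, 6, 11, 23, 14, 16, 21, 12, 0, 8, 20, 1, 13],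
  .S 2331547,
  .X,
  .P [23, 18, 16, 5, 21, 14, 17, 15, 19, 11, 2, 4, 0, 12, 10, 22, 13, 3, 8, 9, 7, 20, 1, 6] [12, 22, 10, 17, 11, 3, 23, 20, 18, 19, 14, 9, 13, 16, 5, 7, 2, 6, 1, 8, 21, 4, 15, 0],
  .S 9256176,
  .X,
  .S 7770270,
  .P [18, 3, 19, 15, 2, 23, 4, 5, 20, 0, 13, 21, 14, 17, 12, 9, 1, 16, 10, 22, 8, 6, 7, 11] [9, 16, 4, 1, 6, 7, 21, 22, 20, 15, 18, 23, 14, 10, 12, 3, 17, 13, 0, 2, 8, 11, 19, 5]]

set_option maxRecDepth 100000 in
theorem wZi_ok : okW wZi = true := by decide +kernel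

/-- the element with the inverse word -/
noncomputable def zEi : ↥Co0 := Classical.choose (exists_co0_word wZi wZi_ok)

theorem acts_zEi : Acts zEi wZi := Classical.choose_spec (exists_co0_word wZi wZi_ok)

set_option maxRecDepth 100000 in
theorem zEi_mul_zE : zEi * zE = 1 := by
  apply Acts.ext (acts_zE.mul acts_zEi) acts_one (okW_append wZ_ok wZi_ok) rfl
  decide +kernel

theorem zEi_eq : zEi = zE⁻¹ := eq_inv_of_mul_eq_one_left zEi_mul_zE

set_option maxRecDepth 100000 in
theorem zE_pow_five : zE ^ 5 = 1 := by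
  apply Acts.ext (acts_pow acts_zE 5) acts_one (okW_wpow wZ_ok 5) rfl
  decide +kernel

theorem zL_pow_five : zL ^ 5 = 1 := by
  apply Subtype.ext
  rw [Subgroup.coe_pow, zL_val, zE_pow_five]
  rfl

/-! ### the third generator of `M22` -/

/-- the third generator in `M22` -/
def mQ : ↥M22p := ⟨mP, mP_mem_M22p⟩

/-- the third generator in the McLaughlin group -/
noncomputable def mL : ↥LM := m22 mQ

theorem acts_mL : Acts (mL : ↥Co0) [.P tMp sMp] := acts_perm tMp_inv tMp_chk

set_option maxRecDepth 100000 in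
theorem mL_val : (mL : ↥Co0) = zEi * (cL : ↥Co0) * (cL : ↥Co0) * (uL : ↥Co0) * (cL : ↥Co0) * zE := by
  apply Acts.ext acts_mL
    (acts_zE.mul (acts_cL.mul (acts_uL.mul (acts_cL.mul (acts_cL.mul acts_zEi)))))
    (by decide +kernel) (by decide +kernel)
  decide +kernel

theorem mL_eq : mL = zL⁻¹ * cL * cL * uL * cL * zL := by
  apply Subtype.ext
  rw [mL_val, zEi_eq]
  rfl

end Cfsg.Agent.Helper26.OutMcL
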