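import Cfsg.Agent.Helper26.McLI

/-!
# The outer automorphism of the McLaughlin group

The involution `sE` of `Co0` interchanges `(-3, 1^23)` and `(4, 4, 0^22)`; conjugation by it is
an automorphism `sigmaL` of the McLaughlin group which fixes `cL`, `dL`, `uL`, inverts `zL` and
is not inner.
-/

set_option autoImplicit false

namespace Cfsg.Agent.Helper26.OutMcL

open Cfsg Cfsg.Agent.Helper7 Cfsg.Agent.Helper27 Cfsg.Agent.Helper92 Cfsg.Agent.Helper93.HSL
  Cfsg.Agent.Helper26.OutCo2 MulAction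
open Cfsg.Agent.Helper8 hiding x0L

/-- the word of the involution -/
def wS : List Letter := [
  .P [0, 1, 12, 4, 2, 5, 19, 7, 20, 13, 3, 21, 10, 23, 22, 16, 18, 14, 6, 15, 17, 9, 8, 11] [0, 1, 4, 10, 3, 5, 18, 7, 22, 21, 12, 23, 2, 9, 17, 19, 15, 20, 16, 6, 8, 11, 14, 13],
  .S 13163098,
  .X,
  .S 12885646,
  .P [0, 18, 3, 16, 19, 2, 12, 20, 6, 10, 5, 21, 17, 9, 14, 15, 13, 4, 23, 22, 1, 7, 8, 11] [0, 20, 5, 2, 17, 10, 8, 21, 22, 13, 9, 23, 6, 16, 14, 15, 3, 12, 1, 4, 7, 11, 19, 18],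
  .X,
  .S 5884439,
  .P [11, 22, 3, 13, 4, 1, 17, 0, 12, 7, 10, 6, 21, 20, 23, 5, 9, 18, 16, 15, 2, 19, 8, 14] [7, 5, 20, 2, 4, 15, 11, 9, 22, 16, 10, 0, 8, 3, 23, 19, 18, 6, 17, 21, 13, 12, 1, 14],
  .X,
  .S 2060276,
  .P [8, 23, 12, 21, 13, 2, 14, 11, 10, 6, 3, 0, 20, 17, 19, 9, 1, 16, 4, 7, 18, 15, 5, 22] [11, 16, 5, 10, 18, 22, 9, 19, 0, 15, 8, 7, 2, 4, 6, 21, 17, 13, 20, 14, 12, 3, 23, 1]]

set_option maxRecDepth 100000 in
theorem wS_ok : okW wS = true := by decide +kernel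

/-- the involution -/
noncomputable def sE : ↥Co0 := Classical.choose (exists_co0_word wS wS_ok)

theorem acts_sE : Acts sE wS := Classical.choose_spec (exists_co0_word wS wS_ok)

set_option maxRecDepth 100000 in
theorem wS_v1 : runW wS lv1 = lx0 := by decide +kernel

set_option maxRecDepth 100000 in
theorem wS_x0 : runW wS lx0 = lv1 := by decide +kernel

theorem sE_v1 : sE • v1L = x0L := by
  apply Subtype.ext
  rw [acts_sE.run wS_ok v1_list, wS_v1]
  exact x0_list.symm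

theorem sE_x0 : sE • x0L = v1L := by
  apply Subtype.ext
  rw [acts_sE.run wS_ok x0_list, wS_x0]
  exact v1_list.symm

set_option maxRecDepth 100000 in
theorem sE_comm_cL : sE * (cL : ↥Co0) = (cL : ↥Co0) * sE := by
  apply Acts.ext (acts_cL.mul acts_sE) (acts_sE.mul acts_cL) (by decide +kernel) (by decide +kernel)
  decide +kernel

set_option maxRecDepth 100000 in
theorem sE_comm_dL : sE * (dL : ↥Co0) = (dL : ↥Co0) * sE := by
  apply Acts.ext (acts_dL.mul acts_sE) (acts_sE.mul acts_dL) (by decide +kernel) (by decide +kernel)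
  decide +kernel

set_option maxRecDepth 100000 in
theorem sE_comm_uL : sE * (uL : ↥Co0) = (uL : ↥Co0) * sE := by
  apply Acts.ext (acts_uL.mul acts_sE) (acts_sE.mul acts_uL) (by decide +kernel) (by decide +kernel)
  decide +kernel

set_option maxRecDepth 100000 in
theorem sE_mul_zE : sE * zE = zEi * sE := by
  apply Acts.ext (acts_zE.mul acts_sE) (acts_sE.mul acts_zEi) (by decide +kernel) (by decide +kernel)
  decide +kernel

/-- conjugation by the involution -/
noncomputable def sigmaL : MulAut ↥LM :=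
  (conjInfEquiv sE v1L x0L).trans (MulEquiv.subgroupCongr (by rw [sE_v1, sE_x0, inf_comm]))

theorem sigmaL_val (g : ↥LM) : ((sigmaL g : ↥LM) : ↥Co0) = sE * (g : ↥Co0) * sE⁻¹ := rfl

theorem sigmaL_cL : sigmaL cL = cL := by
  apply Subtype.ext
  rw [sigmaL_val, sE_comm_cL, mul_inv_cancel_right]

theorem sigmaL_dL : sigmaL dL = dL := by
  apply Subtype.ext
  rw [sigmaL_val, sE_comm_dL, mul_inv_cancel_right]

theorem sigmaL_uL : sigmaL uL = uL := by
  apply Subtype.ext
  rw [sigmaL_val, sE_comm_uL, mul_inv_cancel_right]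

theorem sigmaL_zL : sigmaL zL = zL⁻¹ := by
  apply Subtype.ext
  rw [sigmaL_val, zL_val, sE_mul_zE, mul_inv_cancel_right, zEi_eq]
  rfl

/-- the automorphism is not inner -/
theorem sigmaL_not_inner : sigmaL ∉ (MulAut.conj : ↥LM →* MulAut ↥LM).range := by
  rintro ⟨l, hl⟩
  have h1 : l * cL * l⁻¹ = cL := by
    have := congrArg (fun φ : MulAut ↥LM => φ cL) hl
    simp only [MulAut.conj_apply] at this
    rw [this, sigmaL_cL]
  have h2 : l * dL * l⁻¹ = dL := by
    have := congrArg (fun φ : MulAut ↥LM => φ dL) hl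
    simp only [MulAut.conj_apply] at this
    rw [this, sigmaL_dL]
  have h3 : l * cL = cL * l := mul_inv_eq_iff_eq_mul.mp h1
  have h4 : l * dL = dL * l := mul_inv_eq_iff_eq_mul.mp h2
  have h5 : l = 1 := eq_one_of_commute_dL (cent_cL l h3) h4
  rw [h5, map_one] at hl
  have h6 : sigmaL zL = zL := by rw [← hl]; rfl
  rw [sigmaL_zL] at h6
  have h7 : zL ^ 2 = 1 := by
    rw [pow_two]
    nth_rewrite 1 [← h6]
    exact inv_mul_cancel zL
  have h8 : ((zL ^ 2 : ↥LM) : ↥Co0) • z0L = z0L := by rw [h7]; exact one_smul _ _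
  rw [Subgroup.coe_pow, zL_val, zE_pow_z0] at h8
  exact yv_ne 2 (by norm_num) (by norm_num) h8

end Cfsg.Agent.Helper26.OutMcL
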