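import Cfsg.Agent.Helper26.McLR

/-!
# The relator check, first half
-/

set_option autoImplicit false

namespace Cfsg.Agent.Helper26.OutMcL

set_option maxRecDepth 1000000 in
theorem rel_row1 : relRow 1 = true := by decide +kernel

set_option maxRecDepth 1000000 in
theorem rel_row2 : relRow 2 = true := by decide +kernel

set_option maxRecDepth 1000000 in
theorem rel_row3 : relRow 3 = true := by decide +kernel

set_option maxRecDepth 1000000 in
theorem rel_row4 : relRow 4 = true := by decide +kernel

set_option maxRecDepth 1000000 in
theorem rel_row5 : relRow 5 = true := by decide +kernel

end Cfsg.Agent.Helper26.OutMcL
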