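import Cfsg.Agent.Helper26.McLRa

/-!
# The relator check, second half

(Imports the first half only so that the two heavy files are never compiled at the same time.)
-/

set_option autoImplicit false

namespace Cfsg.Agent.Helper26.OutMcL

set_option maxRecDepth 1000000 in
theorem rel_row6 : relRow 6 = true := by decide +kernel

set_option maxRecDepth 1000000 in
theorem rel_row7 : relRow 7 = true := by decide +kernel

set_option maxRecDepth 1000000 in
theorem rel_row8 : relRow 8 = true := by decide +kernel

set_option maxRecDepth 1000000 in
theorem rel_row9 : relRow 9 = true := by decide +kernel

set_option maxRecDepth 1000000 in
theorem rel_row10 : relRow 10 = true := by decide +kernel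

end Cfsg.Agent.Helper26.OutMcL
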