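import Cfsg.Agent.Helper26.McLJ
import Cfsg.Agent.Helper26.McLRa
import Cfsg.Agent.Helper26.McLRb

/-!
# The automorphism group of the McLaughlin group

The McLaughlin group is generated by `M22` and `zL`; an automorphism fixing `cL`, `dL`, `uL`
and `zL` is trivial; an automorphism fixing `⟨cL⟩`, `dL` and `uL` is trivial or equal to
`sigmaL`; every automorphism is inner or the product of `sigmaL` and an inner automorphism.
-/

set_option autoImplicit false

namespace Cfsg.Agent.Helper26.OutMcL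

open Cfsg Cfsg.Agent.Helper7 Cfsg.Agent.Helper27 Cfsg.Agent.Helper92 Cfsg.Agent.Helper93.HSL
  Cfsg.Agent.Helper26.OutCo2 MulAction
open Cfsg.Agent.Helper8 hiding x0L

/-! ### generation -/

/-- a subgroup containing `M22` and `zL` is the whole group -/
theorem eq_top_of_mem (K' : Subgroup ↥LM) (hM : ∀ σ : ↥M22p, m22 σ ∈ K') (hz : zL ∈ K') :
    K' = ⊤ := by
  rw [eq_top_iff]
  intro g _
  have key : ∀ g : ↥Co0, g • x0L = x0L → g • v1L = v1L → g ∈ K'.map LM.subtype := by
    apply le_of_coatom x0L v1L z0L base_facts.1 sqNorm_v1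
      (by rw [dotInt_comm]; exact base_facts.2.1)
      ⟨base_facts.2.2.1, base_facts.2.2.2.1, base_facts.2.2.2.2⟩ (K'.map LM.subtype)
    · intro g hx hv hz0
      obtain ⟨σ, hσ⟩ := exists_m22_of_fix_z0 ⟨g, mem_LM.mpr ⟨hv, hx⟩⟩ hz0
      exact ⟨m22 σ, hM σ, by rw [← hσ]; rfl⟩
    · exact ⟨zL, hz, rfl⟩
    · exact zE_x0
    · exact zE_v1
    · exact yv_ne 1 (by norm_num) (by norm_num)
  obtain ⟨k, hk, hkg⟩ := key g.1 (LM_smul_x0 g) (LM_smul_v1 g)
  have : k = g := Subtype.ext hkg
  rwa [this] at hk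

/-- an automorphism fixing the four generators is trivial -/
theorem eq_one_of_fix (ψ : MulAut ↥LM) (hC : ψ cL = cL) (hD : ψ dL = dL) (hU : ψ uL = uL)
    (hZ : ψ zL = zL) : ψ = 1 := by
  obtain ⟨K', hK'⟩ : ∃ K' : Subgroup ↥LM, ∀ g, g ∈ K' ↔ ψ g = g :=
    ⟨MonoidHom.eqLocus ψ.toMonoidHom (MonoidHom.id ↥LM), fun g => Iff.rfl⟩
  have hcK : cL ∈ K' := (hK' _).mpr hC
  have hdK : dL ∈ K' := (hK' _).mpr hD
  have huK : uL ∈ K' := (hK' _).mpr hU
  have hzK : zL ∈ K' := (hK' _).mpr hZ
  have hmK : mL ∈ K' := by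
    rw [mL_eq]
    exact K'.mul_mem (K'.mul_mem (K'.mul_mem (K'.mul_mem (K'.mul_mem (K'.inv_mem hzK) hcK) hcK)
      huK) hcK) hzK
  have hM : ∀ σ : ↥M22p, m22 σ ∈ K' := by
    have htop := closure_subtype_eq_top M22p mu23 cubeTwist mP mu23_mem_M22p cubeTwist_mem_M22p
      mP_mem_M22p closure_M22p
    intro σ
    have hσ : σ ∈ Subgroup.closure ({cQ, dQ, mQ} : Set ↥M22p) := by
      have : σ ∈ (⊤ : Subgroup ↥M22p) := Subgroup.mem_top σ
      rw [← htop] at this
      exact this
    have hle : Subgroup.closure ({cQ, dQ, mQ} : Set ↥M22p) ≤ K'.comap m22 := by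
      rw [Subgroup.closure_le]
      rintro x (rfl | rfl | rfl)
      · exact hcK
      · exact hdK
      · exact hmK
    exact hle hσ
  have htopK := eq_top_of_mem K' hM hzK
  apply MulEquiv.ext
  intro g
  have : g ∈ K' := by rw [htopK]; exact Subgroup.mem_top g
  exact (hK' g).mp this

/-! ### the relator -/

theorem rel_hold : (dL * cL * mL) ^ 4 = 1 := by
  have h : (dQ * cQ * mQ) ^ 4 = 1 := by
    apply Subtype.ext
    show (cubeTwist * mu23 * mP) ^ 4 = 1
    have t := isTable_tpow ((isTable_cubeTwist.mul isTable_mu23).mul isTable_mP) 4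
    have e : tpow (compT (compT tC tM) tMp) 4 = idT := by decide +kernel
    rw [e] at t
    exact t.inj isTable_one
  unfold dL cL mL
  rw [← map_mul, ← map_mul, ← map_pow, h, map_one]

/-- the image of `dL * cL * mL` in `Co0` -/
noncomputable def relE (i c : ℕ) : ↥Co0 :=
  (dL : ↥Co0) * ((cL : ↥Co0) ^ i * (zEi ^ c * ((cL : ↥Co0) ^ i * ((cL : ↥Co0) ^ i *
    ((uL : ↥Co0) * ((cL : ↥Co0) ^ i * zE ^ c))))))

theorem acts_relE (i c : ℕ) : Acts (relE i c) (relW i c) :=
  (((((((acts_pow acts_zE c).mul (acts_pow acts_cL i)).mul acts_uL).mul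
    (acts_pow acts_cL i)).mul (acts_pow acts_cL i)).mul (acts_pow acts_zEi c)).mul
    (acts_pow acts_cL i)).mul acts_dL

theorem okW_relW (i c : ℕ) : okW (relW i c) = true := by
  have hC : okW [Letter.P tM sM] = true := by decide +kernel
  have hU : okW [Letter.P tU tU] = true := by decide +kernel
  have hD : okW [Letter.P tC sC] = true := by decide +kernel
  unfold relW
  exact okW_append (okW_append (okW_append (okW_append (okW_append (okW_append (okW_append
    (okW_wpow wZ_ok c) (okW_wpow hC i)) hU) (okW_wpow hC i)) (okW_wpow hC i))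
    (okW_wpow wZi_ok c)) (okW_wpow hC i)) hD

theorem rel_chk (i c : ℕ) (hi : i < 11) (hc : c < 5) (hi0 : i ≠ 0) (hc0 : c ≠ 0)
    (h : ¬ (i = 1 ∧ (c = 1 ∨ c = 4))) : relBad i c = true := by
  interval_cases i
  · exact absurd rfl hi0
  · exact relRow_spec rel_row1 c hc hc0 h
  · exact relRow_spec rel_row2 c hc hc0 h
  · exact relRow_spec rel_row3 c hc hc0 h
  · exact relRow_spec rel_row4 c hc hc0 h
  · exact relRow_spec rel_row5 c hc hc0 h
  · exact relRow_spec rel_row6 c hc hc0 h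
  · exact relRow_spec rel_row7 c hc hc0 h
  · exact relRow_spec rel_row8 c hc hc0 h
  · exact relRow_spec rel_row9 c hc hc0 h
  · exact relRow_spec rel_row10 c hc hc0 h

/-- if the fourth power of the image is trivial, the parameters are as expected -/
theorem params_of_rel (i c : ℕ) (hi : i < 11) (hc : c < 5) (hi0 : i ≠ 0) (hc0 : c ≠ 0)
    (h : relE i c ^ 4 = 1) : i = 1 ∧ (c = 1 ∨ c = 4) := by
  by_contra hbad
  have hb := rel_chk i c hi hc hi0 hc0 hbad
  have hrun := (acts_pow (acts_relE i c) 4).run (okW_wpow (okW_relW i c) 4)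
    (vec8_eq_vecOf (some 1))
  rw [h, one_smul, vec8_eq_vecOf] at hrun
  have h1 := congrFun hrun (some 1)
  unfold relBad at hb
  rw [bne_iff_ne] at hb
  apply hb
  have e : gIdx (some (1 : ZMod 23)) = 1 := by decide
  rw [e] at h1
  unfold vecOf at h1
  rw [e] at h1
  rw [← h1]
  decide

end Cfsg.Agent.Helper26.OutMcL
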