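import Cfsg.Agent.Helper26.McLK

/-!
# The outer automorphism group of the McLaughlin group has order 2

The final step of the Sylow chain: an automorphism fixing `⟨cL⟩`, `dL` and `uL` is trivial or
`sigmaL`; hence the inner automorphisms have index 2 in the automorphism group of `LM`.
-/

set_option autoImplicit false

namespace Cfsg.Agent.Helper26.OutMcL

open Cfsg Cfsg.Agent.Helper7 Cfsg.Agent.Helper27 Cfsg.Agent.Helper92 Cfsg.Agent.Helper93.HSL
  Cfsg.Agent.Helper26.OutCo2 MulAction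
open Cfsg.Agent.Helper8 hiding x0L

theorem cL_ne_one : cL ≠ 1 := by
  intro h
  have := orderOf_cL
  rw [h, orderOf_one] at this
  norm_num at this

theorem zL_ne_one : zL ≠ 1 := by
  intro h
  have h1 : ((zL ^ 1 : ↥LM) : ↥Co0) • z0L = z0L := by rw [h, one_pow]; exact one_smul _ _
  rw [Subgroup.coe_pow, zL_val, zE_pow_z0] at h1
  exact yv_ne 1 (by norm_num) (by norm_num) h1

theorem sigmaL_inv_cL : sigmaL⁻¹ cL = cL := by
  conv_lhs => rw [← sigmaL_cL]
  exact MulAut.inv_apply_self _ _ _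

theorem sigmaL_inv_dL : sigmaL⁻¹ dL = dL := by
  conv_lhs => rw [← sigmaL_dL]
  exact MulAut.inv_apply_self _ _ _

theorem sigmaL_inv_uL : sigmaL⁻¹ uL = uL := by
  conv_lhs => rw [← sigmaL_uL]
  exact MulAut.inv_apply_self _ _ _

theorem sigmaL_inv_zL : sigmaL⁻¹ zL = zL⁻¹ := by
  have h : sigmaL zL⁻¹ = zL := by rw [map_inv, sigmaL_zL, inv_inv]
  conv_lhs => rw [← h]
  exact MulAut.inv_apply_self _ _ _

/-- the coercion of the image of `dL * cL * mL` -/
theorem relE_eq (i c : ℕ) :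
    ((dL * cL ^ i * ((zL ^ c)⁻¹ * cL ^ i * cL ^ i * uL * cL ^ i * zL ^ c) : ↥LM) : ↥Co0) =
      relE i c := by
  unfold relE
  simp only [Subgroup.coe_mul, Subgroup.coe_pow, Subgroup.coe_inv, zL_val, mul_assoc]
  rw [← inv_pow, ← zEi_eq]

/-- the final step of the chain -/
theorem final_step (ψ : MulAut ↥LM) (h1 : ψ cL ∈ Subgroup.zpowers cL) (h2 : ψ dL = dL)
    (h3 : ψ uL = uL) :
    ψ ∈ (MulAut.conj : ↥LM →* MulAut ↥LM).range ∨
      ψ * sigmaL⁻¹ ∈ (MulAut.conj : ↥LM →* MulAut ↥LM).range := by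
  obtain ⟨i, hi, hψC⟩ := exists_lt_pow_of_mem_zpowers (by norm_num) cL_pow h1
  have hi0 : i ≠ 0 := by
    rintro rfl
    rw [pow_zero] at hψC
    exact cL_ne_one ((map_eq_one_iff ψ ψ.injective).mp hψC)
  have hzD : ψ zL * dL = dL * ψ zL := by
    rw [← h2, ← map_mul, ← map_mul, zL_comm_dL]
  have hzU : ψ zL * uL = uL * ψ zL := by
    rw [← h3, ← map_mul, ← map_mul, zL_comm_uL]
  obtain ⟨c, hc, hψZ⟩ := eq_zL_pow_of_commute_uL (ψ zL) hzD hzU
  have hc0 : c ≠ 0 := by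
    rintro rfl
    rw [pow_zero] at hψZ
    exact zL_ne_one ((map_eq_one_iff ψ ψ.injective).mp hψZ)
  have himg : ψ (dL * cL * mL) =
      dL * cL ^ i * ((zL ^ c)⁻¹ * cL ^ i * cL ^ i * uL * cL ^ i * zL ^ c) := by
    rw [mL_eq]
    simp only [map_mul, map_inv, h2, h3, hψC, hψZ]
  have h4 : (dL * cL ^ i * ((zL ^ c)⁻¹ * cL ^ i * cL ^ i * uL * cL ^ i * zL ^ c)) ^ 4 = 1 := by
    rw [← himg, ← map_pow, rel_hold, map_one]
  have h5 : relE i c ^ 4 = 1 := by
    rw [← relE_eq, ← Subgroup.coe_pow, h4]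
    rfl
  obtain ⟨rfl, hcc⟩ := params_of_rel i c hi hc hi0 hc0 h5
  rw [pow_one] at hψC
  rcases hcc with rfl | rfl
  · left
    rw [pow_one] at hψZ
    rw [eq_one_of_fix ψ hψC h2 h3 hψZ]
    exact Subgroup.one_mem _
  · right
    have hz4 : (zL ^ 4)⁻¹ = zL := by
      apply inv_eq_of_mul_eq_one_right
      rw [← pow_succ, zL_pow_five]
    have : ψ * sigmaL⁻¹ = 1 := by
      apply eq_one_of_fix
      · rw [MulAut.mul_apply, sigmaL_inv_cL, hψC]
      · rw [MulAut.mul_apply, sigmaL_inv_dL, h2]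
      · rw [MulAut.mul_apply, sigmaL_inv_uL, h3]
      · rw [MulAut.mul_apply, sigmaL_inv_zL, map_inv, hψZ, hz4]
    rw [this]
    exact Subgroup.one_mem _

theorem uL_mul_dL_pow : uL * dL ^ 4 = dL * uL := by
  have h := uL_mul_dL
  have h1 : uL * (uL * dL) * uL = uL * (dL ^ 4 * uL) * uL := by rw [h]
  have e1 : uL * (uL * dL) * uL = dL * uL := by
    rw [← mul_assoc, uL_mul_self, one_mul]
  have e2 : uL * (dL ^ 4 * uL) * uL = uL * dL ^ 4 := by
    rw [mul_assoc, mul_assoc, uL_mul_self, mul_one]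
  rw [e1, e2] at h1
  exact h1.symm

theorem normalises_dL : ∀ z ∈ Subgroup.zpowers dL, ∃ T ∈ Subgroup.zpowers dL,
    T * (uL * z) * T⁻¹ = uL := by
  intro z hz
  obtain ⟨j, _, rfl⟩ := exists_lt_pow_of_mem_zpowers (by norm_num) dL_pow hz
  refine ⟨dL ^ (3 * j), Subgroup.pow_mem _ (Subgroup.mem_zpowers _) _, ?_⟩
  rw [mul_inv_eq_iff_eq_mul]
  have h1 : uL * (dL ^ 4) ^ (3 * j) = dL ^ (3 * j) * uL :=
    ((show SemiconjBy uL (dL ^ 4) dL from uL_mul_dL_pow).pow_right (3 * j)).eq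
  rw [← mul_assoc, ← h1, mul_assoc, ← pow_mul, ← pow_add]
  congr 1
  have e : 4 * (3 * j) + j = 3 * j + 5 * (2 * j) := by ring
  rw [e, pow_add, pow_mul dL 5, dL_pow, one_pow, mul_one]

/-- every automorphism is inner or the product of an inner automorphism and `sigmaL` -/
theorem aut_cases (φ : MulAut ↥LM) :
    φ ∈ (MulAut.conj : ↥LM →* MulAut ↥LM).range ∨
      φ * sigmaL⁻¹ ∈ (MulAut.conj : ↥LM →* MulAut ↥LM).range := by
  have : Fact (Nat.Prime 11) := ⟨by norm_num⟩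
  refine OutAbs.forall_of_chain 11 cL dL uL 3 4 2
    (fun ψ => ψ ∈ (MulAut.conj : ↥LM →* MulAut ↥LM).range ∨
      ψ * sigmaL⁻¹ ∈ (MulAut.conj : ↥LM →* MulAut ↥LM).range) ?_
    orderOf_cL not_sq_dvd_card_LM cent_cL dL_conj_cL normalises_cL uL_conj_dL normalises_dL uL_sq
    weak_cent_dL final_step φ
  intro T ψ h
  rcases h with h | h
  · exact Or.inl (mem_inn_of_mul_mem T ψ h)
  · right
    apply mem_inn_of_mul_mem T
    rw [← mul_assoc]
    exact h

/-- the inner automorphisms have index 2 -/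
theorem index_inn_LM : ((MulAut.conj : ↥LM →* MulAut ↥LM).range).index = 2 := by
  rw [Subgroup.index_eq_two_iff]
  refine ⟨sigmaL⁻¹, fun b => ?_⟩
  have hnot : ¬ (b * sigmaL⁻¹ ∈ (MulAut.conj : ↥LM →* MulAut ↥LM).range ∧
      b ∈ (MulAut.conj : ↥LM →* MulAut ↥LM).range) := by
    rintro ⟨h1, h2⟩
    have h3 : sigmaL⁻¹ ∈ (MulAut.conj : ↥LM →* MulAut ↥LM).range := by
      have : sigmaL⁻¹ = b⁻¹ * (b * sigmaL⁻¹) := by group
      rw [this]
      exact Subgroup.mul_mem _ (Subgroup.inv_mem _ h2) h1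
    exact sigmaL_not_inner ((Subgroup.inv_mem_iff _).mp h3)
  rcases aut_cases b with h | h
  · exact Or.inr ⟨h, fun h' => hnot ⟨h', h⟩⟩
  · exact Or.inl ⟨h, fun h' => hnot ⟨h, h'⟩⟩

end Cfsg.Agent.Helper26.OutMcL
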