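import Cfsg.Agent.Helper26.McLI

/-!
# The relator distinguishing the candidate images of the generators

The word of `(dL * cL ^ i * ((zL ^ c)⁻¹ * cL ^ i * cL ^ i * uL * cL ^ i * zL ^ c))`.
-/

set_option autoImplicit false

namespace Cfsg.Agent.Helper26.OutMcL

open Cfsg Cfsg.Agent.Helper7 Cfsg.Agent.Helper27 Cfsg.Agent.Helper92 Cfsg.Agent.Helper93.HSL
  Cfsg.Agent.Helper26.OutCo2 MulAction
open Cfsg.Agent.Helper8 hiding x0L

/-- the word of the image of `dL * cL * mL` -/
def relW (i c : ℕ) : List Letter :=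
  ((((((wpow wZ c ++ wpow [.P tM sM] i) ++ [.P tU tU]) ++ wpow [.P tM sM] i) ++
    wpow [.P tM sM] i) ++ wpow wZi c) ++ wpow [.P tM sM] i) ++ [.P tC sC]

/-- the fourth power of the word moves `8 e_1` -/
def relBad (i c : ℕ) : Bool := (runW (wpow (relW i c) 4) (basisL 1)).getD 1 0 != 8

/-- the check for all exponents of `zL` -/
def relRow (i : ℕ) : Bool :=
  (List.range 5).all fun c => c == 0 || (i == 1 && (c == 1 || c == 4)) || relBad i c

theorem relRow_spec {i : ℕ} (h : relRow i = true) (c : ℕ) (hc : c < 5) (hc0 : c ≠ 0)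
    (hbad : ¬ (i = 1 ∧ (c = 1 ∨ c = 4))) : relBad i c = true := by
  unfold relRow at h
  rw [List.all_eq_true] at h
  have := h c (List.mem_range.mpr hc)
  simp only [Bool.or_eq_true, beq_iff_eq, Bool.and_eq_true] at this
  rcases this with (h1 | h1) | h1
  · exact absurd h1 hc0
  · exact absurd h1 hbad
  · exact h1

end Cfsg.Agent.Helper26.OutMcL
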