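import Cfsg.Agent.Helper26.OctadCertData
import Cfsg.Agent.Helper26.FivePt

/-!
# The stabiliser of an octad is transitive on the octads meeting it in a given number of points
-/

set_option autoImplicit false

namespace Cfsg.Agent.Helper26

open Cfsg Helper27 Helper92
open scoped Pointwise

/-- the stabiliser of the standard octad, inside `M24`, as a subgroup of the symmetric group -/
def octStab : Subgroup (Equiv.Perm GolayPt) :=
  M24 ⊓ MulAction.stabilizer (Equiv.Perm GolayPt) (Helper27.setOf 5279)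

theorem octGens_mem : ∀ g ∈ [octG1, octG2], g.ok = true ∧ g.perm ∈ octStab := by
  intro g hg
  simp only [List.mem_cons, List.not_mem_nil, or_false] at hg
  rcases hg with rfl | rfl
  · refine ⟨octG1_ok, Subgroup.mem_inf.2 ⟨GenData.perm_mem octG1_ok, ?_⟩⟩
    rw [MulAction.mem_stabilizer_iff, GenData.smul_setOf octG1_ok _ (by norm_num), octG1_fix]
  · refine ⟨octG2_ok, Subgroup.mem_inf.2 ⟨GenData.perm_mem octG2_ok, ?_⟩⟩
    rw [MulAction.mem_stabilizer_iff, GenData.smul_setOf octG2_ok _ (by norm_num), octG2_fix]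

theorem octad_to_rep {p : Finset GolayPt} (hp : p ∈ octads) :
    ∃ h ∈ octStab, h • p = Helper27.setOf (octRep (p ∩ Helper27.setOf 5279).card) := by
  obtain ⟨c, hc, rfl, hw⟩ := exists_encode_of_mem_octads hp
  exact wtCert_sound octStab _ octGens_mem octSV 5279 octRep 8 11 octCert c hc hw

theorem octad_stab_trans_std {p p' : Finset GolayPt} (hp : p ∈ octads) (hp' : p' ∈ octads)
    (h : (Helper27.setOf 5279 ∩ p).card = (Helper27.setOf 5279 ∩ p').card) :
    ∃ g ∈ M24, g • Helper27.setOf 5279 = Helper27.setOf 5279 ∧ g • p = p' := by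
  obtain ⟨a, ha, ea⟩ := octad_to_rep hp
  obtain ⟨b, hb, eb⟩ := octad_to_rep hp'
  rw [Finset.inter_comm] at ea eb
  rw [h] at ea
  refine ⟨b⁻¹ * a, M24.mul_mem (M24.inv_mem hb.1) ha.1, ?_, ?_⟩
  · exact MulAction.mem_stabilizer_iff.1 (octStab.mul_mem (octStab.inv_mem hb) ha).2
  · rw [mul_smul, ea, ← eb, inv_smul_smul]

/-- The stabiliser of an octad `o` is transitive on the octads meeting `o` in a given number of
points. -/
theorem octad_stab_trans {o o' o'' : Finset GolayPt} (ho : o ∈ octads) (ho' : o' ∈ octads)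
    (ho'' : o'' ∈ octads) (h : (o ∩ o').card = (o ∩ o'').card) :
    ∃ g ∈ M24, g • o = o ∧ g • o' = o'' := by
  obtain ⟨a, ha, ea⟩ := Helper7.exists_smul_octad_eq ho setOf_5279_mem_octads
  have hc : ∀ x : Finset GolayPt, (Helper27.setOf 5279 ∩ a • x).card = (o ∩ x).card := by
    intro x
    rw [← ea, ← Finset.smul_finset_inter, Finset.card_smul_finset]
  obtain ⟨g, hg, e1, e2⟩ := octad_stab_trans_std (Helper7.smul_mem_octads ha ho')
    (Helper7.smul_mem_octads ha ho'') (by rw [hc, hc, h])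
  refine ⟨a⁻¹ * g * a, M24.mul_mem (M24.mul_mem (M24.inv_mem ha) hg) ha, ?_, ?_⟩
  · rw [mul_smul, mul_smul, ea, e1, ← ea, inv_smul_smul]
  · rw [mul_smul, mul_smul, e2, inv_smul_smul]

end Cfsg.Agent.Helper26
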