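import Cfsg.Agent.Helper26.OctadStab

/-!
# The octad stabiliser splits: `2^4 : A_8`
-/

set_option autoImplicit false

namespace Cfsg.Agent.Helper26

open Cfsg Helper7 MulAction
open scoped Pointwise

variable {o : Finset GolayPt}

theorem octK_inf_octA (ho : o ∈ octads) {p : GolayPt} (hp : p ∉ o) : octK o ⊓ octA o p = ⊥ := by
  rw [eq_bot_iff]
  intro k hk
  obtain ⟨hK, hA⟩ := Subgroup.mem_inf.1 hk
  have hkp : k p = p := mem_stabilizer_iff.1 (Subgroup.mem_inf.1 hA).2
  exact Subgroup.mem_bot.2 (octK_free ho hK hp hkp)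

theorem notMem_of_octS {g : Equiv.Perm GolayPt} (hg : g ∈ octS o) {p : GolayPt} (hp : p ∉ o) :
    g p ∉ o := fun h =>
  hp ((mem_iff_of_smul_eq (mem_stabilizer_iff.1 (Subgroup.mem_inf.1 hg).2) p).1 h)

theorem ncard_compl_octad (ho : o ∈ octads) : ((oᶜ : Finset GolayPt) : Set GolayPt).ncard = 16 := by
  rw [Set.ncard_coe_finset, Finset.card_compl, ho.2]
  rfl

/-- The pointwise stabiliser of an octad is transitive on the 16 remaining points. -/
theorem octK_trans (ho : o ∈ octads) {p q : GolayPt} (hp : p ∉ o) (hq : q ∉ o) :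
    ∃ k ∈ octK o, k p = q := by
  have hstab : stabilizer ↥(octK o) p = ⊥ := by
    rw [eq_bot_iff]
    intro k hk
    have hkp : (k : Equiv.Perm GolayPt) p = p := mem_stabilizer_iff.1 hk
    exact Subgroup.mem_bot.2 (Subtype.ext (octK_free ho k.2 hp hkp))
  have h16 : (orbit ↥(octK o) p).ncard = 16 := by
    rw [← index_stabilizer, hstab, Subgroup.index_bot, (octad_fix_card_sq ho).1]
  have hsub : orbit ↥(octK o) p ⊆ ((oᶜ : Finset GolayPt) : Set GolayPt) := by
    rintro _ ⟨k, rfl⟩
    rw [Finset.mem_coe, Finset.mem_compl]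
    exact notMem_of_octS (octK_le_octS o k.2) hp
  have heq := Set.eq_of_subset_of_ncard_le hsub (by rw [h16, ncard_compl_octad ho])
    (Finset.finite_toSet _)
  have hq' : q ∈ orbit ↥(octK o) p := by
    rw [heq, Finset.mem_coe, Finset.mem_compl]; exact hq
  obtain ⟨k, rfl⟩ := hq'
  exact ⟨k.1, k.2, rfl⟩

theorem octA_le_octS (o : Finset GolayPt) (p : GolayPt) : octA o p ≤ octS o := inf_le_left

theorem octK_sup_octA (ho : o ∈ octads) {p : GolayPt} (hp : p ∉ o) :
    octK o ⊔ octA o p = octS o := by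
  apply le_antisymm
  · exact sup_le (octK_le_octS o) (octA_le_octS o p)
  · intro s hs
    obtain ⟨k, hk, hkp⟩ := octK_trans ho hp (notMem_of_octS hs hp)
    have hA : k⁻¹ * s ∈ octA o p := by
      refine Subgroup.mem_inf.2 ⟨(octS o).mul_mem ((octS o).inv_mem (octK_le_octS o hk)) hs, ?_⟩
      rw [mem_stabilizer_iff]
      show (k⁻¹ * s) p = p
      rw [Equiv.Perm.mul_apply, ← hkp]
      simp
    have : s = k * (k⁻¹ * s) := by simp
    rw [this]
    exact Subgroup.mul_mem_sup hk hA

theorem card_octA (ho : o ∈ octads) {p : GolayPt} (hp : p ∉ o) :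
    Nat.card (octA o p) = 20160 := by
  have horb : orbit ↥(octS o) p = ((oᶜ : Finset GolayPt) : Set GolayPt) := by
    ext q
    rw [Finset.mem_coe, Finset.mem_compl]
    constructor
    · rintro ⟨s, rfl⟩
      exact notMem_of_octS s.2 hp
    · intro hq
      obtain ⟨k, hk, hkp⟩ := octK_trans ho hp hq
      exact ⟨⟨k, octK_le_octS o hk⟩, hkp⟩
  have h1 := Subgroup.card_mul_index (stabilizer ↥(octS o) p)
  rw [index_stabilizer, horb, ncard_compl_octad ho, card_octS ho,
    stabilizer_subgroup_eq_subgroupOf, Nat.card_congr (subgroupOfEquivInf _ _)] at h1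
  show Nat.card ↥(octS o ⊓ stabilizer (Equiv.Perm GolayPt) p) = 20160
  omega

/-- restriction of the complement `octA o p` to the octad -/
def octResA (o : Finset GolayPt) (p : GolayPt) : ↥(octA o p) →* Equiv.Perm ↥o :=
  (octRes o).comp (Subgroup.inclusion (octA_le_octS o p))

theorem octResA_injective (ho : o ∈ octads) {p : GolayPt} (hp : p ∉ o) :
    Function.Injective (octResA o p) := by
  rw [injective_iff_map_eq_one]
  intro a ha
  have h1 : Subgroup.inclusion (octA_le_octS o p) a ∈ (octRes o).ker := ha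
  rw [mem_ker_octRes] at h1
  have h2 : (a : Equiv.Perm GolayPt) ∈ octK o ⊓ octA o p := Subgroup.mem_inf.2 ⟨h1, a.2⟩
  rw [octK_inf_octA ho hp] at h2
  exact Subtype.ext (Subgroup.mem_bot.1 h2)

theorem range_octResA (ho : o ∈ octads) {p : GolayPt} (hp : p ∉ o) :
    (octResA o p).range = alternatingGroup ↥o := by
  rw [← range_octRes ho]
  apply Subgroup.eq_of_le_of_card_ge
  · rintro _ ⟨a, rfl⟩
    exact ⟨_, rfl⟩
  · rw [card_range_octRes ho,
      ← Nat.card_congr (MonoidHom.ofInjective (octResA_injective ho hp)).toEquiv, card_octA ho hp]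

/-- The complement is isomorphic to `A_8`. -/
theorem octA_equiv_alt (ho : o ∈ octads) {p : GolayPt} (hp : p ∉ o) :
    Nonempty (↥(octA o p) ≃* alternatingGroup (Fin 8)) := by
  have e1 : ↥(octA o p) ≃* ↥(octResA o p).range := MonoidHom.ofInjective (octResA_injective ho hp)
  have e2 : ↥(octResA o p).range ≃* ↥(alternatingGroup ↥o) :=
    MulEquiv.subgroupCongr (range_octResA ho hp)
  have e3 : ↥(alternatingGroup ↥o) ≃* ↥(alternatingGroup (Fin 8)) :=
    Equiv.altCongrHom (Finset.equivFinOfCardEq ho.2)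
  exact ⟨(e1.trans e2).trans e3⟩

end Cfsg.Agent.Helper26
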