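import Cfsg.Agent.Helper7.OctadFix
import Cfsg.Agent.Helper7.Count
import Cfsg.Agent.Helper26.Coatom

/-!
# Structure of the stabiliser of an octad: `2^4 : A_8`

For an octad `o`: `octS o` is its setwise stabiliser in `M24` (order 322560), `octK o` the pointwise
one (order 16, acting regularly on the 16 points off `o`).  The restriction to `o` maps `octS o`
onto the alternating group of `o`; a point stabiliser `octA o p` (`p ∉ o`) is a complement to `octK o`
and maps isomorphically onto the alternating group.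
-/

set_option autoImplicit false

namespace Cfsg.Agent.Helper26

open Cfsg Helper7 MulAction
open scoped Pointwise

/-- the pointwise stabiliser of `o` in `M24` -/
abbrev octK (o : Finset GolayPt) : Subgroup (Equiv.Perm GolayPt) :=
  M24 ⊓ fixingSubgroup (Equiv.Perm GolayPt) (o : Set GolayPt)

/-- the setwise stabiliser of `o` in `M24` -/
abbrev octS (o : Finset GolayPt) : Subgroup (Equiv.Perm GolayPt) :=
  M24 ⊓ stabilizer (Equiv.Perm GolayPt) o

/-- the stabiliser of `o` and of the point `p` in `M24` -/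
abbrev octA (o : Finset GolayPt) (p : GolayPt) : Subgroup (Equiv.Perm GolayPt) :=
  M24 ⊓ stabilizer (Equiv.Perm GolayPt) o ⊓ stabilizer (Equiv.Perm GolayPt) p

theorem mem_iff_of_smul_eq {g : Equiv.Perm GolayPt} {o : Finset GolayPt} (h : g • o = o)
    (x : GolayPt) : g x ∈ o ↔ x ∈ o := by
  have key : g • x ∈ g • o ↔ x ∈ o := Finset.smul_mem_smul_finset_iff g
  rw [h] at key
  exact key

theorem smul_eq_of_fixing {g : Equiv.Perm GolayPt} {o : Finset GolayPt}
    (h : ∀ x ∈ o, g x = x) : g • o = o := by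
  apply Finset.eq_of_subset_of_card_le
  · intro y hy
    obtain ⟨x, hx, rfl⟩ := Finset.mem_smul_finset.1 hy
    show g x ∈ o
    rw [h x hx]; exact hx
  · rw [Finset.card_smul_finset]

theorem mem_octK_iff {o : Finset GolayPt} {g : Equiv.Perm GolayPt} :
    g ∈ octK o ↔ g ∈ M24 ∧ ∀ x ∈ o, g x = x := by
  rw [Subgroup.mem_inf, mem_fixingSubgroup_iff]
  rfl

theorem octK_le_octS (o : Finset GolayPt) : octK o ≤ octS o := by
  intro g hg
  rw [mem_octK_iff] at hg
  exact Subgroup.mem_inf.2 ⟨hg.1, mem_stabilizer_iff.2 (smul_eq_of_fixing hg.2)⟩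

/-! ### freeness of the pointwise stabiliser off the octad -/

theorem tabs16_free : tabs16.all (fun l => l == idT ||
    (List.range 24).all (fun i => m24O.testBit i || !(Nat.beq (l.getD i 0) i))) = true := by
  decide +kernel

theorem ptFix_free {k : Equiv.Perm GolayPt} (hk : k ∈ ptFix M24 m24O) {p : GolayPt}
    (hp : m24O.testBit (idx p) = false) (hkp : k p = p) : k = 1 := by
  obtain ⟨l, hl, hlt⟩ := ptFix_m24O_tables k hk
  have h := tabs16_free
  rw [List.all_eq_true] at h
  have h1 := h l hl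
  rw [Bool.or_eq_true] at h1
  rcases h1 with h1 | h1
  · have : l = idT := by simpa using h1
    subst this
    exact hlt.inj isTable_one
  · exfalso
    rw [List.all_eq_true] at h1
    have h2 := h1 (idx p) (List.mem_range.2 (idx_lt p))
    rw [hp, Bool.false_or] at h2
    have h3 : idx (k p) = l.getD (idx p) 0 := hlt.2 p
    rw [hkp] at h3
    rw [← h3] at h2
    simp at h2

theorem octK_free {o : Finset GolayPt} (ho : o ∈ octads) {k : Equiv.Perm GolayPt}
    (hk : k ∈ octK o) {p : GolayPt} (hp : p ∉ o) (hkp : k p = p) : k = 1 := by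
  obtain ⟨g, hg, rfl⟩ := exists_smul_octad_eq O0F_mem ho
  have h0 : M24 ⊓ fixingSubgroup (Equiv.Perm GolayPt) (O0F : Set GolayPt) = ptFix M24 m24O :=
    inf_fixingSubgroup_eq M24 m24O
  have h1 : g⁻¹ * k * g ∈ ptFix M24 m24O := by
    rw [← h0]
    exact (fixingConj hg O0F ⟨k, hk⟩).2
  have hp' : m24O.testBit (idx (g⁻¹ p)) = false := by
    by_contra hcon
    have : g⁻¹ p ∈ O0F := (mem_support₂_word m24O _).2 (by simpa using hcon)
    apply hp
    have h2 := Finset.smul_mem_smul_finset (a := g) this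
    simpa using h2
  have h2 : (g⁻¹ * k * g) (g⁻¹ p) = g⁻¹ p := by
    simp [Equiv.Perm.mul_apply, hkp]
  have h3 := ptFix_free h1 hp' h2
  have h4 : k = g * (g⁻¹ * k * g) * g⁻¹ := by simp [mul_assoc]
  rw [h4, h3]
  simp

/-! ### orders -/

theorem orbit_M24_octad {o : Finset GolayPt} (ho : o ∈ octads) : orbit M24 o = octads := by
  ext y
  constructor
  · rintro ⟨g, rfl⟩
    exact smul_mem_octads g.2 ho
  · intro hy
    obtain ⟨g, hg, hgs⟩ := exists_smul_octad_eq ho hy
    exact ⟨⟨g, hg⟩, hgs⟩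

/-- `H.subgroupOf K` has as many elements as `K ⊓ H`. -/
def subgroupOfEquivInf {G : Type*} [Group G] (H K : Subgroup G) :
    ↥(H.subgroupOf K) ≃ ↥(K ⊓ H) where
  toFun x := ⟨x.1.1, Subgroup.mem_inf.2 ⟨x.1.2, Subgroup.mem_subgroupOf.1 x.2⟩⟩
  invFun y := ⟨⟨y.1, (Subgroup.mem_inf.1 y.2).1⟩, Subgroup.mem_subgroupOf.2 (Subgroup.mem_inf.1 y.2).2⟩
  left_inv _ := rfl
  right_inv _ := rfl

theorem card_octS {o : Finset GolayPt} (ho : o ∈ octads) : Nat.card (octS o) = 322560 := by
  have h1 := Subgroup.card_mul_index (stabilizer M24 o)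
  rw [index_stabilizer, orbit_M24_octad ho, ncard_octads, card_M24,
    stabilizer_subgroup_eq_subgroupOf, Nat.card_congr (subgroupOfEquivInf _ _)] at h1
  show Nat.card ↥(M24 ⊓ stabilizer (Equiv.Perm GolayPt) o) = 322560
  omega

/-! ### the restriction to the octad -/

/-- restriction of the octad stabiliser to the octad -/
def octRes (o : Finset GolayPt) : ↥(octS o) →* Equiv.Perm ↥o where
  toFun g := (g : Equiv.Perm GolayPt).subtypePerm
    (mem_iff_of_smul_eq (mem_stabilizer_iff.1 (Subgroup.mem_inf.1 g.2).2))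
  map_one' := Equiv.ext fun _ => Subtype.ext rfl
  map_mul' _ _ := Equiv.ext fun _ => Subtype.ext rfl

theorem octRes_apply (o : Finset GolayPt) (g : ↥(octS o)) (x : ↥o) :
    ((octRes o g x : ↥o) : GolayPt) = (g : Equiv.Perm GolayPt) x := rfl

theorem mem_ker_octRes {o : Finset GolayPt} (g : ↥(octS o)) :
    g ∈ (octRes o).ker ↔ (g : Equiv.Perm GolayPt) ∈ octK o := by
  rw [MonoidHom.mem_ker, mem_octK_iff]
  constructor
  · intro h
    refine ⟨(Subgroup.mem_inf.1 g.2).1, fun x hx => ?_⟩
    have := congrArg (fun e : Equiv.Perm ↥o => ((e ⟨x, hx⟩ : ↥o) : GolayPt)) h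
    exact this
  · rintro ⟨-, h⟩
    exact Equiv.ext fun x => Subtype.ext (h x.1 x.2)

def kerEquivK (o : Finset GolayPt) : ↥(octRes o).ker ≃ ↥(octK o) where
  toFun x := ⟨x.1.1, (mem_ker_octRes x.1).1 x.2⟩
  invFun y := ⟨⟨y.1, octK_le_octS o y.2⟩, (mem_ker_octRes _).2 y.2⟩
  left_inv _ := rfl
  right_inv _ := rfl

theorem card_range_octRes {o : Finset GolayPt} (ho : o ∈ octads) :
    Nat.card (octRes o).range = 20160 := by
  have h1 := Subgroup.card_mul_index (octRes o).ker
  rw [Subgroup.index_ker, Nat.card_congr (kerEquivK o), (octad_fix_card_sq ho).1, card_octS ho] at h1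
  omega

theorem card_perm_octad {o : Finset GolayPt} (ho : o ∈ octads) :
    Nat.card (Equiv.Perm ↥o) = 40320 := by
  rw [Nat.card_eq_fintype_card, Fintype.card_perm, Fintype.card_coe, ho.2]
  rfl

theorem range_octRes {o : Finset GolayPt} (ho : o ∈ octads) :
    (octRes o).range = alternatingGroup ↥o := by
  apply Equiv.Perm.eq_alternatingGroup_of_index_eq_two
  have h1 := Subgroup.card_mul_index (octRes o).range
  rw [card_range_octRes ho, card_perm_octad ho] at h1
  omega

/-- The permutations of `o` induced by `M24` are exactly the even ones. -/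
theorem induced_eq_alternating {o : Finset GolayPt} (ho : o ∈ octads) :
    {e : Equiv.Perm ↥o | ∃ g : Equiv.Perm GolayPt, g ∈ M24 ∧
      ∃ h : (∀ x, g x ∈ o ↔ x ∈ o), g.subtypePerm h = e} =
      (alternatingGroup ↥o : Set (Equiv.Perm ↥o)) := by
  rw [← range_octRes ho]
  ext e
  simp only [Set.mem_ofPred_eq, SetLike.mem_coe, MonoidHom.mem_range]
  constructor
  · rintro ⟨g, hg, h, rfl⟩
    have hgo : g • o = o := by
      apply Finset.eq_of_subset_of_card_le
      · intro y hy
        obtain ⟨x, hx, rfl⟩ := Finset.mem_smul_finset.1 hy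
        exact (h x).2 hx
      · rw [Finset.card_smul_finset]
    exact ⟨⟨g, Subgroup.mem_inf.2 ⟨hg, mem_stabilizer_iff.2 hgo⟩⟩, rfl⟩
  · rintro ⟨g, rfl⟩
    exact ⟨g.1, (Subgroup.mem_inf.1 g.2).1,
      mem_iff_of_smul_eq (mem_stabilizer_iff.1 (Subgroup.mem_inf.1 g.2).2), rfl⟩

end Cfsg.Agent.Helper26
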