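import Cfsg.Agent.Helper26.OctadTrios
import Cfsg.Agent.Helper26.OctadStab
import Cfsg.Agent.Helper26.FastPerm
import Cfsg.Agent.Helper93.M24Enc

/-!
# The kernel of the action of an octad stabiliser on the 15 trios through the octad

It is the pointwise stabiliser `octK o` of the octad.
-/

set_option autoImplicit false

namespace Cfsg.Agent.Helper26

open Cfsg Helper7 MulAction
open scoped Pointwise

/-! ### the pointwise stabiliser fixes the trios through the octad -/

set_option maxRecDepth 100000 in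
/-- each of the 16 elements maps a code word disjoint from the base octad to itself or to a
disjoint one -/
theorem tabs16_octads : allLt 4096 (fun x => strictN (fun m =>
    !(Nat.beq (Nat.land m 5279) 0) || tabs16.all (fun l => strictN (fun q =>
      Nat.beq q m || Nat.beq (Nat.land q m) 0) (pullMask l m))) (enc x)) = true := by
  decide +kernel

theorem land_eq_zero_of_disjoint {a b : ℕ} (ha : a < 2 ^ 24)
    (h : Disjoint (Helper93.sm a) (Helper93.sm b)) : a &&& b = 0 := by
  by_contra hne
  obtain ⟨i, hi⟩ := Nat.exists_testBit_of_ne_zero hne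
  rw [Nat.testBit_and, Bool.and_eq_true] at hi
  have hi24 : i < 24 := by
    by_contra hcon
    have : a.testBit i = false :=
      Nat.testBit_lt_two_pow (lt_of_lt_of_le ha (Nat.pow_le_pow_right (by norm_num) (by omega)))
    rw [this] at hi
    exact Bool.false_ne_true hi.1
  have h1 : pt i ∈ Helper93.sm a := by rw [Helper93.mem_sm, idx_pt hi24]; exact hi.1
  have h2 : pt i ∈ Helper93.sm b := by rw [Helper93.mem_sm, idx_pt hi24]; exact hi.2
  exact Finset.disjoint_left.1 h h1 h2

theorem disjoint_of_land_eq_zero {a b : ℕ} (h : a &&& b = 0) :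
    Disjoint (Helper93.sm a) (Helper93.sm b) := by
  rw [Finset.disjoint_left]
  intro x hx hx'
  rw [Helper93.mem_sm] at hx hx'
  have : (a &&& b).testBit (idx x) = true := by rw [Nat.testBit_and, hx, hx']; rfl
  rw [h] at this
  simp at this

theorem octK_O0F_smul {k : Equiv.Perm GolayPt} (hk : k ∈ octK O0F) {c : Finset GolayPt}
    (hc : c ∈ octads) (hd : Disjoint O0F c) : k • c = c ∨ Disjoint (k • c) c := by
  have h0 : M24 ⊓ fixingSubgroup (Equiv.Perm GolayPt) (O0F : Set GolayPt) = ptFix M24 m24O :=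
    inf_fixingSubgroup_eq M24 m24O
  have hk' : k⁻¹ ∈ ptFix M24 m24O := by
    rw [← h0]; exact (octK O0F).inv_mem hk
  obtain ⟨l, hl, hlt⟩ := ptFix_m24O_tables k⁻¹ hk'
  obtain ⟨w, hw, rfl⟩ := hc.1
  obtain ⟨x, hx, rfl⟩ := (mem_golayCode_iff w).1 hw
  have hm : enc x < 2 ^ 24 := enc_lt hx
  have hsm : k • Helper93.sm (enc x) = Helper93.sm (pullMask l (enc x)) := by
    have := Helper93.inv_smul_sm hlt (enc x)
    rwa [inv_inv] at this
  have hchk := allLt_spec tabs16_octads x hx
  rw [strictN_eq] at hchk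
  have hland : Nat.land (enc x) 5279 = 0 := by
    have : Disjoint (Helper93.sm (enc x)) (Helper93.sm 5279) := hd.symm
    exact land_eq_zero_of_disjoint hm this
  rw [hland] at hchk
  simp only [Nat.beq_refl, Bool.not_true, Bool.false_or] at hchk
  rw [List.all_eq_true] at hchk
  have h1 := hchk l hl
  rw [strictN_eq, Bool.or_eq_true] at h1
  show k • Helper93.sm (enc x) = Helper93.sm (enc x) ∨
    Disjoint (k • Helper93.sm (enc x)) (Helper93.sm (enc x))
  rw [hsm]
  rcases h1 with h1 | h1
  · left; rw [Nat.eq_of_beq_eq_true h1]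
  · right; exact disjoint_of_land_eq_zero (Nat.eq_of_beq_eq_true h1)

theorem octK_O0F_fix_trio {k : Equiv.Perm GolayPt} (hk : k ∈ octK O0F)
    {T : Finset (Finset GolayPt)} (hT : T ∈ trios) (hoT : O0F ∈ T) : k • T = T := by
  have hkM : k ∈ M24 := (Subgroup.mem_inf.1 hk).1
  have hko : k • O0F = O0F := mem_stabilizer_iff.1 (Subgroup.mem_inf.1 (octK_le_octS O0F hk)).2
  obtain ⟨c, hc, hne, hco, hd⟩ := exists_other hT hoT
  have hkT : k • T ∈ trios := smul_mem_trios hkM hT
  have ho' : O0F ∈ k • T := by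
    rw [← hko]; exact Finset.smul_mem_smul_finset hoT
  have hc' : k • c ∈ k • T := Finset.smul_mem_smul_finset hc
  rcases octK_O0F_smul hk hco hd with h | h
  · rw [h] at hc'
    exact trio_eq_of_two hkT hT ho' hc' hoT hc (Ne.symm hne)
  · -- `k • c` is the third member of `T`
    have hkc : k • c ∈ octads := smul_mem_octads hkM hco
    have hd' : Disjoint O0F (k • c) := by
      rw [← hko, Finset.disjoint_iff_inter_eq_empty, ← Finset.smul_finset_inter,
        Finset.disjoint_iff_inter_eq_empty.1 hd, Finset.smul_finset_empty]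
    have h3 := eq_compl_union O0F_mem hco hkc hd hd' h.symm
    have hT3 := trio_eq_of_mem hT hoT hc (Ne.symm hne)
    have hmem : k • c ∈ T := by
      rw [hT3, h3]; simp
    have hne' : O0F ≠ k • c := octad_ne_of_disjoint O0F_mem hd'
    exact trio_eq_of_two hkT hT ho' hc' hoT hmem hne'

/-- the pointwise stabiliser of an octad fixes every trio through it -/
theorem octK_fix_trio {o : Finset GolayPt} (ho : o ∈ octads) {k : Equiv.Perm GolayPt}
    (hk : k ∈ octK o) {T : Finset (Finset GolayPt)} (hT : T ∈ trios) (hoT : o ∈ T) :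
    k • T = T := by
  obtain ⟨a, ha, rfl⟩ := exists_smul_octad_eq O0F_mem ho
  rw [mem_octK_iff] at hk
  have hk' : a⁻¹ * k * a ∈ octK O0F := by
    rw [mem_octK_iff]
    refine ⟨M24.mul_mem (M24.mul_mem (M24.inv_mem ha) hk.1) ha, fun x hx => ?_⟩
    have h1 : a x ∈ a • O0F := Finset.smul_mem_smul_finset (a := a) hx
    have h2 := hk.2 _ h1
    simp only [Equiv.Perm.mul_apply, h2]
    exact a.symm_apply_apply x
  have hT' : a⁻¹ • T ∈ trios := smul_mem_trios (M24.inv_mem ha) hT
  have hoT' : O0F ∈ a⁻¹ • T := by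
    have := Finset.smul_mem_smul_finset (a := a⁻¹) hoT
    rwa [inv_smul_smul] at this
  have := octK_O0F_fix_trio hk' hT' hoT'
  rw [mul_smul, mul_smul, smul_inv_smul] at this
  exact MulAction.injective a⁻¹ this

/-! ### the converse, from the simplicity of the alternating group -/

/-- the elements of the stabiliser of `o` fixing every trio through `o` -/
def trioKer (o : Finset GolayPt) : Subgroup ↥(octS o) where
  carrier := {s | ∀ T ∈ trios, o ∈ T → (s : Equiv.Perm GolayPt) • T = T}
  mul_mem' := by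
    intro s t hs ht T hT hoT
    rw [Subgroup.coe_mul, mul_smul, ht T hT hoT, hs T hT hoT]
  one_mem' := fun T _ _ => one_smul _ T
  inv_mem' := by
    intro s hs T hT hoT
    rw [Subgroup.coe_inv, inv_smul_eq_iff, hs T hT hoT]

theorem octS_smul (o : Finset GolayPt) (s : ↥(octS o)) : (s : Equiv.Perm GolayPt) • o = o :=
  mem_stabilizer_iff.1 (Subgroup.mem_inf.1 s.2).2

instance trioKer_normal (o : Finset GolayPt) : (trioKer o).Normal := by
  refine ⟨fun s hs x T hT hoT => ?_⟩
  have hxM : (x : Equiv.Perm GolayPt) ∈ M24 := (Subgroup.mem_inf.1 x.2).1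
  have hT' : (x : Equiv.Perm GolayPt)⁻¹ • T ∈ trios := smul_mem_trios (M24.inv_mem hxM) hT
  have hoT' : o ∈ (x : Equiv.Perm GolayPt)⁻¹ • T := by
    have := Finset.smul_mem_smul_finset (a := (x : Equiv.Perm GolayPt)⁻¹) hoT
    rwa [inv_smul_eq_iff.2 (octS_smul o x).symm] at this
  rw [Subgroup.coe_mul, Subgroup.coe_mul, Subgroup.coe_inv, mul_smul, mul_smul, hs _ hT' hoT',
    smul_inv_smul]

theorem trioKer_le {o : Finset GolayPt} (ho : o ∈ octads) (s : ↥(octS o)) (hs : s ∈ trioKer o) :
    (s : Equiv.Perm GolayPt) ∈ octK o := by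
  classical
  -- the restriction to `o`, onto the alternating group
  have hrange := range_octRes ho
  let φ : ↥(octS o) →* ↥(alternatingGroup ↥o) :=
    (octRes o).codRestrict (alternatingGroup ↥o) (fun x => by
      rw [← hrange]; exact ⟨x, rfl⟩)
  have hφ : Function.Surjective φ := by
    rintro ⟨e, he⟩
    rw [← hrange] at he
    obtain ⟨x, rfl⟩ := he
    exact ⟨x, rfl⟩
  have hcard : 5 ≤ Nat.card ↥o := by
    rw [Nat.card_eq_fintype_card, Fintype.card_coe, ho.2]; norm_num
  have hsimple : IsSimpleGroup ↥(alternatingGroup ↥o) := alternatingGroup.isSimpleGroup hcard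
  have hN : ((trioKer o).map φ).Normal := Subgroup.Normal.map (trioKer_normal o) φ hφ
  rcases hN.eq_bot_or_eq_top with h | h
  · have h1 : φ s ∈ (trioKer o).map φ := Subgroup.mem_map_of_mem φ hs
    rw [h, Subgroup.mem_bot] at h1
    have h2 : octRes o s = 1 := congrArg Subtype.val h1
    exact (mem_ker_octRes s).1 h2
  · exfalso
    -- every element of the stabiliser fixes every trio through `o`
    have hall : ∀ x : ↥(octS o), ∀ T ∈ trios, o ∈ T → (x : Equiv.Perm GolayPt) • T = T := by
      intro x T hT hoT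
      have h1 : φ x ∈ (trioKer o).map φ := by rw [h]; trivial
      obtain ⟨k, hk, hkx⟩ := h1
      have h2 : octRes o (x * k⁻¹) = 1 := by
        rw [map_mul, map_inv]
        have : octRes o k = octRes o x := congrArg Subtype.val hkx
        rw [this, mul_inv_cancel]
      have h3 : ((x * k⁻¹ : ↥(octS o)) : Equiv.Perm GolayPt) ∈ octK o := (mem_ker_octRes _).1 h2
      have h4 := octK_fix_trio ho h3 hT hoT
      rw [Subgroup.coe_mul, Subgroup.coe_inv, mul_smul, inv_smul_eq_iff.2 (hk T hT hoT).symm] at h4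
      exact h4
    -- but the stabiliser is transitive on the 15 trios
    have h15 := ncard_trios_through ho
    obtain ⟨T₀, hT₀⟩ : {T : Finset (Finset GolayPt) | T ∈ trios ∧ o ∈ T}.Nonempty := by
      rw [← Set.ncard_pos (Set.toFinite _), h15]; norm_num
    obtain ⟨T₁, hT₁, hne⟩ := Set.exists_ne_of_one_lt_ncard (by rw [h15]; norm_num) T₀
    obtain ⟨g, hg, hgo, hgT⟩ := trio_through_trans ho hT₀.1 hT₁.1 hT₀.2 hT₁.2
    have := hall ⟨g, Subgroup.mem_inf.2 ⟨hg, mem_stabilizer_iff.2 hgo⟩⟩ T₀ hT₀.1 hT₀.2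
    exact hne (by rw [← hgT]; exact this.symm ▸ rfl)

end Cfsg.Agent.Helper26
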