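import Cfsg.Agent.Helper26.Trio
import Cfsg.Agent.Helper26.OctadMeet
import Cfsg.Agent.Helper26.OctadOrbits
import Cfsg.Agent.S5612

/-!
# The 15 trios through an octad

For an octad `o`: the trios containing `o` correspond to the 15 pairs of complementary octads in the
complement of `o`; the stabiliser of `o` in `M24` is doubly transitive on them.
-/

set_option autoImplicit false

namespace Cfsg.Agent.Helper26

open Cfsg MulAction
open scoped Pointwise

/-! ### trios through an octad -/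

theorem octad_ne_of_disjoint {x y : Finset GolayPt} (hx : x ∈ octads) (hxy : Disjoint x y) :
    x ≠ y := by
  intro h
  subst h
  rw [disjoint_self, Finset.bot_eq_empty] at hxy
  have := hx.2
  rw [hxy] at this
  simp at this

/-- a trio containing the distinct octads `a`, `b` -/
theorem trio_eq_of_mem {T : Finset (Finset GolayPt)} (hT : T ∈ trios) {a b : Finset GolayPt}
    (ha : a ∈ T) (hb : b ∈ T) (hab : a ≠ b) : T = {a, b, (a ∪ b)ᶜ} := by
  obtain ⟨hc, hoct, hdis⟩ := hT
  have hdab : Disjoint a b := hdis a ha b hb hab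
  apply Finset.eq_of_subset_of_card_le
  · intro x hx
    by_cases hxa : x = a
    · rw [hxa]; simp
    by_cases hxb : x = b
    · rw [hxb]; simp
    have hxc : x = (a ∪ b)ᶜ :=
      eq_compl_union (hoct a ha) (hoct b hb) (hoct x hx) hdab
        (hdis a ha x hx (Ne.symm hxa)) (hdis b hb x hx (Ne.symm hxb))
    rw [hxc]; simp
  · rw [hc]
    exact Finset.card_le_three

theorem trio_eq_of_two {T T' : Finset (Finset GolayPt)} (hT : T ∈ trios) (hT' : T' ∈ trios)
    {a b : Finset GolayPt} (ha : a ∈ T) (hb : b ∈ T) (ha' : a ∈ T') (hb' : b ∈ T') (hab : a ≠ b) :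
    T = T' := by
  rw [trio_eq_of_mem hT ha hb hab, trio_eq_of_mem hT' ha' hb' hab]

/-- a trio through `o` has another member, which is disjoint from `o` -/
theorem exists_other {T : Finset (Finset GolayPt)} (hT : T ∈ trios) {o : Finset GolayPt}
    (ho : o ∈ T) : ∃ c ∈ T, c ≠ o ∧ c ∈ octads ∧ Disjoint o c := by
  have h1 : 1 < T.card := by rw [hT.1]; norm_num
  obtain ⟨c, hc, hne⟩ := Finset.exists_mem_ne h1 o
  exact ⟨c, hc, hne, hT.2.1 c hc, hT.2.2 o ho c hc (Ne.symm hne)⟩

theorem smul_mem_trios {g : Equiv.Perm GolayPt} (hg : g ∈ M24) {T : Finset (Finset GolayPt)}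
    (hT : T ∈ trios) : g • T ∈ trios := Cfsg.Agent.Helper93.smul_mem_trios hg hT

/-- the stabiliser of `o` is transitive on the trios through `o` -/
theorem trio_through_trans {o : Finset GolayPt} (ho : o ∈ octads) {T T' : Finset (Finset GolayPt)}
    (hT : T ∈ trios) (hT' : T' ∈ trios) (hoT : o ∈ T) (hoT' : o ∈ T') :
    ∃ g ∈ M24, g • o = o ∧ g • T = T' := by
  obtain ⟨c, hc, hne, hco, hd⟩ := exists_other hT hoT
  obtain ⟨c', hc', hne', hco', hd'⟩ := exists_other hT' hoT'
  have h0 : (o ∩ c).card = (o ∩ c').card := by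
    rw [Finset.disjoint_iff_inter_eq_empty.1 hd, Finset.disjoint_iff_inter_eq_empty.1 hd']
  obtain ⟨g, hg, hgo, hgc⟩ := octad_stab_trans ho hco hco' h0
  refine ⟨g, hg, hgo, ?_⟩
  apply trio_eq_of_two (smul_mem_trios hg hT) hT' (a := o) (b := c') _ _ hoT' hc' (Ne.symm hne')
  · rw [← hgo]; exact Finset.smul_mem_smul_finset hoT
  · rw [← hgc]; exact Finset.smul_mem_smul_finset hc

/-! ### the octads disjoint from a member of a trio -/

theorem ncard_disjoint_octads {a : Finset GolayPt} (ha : a ∈ octads) :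
    {c : Finset GolayPt | c ∈ octads ∧ Disjoint a c}.ncard = 30 := by
  obtain ⟨m0, -, -, -, -⟩ := meetCount_5_8_24 card_golayPt Helper27.octads_steiner ha
  rw [← m0]
  unfold meetCount
  congr 1
  ext c
  simp only [Set.mem_ofPred_eq]
  rw [Finset.card_eq_zero, ← Finset.disjoint_iff_inter_eq_empty, disjoint_comm]

/-- octads outside the trio `T` disjoint from one of its members -/
def nearOct (T : Finset (Finset GolayPt)) : Set (Finset GolayPt) :=
  {e | e ∈ octads ∧ e ∉ T ∧ ∃ a ∈ T, Disjoint a e}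

theorem ncard_nearOct_le {T : Finset (Finset GolayPt)} (hT : T ∈ trios) :
    (nearOct T).ncard ≤ 90 := by
  classical
  have hsub : nearOct T ⊆ ⋃ a ∈ T, {c : Finset GolayPt | c ∈ octads ∧ Disjoint a c} := by
    rintro e ⟨he, -, a, ha, hd⟩
    exact Set.mem_biUnion ha ⟨he, hd⟩
  refine (Set.ncard_le_ncard hsub (Set.toFinite _)).trans ?_
  refine (Finset.set_ncard_biUnion_le T _).trans ?_
  rw [Finset.sum_congr rfl (fun a ha => ncard_disjoint_octads (hT.2.1 a ha)), Finset.sum_const,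
    hT.1]
  rfl

theorem smul_mem_nearOct {T : Finset (Finset GolayPt)} {g : Equiv.Perm GolayPt} (hg : g ∈ M24)
    (hgT : g • T = T) {e : Finset GolayPt} (he : e ∈ nearOct T) : g • e ∈ nearOct T := by
  obtain ⟨he1, he2, a, ha, hd⟩ := he
  refine ⟨Helper7.smul_mem_octads hg he1, ?_, g • a, ?_, ?_⟩
  · intro h
    apply he2
    rw [← hgT] at h
    obtain ⟨e', he', hee⟩ := Finset.mem_smul_finset.1 h
    rw [← MulAction.injective g hee]
    exact he'
  · rw [← hgT]; exact Finset.smul_mem_smul_finset ha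
  · rw [Finset.disjoint_iff_inter_eq_empty, ← Finset.smul_finset_inter,
      Finset.disjoint_iff_inter_eq_empty.1 hd, Finset.smul_finset_empty]

/-- the stabiliser of a trio is transitive on the octads near it -/
theorem nearOct_trans {T : Finset (Finset GolayPt)} (hT : T ∈ trios) {e e' : Finset GolayPt}
    (he : e ∈ nearOct T) (he' : e' ∈ nearOct T) : ∃ g ∈ M24, g • T = T ∧ g • e = e' := by
  obtain ⟨⟨X₁, hX₁, X₂, hX₂, X₃, hX₃, n1, n2, n3, hU⟩, -⟩ := Cfsg.Agent.S5612.result T hT
  set G := stabilizer M24 T with hG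
  -- orbits of elements of `nearOct T` are small and avoid `T`
  have horb_sub : ∀ x ∈ nearOct T, orbit G x ⊆ nearOct T := by
    rintro x hx _ ⟨g, rfl⟩
    exact smul_mem_nearOct g.1.2 (mem_stabilizer_iff.1 g.2) hx
  have horb_le : ∀ x ∈ nearOct T, (orbit G x).ncard ≤ 90 := fun x hx =>
    (Set.ncard_le_ncard (horb_sub x hx) (Set.toFinite _)).trans (ncard_nearOct_le hT)
  have horbT : ∀ a ∈ T, orbit G a ⊆ (T : Set (Finset GolayPt)) := by
    rintro a ha _ ⟨g, rfl⟩
    have hg : (g : Equiv.Perm GolayPt) • T = T := mem_stabilizer_iff.1 g.2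
    have : (g : Equiv.Perm GolayPt) • a ∈ (g : Equiv.Perm GolayPt) • T :=
      Finset.smul_mem_smul_finset ha
    rw [hg] at this
    exact this
  have horbT_le : ∀ a ∈ T, (orbit G a).ncard ≤ 3 := fun a ha => by
    refine (Set.ncard_le_ncard (horbT a ha) (Finset.finite_toSet T)).trans ?_
    rw [Set.ncard_coe_finset, hT.1]
  -- which of the three orbits contains a given octad
  have hcases : ∀ x ∈ octads, orbit G x = orbit G X₁ ∨ orbit G x = orbit G X₂ ∨
      orbit G x = orbit G X₃ := by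
    intro x hx
    rw [hU] at hx
    rcases hx with (hx | hx) | hx
    · exact Or.inl (orbit_eq_iff.2 hx)
    · exact Or.inr (Or.inl (orbit_eq_iff.2 hx))
    · exact Or.inr (Or.inr (orbit_eq_iff.2 hx))
  have hT1 : ∀ a ∈ T, orbit G a = orbit G X₁ := by
    intro a ha
    have := horbT_le a ha
    rcases hcases a (hT.2.1 a ha) with h | h | h
    · exact h
    · rw [h, n2] at this; omega
    · rw [h, n3] at this; omega
  have hE2 : ∀ x ∈ nearOct T, orbit G x = orbit G X₂ := by
    intro x hx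
    have := horb_le x hx
    rcases hcases x hx.1 with h | h | h
    · exfalso
      obtain ⟨a, ha⟩ : ∃ a, a ∈ T := Finset.card_pos.1 (by rw [hT.1]; norm_num)
      have h2 : x ∈ orbit G a := by
        rw [hT1 a ha, ← h]; exact mem_orbit_self x
      exact hx.2.1 (horbT a ha h2)
    · exact h
    · rw [h, n3] at this; omega
  have : e' ∈ orbit G e := by
    rw [hE2 e he, ← hE2 e' he']; exact mem_orbit_self e'
  obtain ⟨g, hg⟩ := this
  exact ⟨g.1.1, g.1.2, mem_stabilizer_iff.1 g.2, hg⟩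

/-! ### counting the trios through an octad -/

/-- the trio through the disjoint octads `o`, `c` -/
def trioOf (o c : Finset GolayPt) : Finset (Finset GolayPt) := {o, c, (o ∪ c)ᶜ}

theorem disjoint_compl_union_left (o c : Finset GolayPt) : Disjoint o (o ∪ c)ᶜ := by
  rw [Finset.disjoint_left]
  intro x hx h
  exact Finset.mem_compl.1 h (Finset.mem_union_left _ hx)

theorem disjoint_compl_union_right (o c : Finset GolayPt) : Disjoint c (o ∪ c)ᶜ := by
  rw [Finset.disjoint_left]
  intro x hx h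
  exact Finset.mem_compl.1 h (Finset.mem_union_right _ hx)

theorem ncard_trios_through {o : Finset GolayPt} (ho : o ∈ octads) :
    {T : Finset (Finset GolayPt) | T ∈ trios ∧ o ∈ T}.ncard = 15 := by
  classical
  have hfin : {c : Finset GolayPt | c ∈ octads ∧ Disjoint o c}.Finite := Set.toFinite _
  set S : Finset (Finset GolayPt) := hfin.toFinset with hS
  have hmem : ∀ c, c ∈ S ↔ c ∈ octads ∧ Disjoint o c := fun c => by
    rw [hS, Set.Finite.mem_toFinset]; rfl
  have hScard : S.card = 30 := by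
    rw [← ncard_disjoint_octads ho, Set.ncard_eq_toFinset_card _ hfin]
  have hf_mem : ∀ c ∈ S, trioOf o c ∈ trios ∧ o ∈ trioOf o c ∧ c ∈ trioOf o c ∧
      (o ∪ c)ᶜ ∈ trioOf o c := by
    intro c hc
    rw [hmem] at hc
    refine ⟨trio_of_disjoint ho hc.1 hc.2, ?_, ?_, ?_⟩ <;> simp [trioOf]
  have hcompl : ∀ c ∈ S, (o ∪ c)ᶜ ∈ S := by
    intro c hc
    rw [hmem] at hc ⊢
    exact ⟨compl_union_mem_octads ho hc.1 hc.2, disjoint_compl_union_left o c⟩
  have himg : {T : Finset (Finset GolayPt) | T ∈ trios ∧ o ∈ T} = ↑(S.image (trioOf o)) := by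
    ext T
    simp only [Set.mem_ofPred_eq, Finset.coe_image, Set.mem_image, Finset.mem_coe]
    constructor
    · rintro ⟨hT, hoT⟩
      obtain ⟨c, hc, hne, hco, hd⟩ := exists_other hT hoT
      exact ⟨c, (hmem c).2 ⟨hco, hd⟩, (trio_eq_of_mem hT hoT hc (Ne.symm hne)).symm⟩
    · rintro ⟨c, hc, rfl⟩
      exact ⟨(hf_mem c hc).1, (hf_mem c hc).2.1⟩
  rw [himg, Set.ncard_coe_finset]
  have hfib := Finset.card_eq_sum_card_fiberwise (s := S) (t := S.image (trioOf o))
    (f := trioOf o) (fun e he => Finset.mem_image_of_mem _ he)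
  have h2 : ∀ P ∈ S.image (trioOf o), (S.filter fun c => trioOf o c = P).card = 2 := by
    intro P hP
    obtain ⟨c₀, hc₀, rfl⟩ := Finset.mem_image.1 hP
    have hc₀' := (hmem c₀).1 hc₀
    have hne : c₀ ≠ (o ∪ c₀)ᶜ :=
      octad_ne_of_disjoint hc₀'.1 (disjoint_compl_union_right o c₀)
    have : S.filter (fun c => trioOf o c = trioOf o c₀) = {c₀, (o ∪ c₀)ᶜ} := by
      ext c
      simp only [Finset.mem_filter, Finset.mem_insert, Finset.mem_singleton]
      constructor
      · rintro ⟨hc, he⟩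
        have h1 : c ∈ trioOf o c₀ := by rw [← he]; exact (hf_mem c hc).2.2.1
        simp only [trioOf, Finset.mem_insert, Finset.mem_singleton] at h1
        rcases h1 with h1 | h1 | h1
        · exfalso
          have := (hmem c).1 hc
          exact octad_ne_of_disjoint ho this.2 h1.symm
        · exact Or.inl h1
        · exact Or.inr h1
      · rintro (rfl | rfl)
        · exact ⟨hc₀, rfl⟩
        · refine ⟨hcompl _ hc₀, ?_⟩
          have hd := hcompl _ hc₀
          have hone : o ≠ (o ∪ c₀)ᶜ := octad_ne_of_disjoint ho (disjoint_compl_union_left o c₀)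
          exact trio_eq_of_two (hf_mem _ hd).1 (hf_mem _ hc₀).1 (hf_mem _ hd).2.1
            (hf_mem _ hd).2.2.1 (hf_mem _ hc₀).2.1 (hf_mem _ hc₀).2.2.2 hone
    rw [this, Finset.card_pair hne]
  rw [Finset.sum_congr rfl h2, Finset.sum_const, smul_eq_mul, hScard] at hfib
  omega

/-! ### double transitivity -/

/-- a member of a trio through `o` other than `o` is near any other trio through `o` -/
theorem mem_nearOct_of_ne {o : Finset GolayPt} {T₁ T₂ : Finset (Finset GolayPt)}
    (hT₁ : T₁ ∈ trios) (hT₂ : T₂ ∈ trios) (ho₁ : o ∈ T₁) (ho₂ : o ∈ T₂) (hne : T₁ ≠ T₂)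
    {e : Finset GolayPt} (he : e ∈ T₂) (heo : e ≠ o) : e ∈ nearOct T₁ := by
  refine ⟨hT₂.2.1 e he, ?_, o, ho₁, hT₂.2.2 o ho₂ e he (Ne.symm heo)⟩
  intro h
  exact hne (trio_eq_of_two hT₁ hT₂ ho₁ h ho₂ he (Ne.symm heo))

theorem trio_through_two_trans {o : Finset GolayPt} (ho : o ∈ octads)
    {T₁ T₂ T₁' T₂' : Finset (Finset GolayPt)} (hT₁ : T₁ ∈ trios) (hT₂ : T₂ ∈ trios)
    (hT₁' : T₁' ∈ trios) (hT₂' : T₂' ∈ trios) (ho₁ : o ∈ T₁) (ho₂ : o ∈ T₂) (ho₁' : o ∈ T₁')
    (ho₂' : o ∈ T₂') (hne : T₁ ≠ T₂) (hne' : T₁' ≠ T₂') :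
    ∃ g ∈ M24, g • o = o ∧ g • T₁ = T₁' ∧ g • T₂ = T₂' := by
  -- first move `T₁` to `T₁'`
  obtain ⟨a, ha, hao, haT⟩ := trio_through_trans ho hT₁ hT₁' ho₁ ho₁'
  have hT₂a : a • T₂ ∈ trios := smul_mem_trios ha hT₂
  have ho₂a : o ∈ a • T₂ := by
    rw [← hao]; exact Finset.smul_mem_smul_finset ho₂
  have hnea : T₁' ≠ a • T₂ := by
    rw [← haT]
    exact fun h => hne (MulAction.injective a h)
  -- then move `a • T₂` to `T₂'` inside the stabiliser of `T₁'`
  obtain ⟨e, he, heo, -, -⟩ := exists_other hT₂a ho₂a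
  obtain ⟨e', he', heo', -, -⟩ := exists_other hT₂' ho₂'
  have hn := mem_nearOct_of_ne hT₁' hT₂a ho₁' ho₂a hnea he heo
  have hn' := mem_nearOct_of_ne hT₁' hT₂' ho₁' ho₂' hne' he' heo'
  obtain ⟨b, hb, hbT, hbe⟩ := nearOct_trans hT₁' hn hn'
  -- `b` fixes `o`: `b • o` is the member of `T₁'` disjoint from `e'`
  have hbo : b • o = o := by
    have h1 : b • o ∈ T₁' := by
      rw [← hbT]; exact Finset.smul_mem_smul_finset ho₁'
    by_contra hcon
    -- `b • o` and `o` are distinct members of `T₁'`, both disjoint from `e'`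
    have hd1 : Disjoint o e' := hT₂'.2.2 o ho₂' e' he' (Ne.symm heo')
    have hd2 : Disjoint (b • o) e' := by
      have : Disjoint o e := hT₂a.2.2 o ho₂a e he (Ne.symm heo)
      rw [← hbe, Finset.disjoint_iff_inter_eq_empty, ← Finset.smul_finset_inter,
        Finset.disjoint_iff_inter_eq_empty.1 this, Finset.smul_finset_empty]
    have hd3 : Disjoint o (b • o) := hT₁'.2.2 o ho₁' (b • o) h1 (Ne.symm hcon)
    have := eq_compl_union (hT₁'.2.1 o ho₁') (hT₁'.2.1 _ h1) (hT₂'.2.1 e' he') hd3 hd1 hd2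
    have h3 := trio_eq_of_mem hT₁' ho₁' h1 (Ne.symm hcon)
    apply hn'.2.1
    rw [h3, this]
    simp
  refine ⟨b * a, M24.mul_mem hb ha, ?_, ?_, ?_⟩
  · rw [mul_smul, hao, hbo]
  · rw [mul_smul, haT, hbT]
  · rw [mul_smul]
    apply trio_eq_of_two (smul_mem_trios hb hT₂a) hT₂' (a := o) (b := e') _ _ ho₂' he'
      (Ne.symm heo')
    · rw [← hbo]; exact Finset.smul_mem_smul_finset ho₂a
    · rw [← hbe]; exact Finset.smul_mem_smul_finset he

end Cfsg.Agent.Helper26
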