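import Mathlib
import Cfsg.Agent.Helper5.OrthSimpleStd
import Cfsg.Agent.Helper5.GrpIndex
import Cfsg.Agent.S0288

/-!
# The orthogonal group of minus type in dimension 6 over the field with two elements

Its commutator subgroup has order 25920, index 2 and is simple (Iwasawa, with the Eichler
transformations; perfectness needs only two hyperbolic pairs and an anisotropic vector).
-/

set_option autoImplicit false
set_option linter.unusedSectionVars false
set_option linter.unusedSimpArgs false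

namespace Cfsg.Agent.Helper26.OmegaM6

open Matrix QuadraticMap Module MulAction Cfsg Cfsg.Agent.Helper5 Cfsg.Agent.Helper44
  Cfsg.Agent.Helper45.OmegaParity
open scoped LinearAlgebra.Projectivization Pointwise commutatorElement

theorem zmod2_cases (x : ZMod 2) : x = 0 ∨ x = 1 := by
  fin_cases x
  · left; rfl
  · right; rfl

section Perfect

variable {ι : Type} [Fintype ι] [DecidableEq ι]
variable (Q : QuadraticForm (ZMod 2) (ι → ZMod 2))

/-- two mutually orthogonal hyperbolic pairs and an anisotropic vector orthogonal to them -/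
structure HypDoubleA where
  /-- the first vectors -/
  e : Fin 2 → (ι → ZMod 2)
  /-- the partners -/
  f : Fin 2 → (ι → ZMod 2)
  /-- the anisotropic vector -/
  a : ι → ZMod 2
  Qe : ∀ i, Q (e i) = 0
  Qf : ∀ i, Q (f i) = 0
  ee : ∀ i j, polar ⇑Q (e i) (e j) = 0
  ff : ∀ i j, polar ⇑Q (f i) (f j) = 0
  ef : ∀ i j, polar ⇑Q (e i) (f j) = if i = j then 1 else 0
  Qa : Q a = 1
  ea : ∀ i, polar ⇑Q (e i) a = 0
  fa : ∀ i, polar ⇑Q (f i) a = 0

variable {Q}
variable (hQ : (QuadraticMap.polarBilin Q).Nondegenerate)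

theorem neg_one_z2 : (-1 : ZMod 2) = 1 := by decide

theorem add_self_vec (x : ι → ZMod 2) : x + x = 0 := by
  funext i
  exact CharTwo.add_self_eq_zero (x i)

include hQ in
/-- Eichler transformations centred at the first vector are commutators -/
theorem eichlerO_e0_mem_commutator (T : HypDoubleA Q) {w : ι → ZMod 2}
    (hw : polar ⇑Q (T.e 0) w = 0) :
    eichlerO Q (T.e 0) w ∈ ⁅eichlerGroup Q, eichlerGroup Q⁆ := by
  have hfe : ∀ i j, polar ⇑Q (T.f i) (T.e j) = if j = i then 1 else 0 := by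
    intro i j
    rw [QuadraticMap.polar_comm, T.ef]
  have hae : ∀ i, polar ⇑Q T.a (T.e i) = 0 := fun i => by rw [QuadraticMap.polar_comm, T.ea]
  have haf : ∀ i, polar ⇑Q T.a (T.f i) = 0 := fun i => by rw [QuadraticMap.polar_comm, T.fa]
  set γ := polar ⇑Q w (T.f 0) with hγ
  set α := polar ⇑Q w (T.f 1) with hα
  set β := polar ⇑Q w (T.e 1) with hβ
  set w₁ := w - γ • T.e 0 - α • T.e 1 - β • T.f 1 with hw₁
  have hdecomp : w₁ + α • T.e 1 + β • T.f 1 + γ • T.e 0 = w := by
    rw [hw₁]; abel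
  have a1 : polar ⇑Q (T.e 0) w₁ = 0 := by
    rw [hw₁, QuadraticMap.polar_sub_right, QuadraticMap.polar_sub_right,
      QuadraticMap.polar_sub_right, QuadraticMap.polar_smul_right, QuadraticMap.polar_smul_right,
      QuadraticMap.polar_smul_right, T.ee, T.ee, T.ef, hw]
    simp
  have a2 : polar ⇑Q (T.e 1) w₁ = 0 := by
    rw [hw₁, QuadraticMap.polar_sub_right, QuadraticMap.polar_sub_right,
      QuadraticMap.polar_sub_right, QuadraticMap.polar_smul_right, QuadraticMap.polar_smul_right,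
      QuadraticMap.polar_smul_right, T.ee, T.ee, T.ef, QuadraticMap.polar_comm ⇑Q (T.e 1) w, ← hβ]
    simp
  have a3 : polar ⇑Q w₁ (T.f 0) = 0 := by
    rw [hw₁, QuadraticMap.polar_sub_left, QuadraticMap.polar_sub_left,
      QuadraticMap.polar_sub_left, QuadraticMap.polar_smul_left, QuadraticMap.polar_smul_left,
      QuadraticMap.polar_smul_left, T.ef, T.ef, T.ff, ← hγ]
    simp
  have a4 : polar ⇑Q w₁ (T.f 1) = 0 := by
    rw [hw₁, QuadraticMap.polar_sub_left, QuadraticMap.polar_sub_left,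
      QuadraticMap.polar_sub_left, QuadraticMap.polar_smul_left, QuadraticMap.polar_smul_left,
      QuadraticMap.polar_smul_left, T.ef, T.ef, T.ff, ← hα]
    simp
  have m1 : eichlerO Q (T.e 0) w₁ ∈ ⁅eichlerGroup Q, eichlerGroup Q⁆ :=
    eichlerO_mem_commutator_of Q hQ (T.Qe 0) (T.Qe 1) (T.ee 0 1) a1 a2
      (by rw [T.ef]; simp) (by rw [T.ef]; simp) (by rw [T.ef]; simp) (by rw [T.ef]; simp) a3 a4
  -- the anisotropic vector
  have ma : eichlerO Q (T.e 0) T.a ∈ ⁅eichlerGroup Q, eichlerGroup Q⁆ :=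
    eichlerO_mem_commutator_of Q hQ (T.Qe 0) (T.Qe 1) (T.ee 0 1) (T.ea 0) (T.ea 1)
      (by rw [T.ef]; simp) (by rw [T.ef]; simp) (by rw [T.ef]; simp) (by rw [T.ef]; simp)
      (haf 0) (haf 1)
  have pe1 : polar ⇑Q (T.e 1) (T.e 1) = 0 := T.ee 1 1
  have pf1 : polar ⇑Q (T.f 1) (T.f 1) = 0 := T.ff 1 1
  have Qe1a : Q (T.e 1 + T.a) = 1 := by
    rw [QuadraticMap.map_add ⇑Q, T.Qe, T.Qa, T.ea]; simp
  have Qf1a : Q (T.f 1 + T.a) = 1 := by
    rw [QuadraticMap.map_add ⇑Q, T.Qf, T.Qa, T.fa]; simp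
  -- `E(e0, e1)`
  have me1 : eichlerO Q (T.e 0) (T.e 1) ∈ ⁅eichlerGroup Q, eichlerGroup Q⁆ := by
    have h0 : polar ⇑Q (T.e 0) (T.e 1 + T.a) = 0 := by
      rw [QuadraticMap.polar_add_right, T.ee, T.ea, add_zero]
    have hc : eichlerO Q (T.e 0) (T.e 1 + T.a) ∈ ⁅eichlerGroup Q, eichlerGroup Q⁆ := by
      rw [eichlerO_eq_commutator Q (u₂ := T.e 1) (w' := T.f 1) (T.Qe 0) (T.Qe 1) (T.ee 0 1) h0
        (by rw [QuadraticMap.polar_add_right, pe1, T.ea, add_zero])
        (by rw [T.ef]; simp)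
        (by rw [T.ef, neg_one_z2]; simp)
        (by rw [QuadraticMap.polar_add_left, T.ef, haf, Qe1a, neg_one_z2]; simp)]
      exact Subgroup.commutator_mem_commutator (eichlerO_mem_eichlerGroup Q _ _)
        (eichlerO_mem_eichlerGroup Q _ _)
    have e : eichlerO Q (T.e 0) (T.e 1) =
        eichlerO Q (T.e 0) (T.e 1 + T.a) * eichlerO Q (T.e 0) T.a := by
      rw [eichlerO_mul Q (T.Qe 0) h0 (T.ea 0), add_assoc, add_self_vec, add_zero]
    rw [e]
    exact mul_mem hc ma
  -- `E(e0, f1)`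
  have mf1 : eichlerO Q (T.e 0) (T.f 1) ∈ ⁅eichlerGroup Q, eichlerGroup Q⁆ := by
    have h0 : polar ⇑Q (T.e 0) (T.f 1 + T.a) = 0 := by
      rw [QuadraticMap.polar_add_right, T.ef, T.ea]; simp
    have hc : eichlerO Q (T.e 0) (T.f 1 + T.a) ∈ ⁅eichlerGroup Q, eichlerGroup Q⁆ := by
      rw [eichlerO_eq_commutator Q (u₂ := T.f 1) (w' := T.e 1) (T.Qe 0) (T.Qf 1)
        (by rw [T.ef]; simp) h0
        (by rw [QuadraticMap.polar_add_right, pf1, T.fa, add_zero])
        (T.ee 0 1)
        (by rw [hfe, neg_one_z2]; simp)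
        (by rw [QuadraticMap.polar_add_left, hfe, hae, Qf1a, neg_one_z2]; simp)]
      exact Subgroup.commutator_mem_commutator (eichlerO_mem_eichlerGroup Q _ _)
        (eichlerO_mem_eichlerGroup Q _ _)
    have h1 : polar ⇑Q (T.e 0) (T.f 1) = 0 := by rw [T.ef]; simp
    have e : eichlerO Q (T.e 0) (T.f 1) =
        eichlerO Q (T.e 0) (T.f 1 + T.a) * eichlerO Q (T.e 0) T.a := by
      rw [eichlerO_mul Q (T.Qe 0) h0 (T.ea 0), add_assoc, add_self_vec, add_zero]
    rw [e]
    exact mul_mem hc ma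
  have m2 : eichlerO Q (T.e 0) (α • T.e 1) ∈ ⁅eichlerGroup Q, eichlerGroup Q⁆ := by
    rcases zmod2_cases α with h | h
    · rw [h, zero_smul, eichlerO_zero]; exact one_mem _
    · rw [h, one_smul]; exact me1
  have m3 : eichlerO Q (T.e 0) (β • T.f 1) ∈ ⁅eichlerGroup Q, eichlerGroup Q⁆ := by
    rcases zmod2_cases β with h | h
    · rw [h, zero_smul, eichlerO_zero]; exact one_mem _
    · rw [h, one_smul]; exact mf1
  have b2 : polar ⇑Q (T.e 0) (α • T.e 1) = 0 := by
    rw [QuadraticMap.polar_smul_right, T.ee, smul_zero]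
  have b3 : polar ⇑Q (T.e 0) (β • T.f 1) = 0 := by
    rw [QuadraticMap.polar_smul_right, T.ef]; simp
  have b12 : polar ⇑Q (T.e 0) (w₁ + α • T.e 1) = 0 := by
    rw [QuadraticMap.polar_add_right, a1, b2, add_zero]
  have b123 : polar ⇑Q (T.e 0) (w₁ + α • T.e 1 + β • T.f 1) = 0 := by
    rw [QuadraticMap.polar_add_right, b12, b3, add_zero]
  have key : eichlerO Q (T.e 0) w
      = eichlerO Q (T.e 0) w₁ * eichlerO Q (T.e 0) (α • T.e 1) * eichlerO Q (T.e 0) (β • T.f 1) := by
    rw [eichlerO_mul Q (T.Qe 0) a1 b2, eichlerO_mul Q (T.Qe 0) b12 b3,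
      ← eichlerO_add_smul Q (T.Qe 0) b123 γ, hdecomp]
  rw [key]
  exact mul_mem (mul_mem m1 m2) m3

theorem e0_ne_zero (T : HypDoubleA Q) : T.e 0 ≠ 0 := by
  intro h
  have := T.ef 0 0
  rw [h, QuadraticMap.polar_zero_left] at this
  simp at this

include hQ in
/-- the Eichler group is perfect -/
theorem eichlerGroup_le_commutator (h5 : 4 < Fintype.card ι) (T : HypDoubleA Q) :
    eichlerGroup Q ≤ ⁅eichlerGroup Q, eichlerGroup Q⁆ := by
  unfold eichlerGroup
  rw [Subgroup.closure_le]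
  rintro _ ⟨u, w, hu, huw, rfl⟩
  show eichlerO Q u w ∈ ⁅eichlerGroup Q, eichlerGroup Q⁆
  by_cases hu0 : u = 0
  · have : eichlerO Q u w = 1 := by
      apply isom_ext
      intro x
      rw [lin_eichlerO Q hu huw, lin_one_apply, hu0, QuadraticMap.polar_zero_left]
      simp
    rw [this]
    exact one_mem _
  have he0 := e0_ne_zero T
  obtain ⟨z, y, c, hz, hzy, hc, hmap⟩ :=
    exists_eichlerO_map_point Q hQ h5 hu0 he0 hu (T.Qe 0)
  set g := eichlerO Q z y with hg
  have hconj := eichlerO_conj Q g hu huw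
  rw [hmap] at hconj
  have hcw : polar ⇑Q (T.e 0) (lin Q g w) = 0 := by
    have h1 : polar ⇑Q (lin Q g u) (lin Q g w) = 0 := by rw [polar_lin, huw]
    rw [hmap, QuadraticMap.polar_smul_left, smul_eq_mul] at h1
    rcases mul_eq_zero.1 h1 with h | h
    · exact absurd h hc
    · exact h
  rw [eichlerO_smul_left Q (T.Qe 0) hcw] at hconj
  have hmem : g * eichlerO Q u w * g⁻¹ ∈ ⁅eichlerGroup Q, eichlerGroup Q⁆ := by
    rw [hconj]
    apply eichlerO_e0_mem_commutator hQ T
    rw [QuadraticMap.polar_smul_right, hcw, smul_zero]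
  have hn : (⁅eichlerGroup Q, eichlerGroup Q⁆ : Subgroup _).Normal := inferInstance
  have := hn.conj_mem _ hmem g⁻¹
  convert this using 1
  group

end Perfect

section Simple

variable {ι : Type} [Fintype ι] [DecidableEq ι]
variable (Q : QuadraticForm (ZMod 2) (ι → ZMod 2))
variable (hQ : (QuadraticMap.polarBilin Q).Nondegenerate) (h5 : 4 < Fintype.card ι)
variable (H : Subgroup (Cfsg.isometryGroup (ZMod 2) ⇑Q))
variable (hE : ∀ u w : ι → ZMod 2, eichlerO Q u w ∈ H) (hD : H ≤ eichlerGroup Q)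

include hQ h5 in
/-- over the field with two elements an isometry fixing all singular points is trivial -/
theorem eq_one_of_fixes {u₀ : ι → ZMod 2} (hu₀0 : u₀ ≠ 0) (hu₀ : Q u₀ = 0)
    (g : Cfsg.isometryGroup (ZMod 2) ⇑Q) (hg : ∀ p : SingPt Q, g • p = p) : g = 1 := by
  obtain ⟨a, ha⟩ := exists_scalar_of_fixes Q hQ h5 hu₀0 hu₀ g hg
  apply isom_ext
  intro x
  rw [ha, lin_one_apply]
  rcases zmod2_cases a with h | h
  · exfalso
    have h1 : lin Q g u₀ = 0 := by rw [ha, h, zero_smul]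
    have h2 : lin Q g⁻¹ (lin Q g u₀) = u₀ := by
      rw [← lin_mul_apply, inv_mul_cancel, lin_one_apply]
    rw [h1, map_zero] at h2
    exact hu₀0 h2.symm
  · rw [h, one_smul]

include hQ h5 hE hD in
/-- **Iwasawa**: a group generated by the Eichler transformations is simple, over the field with
two elements, with two hyperbolic pairs and an anisotropic vector -/
theorem isSimpleGroup_of_hypDoubleA (T : HypDoubleA Q) : IsSimpleGroup ↥H := by
  have hHK : H = eichlerGroup Q := le_antisymm hD (by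
    unfold eichlerGroup
    rw [Subgroup.closure_le]
    rintro _ ⟨u, w, _, _, rfl⟩
    exact hE u w)
  have hperf : commutator ↥H = ⊤ := by
    rw [eq_top_iff]
    intro x _
    have hx : x.1 ∈ ⁅H, H⁆ := by
      have h1 : x.1 ∈ eichlerGroup Q := hD x.2
      have h2 := eichlerGroup_le_commutator hQ h5 T h1
      rw [← hHK] at h2
      exact h2
    have hmap : (commutator ↥H).map H.subtype = ⁅H, H⁆ := by
      rw [commutator_def, Subgroup.map_commutator, ← MonoidHom.range_eq_map, Subgroup.range_subtype]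
    rw [← hmap] at hx
    obtain ⟨y, hy, hyx⟩ := hx
    have : y = x := Subtype.ext hyx
    rw [← this]
    exact hy
  have he0 := e0_ne_zero T
  have := isPreprimitive_singPt Q H hQ h5 hE
  have hnt : Nontrivial ↥H := by
    have h01 : polar ⇑Q (T.e 0) (T.e 1) = 0 := T.ee 0 1
    refine ⟨⟨⟨eichlerO Q (T.e 0) (T.e 1), hE _ _⟩, 1, fun h1 => ?_⟩⟩
    have h2 : eichlerO Q (T.e 0) (T.e 1) = 1 := congrArg Subtype.val h1
    have h3 : lin Q (eichlerO Q (T.e 0) (T.e 1)) (T.f 1) = lin Q 1 (T.f 1) := by rw [h2]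
    rw [lin_eichlerO Q (T.Qe 0) h01, lin_one_apply, T.ef, T.ef] at h3
    simp at h3
    exact he0 h3
  refine ⟨fun N hN => ?_⟩
  haveI := hN
  by_cases hfix : fixedPoints N (SingPt Q) = Set.univ
  · left
    rw [eq_bot_iff]
    intro g hg
    have hg' : ∀ p : SingPt Q, g.1 • p = p := by
      intro p
      have hp : p ∈ fixedPoints N (SingPt Q) := by rw [hfix]; trivial
      exact hp ⟨g, hg⟩
    have := eq_one_of_fixes Q hQ h5 he0 (T.Qe 0) g.1 hg'
    rw [Subgroup.mem_bot]
    exact Subtype.ext this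
  · right
    have := (orthIwasawa Q H hE hD).commutator_le N hfix
    rw [hperf, top_le_iff] at this
    exact this

end Simple

section Six

/-- the index type of the six coordinates -/
abbrev I6 : Type := (Fin 2 ⊕ Fin 2) ⊕ Fin 2

theorem hab6 : ∀ z₁ z₂ : ZMod 2, z₁ ^ 2 + 1 * z₁ * z₂ + 1 * z₂ ^ 2 = 0 → z₁ = 0 ∧ z₂ = 0 := by
  decide

/-- the quadratic form -/
noncomputable abbrev Q6 : QuadraticForm (ZMod 2) (I6 → ZMod 2) := minusForm 2 (ZMod 2) 1 1

theorem hQ6 : (QuadraticMap.polarBilin Q6).Nondegenerate :=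
  nondegenerate_minusForm_of_aniso 2 1 1 hab6

theorem card_I6 : Fintype.card I6 = 6 := by decide

/-- the hyperbolic pairs and the anisotropic vector -/
noncomputable def T6 : HypDoubleA Q6 where
  e i := Pi.single (Sum.inl (Sum.inl i)) 1
  f i := Pi.single (Sum.inl (Sum.inr i)) 1
  a := Pi.single (Sum.inr 0) 1
  Qe i := (isHypPair_minusForm 2 (1 : ZMod 2) 1 i).Qa
  Qf i := (isHypPair_minusForm 2 (1 : ZMod 2) 1 i).Qb
  ee i j := by
    rw [(isHypPair_minusForm 2 (1 : ZMod 2) 1 i).polar_a, Pi.single_apply, if_neg (by simp)]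
  ff i j := by
    rw [(isHypPair_minusForm 2 (1 : ZMod 2) 1 i).polar_b, Pi.single_apply, if_neg (by simp)]
  ef i j := by
    rw [(isHypPair_minusForm 2 (1 : ZMod 2) 1 i).polar_a, Pi.single_apply]
    by_cases hij : i = j
    · rw [if_pos (by rw [hij]), if_pos hij]
    · rw [if_neg (fun hh => hij (Sum.inr_injective (Sum.inl_injective hh))), if_neg hij]
  Qa := by
    rw [minusForm_coe]
    simp [Cfsg.quadFormMinus]
  ea i := by
    rw [(isHypPair_minusForm 2 (1 : ZMod 2) 1 i).polar_a, Pi.single_apply, if_neg (by simp)]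
  fa i := by
    rw [(isHypPair_minusForm 2 (1 : ZMod 2) 1 i).polar_b, Pi.single_apply, if_neg (by simp)]

/-- the isometry group -/
abbrev O6 : Subgroup (GL I6 (ZMod 2)) :=
  Cfsg.isometryGroup (ZMod 2) (Cfsg.quadFormMinus 2 (ZMod 2) 1 1)

/-- its commutator subgroup -/
abbrev Om6 : Subgroup ↥O6 := Cfsg.Omega (ZMod 2) (Cfsg.quadFormMinus 2 (ZMod 2) 1 1)

theorem card_O6 : Nat.card ↥O6 = 51840 := by
  have h := Cfsg.Agent.S0288.result (F := ZMod 2) (q := 2) (ZMod.card 2) 3 (by norm_num) 1 1 hab6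
  rw [h]
  norm_num [Finset.prod_range_succ]

instance finite_O6 : Finite ↥O6 := Nat.finite_of_card_ne_zero (by rw [card_O6]; norm_num)

theorem index_Om6 : Om6.index = 2 := by
  haveI : CharP (ZMod 2) 2 := ZMod.charP 2
  have := index_Omega_eq_two Q6 hQ6 (Or.inr (by rw [card_I6]; norm_num))
    (by rw [card_I6]; norm_num)
  exact this

theorem card_Om6 : Nat.card ↥Om6 = 25920 := by
  have h := Subgroup.card_mul_index Om6
  rw [index_Om6, card_O6] at h
  omega

instance simple_Om6 : IsSimpleGroup ↥Om6 := by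
  have h6 : 6 ≤ Fintype.card I6 := by rw [card_I6]
  have hEq : (Cfsg.Omega (ZMod 2) ⇑Q6) = eichlerGroup Q6 := Omega_eq_eichlerGroup Q6 hQ6 h6
  exact isSimpleGroup_of_hypDoubleA Q6 hQ6 (by rw [card_I6]; norm_num)
    (Cfsg.Omega (ZMod 2) ⇑Q6)
    (fun u w => eichlerO_mem_Omega Q6 hQ6 (by rw [card_I6]; norm_num) u w) (le_of_eq hEq) T6

theorem not_isPGroup_Om6 : ¬ IsPGroup 2 ↥Om6 := by
  intro hp
  obtain ⟨k, hk⟩ := hp.exists_card_eq
  rw [card_Om6] at hk
  have h3 : (3 : ℕ) ∣ 2 ^ k := by rw [← hk]; norm_num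
  have := Nat.Prime.dvd_of_dvd_pow Nat.prime_three h3
  omega

/-- a subgroup of the isometry group of the order of the commutator subgroup is that subgroup -/
theorem eq_Om6_of_card (H : Subgroup ↥O6) (hH : Nat.card ↥H = 25920) : H = Om6 := by
  have hidx : H.index = 2 := by
    have h := Subgroup.card_mul_index H
    rw [hH, card_O6] at h
    omega
  have hle : Om6 ≤ H := commutator_le_of_index_two H hidx
  exact (Subgroup.eq_of_le_of_card_ge hle (by rw [hH, card_Om6])).symm

end Six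

end Cfsg.Agent.Helper26.OmegaM6
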