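import Cfsg.Agent.Helper26.FastPerm

/-!
# Class certificates: every code word of weight `w` is moved to the representative of its class

The class of a mask `m` is `|m ∩ o0|`; the Schreier vector is indexed by the 12 information bits.
-/

set_option autoImplicit false

namespace Cfsg.Agent.Helper26

open Cfsg Helper27 Helper92
open scoped Pointwise

/-- the check for the code word with information bits `c` -/
def wtCheckFn (gens : List GenData) (sv o0 : ℕ) (rep : ℕ → ℕ) (w D : ℕ) (c : ℕ) : Bool :=
  strictN (fun m =>
    cond (Nat.beq (popc 24 m) w)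
      (strictN (fun r =>
        Nat.beq (iterS gens sv (fun x => Nat.land x 4095) (fun x => Nat.beq x r) D m) r)
        (rep (popc 24 (Nat.land m o0))))
      true) (encode c)

theorem popc_and_eq (a b : ℕ) :
    popc 24 (a &&& b) = (Helper27.setOf a ∩ Helper27.setOf b).card := by
  rw [← setOf_and, card_setOf]

theorem wtCert_sound (H : Subgroup (Equiv.Perm GolayPt)) (gens : List GenData)
    (hH : ∀ g ∈ gens, g.ok = true ∧ g.perm ∈ H) (sv o0 : ℕ) (rep : ℕ → ℕ) (w D : ℕ)
    (hcheck : allRange (wtCheckFn gens sv o0 rep w D) 12 0 = true) :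
    ∀ c < 4096, popc 24 (encode c) = w →
      ∃ h ∈ H, h • Helper27.setOf (encode c) =
        Helper27.setOf (rep (Helper27.setOf (encode c) ∩ Helper27.setOf o0).card) := by
  intro c hc hw
  have h := forall_lt_of_allRange _ 12 hcheck c hc
  unfold wtCheckFn at h
  rw [strictN_eq, hw, Nat.beq_refl, cond_true, strictN_eq] at h
  have h' := Nat.eq_of_beq_eq_true h
  obtain ⟨g, hg, e⟩ := iterS_sound H gens hH sv (fun x => Nat.land x 4095)
    (fun x => Nat.beq x (rep (popc 24 (Nat.land (encode c) o0)))) D (encode c) (encode_lt c)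
  refine ⟨g, hg, ?_⟩
  rw [e, h']
  show Helper27.setOf (rep (popc 24 (encode c &&& o0))) = _
  rw [popc_and_eq]

end Cfsg.Agent.Helper26
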