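import Cfsg.Agent.Helper8.Orbit
import Cfsg.Agent.Helper8.LeechClasses
import Cfsg.Agent.Helper8.Min32
import Cfsg.Agent.Helper26.M24Homog

/-!
# Orthogonal pairs of minimal vectors and crosses

If `v`, `w` are orthogonal minimal vectors of the rank-24 lattice then `v + w` and `v - w` are two
non-opposite vectors of one cross.  Hence transitivity of the automorphism group on the vectors of
sum of squares 64 (hypothesis `Trans64`) gives: the stabiliser of a minimal vector `v` is transitive
on the minimal vectors orthogonal to `v`.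
-/

set_option autoImplicit false

namespace Cfsg.Agent.Helper26

open Cfsg Cfsg.Agent.Helper8
open scoped Pointwise

/-- the automorphism group is transitive on the vectors of sum of squares 64 -/
def Trans64 : Prop :=
  ∀ x : ↥leechLattice, sqNorm (x : GolayPt → ℤ) = 64 → ∃ g : ↥Co0, g • x = vec8 none

theorem sqNorm_add' (a b : GolayPt → ℤ) :
    sqNorm (a + b) = sqNorm a + sqNorm b + 2 * dotInt a b := by
  unfold sqNorm dotInt
  rw [Finset.mul_sum, ← Finset.sum_add_distrib, ← Finset.sum_add_distrib]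
  refine Finset.sum_congr rfl fun i _ => ?_
  rw [Pi.add_apply]
  ring

theorem sqNorm_sub' (a b : GolayPt → ℤ) :
    sqNorm (a - b) = sqNorm a + sqNorm b - 2 * dotInt a b := by
  unfold sqNorm dotInt
  rw [Finset.mul_sum, ← Finset.sum_add_distrib, ← Finset.sum_sub_distrib]
  refine Finset.sum_congr rfl fun i _ => ?_
  rw [Pi.sub_apply]
  ring

theorem sqNorm_eq_zero' {a : GolayPt → ℤ} (h : a = 0) : sqNorm a = 0 := by
  subst h
  unfold sqNorm
  simp

/-! ### the standard cross is a cross -/

theorem sqNorm_single (i : GolayPt) (s : ℤ) : sqNorm (Pi.single i s : GolayPt → ℤ) = s ^ 2 := by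
  unfold sqNorm
  rw [Finset.sum_eq_single i]
  · rw [Pi.single_eq_same]
  · intro j _ hj
    rw [Pi.single_eq_of_ne hj]
    norm_num
  · intro h
    exact absurd (Finset.mem_univ i) h

theorem stdCross_subset_cross : stdCross ⊆ cross (Pi.single none 8) := by
  rintro y ⟨i, s, hs, rfl⟩
  refine ⟨single8_mem i s hs, ?_, ?_⟩
  · rw [sqNorm_single, sqNorm_single]
    rcases hs with rfl | rfl <;> norm_num
  · by_cases hi : i = none
    · subst hi
      rcases hs with rfl | rfl
      · exact ⟨0, AddSubgroup.zero_mem _, by simp⟩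
      · refine ⟨Pi.single none 8, single8_mem none 8 (Or.inl rfl), ?_⟩
        ext j
        by_cases hj : j = none
        · subst hj; simp
        · simp [Pi.single_eq_of_ne hj]
    · -- `8 e_∞ - s e_i = 2 (4 e_∞ + t e_i)` with `t = -s/2`
      have ht : (-(s / 2) = 4 ∨ -(s / 2) = -4) := by
        rcases hs with rfl | rfl
        · right; norm_num
        · left; norm_num
      have hmem : (Pi.single none 4 + Pi.single i (-(s / 2)) : GolayPt → ℤ) ∈ leechLattice :=
        (vrelA ⟨none, i, 4, -(s / 2), Ne.symm hi, Or.inl rfl, ht, rfl⟩).mem_right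
      refine ⟨_, hmem, ?_⟩
      ext j
      simp only [Pi.sub_apply, Pi.add_apply, Pi.smul_apply]
      by_cases hj : j = none
      · subst hj
        rw [Pi.single_eq_same, Pi.single_eq_of_ne (Ne.symm hi), Pi.single_eq_same,
          Pi.single_eq_of_ne (Ne.symm hi)]
        norm_num
      · by_cases hj' : j = i
        · subst hj'
          rw [Pi.single_eq_of_ne hj, Pi.single_eq_same, Pi.single_eq_of_ne hj, Pi.single_eq_same]
          rcases hs with rfl | rfl <;> norm_num
        · rw [Pi.single_eq_of_ne hj, Pi.single_eq_of_ne hj', Pi.single_eq_of_ne hj,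
            Pi.single_eq_of_ne hj']
          norm_num

theorem stdCross_ncard : stdCross.ncard = 48 := by
  classical
  have h : stdCross = (fun p : GolayPt × Bool => (Pi.single p.1 (if p.2 then 8 else -8) : GolayPt → ℤ)) ''
      Set.univ := by
    ext y
    constructor
    · rintro ⟨i, s, hs, rfl⟩
      rcases hs with rfl | rfl
      · exact ⟨(i, true), trivial, by simp⟩
      · exact ⟨(i, false), trivial, by simp⟩
    · rintro ⟨⟨i, b⟩, -, rfl⟩
      cases b
      · exact ⟨i, -8, Or.inr rfl, by simp⟩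
      · exact ⟨i, 8, Or.inl rfl, by simp⟩
  rw [h, Set.ncard_image_of_injective, Set.ncard_univ, Nat.card_eq_fintype_card, Fintype.card_prod,
    card_golayPt, Fintype.card_bool]
  rintro ⟨i, b⟩ ⟨j, c⟩ hij
  have h1 := congrFun hij i
  simp only [Pi.single_eq_same] at h1
  have hij' : i = j := by
    by_contra hne
    rw [Pi.single_eq_of_ne hne] at h1
    cases b <;> simp at h1
  subst hij'
  rw [Pi.single_eq_same] at h1
  have : b = c := by
    cases b <;> cases c <;> simp at h1 <;> rfl
  rw [this]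

theorem cross_vec8_eq : cross (Pi.single none 8) = stdCross := by
  have hc : (cross (Pi.single none 8)).ncard = 48 :=
    cross_ncard (single8_mem none 8 (Or.inl rfl)) (by rw [sqNorm_single]; norm_num)
  have hfin : (cross (Pi.single none 8)).Finite :=
    Set.finite_of_ncard_ne_zero (by rw [hc]; norm_num)
  symm
  exact Set.eq_of_subset_of_ncard_le stdCross_subset_cross (by rw [stdCross_ncard, hc]) hfin

/-! ### monomial elements fixing `8 e_∞` -/

theorem exists_mono_fix {j j' : GolayPt} (hj : j ≠ none) (hj' : j' ≠ none) {s s' : ℤ}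
    (hs : s = 8 ∨ s = -8) (hs' : s' = 8 ∨ s' = -8) :
    ∃ n : ↥Co0, n • vec8 none = vec8 none ∧ ∀ Y : ↥leechLattice,
      (Y : GolayPt → ℤ) = Pi.single j s →
        ((n • Y : ↥leechLattice) : GolayPt → ℤ) = Pi.single j' s' := by
  obtain ⟨σ, hσ, hmap⟩ := exists_map_list [none, j] [none, j']
    (by simp [Ne.symm hj]) (by simp [Ne.symm hj']) rfl (by norm_num)
  simp only [List.map_cons, List.map_nil, List.cons.injEq, and_true] at hmap
  obtain ⟨h0, h1⟩ := hmap
  obtain ⟨c, hc, hc0, hc1⟩ : ∃ c ∈ supports (golayCode : Set (GolayPt → ZMod 2)),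
      none ∉ c ∧ (j' ∈ c ↔ s ≠ s') := by
    by_cases hss : s = s'
    · exact ⟨∅, Cfsg.Agent.S0390.empty_mem_supports, Finset.notMem_empty _, by simp [hss]⟩
    · obtain ⟨C, hC, h1, h2⟩ := exists_code_sep (i := none) (j := j') (Ne.symm hj')
      exact ⟨C, hC, h2, by simp [h1, hss]⟩
  refine ⟨monoCo0 hσ hc, ?_, ?_⟩
  · apply Subtype.ext
    rw [monoCo0_smul, vec8_val, signedPerm_single, h0, if_neg hc0]
  · intro Y hY
    rw [monoCo0_smul, hY, signedPerm_single, h1]
    by_cases hss : s = s'
    · rw [if_neg (fun h => (hc1.1 h) hss), hss]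
    · rw [if_pos (hc1.2 hss)]
      congr 1
      rcases hs with rfl | rfl <;> rcases hs' with rfl | rfl <;> simp_all

/-! ### the reduction -/

theorem coe_smul_add (g : ↥Co0) (a b : ↥leechLattice) : g • (a + b) = g • a + g • b :=
  (co0Hom g).map_add a b

theorem coe_smul_sub (g : ↥Co0) (a b : ↥leechLattice) : g • (a - b) = g • a - g • b :=
  (co0Hom g).map_sub a b

theorem eq_of_add_self_eq {a b : ↥leechLattice} (h : a + a = b + b) : a = b := by
  apply Subtype.ext
  funext i
  have := congrFun (congrArg Subtype.val h) i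
  simp only [AddSubgroup.coe_add, Pi.add_apply] at this
  omega

theorem to_std_pair (h64 : Trans64) (v w : ↥leechLattice)
    (hv : sqNorm (v : GolayPt → ℤ) = 32) (hw : sqNorm (w : GolayPt → ℤ) = 32)
    (hd : dotInt (v : GolayPt → ℤ) (w : GolayPt → ℤ) = 0) :
    ∃ (g : ↥Co0) (j : GolayPt) (s : ℤ), j ≠ none ∧ (s = 8 ∨ s = -8) ∧
      g • (v + w) = vec8 none ∧ ((g • (v - w) : ↥leechLattice) : GolayPt → ℤ) = Pi.single j s := by
  have hx : sqNorm ((v + w : ↥leechLattice) : GolayPt → ℤ) = 64 := by
    rw [AddSubgroup.coe_add, sqNorm_add', hv, hw, hd]; norm_num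
  have hy : sqNorm ((v - w : ↥leechLattice) : GolayPt → ℤ) = 64 := by
    rw [AddSubgroup.coe_sub, sqNorm_sub', hv, hw, hd]; norm_num
  obtain ⟨g, hg⟩ := h64 (v + w) hx
  have hcross : ((g • (v - w) : ↥leechLattice) : GolayPt → ℤ) ∈ cross (Pi.single none 8) := by
    refine ⟨(g • (v - w)).2, ?_, ?_⟩
    · rw [co0_sqNorm, hy, sqNorm_single]; norm_num
    · refine ⟨((g • w : ↥leechLattice) : GolayPt → ℤ), (g • w).2, ?_⟩
      have h1 : vec8 none - g • (v - w) = g • w + g • w := by
        rw [← hg, ← coe_smul_sub, ← coe_smul_add]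
        congr 1
        abel
      have h2 := congrArg Subtype.val h1
      rw [AddSubgroup.coe_sub, AddSubgroup.coe_add, vec8_val] at h2
      rw [h2, two_smul]
  rw [cross_vec8_eq] at hcross
  obtain ⟨j, s, hs, hjs⟩ := hcross
  refine ⟨g, j, s, ?_, hs, hg, hjs⟩
  intro hj
  subst hj
  rcases hs with rfl | rfl
  · -- `g (v - w) = g (v + w)`
    have h1 : g • (v - w) = g • (v + w) := by
      rw [hg]; exact Subtype.ext hjs
    have h2 : v - w = v + w := MulAction.injective g h1
    have h3 : w = 0 := by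
      apply eq_of_add_self_eq
      have : w + w = (v + w) - (v - w) := by abel
      rw [this, h2]; simp
    rw [h3] at hw
    simp [sqNorm] at hw
  · have h1 : g • (v - w) = g • (-(v + w)) := by
      rw [co0_smul_neg, hg]
      apply Subtype.ext
      rw [hjs, AddSubgroup.coe_neg, vec8_val, ← Pi.single_neg]
    have h2 : v - w = -(v + w) := MulAction.injective g h1
    have h3 : v = 0 := by
      apply eq_of_add_self_eq
      have : v + v = (v - w) + (v + w) := by abel
      rw [this, h2]; simp
    rw [h3] at hv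
    simp [sqNorm] at hv

/-- Given transitivity on the vectors of sum of squares 64: the stabiliser of a minimal vector `v`
is transitive on the minimal vectors orthogonal to `v`. -/
theorem orth_pairs_trans (h64 : Trans64) (v w w' : ↥leechLattice)
    (hv : sqNorm (v : GolayPt → ℤ) = 32) (hw : sqNorm (w : GolayPt → ℤ) = 32)
    (hw' : sqNorm (w' : GolayPt → ℤ) = 32)
    (hd : dotInt (v : GolayPt → ℤ) (w : GolayPt → ℤ) = 0)
    (hd' : dotInt (v : GolayPt → ℤ) (w' : GolayPt → ℤ) = 0) :
    ∃ g : ↥Co0, g • v = v ∧ g • w = w' := by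
  obtain ⟨g₁, j, s, hj, hs, e1, e2⟩ := to_std_pair h64 v w hv hw hd
  obtain ⟨g₂, j', s', hj', hs', e1', e2'⟩ := to_std_pair h64 v w' hv hw' hd'
  obtain ⟨n, hn1, hn2⟩ := exists_mono_fix hj hj' hs hs'
  have hx : (g₂⁻¹ * n * g₁) • (v + w) = v + w' := by
    rw [mul_smul, mul_smul, e1, hn1, inv_smul_eq_iff, e1']
  have hy : (g₂⁻¹ * n * g₁) • (v - w) = v - w' := by
    rw [mul_smul, mul_smul, inv_smul_eq_iff]
    apply Subtype.ext
    rw [hn2 _ e2, e2']
  refine ⟨g₂⁻¹ * n * g₁, ?_, ?_⟩
  · apply eq_of_add_self_eq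
    have h1 : v + v = (v + w) + (v - w) := by abel
    have h2 : (v + w') + (v - w') = v + v := by abel
    calc (g₂⁻¹ * n * g₁) • v + (g₂⁻¹ * n * g₁) • v
        = (g₂⁻¹ * n * g₁) • (v + v) := (coe_smul_add _ _ _).symm
      _ = (g₂⁻¹ * n * g₁) • ((v + w) + (v - w)) := by rw [← h1]
      _ = v + v := by rw [coe_smul_add, hx, hy, h2]
  · apply eq_of_add_self_eq
    have h1 : w + w = (v + w) - (v - w) := by abel
    have h2 : (v + w') - (v - w') = w' + w' := by abel
    calc (g₂⁻¹ * n * g₁) • w + (g₂⁻¹ * n * g₁) • w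
        = (g₂⁻¹ * n * g₁) • (w + w) := (coe_smul_add _ _ _).symm
      _ = (g₂⁻¹ * n * g₁) • ((v + w) - (v - w)) := by rw [← h1]
      _ = w' + w' := by rw [coe_smul_sub, hx, hy, h2]

end Cfsg.Agent.Helper26
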