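import Cfsg.Agent.Helper27.OutMathieu

/-!
# Abstract lemmas for proving that all automorphisms of a finite group are inner

A variant of the Sylow chain lemma of `Helper27.OutChain` with a weak hypothesis on the
centraliser of the second generator and a free final step, a lemma pinning an inverting
involution, and a block lemma for subgroups between a point stabiliser and the whole group.
-/

set_option autoImplicit false

namespace Cfsg.Agent.Helper26.OutAbs

open Cfsg.Agent.Helper27 MulAction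

/-- chain lemma: `A` of prime order `p` with `p ^ 2` not dividing the order, self-centralising,
normalised by `C`; `D` normalises `⟨C⟩`; elements `z` centralising `C` such that `D * z` has
order dividing `n` lie in `⟨C⟩`; automorphisms fixing `C`, `D` and `⟨A⟩` are inner. -/
theorem inn_eq_top_of_chain' {G : Type*} [Group G] [Finite G] (p : ℕ) [Fact p.Prime]
    (A C D : G) (s k n : ℕ)
    (hoA : orderOf A = p) (hp2 : ¬ p ^ 2 ∣ Nat.card G)
    (hcA : ∀ g : G, g * A = A * g → g ∈ Subgroup.zpowers A)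
    (hCA : C * A * C⁻¹ = A ^ s)
    (hnA : ∀ z ∈ Subgroup.zpowers A, ∃ T ∈ Subgroup.zpowers A, T * (C * z) * T⁻¹ = C)
    (hDC : D * C * D⁻¹ = C ^ k)
    (hnC : ∀ z ∈ Subgroup.zpowers C, ∃ T ∈ Subgroup.zpowers C, T * (D * z) * T⁻¹ = D)
    (hDn : D ^ n = 1)
    (hwC : ∀ z : G, z * C = C * z → (D * z) ^ n = 1 → z ∈ Subgroup.zpowers C)
    (hfin : ∀ ψ : MulAut G, ψ A ∈ Subgroup.zpowers A → ψ C = C → ψ D = D →
      ψ ∈ (MulAut.conj : G →* MulAut G).range) :
    (MulAut.conj : G →* MulAut G).range = ⊤ := by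
  have hpp : p.Prime := Fact.out
  -- step 2
  have R2 : ∀ ψ : MulAut G, ψ A ∈ Subgroup.zpowers A → ψ C = C →
      ψ ∈ (MulAut.conj : G →* MulAut G).range := by
    intro ψ h1 h2
    have e1 : ψ D * C * (ψ D)⁻¹ = C ^ k := by
      have := congrArg ψ hDC
      rwa [map_mul, map_mul, map_inv, map_pow, h2] at this
    have hZ : (D⁻¹ * ψ D) * C = C * (D⁻¹ * ψ D) := by
      have e2 : ψ D * C = C ^ k * ψ D := by rw [← e1]; group
      have e3 : D * C = C ^ k * D := by rw [← hDC]; group
      have e4 : D⁻¹ * C ^ k = C * D⁻¹ := by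
        rw [inv_mul_eq_iff_eq_mul, ← mul_assoc, e3, mul_inv_cancel_right]
      rw [mul_assoc, e2, ← mul_assoc, e4, mul_assoc]
    have hpow : (D * (D⁻¹ * ψ D)) ^ n = 1 := by
      rw [mul_inv_cancel_left, ← map_pow, hDn, map_one]
    have hZm := hwC _ hZ hpow
    obtain ⟨T, hT, hTD⟩ := hnC _ hZm
    apply mem_inn_of_mul_mem T
    apply hfin
    · rw [MulAut.mul_apply, MulAut.conj_apply]
      exact conj_mem_zpowers_of_normalizes hCA hT h1
    · rw [MulAut.mul_apply, MulAut.conj_apply, h2,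
        commute_of_mem_zpowers hT (Subgroup.mem_zpowers C), mul_inv_cancel_right]
    · rw [MulAut.mul_apply, MulAut.conj_apply]
      rw [mul_inv_cancel_left] at hTD
      exact hTD
  -- step 1
  have R1 : ∀ ψ : MulAut G, ψ A ∈ Subgroup.zpowers A →
      ψ ∈ (MulAut.conj : G →* MulAut G).range := by
    intro ψ h1
    set x := ψ A with hx
    have hox : orderOf x = p := by rw [hx, MulEquiv.orderOf_eq, hoA]
    have hzp : Subgroup.zpowers x = Subgroup.zpowers A := by
      apply Subgroup.eq_of_le_of_card_ge (Subgroup.zpowers_le.mpr h1)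
      rw [Nat.card_zpowers, Nat.card_zpowers, hox, hoA]
    have hAx : A ∈ Subgroup.zpowers x := by rw [hzp]; exact Subgroup.mem_zpowers A
    have e0 : C * x * C⁻¹ = x ^ s := by
      obtain ⟨z, hz⟩ := Subgroup.mem_zpowers_iff.mp h1
      rw [← hz, ← conj_zpow, hCA, ← zpow_natCast, ← zpow_natCast, ← zpow_mul, ← zpow_mul,
        mul_comm]
    have e1 : ψ C * x * (ψ C)⁻¹ = x ^ s := by
      have := congrArg ψ hCA
      rwa [map_mul, map_mul, map_inv, map_pow] at this
    have hZx : (C⁻¹ * ψ C) * x = x * (C⁻¹ * ψ C) := by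
      have e2 : ψ C * x = x ^ s * ψ C := by rw [← e1]; group
      have e3 : C * x = x ^ s * C := by rw [← e0]; group
      have e4 : C⁻¹ * x ^ s = x * C⁻¹ := by
        rw [inv_mul_eq_iff_eq_mul, ← mul_assoc, e3, mul_inv_cancel_right]
      rw [mul_assoc, e2, ← mul_assoc, e4, mul_assoc]
    have hZ : (C⁻¹ * ψ C) * A = A * (C⁻¹ * ψ C) := by
      obtain ⟨z, hz⟩ := Subgroup.mem_zpowers_iff.mp hAx
      rw [← hz]
      exact ((show Commute (C⁻¹ * ψ C) x from hZx).zpow_right z).eq
    have hZm := hcA _ hZ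
    obtain ⟨T, hT, hTC⟩ := hnA _ hZm
    apply mem_inn_of_mul_mem T
    apply R2
    · rw [MulAut.mul_apply, MulAut.conj_apply, ← hx, commute_of_mem_zpowers hT h1,
        mul_inv_cancel_right]
      exact h1
    · rw [MulAut.mul_apply, MulAut.conj_apply]
      rw [mul_inv_cancel_left] at hTC
      exact hTC
  rw [eq_top_iff]
  intro φ _
  obtain ⟨g, hg⟩ := exists_conj_mem_zpowers p A hoA hp2 φ
  apply mem_inn_of_mul_mem g
  apply R1
  rw [MulAut.mul_apply, MulAut.conj_apply]
  exact hg

/-- pinning an element inverting `C` and commuting with `D`: two such elements coincide as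
soon as the normaliser of `⟨C⟩` permutes two points `x0`, `w`, no element fixing `x0` inverts
`C`, the centraliser of `C` in the stabiliser of `x0` is `⟨C⟩`, and `D` acts on `⟨C⟩` without
fixed points. -/
theorem pin_of_swap {G Ω : Type*} [Group G] [MulAction G Ω] (C D e e' : G) (x0 w : Ω)
    (hperm : ∀ g : G, g * C * g⁻¹ = C⁻¹ → g • x0 = x0 ∨ g • x0 = w)
    (hninv : ∀ g : G, g • x0 = x0 → g * C * g⁻¹ ≠ C⁻¹)
    (hcent : ∀ g : G, g • x0 = x0 → g * C = C * g → g ∈ Subgroup.zpowers C)
    (hfpf : ∀ z ∈ Subgroup.zpowers C, z * D = D * z → z = 1)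
    (he : e * C * e⁻¹ = C⁻¹) (he' : e' * C * e'⁻¹ = C⁻¹)
    (heD : e * D = D * e) (he'D : e' * D = D * e') : e' = e := by
  have h1 : e • x0 = w := by
    rcases hperm e he with h | h
    · exact absurd he (hninv e h)
    · exact h
  have h2 : e' • x0 = w := by
    rcases hperm e' he' with h | h
    · exact absurd he' (hninv e' h)
    · exact h
  have h3 : (e⁻¹ * e') • x0 = x0 := by
    rw [mul_smul, h2, ← h1, inv_smul_smul]
  have h4 : (e⁻¹ * e') * C = C * (e⁻¹ * e') := by
    have a1 : e' * C = C⁻¹ * e' := by rw [← he']; group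
    have a2 : e * C = C⁻¹ * e := by rw [← he]; group
    have a3 : e⁻¹ * C⁻¹ = C * e⁻¹ := by
      rw [inv_mul_eq_iff_eq_mul, ← mul_assoc, a2, mul_assoc, mul_inv_cancel, mul_one]
    rw [mul_assoc, a1, ← mul_assoc, a3, mul_assoc]
  have h5 : (e⁻¹ * e') * D = D * (e⁻¹ * e') := by
    have a3 : e⁻¹ * D = D * e⁻¹ := by
      rw [inv_mul_eq_iff_eq_mul, ← mul_assoc, heD, mul_assoc, mul_inv_cancel, mul_one]
    rw [mul_assoc, he'D, ← mul_assoc, a3, mul_assoc]
  have h6 := hfpf _ (hcent _ h3 h4) h5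
  rw [inv_mul_eq_one] at h6
  exact h6.symm

/-- fixed-point-free action of `D` on `⟨C⟩`, `C` of order `11`, `D` acting as the cube -/
theorem eq_one_of_commute_cube {G : Type*} [Group G] {C D : G} (hC : orderOf C = 11)
    (hDC : D * C * D⁻¹ = C ^ 3) {z : G} (hz : z ∈ Subgroup.zpowers C) (hzD : z * D = D * z) :
    z = 1 := by
  have hC11 : C ^ 11 = 1 := by rw [← hC]; exact pow_orderOf_eq_one C
  obtain ⟨i, hi, rfl⟩ := exists_lt_pow_of_mem_zpowers (by norm_num) hC11 hz
  have h1 : D * C ^ i * D⁻¹ = C ^ (3 * i) := by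
    rw [← conj_pow, hDC, ← pow_mul]
  have h2 : D * C ^ i * D⁻¹ = C ^ i := by
    rw [← hzD, mul_inv_cancel_right]
  rw [h1] at h2
  have h3 := (pow_eq_pow_iff_modEq).mp h2
  rw [hC] at h3
  have h4 : i = 0 := by
    unfold Nat.ModEq at h3
    omega
  rw [h4, pow_zero]

/-- conjugating `D * z` back to `D` inside `⟨C⟩`, for `C` of order `11` and `D` acting as the
cube -/
theorem exists_conj_eq_of_cube {G : Type*} [Group G] {C D : G} (hC11 : C ^ 11 = 1)
    (hDC : D * C * D⁻¹ = C ^ 3) :
    ∀ z ∈ Subgroup.zpowers C, ∃ T ∈ Subgroup.zpowers C, T * (D * z) * T⁻¹ = D := by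
  intro z hz
  obtain ⟨i, _, rfl⟩ := exists_lt_pow_of_mem_zpowers (by norm_num) hC11 hz
  have key : ∀ n : ℕ, D * C ^ n = C ^ (3 * n) * D := by
    intro n
    have h1 : D * C ^ n * D⁻¹ = C ^ (3 * n) := by rw [← conj_pow, hDC, ← pow_mul]
    rw [← h1, inv_mul_cancel_right]
  refine ⟨C ^ (7 * i), Subgroup.pow_mem _ (Subgroup.mem_zpowers _) _, ?_⟩
  rw [mul_inv_eq_iff_eq_mul, key (7 * i), key i, ← mul_assoc, ← pow_add]
  congr 1
  have e : 3 * (7 * i) = (7 * i + 3 * i) + 11 * i := by ring
  rw [e, pow_add (C) (7 * i + 3 * i) (11 * i), pow_mul C 11 i, hC11, one_pow, mul_one]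

/-- a subgroup between a point stabiliser and the whole group, for a transitive action in which
the invariant subsets through the point whose size divides the degree are trivial -/
theorem eq_stabilizer_or_top_of_block {L X : Type*} [Group L] [Finite L] [MulAction L X]
    [IsPretransitive L X] [Finite X] (z0 : X) (K : Subgroup L) (hMK : stabilizer L z0 ≤ K)
    (hB : ∀ B : Set X, z0 ∈ B → (∀ m : L, m • z0 = z0 → ∀ b ∈ B, m • b ∈ B) →
      B.ncard ∣ Nat.card X → B.ncard = 1 ∨ B.ncard = Nat.card X) :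
    K = stabilizer L z0 ∨ K = ⊤ := by
  classical
  set M := stabilizer L z0 with hM
  have hX : M.index = Nat.card X := by
    rw [hM, MulAction.index_stabilizer, orbit_eq_univ, Set.ncard_univ]
  have hstab : stabilizer ↥K z0 = M.subgroupOf K := by
    ext k
    rw [mem_stabilizer_iff, Subgroup.mem_subgroupOf, hM, mem_stabilizer_iff]
    rfl
  have hBn : (orbit ↥K z0).ncard = M.relIndex K := by
    rw [← MulAction.index_stabilizer, hstab]
    rfl
  have hmul : M.relIndex K * K.index = Nat.card X := by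
    rw [Subgroup.relIndex_mul_index hMK, hX]
  have : Nonempty X := ⟨z0⟩
  have hX0 : Nat.card X ≠ 0 := Nat.card_pos.ne'
  have hrel0 : M.relIndex K ≠ 0 := fun h => by rw [h, zero_mul] at hmul; exact hX0 hmul.symm
  rcases hB (orbit ↥K z0) (mem_orbit_self z0)
      (fun m hm b hb => by
        obtain ⟨k, rfl⟩ := hb
        have hmK : m ∈ K := hMK (mem_stabilizer_iff.mpr hm)
        refine ⟨⟨m, hmK⟩ * k, ?_⟩
        show ((⟨m, hmK⟩ * k : ↥K) : L) • z0 = m • ((k : L) • z0)
        rw [Subgroup.coe_mul, mul_smul])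
      (by rw [hBn]; exact Dvd.intro _ hmul) with h | h
  · left
    rw [hBn, Subgroup.relIndex_eq_one] at h
    exact le_antisymm h hMK
  · right
    rw [hBn, ← hmul] at h
    have : K.index = 1 := by
      have h' : M.relIndex K * 1 = M.relIndex K * K.index := by rw [mul_one]; exact h
      exact (Nat.eq_of_mul_eq_mul_left (Nat.pos_of_ne_zero hrel0) h').symm
    exact Subgroup.index_eq_one.mp this

end Cfsg.Agent.Helper26.OutAbs
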