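import Cfsg.Agent.Helper93.HSLeechA
import Cfsg.Agent.Helper27.OutM23
import Cfsg.Agent.Helper8.McL275a
import Cfsg.Agent.Helper26.OutAbs

/-!
# The stabiliser of `(-3, 1^23)`: coordinate permutations and lattice lemmas

`G2 = Stab_{Co0}(v1)` with `v1 = (-3, 1^23)` contains the coordinate permutations of `M23`
(fixing the point `none`).  An element of `G2` fixing `8 e_none` is such a permutation.
-/

set_option autoImplicit false

namespace Cfsg.Agent.Helper26.OutCo2

open Cfsg Cfsg.Agent.Helper7 Cfsg.Agent.Helper8 Cfsg.Agent.Helper27 Cfsg.Agent.Helper93.HSL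
  MulAction

/-- the base vector `(-3, 1^23)` -/
def v1L : ↥leechLattice := ⟨oddBase none, Cfsg.Agent.Helper26.oddBase_mem none⟩

/-- the vector `(5, 1^23)` -/
def u1L : ↥leechLattice := ⟨fiveVec none, fiveVec_mem none⟩

theorem vec8_none_eq : vec8 none = u1L - v1L := by
  apply Subtype.ext
  funext i
  show (Pi.single none 8 : GolayPt → ℤ) i = fiveVec none i - oddBase none i
  unfold fiveVec oddBase
  by_cases h : i = none
  · rw [h, Pi.single_eq_same, if_pos rfl, if_pos rfl]; norm_num
  · rw [Pi.single_eq_of_ne h, if_neg h, if_neg h]; norm_num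

/-- the group: the stabiliser of `v1` -/
abbrev G2 : Subgroup ↥Co0 := stabilizer ↥Co0 v1L

/-- an automorphism fixing `v1` and `8 e_none` is a coordinate permutation fixing `none` -/
theorem exists_mono_of_fix8 (g : ↥Co0) (h1 : g • v1L = v1L) (h8 : g • vec8 none = vec8 none) :
    ∃ σ : ↥M24, σ.1 none = none ∧ g = monoHom σ := by
  have hfc : FixesCross g := by
    rw [fixesCross_iff g none, h8]
    exact ⟨none, 8, Or.inl rfl, rfl⟩
  obtain ⟨σ, hσ, c, hc, hg⟩ := exists_mono_of_fixesCross g hfc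
  have hU : signedPerm σ c (oddBase none) = oddBase none := by
    have := hg v1L
    rw [h1] at this
    exact this.symm
  have hc0 : c = ∅ := by
    apply Finset.eq_empty_of_forall_notMem
    intro i hi
    have h := congrFun hU i
    unfold signedPerm oddBase at h
    rw [if_pos hi] at h
    split_ifs at h <;> omega
  subst hc0
  have hk : σ none = none := by
    have h := congrFun hU none
    rw [signedPerm_empty_apply] at h
    unfold oddBase at h
    rw [if_pos rfl] at h
    by_contra hne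
    have : σ.symm none ≠ none := fun h' => hne ((Equiv.symm_apply_eq σ).mp h').symm
    rw [if_neg this] at h
    omega
  refine ⟨⟨σ, hσ⟩, hk, ?_⟩
  apply Cfsg.Agent.Helper93.HSL.co0_ext
  intro v
  rw [hg v]
  rfl

theorem monoHom_smul_v1 {σ : ↥M24} (h : σ.1 none = none) : monoHom σ • v1L = v1L := by
  apply Subtype.ext
  funext i
  rw [monoHom_smul]
  show oddBase none ((σ : Equiv.Perm GolayPt).symm i) = oddBase none i
  unfold oddBase
  by_cases hi : i = none
  · have : (σ : Equiv.Perm GolayPt).symm i = none := by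
      rw [hi, Equiv.symm_apply_eq, h]
    rw [if_pos this, if_pos hi]
  · have : (σ : Equiv.Perm GolayPt).symm i ≠ none := by
      intro h'
      apply hi
      rw [Equiv.symm_apply_eq] at h'
      rw [h', h]
    rw [if_neg this, if_neg hi]

/-- the coordinate permutations of `M23` inside `G2` -/
noncomputable def m23 : ↥M23p →* ↥G2 where
  toFun σ := ⟨monoHom ⟨σ.1, σ.2.1⟩, mem_stabilizer_iff.mpr (monoHom_smul_v1 (mem_stabilizer_iff.mp σ.2.2))⟩
  map_one' := by
    apply Subtype.ext
    show monoHom ⟨(1 : ↥M23p).1, _⟩ = 1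
    exact map_one monoHom
  map_mul' := by
    intro σ τ
    apply Subtype.ext
    show monoHom ⟨(σ * τ : ↥M23p).1, _⟩ = monoHom ⟨σ.1, σ.2.1⟩ * monoHom ⟨τ.1, τ.2.1⟩
    rw [← map_mul]
    rfl

theorem m23_val (σ : ↥M23p) : ((m23 σ : ↥G2) : ↥Co0) = monoHom ⟨σ.1, σ.2.1⟩ := rfl

theorem m23_injective : Function.Injective m23 := by
  intro σ τ h
  have h1 : monoHom ⟨σ.1, σ.2.1⟩ = monoHom ⟨τ.1, τ.2.1⟩ := congrArg Subtype.val h
  have h2 := monoHom_injective h1
  exact Subtype.ext (congrArg (fun x : ↥M24 => (x : Equiv.Perm GolayPt)) h2)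

/-- an element of `G2` fixing `8 e_none` comes from `M23` -/
theorem exists_m23_of_fix8 (g : ↥G2) (h8 : (g : ↥Co0) • vec8 none = vec8 none) :
    ∃ σ : ↥M23p, g = m23 σ := by
  obtain ⟨σ, hσ, hg⟩ := exists_mono_of_fix8 g.1 (mem_stabilizer_iff.mp g.2) h8
  exact ⟨⟨σ.1, σ.2, mem_stabilizer_iff.mpr hσ⟩, Subtype.ext hg⟩

end Cfsg.Agent.Helper26.OutCo2
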