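import Cfsg.Agent.Helper26.OutCo2A
import Cfsg.Agent.Helper26.Co2Simple
import Cfsg.Agent.Helper8.Co2Rep

/-!
# The stabiliser of `(-3, 1^23)`: the elements of order 23, 11 and 5

The images `elA`, `elC`, `elD` in `G2` of the translation, the doubling and the cube twist of
`M23`, their relations, and the centraliser of `elA`.
-/

set_option autoImplicit false

namespace Cfsg.Agent.Helper26.OutCo2

open Cfsg Cfsg.Agent.Helper7 Cfsg.Agent.Helper8 Cfsg.Agent.Helper27 Cfsg.Agent.Helper93.HSL
  MulAction

/-! ### sums over the 24 points -/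

theorem sum_zmod23_range (F : ZMod 23 → ℤ) :
    ∑ t, F t = ∑ n ∈ Finset.range 23, F (n : ZMod 23) := by
  rw [Finset.sum_range (fun n => F (n : ZMod 23))]
  refine Finset.sum_congr rfl fun t _ => ?_
  have : ((ZMod.val t : ℕ) : ZMod 23) = t := ZMod.natCast_zmod_val t
  exact congrArg F this.symm

theorem sum_zmod23 (F : ZMod 23 → ℤ) : ∑ t, F t = F 0 + F 1 + F 2 + F 3 + F 4 + F 5 + F 6 + F 7 +
    F 8 + F 9 + F 10 + F 11 + F 12 + F 13 + F 14 + F 15 + F 16 + F 17 + F 18 + F 19 + F 20 +
    F 21 + F 22 := by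
  rw [sum_zmod23_range]
  simp only [Finset.sum_range_succ, Finset.sum_range_zero, zero_add, Nat.cast_ofNat,
    Nat.cast_zero, Nat.cast_one]

theorem sum_golayPt (f : GolayPt → ℤ) : ∑ i, f i = f none + ∑ t : ZMod 23, f (some t) :=
  Fintype.sum_option f

/-- functions constant on the 23 points -/
theorem const_of_trP {α : Type*} (f : GolayPt → α) (h : ∀ t : ZMod 23, f (some (t + 1)) = f (some t))
    (t : ZMod 23) : f (some t) = f (some 0) := by
  have key : ∀ n : ℕ, f (some (n : ZMod 23)) = f (some 0) := by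
    intro n
    induction n with
    | zero => rw [Nat.cast_zero]
    | succ n ih => rw [Nat.cast_succ, h, ih]
  have := key t.val
  rwa [ZMod.natCast_zmod_val] at this

theorem sum_of_trP (f : GolayPt → ℤ) (h : ∀ t : ZMod 23, f (some (t + 1)) = f (some t)) :
    ∑ i, f i = f none + 23 * f (some 0) := by
  rw [sum_golayPt, Finset.sum_congr rfl (fun t _ => const_of_trP f h t), Finset.sum_const,
    Finset.card_univ, ZMod.card, nsmul_eq_mul]
  norm_num

/-- the values of a function invariant under the doubling -/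
theorem vals_of_mu23 {α : Type*} (f : GolayPt → α) (h : ∀ t : ZMod 23, f (some (2 * t)) = f (some t)) :
    (f (some 2) = f (some 1) ∧ f (some 4) = f (some 1) ∧ f (some 8) = f (some 1) ∧
      f (some 16) = f (some 1) ∧ f (some 9) = f (some 1) ∧ f (some 18) = f (some 1) ∧
      f (some 13) = f (some 1) ∧ f (some 3) = f (some 1) ∧ f (some 6) = f (some 1) ∧
      f (some 12) = f (some 1)) ∧
    (f (some 10) = f (some 5) ∧ f (some 20) = f (some 5) ∧ f (some 17) = f (some 5) ∧
      f (some 11) = f (some 5) ∧ f (some 22) = f (some 5) ∧ f (some 21) = f (some 5) ∧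
      f (some 19) = f (some 5) ∧ f (some 15) = f (some 5) ∧ f (some 7) = f (some 5) ∧
      f (some 14) = f (some 5)) := by
  have e2 : f (some 2) = f (some 1) := by
    have := h 1; rwa [show (2 : ZMod 23) * 1 = 2 from by decide] at this
  have e4 : f (some 4) = f (some 1) := by
    have := h 2; rw [show (2 : ZMod 23) * 2 = 4 from by decide] at this; exact this.trans e2
  have e8 : f (some 8) = f (some 1) := by
    have := h 4; rw [show (2 : ZMod 23) * 4 = 8 from by decide] at this; exact this.trans e4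
  have e16 : f (some 16) = f (some 1) := by
    have := h 8; rw [show (2 : ZMod 23) * 8 = 16 from by decide] at this; exact this.trans e8
  have e9 : f (some 9) = f (some 1) := by
    have := h 16; rw [show (2 : ZMod 23) * 16 = 9 from by decide] at this; exact this.trans e16
  have e18 : f (some 18) = f (some 1) := by
    have := h 9; rw [show (2 : ZMod 23) * 9 = 18 from by decide] at this; exact this.trans e9
  have e13 : f (some 13) = f (some 1) := by
    have := h 18; rw [show (2 : ZMod 23) * 18 = 13 from by decide] at this; exact this.trans e18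
  have e3 : f (some 3) = f (some 1) := by
    have := h 13; rw [show (2 : ZMod 23) * 13 = 3 from by decide] at this; exact this.trans e13
  have e6 : f (some 6) = f (some 1) := by
    have := h 3; rw [show (2 : ZMod 23) * 3 = 6 from by decide] at this; exact this.trans e3
  have e12 : f (some 12) = f (some 1) := by
    have := h 6; rw [show (2 : ZMod 23) * 6 = 12 from by decide] at this; exact this.trans e6
  have d10 : f (some 10) = f (some 5) := by
    have := h 5; rwa [show (2 : ZMod 23) * 5 = 10 from by decide] at this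
  have d20 : f (some 20) = f (some 5) := by
    have := h 10; rw [show (2 : ZMod 23) * 10 = 20 from by decide] at this; exact this.trans d10
  have d17 : f (some 17) = f (some 5) := by
    have := h 20; rw [show (2 : ZMod 23) * 20 = 17 from by decide] at this; exact this.trans d20
  have d11 : f (some 11) = f (some 5) := by
    have := h 17; rw [show (2 : ZMod 23) * 17 = 11 from by decide] at this; exact this.trans d17
  have d22 : f (some 22) = f (some 5) := by
    have := h 11; rw [show (2 : ZMod 23) * 11 = 22 from by decide] at this; exact this.trans d11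
  have d21 : f (some 21) = f (some 5) := by
    have := h 22; rw [show (2 : ZMod 23) * 22 = 21 from by decide] at this; exact this.trans d22
  have d19 : f (some 19) = f (some 5) := by
    have := h 21; rw [show (2 : ZMod 23) * 21 = 19 from by decide] at this; exact this.trans d21
  have d15 : f (some 15) = f (some 5) := by
    have := h 19; rw [show (2 : ZMod 23) * 19 = 15 from by decide] at this; exact this.trans d19
  have d7 : f (some 7) = f (some 5) := by
    have := h 15; rw [show (2 : ZMod 23) * 15 = 7 from by decide] at this; exact this.trans d15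
  have d14 : f (some 14) = f (some 5) := by
    have := h 7; rw [show (2 : ZMod 23) * 7 = 14 from by decide] at this; exact this.trans d7
  exact ⟨⟨e2, e4, e8, e16, e9, e18, e13, e3, e6, e12⟩,
    ⟨d10, d20, d17, d11, d22, d21, d19, d15, d7, d14⟩⟩

theorem sum_of_mu23 (f : GolayPt → ℤ) (h : ∀ t : ZMod 23, f (some (2 * t)) = f (some t)) :
    ∑ i, f i = f none + f (some 0) + 11 * f (some 1) + 11 * f (some 5) := by
  obtain ⟨⟨e2, e4, e8, e16, e9, e18, e13, e3, e6, e12⟩,
    ⟨d10, d20, d17, d11, d22, d21, d19, d15, d7, d14⟩⟩ := vals_of_mu23 f h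
  rw [sum_golayPt, sum_zmod23 (fun t => f (some t))]
  simp only [e2, e4, e8, e16, e9, e18, e13, e3, e6, e12, d10, d20, d17, d11, d22, d21, d19, d15,
    d7, d14]
  ring

/-! ### vectors fixed by a coordinate permutation -/

theorem fixed_apply {σ : ↥M24} {y : ↥leechLattice} (h : monoHom σ • y = y) (j : GolayPt) :
    y.1 ((σ : Equiv.Perm GolayPt) j) = y.1 j := by
  have h1 := monoHom_smul σ y ((σ : Equiv.Perm GolayPt) j)
  rw [h, Equiv.symm_apply_apply] at h1
  exact h1

theorem monoHom_smul_u1 {σ : ↥M24} (h : σ.1 none = none) : monoHom σ • u1L = u1L := by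
  apply Subtype.ext
  funext i
  rw [monoHom_smul]
  show fiveVec none ((σ : Equiv.Perm GolayPt).symm i) = fiveVec none i
  rw [fiveVec_apply, fiveVec_apply]
  by_cases hi : i = none
  · have : (σ : Equiv.Perm GolayPt).symm i = none := by
      rw [hi, Equiv.symm_apply_eq, h]
    rw [if_pos this, if_pos hi]
  · have : (σ : Equiv.Perm GolayPt).symm i ≠ none := by
      intro h'
      apply hi
      rw [Equiv.symm_apply_eq] at h'
      rw [h', h]
    rw [if_neg this, if_neg hi]

/-- an automorphism is determined by the images of the `8 e_i` -/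
theorem co0_ext_vec8 {g h : ↥Co0} (H : ∀ i, g • vec8 i = h • vec8 i) : g = h := by
  apply Cfsg.Agent.Helper8.co0_ext
  intro y
  have hm : Co2Rep.matZ g.1 = Co2Rep.matZ h.1 := by
    funext j i
    exact congrArg (fun v : ↥leechLattice => (v : GolayPt → ℤ) j) (H i)
  have h1 := Co2Rep.matZ_mulVec g.2 y
  have h2 := Co2Rep.matZ_mulVec h.2 y
  rw [hm, h2] at h1
  apply Subtype.ext
  funext j
  have h3 := congrFun h1 j
  rw [Pi.smul_apply, Pi.smul_apply, smul_eq_mul, smul_eq_mul] at h3
  have h4 : ((h.1 y : ↥leechLattice) : GolayPt → ℤ) j = ((g.1 y : ↥leechLattice) : GolayPt → ℤ) j := by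
    omega
  exact h4.symm

/-! ### the generators -/

/-- the translation in `M23` -/
def aP : ↥M23p := ⟨trP 1, F23_le_M23p trP_one_mem⟩

/-- the doubling in `M23` -/
def cP : ↥M23p := ⟨mu23, F23_le_M23p mu23_mem_F23⟩

/-- the cube twist in `M23` -/
noncomputable def dP : ↥M23p := ⟨cubeTwist, cubeTwist_mem_M23p⟩

/-- the element of order 23 -/
noncomputable def elA : ↥G2 := m23 aP

/-- the element of order 11 -/
noncomputable def elC : ↥G2 := m23 cP

/-- the element of order 5 -/
noncomputable def elD : ↥G2 := m23 dP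

theorem m23_congr {x y : ↥M23p} (h : x.1 = y.1) : m23 x = m23 y := by
  rw [Subtype.ext h]

theorem orderOf_elA : orderOf elA = 23 := by
  unfold elA aP
  rw [orderOf_injective m23 m23_injective, Subgroup.orderOf_mk, orderOf_trP_one]

theorem orderOf_elC : orderOf elC = 11 := by
  unfold elC cP
  rw [orderOf_injective m23 m23_injective, Subgroup.orderOf_mk, orderOf_mu23]

theorem orderOf_elD : orderOf elD = 5 := by
  unfold elD dP
  rw [orderOf_injective m23 m23_injective, Subgroup.orderOf_mk, orderOf_cubeTwist]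

theorem elA_pow : elA ^ 23 = 1 := by
  rw [← orderOf_elA]; exact pow_orderOf_eq_one elA

theorem elC_pow : elC ^ 11 = 1 := by
  rw [← orderOf_elC]; exact pow_orderOf_eq_one elC

theorem elD_pow : elD ^ 5 = 1 := by
  rw [← orderOf_elD]; exact pow_orderOf_eq_one elD

theorem elC_conj_elA : elC * elA * elC⁻¹ = elA ^ 2 := by
  unfold elC elA
  rw [← map_inv, ← map_mul, ← map_mul, ← map_pow]
  apply m23_congr
  show mu23 * trP 1 * mu23⁻¹ = trP 1 ^ 2
  exact mu23_conj_trP

theorem elD_conj_elC : elD * elC * elD⁻¹ = elC ^ 3 := by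
  unfold elD elC
  rw [← map_inv, ← map_mul, ← map_mul, ← map_pow]
  apply m23_congr
  show cubeTwist * mu23 * cubeTwist⁻¹ = mu23 ^ 3
  exact cubeTwist_conj

theorem card_G2 : Nat.card ↥G2 = 42305421312000 :=
  Cfsg.Agent.Helper26.card_stab32 v1L (Cfsg.Agent.Helper26.sqNorm_oddBase none)

instance : Finite ↥G2 := Nat.finite_of_card_ne_zero (by rw [card_G2]; norm_num)

theorem not_sq_dvd_card_G2 : ¬ 23 ^ 2 ∣ Nat.card ↥G2 := by
  rw [card_G2]; norm_num

theorem normalises_elA : ∀ z ∈ Subgroup.zpowers elA, ∃ T ∈ Subgroup.zpowers elA,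
    T * (elC * z) * T⁻¹ = elC := by
  intro z hz
  obtain ⟨j, _, rfl⟩ := exists_lt_pow_of_mem_zpowers (by norm_num) elA_pow hz
  refine ⟨elA ^ (2 * (j : ZMod 23)).val, Subgroup.pow_mem _ (Subgroup.mem_zpowers _) _, ?_⟩
  unfold elC elA
  rw [← map_pow, ← map_pow, ← map_inv, ← map_mul, ← map_mul, ← map_mul]
  apply m23_congr
  show trP 1 ^ (2 * (j : ZMod 23)).val * (mu23 * trP 1 ^ j) * (trP 1 ^ (2 * (j : ZMod 23)).val)⁻¹
    = mu23
  rw [← trP_eq_pow, ← trP_natCast]
  exact trP_conj_mu23 _

theorem normalises_elC : ∀ z ∈ Subgroup.zpowers elC, ∃ T ∈ Subgroup.zpowers elC,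
    T * (elD * z) * T⁻¹ = elD :=
  OutAbs.exists_conj_eq_of_cube elC_pow elD_conj_elC

/-! ### the centraliser of the element of order 23 -/

theorem sqNorm_u1 : sqNorm (u1L : GolayPt → ℤ) = 48 := by
  show sqNorm (fiveVec none) = 48
  unfold sqNorm
  rw [sum_of_trP (fun i => fiveVec none i ^ 2) (fun t => by
    rw [fiveVec_apply, fiveVec_apply, if_neg (Option.some_ne_none _),
      if_neg (Option.some_ne_none _)])]
  rw [fiveVec_apply, fiveVec_apply, if_pos rfl, if_neg (Option.some_ne_none _)]
  norm_num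

theorem dot_v1_u1 : dotInt (v1L : GolayPt → ℤ) (u1L : GolayPt → ℤ) = 8 := by
  show dotInt (oddBase none) (fiveVec none) = 8
  rw [dotInt_oddBase]
  rw [sum_of_trP (fun i => fiveVec none i) (fun t => by
    rw [fiveVec_apply, fiveVec_apply, if_neg (Option.some_ne_none _),
      if_neg (Option.some_ne_none _)])]
  rw [fiveVec_apply, fiveVec_apply, if_pos rfl, if_neg (Option.some_ne_none _)]
  norm_num

theorem elA_val : (elA : ↥Co0) = monoHom ⟨trP 1, aP.2.1⟩ := rfl

theorem elC_val : (elC : ↥Co0) = monoHom ⟨mu23, cP.2.1⟩ := rfl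

theorem elD_val : (elD : ↥Co0) = monoHom ⟨cubeTwist, dP.2.1⟩ := rfl

/-- a lattice vector fixed by `elA`, of the norm of `u1` and with the same inner product
with `v1`, is `u1` -/
theorem eq_u1_of_fixed (y : ↥leechLattice) (hA : (elA : ↥Co0) • y = y)
    (hn : sqNorm (y : GolayPt → ℤ) = 48) (hd : dotInt (v1L : GolayPt → ℤ) (y : GolayPt → ℤ) = 8) :
    y = u1L := by
  rw [elA_val] at hA
  have hstep : ∀ t : ZMod 23, y.1 (some (t + 1)) = y.1 (some t) := fun t =>
    fixed_apply hA (some t)
  have hc := const_of_trP y.1 hstep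
  have h1 : y.1 none ^ 2 + 23 * y.1 (some 0) ^ 2 = 48 := by
    rw [← hn]
    unfold sqNorm
    rw [sum_of_trP (fun i => y.1 i ^ 2) (fun t => by rw [hstep t])]
  have h2 : y.1 none + 23 * y.1 (some 0) - 4 * y.1 none = 8 := by
    rw [← hd]
    show _ = dotInt (oddBase none) y.1
    rw [dotInt_oddBase, sum_of_trP y.1 hstep]
  have hb : y.1 (some 0) = 1 := by
    have hb1 : y.1 (some 0) ^ 2 ≤ 2 := by nlinarith [sq_nonneg (y.1 none)]
    have hb2 : -1 ≤ y.1 (some 0) := by nlinarith
    have hb3 : y.1 (some 0) ≤ 1 := by nlinarith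
    omega
  have ha : y.1 none = 5 := by rw [hb] at h2; omega
  apply Subtype.ext
  funext i
  show y.1 i = fiveVec none i
  rw [fiveVec_apply]
  cases i with
  | none => rw [if_pos rfl, ha]
  | some t => rw [if_neg (Option.some_ne_none _), hc t, hb]

theorem cent_elA (g : ↥G2) (hg : g * elA = elA * g) : g ∈ Subgroup.zpowers elA := by
  have hgv : (g : ↥Co0) • v1L = v1L := mem_stabilizer_iff.mp g.2
  have hAu : (elA : ↥Co0) • u1L = u1L := by
    rw [elA_val]
    exact monoHom_smul_u1 (trP_none 1)
  have hA : (elA : ↥Co0) • ((g : ↥Co0) • u1L) = (g : ↥Co0) • u1L := by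
    rw [← mul_smul, ← Subgroup.coe_mul, ← hg, Subgroup.coe_mul, mul_smul, hAu]
  have hn : sqNorm (((g : ↥Co0) • u1L : ↥leechLattice) : GolayPt → ℤ) = 48 := by
    rw [co0_sqNorm, sqNorm_u1]
  have hd : dotInt (v1L : GolayPt → ℤ) (((g : ↥Co0) • u1L : ↥leechLattice) : GolayPt → ℤ) = 8 := by
    have := co0_dotInt (g : ↥Co0) v1L u1L
    rw [hgv] at this
    rw [this, dot_v1_u1]
  have hu := eq_u1_of_fixed _ hA hn hd
  have h8 : (g : ↥Co0) • vec8 none = vec8 none := by
    rw [vec8_none_eq, co0_smul_sub, hu, hgv]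
  obtain ⟨σ, rfl⟩ := exists_m23_of_fix8 g h8
  have h1 : σ * aP = aP * σ := by
    apply m23_injective
    rw [map_mul, map_mul]
    exact hg
  have h2 : σ.1 * trP 1 = trP 1 * σ.1 := congrArg Subtype.val h1
  obtain ⟨b, hb⟩ := eq_trP_of_commute h2
  have h3 : σ = aP ^ b.val := by
    apply Subtype.ext
    rw [Subgroup.coe_pow, hb]
    exact trP_eq_pow b
  rw [h3, map_pow]
  exact Subgroup.pow_mem _ (Subgroup.mem_zpowers _) _

end Cfsg.Agent.Helper26.OutCo2
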