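import Cfsg.Agent.Helper26.OutCo2F
import Cfsg.Agent.Helper26.LeechQuad

/-!
# The stabiliser of `(-3, 1^23)`: vectors fixed by the element of order 11

Lattice vectors fixed by `elC` are constant on the squares and on the non-squares; the minimal
vectors fixed by `elC` with inner product `-8` with `(-3, 1^23)` are `(4, 4, 0^22)` and its image
under the involution; consequences for the centraliser and the normaliser of `elC`.
-/

set_option autoImplicit false

namespace Cfsg.Agent.Helper26.OutCo2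

open Cfsg Cfsg.Agent.Helper7 Cfsg.Agent.Helper8 Cfsg.Agent.Helper27 Cfsg.Agent.Helper92
  Cfsg.Agent.Helper93.HSL MulAction

/-- the representative of the class of a residue under the doubling -/
def cls (t : ZMod 23) : ZMod 23 := if t = 0 then 0 else if t ^ 11 = 1 then 1 else 5

theorem zmod23_cases : ∀ t : ZMod 23, t = 0 ∨ t = 1 ∨ t = 2 ∨ t = 3 ∨ t = 4 ∨ t = 5 ∨ t = 6 ∨
    t = 7 ∨ t = 8 ∨ t = 9 ∨ t = 10 ∨ t = 11 ∨ t = 12 ∨ t = 13 ∨ t = 14 ∨ t = 15 ∨ t = 16 ∨
    t = 17 ∨ t = 18 ∨ t = 19 ∨ t = 20 ∨ t = 21 ∨ t = 22 := by decide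

theorem cls_cases (t : ZMod 23) : cls t = 0 ∨ cls t = 1 ∨ cls t = 5 := by
  unfold cls
  split_ifs
  · exact Or.inl rfl
  · exact Or.inr (Or.inl rfl)
  · exact Or.inr (Or.inr rfl)

theorem val_cls {α : Type*} (f : GolayPt → α) (h : ∀ t : ZMod 23, f (some (2 * t)) = f (some t))
    (t : ZMod 23) : f (some t) = f (some (cls t)) := by
  obtain ⟨⟨e2, e4, e8, e16, e9, e18, e13, e3, e6, e12⟩,
    ⟨d10, d20, d17, d11, d22, d21, d19, d15, d7, d14⟩⟩ := vals_of_mu23 f h
  rcases zmod23_cases t with rfl | rfl | rfl | rfl | rfl | rfl | rfl | rfl | rfl | rfl | rfl | rfl | rfl | rfl | rfl | rfl | rfl | rfl | rfl | rfl | rfl | rfl | rfl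
  · rfl
  · rfl
  · exact e2
  · exact e3
  · exact e4
  · rfl
  · exact e6
  · exact d7
  · exact e8
  · exact e9
  · exact d10
  · exact d11
  · exact e12
  · exact e13
  · exact d14
  · exact d15
  · exact e16
  · exact d17
  · exact e18
  · exact d19
  · exact d20
  · exact d21
  · exact d22

/-- two functions invariant under the doubling agreeing at the four representatives are equal -/
theorem eq_of_vals {α : Type*} (f f' : GolayPt → α)
    (h : ∀ t : ZMod 23, f (some (2 * t)) = f (some t))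
    (h' : ∀ t : ZMod 23, f' (some (2 * t)) = f' (some t))
    (hn : f none = f' none) (h0 : f (some 0) = f' (some 0)) (h1 : f (some 1) = f' (some 1))
    (h5 : f (some 5) = f' (some 5)) : f = f' := by
  funext i
  cases i with
  | none => exact hn
  | some t =>
    rw [val_cls f h t, val_cls f' h' t]
    rcases cls_cases t with e | e | e <;> rw [e]
    · exact h0
    · exact h1
    · exact h5

/-! ### two Diophantine systems -/

theorem dioph_omega (a b c d : ℤ) (hn : a ^ 2 + b ^ 2 + 11 * c ^ 2 + 11 * d ^ 2 = 32)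
    (hs : a + b + 11 * c + 11 * d - 4 * a = -8) :
    (a = 4 ∧ b = 4 ∧ c = 0 ∧ d = 0) ∨ (a = 3 ∧ b = 1 ∧ c = 1 ∧ d = -1) ∨
      (a = 3 ∧ b = 1 ∧ c = -1 ∧ d = 1) := by
  have hc1 : -1 ≤ c := by nlinarith [sq_nonneg a, sq_nonneg b, sq_nonneg d]
  have hc2 : c ≤ 1 := by nlinarith [sq_nonneg a, sq_nonneg b, sq_nonneg d]
  have hd1 : -1 ≤ d := by nlinarith [sq_nonneg a, sq_nonneg b, sq_nonneg c]
  have hd2 : d ≤ 1 := by nlinarith [sq_nonneg a, sq_nonneg b, sq_nonneg c]
  have ha1 : -5 ≤ a := by nlinarith [sq_nonneg b, sq_nonneg c, sq_nonneg d]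
  have ha2 : a ≤ 5 := by nlinarith [sq_nonneg b, sq_nonneg c, sq_nonneg d]
  have hb : b = 3 * a - 8 - 11 * c - 11 * d := by linarith
  subst hb
  interval_cases c <;> interval_cases d <;> interval_cases a <;> simp_all

theorem dioph_Z (a b c d : ℤ) (hn : a ^ 2 + b ^ 2 + 11 * c ^ 2 + 11 * d ^ 2 = 32)
    (h0 : 4 * a + 4 * b = 0)
    (hs : a + b + 11 * c + 11 * d - 4 * a = 16) :
    a = -4 ∧ b = 4 ∧ c = 0 ∧ d = 0 := by
  have hc1 : -1 ≤ c := by nlinarith [sq_nonneg a, sq_nonneg b, sq_nonneg d]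
  have hc2 : c ≤ 1 := by nlinarith [sq_nonneg a, sq_nonneg b, sq_nonneg d]
  have hd1 : -1 ≤ d := by nlinarith [sq_nonneg a, sq_nonneg b, sq_nonneg c]
  have hd2 : d ≤ 1 := by nlinarith [sq_nonneg a, sq_nonneg b, sq_nonneg c]
  have ha1 : -5 ≤ a := by nlinarith [sq_nonneg b, sq_nonneg c, sq_nonneg d]
  have ha2 : a ≤ 5 := by nlinarith [sq_nonneg b, sq_nonneg c, sq_nonneg d]
  have hb : b = -a := by linarith
  subst hb
  interval_cases c <;> interval_cases d <;> interval_cases a <;> simp_all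

/-! ### vectors fixed by the element of order 11 -/

theorem elC_fixed_step {y : ↥leechLattice} (hC : (elC : ↥Co0) • y = y) (t : ZMod 23) :
    y.1 (some (2 * t)) = y.1 (some t) := by
  rw [elC_val] at hC
  exact fixed_apply hC (some t)

theorem fixC_sqNorm {y : ↥leechLattice} (hC : (elC : ↥Co0) • y = y) :
    sqNorm (y : IVec) = y.1 none ^ 2 + y.1 (some 0) ^ 2 + 11 * y.1 (some 1) ^ 2 +
      11 * y.1 (some 5) ^ 2 := by
  unfold sqNorm
  exact sum_of_mu23 (fun i => y.1 i ^ 2) (fun t => by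
    show y.1 (some (2 * t)) ^ 2 = y.1 (some t) ^ 2
    rw [elC_fixed_step hC])

theorem fixC_dot_v1 {y : ↥leechLattice} (hC : (elC : ↥Co0) • y = y) :
    dotInt (v1L : IVec) (y : IVec) = y.1 none + y.1 (some 0) + 11 * y.1 (some 1) +
      11 * y.1 (some 5) - 4 * y.1 none := by
  show dotInt (oddBase none) y.1 = _
  rw [dotInt_oddBase, sum_of_mu23 y.1 (elC_fixed_step hC)]

set_option maxRecDepth 100000 in
theorem elC_x0 : (elC : ↥Co0) • x0L = x0L := by
  apply Subtype.ext
  rw [acts_elC.run (by decide +kernel) x0_list, show runW [.P tM sM] lx0 = lx0 by decide +kernel]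
  exact x0_list.symm

set_option maxRecDepth 100000 in
theorem elC_z0 : (elC : ↥Co0) • z0L = z0L := by
  apply Subtype.ext
  rw [acts_elC.run (by decide +kernel) z0_list, show runW [.P tM sM] lz0 = lz0 by decide +kernel]
  exact z0_list.symm

set_option maxRecDepth 100000 in
theorem elC_wL : (elC : ↥Co0) • wL = wL := by
  apply Subtype.ext
  rw [acts_elC.run (by decide +kernel) wL_list, show runW [.P tM sM] lw = lw by decide +kernel]
  exact wL_list.symm

set_option maxRecDepth 100000 in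
theorem elD_x0 : (elD : ↥Co0) • x0L = x0L := by
  apply Subtype.ext
  rw [acts_elD.run (by decide +kernel) x0_list, show runW [.P tC sC] lx0 = lx0 by decide +kernel]
  exact x0_list.symm

set_option maxRecDepth 100000 in
theorem elD_wL : (elD : ↥Co0) • wL = wL := by
  apply Subtype.ext
  rw [acts_elD.run (by decide +kernel) wL_list, show runW [.P tC sC] lw = lw by decide +kernel]
  exact wL_list.symm

theorem x0_vals : x0L.1 none = 4 ∧ x0L.1 (some 0) = 4 ∧ x0L.1 (some 1) = 0 ∧
    x0L.1 (some 5) = 0 := by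
  rw [x0_list]
  decide +kernel

theorem z0_vals : z0L.1 none = -4 ∧ z0L.1 (some 0) = 4 ∧ z0L.1 (some 1) = 0 ∧
    z0L.1 (some 5) = 0 := by
  rw [z0_list]
  decide +kernel

theorem wL_vals : wL.1 none = 3 ∧ wL.1 (some 0) = 1 ∧ wL.1 (some 1) = 1 ∧
    wL.1 (some 5) = -1 := by
  rw [wL_list]
  decide +kernel

theorem x0_ne_wL : x0L ≠ wL := by
  intro h
  have h1 := x0_vals.1
  rw [h, wL_vals.1] at h1
  norm_num at h1

set_option maxRecDepth 100000 in
theorem base_facts : sqNorm (x0L : IVec) = 32 ∧ dotInt (v1L : IVec) (x0L : IVec) = -8 ∧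
    sqNorm (z0L : IVec) = 32 ∧ dotInt (x0L : IVec) (z0L : IVec) = 0 ∧
    dotInt (v1L : IVec) (z0L : IVec) = 16 := by
  rw [v1_list, x0_list, z0_list]
  decide +kernel

/-- the minimal vectors fixed by `elC` with inner product `-8` with `(-3, 1^23)` -/
theorem fixC_omega_cases (y : ↥leechLattice) (hC : (elC : ↥Co0) • y = y)
    (hn : sqNorm (y : IVec) = 32) (hd : dotInt (v1L : IVec) (y : IVec) = -8) :
    y = x0L ∨ y = wL := by
  have h1 := fixC_sqNorm hC
  rw [hn] at h1
  have h2 := fixC_dot_v1 hC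
  rw [hd] at h2
  rcases dioph_omega _ _ _ _ h1.symm h2.symm with ⟨ha, hb, hc, hd'⟩ | ⟨ha, hb, hc, hd'⟩ |
    ⟨ha, hb, hc, hd'⟩
  · left
    apply Subtype.ext
    apply eq_of_vals _ _ (elC_fixed_step hC) (elC_fixed_step elC_x0)
    · rw [ha, x0_vals.1]
    · rw [hb, x0_vals.2.1]
    · rw [hc, x0_vals.2.2.1]
    · rw [hd', x0_vals.2.2.2]
  · right
    apply Subtype.ext
    apply eq_of_vals _ _ (elC_fixed_step hC) (elC_fixed_step elC_wL)
    · rw [ha, wL_vals.1]
    · rw [hb, wL_vals.2.1]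
    · rw [hc, wL_vals.2.2.1]
    · rw [hd', wL_vals.2.2.2]
  · exfalso
    have h8 := Cfsg.Agent.Helper26.eight_dvd_dotInt wL.2 y.2
    have h12 : dotInt (wL : IVec) (y : IVec) = -12 := by
      unfold dotInt
      rw [sum_of_mu23 (fun i => wL.1 i * y.1 i) (fun t => by
        show wL.1 (some (2 * t)) * y.1 (some (2 * t)) = wL.1 (some t) * y.1 (some t)
        rw [elC_fixed_step hC, elC_fixed_step elC_wL])]
      rw [ha, hb, hc, hd', wL_vals.1, wL_vals.2.1, wL_vals.2.2.1, wL_vals.2.2.2]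
      norm_num
    rw [h12] at h8
    norm_num at h8

/-- the minimal vector fixed by `elC`, orthogonal to `(4, 4, 0^22)`, with inner product `16`
with `(-3, 1^23)` -/
theorem fixC_Z_eq (y : ↥leechLattice) (hC : (elC : ↥Co0) • y = y)
    (hn : sqNorm (y : IVec) = 32) (h0 : dotInt (x0L : IVec) (y : IVec) = 0)
    (hd : dotInt (v1L : IVec) (y : IVec) = 16) : y = z0L := by
  have h1 := fixC_sqNorm hC
  rw [hn] at h1
  have h2 := fixC_dot_v1 hC
  rw [hd] at h2
  have h3 := dot_x0 y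
  rw [h0] at h3
  obtain ⟨ha, hb, hc, hd'⟩ := dioph_Z _ _ _ _ h1.symm h3.symm h2.symm
  apply Subtype.ext
  apply eq_of_vals _ _ (elC_fixed_step hC) (elC_fixed_step elC_z0)
  · rw [ha, z0_vals.1]
  · rw [hb, z0_vals.2.1]
  · rw [hc, z0_vals.2.2.1]
  · rw [hd', z0_vals.2.2.2]

set_option maxRecDepth 100000 in
theorem vec8_none_eq' : vec8 none = x0L - z0L := by
  apply Subtype.ext
  rw [AddSubgroup.coe_sub, x0_list, z0_list, vec8_eq_vecOf]
  decide +kernel

/-! ### elements of `G2` fixing `(4, 4, 0^22)` -/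

theorem G2_smul_v1 (g : ↥G2) : (g : ↥Co0) • v1L = v1L := mem_stabilizer_iff.mp g.2

/-- an element fixing `(4, 4, 0^22)` and mapping `(-4, 4, 0^22)` to a vector fixed by `elC`
is a coordinate permutation -/
theorem exists_m23_of_fix_x0 (g : ↥G2) (hx : (g : ↥Co0) • x0L = x0L)
    (hC : (elC : ↥Co0) • ((g : ↥Co0) • z0L) = (g : ↥Co0) • z0L) : ∃ σ : ↥M23p, g = m23 σ := by
  have hgv := G2_smul_v1 g
  have hz : (g : ↥Co0) • z0L = z0L := by
    apply fixC_Z_eq _ hC
    · rw [co0_sqNorm]; exact base_facts.2.2.1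
    · have := co0_dotInt (g : ↥Co0) x0L z0L
      rw [hx] at this
      rw [this]; exact base_facts.2.2.2.1
    · have := co0_dotInt (g : ↥Co0) v1L z0L
      rw [hgv] at this
      rw [this]; exact base_facts.2.2.2.2
  have h8 : (g : ↥Co0) • vec8 none = vec8 none := by
    rw [vec8_none_eq', co0_smul_sub, hx, hz]
  exact exists_m23_of_fix8 g h8

theorem cent_elC_of_fix (g : ↥G2) (hx : (g : ↥Co0) • x0L = x0L) (hg : g * elC = elC * g) :
    g ∈ Subgroup.zpowers elC := by
  have hC : (elC : ↥Co0) • ((g : ↥Co0) • z0L) = (g : ↥Co0) • z0L := by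
    rw [← mul_smul, ← Subgroup.coe_mul, ← hg, Subgroup.coe_mul, mul_smul, elC_z0]
  obtain ⟨σ, rfl⟩ := exists_m23_of_fix_x0 g hx hC
  have h1 : σ * cP = cP * σ := by
    apply m23_injective
    rw [map_mul, map_mul]
    exact hg
  have h2 : σ.1 * mu23 = mu23 * σ.1 := congrArg Subtype.val h1
  have h3 := mem_Q23_of_commute_fix σ.2.1 (mem_stabilizer_iff.mp σ.2.2) h2
  obtain ⟨n, hn⟩ := Subgroup.mem_zpowers_iff.mp h3
  have h4 : σ = cP ^ n := by
    apply Subtype.ext
    rw [Subgroup.coe_zpow]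
    exact hn.symm
  rw [h4, map_zpow]
  exact Subgroup.zpow_mem _ (Subgroup.mem_zpowers _) _

/-- the image of `(4, 4, 0^22)` under an element normalising `⟨elC⟩` -/
theorem smul_x0_cases (g : ↥G2) (c' : ↥G2) (hc' : (c' : ↥Co0) • x0L = x0L)
    (hg : elC * g = g * c') : (g : ↥Co0) • x0L = x0L ∨ (g : ↥Co0) • x0L = wL := by
  apply fixC_omega_cases
  · rw [← mul_smul, ← Subgroup.coe_mul, hg, Subgroup.coe_mul, mul_smul, hc']
  · rw [co0_sqNorm]; exact base_facts.1
  · have := co0_dotInt (g : ↥Co0) v1L x0L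
    rw [G2_smul_v1] at this
    rw [this]; exact base_facts.2.1

theorem smul_wL_cases (g : ↥G2) (c' : ↥G2) (hc' : (c' : ↥Co0) • wL = wL)
    (hg : elC * g = g * c') : (g : ↥Co0) • wL = x0L ∨ (g : ↥Co0) • wL = wL := by
  have hwn : sqNorm (wL : IVec) = 32 := by
    unfold wL; rw [co0_sqNorm]; exact base_facts.1
  have hwd : dotInt (v1L : IVec) (wL : IVec) = -8 := by
    have := co0_dotInt eE v1L x0L
    rw [eE_v1] at this
    unfold wL
    rw [this]; exact base_facts.2.1
  apply fixC_omega_cases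
  · rw [← mul_smul, ← Subgroup.coe_mul, hg, Subgroup.coe_mul, mul_smul, hc']
  · rw [co0_sqNorm]; exact hwn
  · have := co0_dotInt (g : ↥Co0) v1L wL
    rw [G2_smul_v1] at this
    rw [this]; exact hwd

/-- the weak form of the centraliser of `elC` -/
theorem weak_cent_elC (z : ↥G2) (hz : z * elC = elC * z) (hpow : (elD * z) ^ 5 = 1) :
    z ∈ Subgroup.zpowers elC := by
  rcases smul_x0_cases z elC elC_x0 hz.symm with hx | hx
  · exact cent_elC_of_fix z hx hz
  · exfalso
    have hw : (z : ↥Co0) • wL = x0L := by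
      rcases smul_wL_cases z elC elC_wL hz.symm with h | h
      · exact h
      · exfalso
        have := MulAction.injective (z : ↥Co0) (hx.trans h.symm)
        exact x0_ne_wL this
    -- the product swaps the two vectors
    have s1 : ((elD * z : ↥G2) : ↥Co0) • x0L = wL := by
      rw [Subgroup.coe_mul, mul_smul, hx, elD_wL]
    have s2 : ((elD * z : ↥G2) : ↥Co0) • wL = x0L := by
      rw [Subgroup.coe_mul, mul_smul, hw, elD_x0]
    have s5 : (((elD * z) ^ 5 : ↥G2) : ↥Co0) • x0L = wL := by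
      rw [Subgroup.coe_pow, pow_succ, pow_succ, pow_succ, pow_succ, pow_one, mul_smul, mul_smul,
        mul_smul, mul_smul, s1, s2, s1, s2, s1]
    rw [hpow, Subgroup.coe_one, one_smul] at s5
    exact x0_ne_wL s5

end Cfsg.Agent.Helper26.OutCo2
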