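import Cfsg.Agent.Helper8.McLSimpleB

/-!
# Maximality of the point stabiliser in the action on the 2025 vectors

For a pair `(v, w)` of minimal vectors with inner product `-8`, a subgroup containing the
stabiliser of the triple `(v, w, a)`, `a` one of the 2025 vectors, and an element fixing `v`, `w`
and moving `a`, contains the stabiliser of the pair.
-/

set_option autoImplicit false

namespace Cfsg.Agent.Helper26.OutCo2

open Cfsg Cfsg.Agent.Helper8 MulAction

theorem le_of_coatom_std (K : Subgroup ↥Co0) (a : ↥leechLattice) (ha : a ∈ cfg2 v0L w0L)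
    (h1 : ∀ g : ↥Co0, g • v0L = v0L → g • w0L = w0L → g • a = a → g ∈ K)
    (k : ↥Co0) (hk : k ∈ K) (hkv : k • v0L = v0L) (hkw : k • w0L = w0L) (hka : k • a ≠ a) :
    ∀ g : ↥Co0, g • v0L = v0L → g • w0L = w0L → g ∈ K := by
  have hnt : Nontrivial ↥omega2 := by
    apply Finite.one_lt_card_iff_nontrivial.mp
    rw [card_omega2]
    norm_num
  have hco := IsPreprimitive.isCoatom_stabilizer_of_isPreprimitive (G := ↥GM)
    (⟨a, ha⟩ : ↥omega2)
  have hle : stabilizer ↥GM (⟨a, ha⟩ : ↥omega2) ≤ K.subgroupOf GM := by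
    intro m hm
    rw [Subgroup.mem_subgroupOf]
    have hm' : (m : ↥Co0) • a = a := congrArg Subtype.val (mem_stabilizer_iff.mp hm)
    exact h1 m ((mem_GM _).1 m.2).1 ((mem_GM _).1 m.2).2 hm'
  rcases hco.le_iff.mp hle with h | h
  · intro g hgv hgw
    have hg : g ∈ GM := (mem_GM g).2 ⟨hgv, hgw⟩
    have hmem : (⟨g, hg⟩ : ↥GM) ∈ K.subgroupOf GM := by
      rw [h]
      exact Subgroup.mem_top _
    exact Subgroup.mem_subgroupOf.mp hmem
  · exfalso
    have hkG : k ∈ GM := (mem_GM k).2 ⟨hkv, hkw⟩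
    have hmem : (⟨k, hkG⟩ : ↥GM) ∈ K.subgroupOf GM := Subgroup.mem_subgroupOf.mpr hk
    rw [h, mem_stabilizer_iff] at hmem
    exact hka (congrArg Subtype.val hmem)

theorem le_of_coatom (v w a : ↥leechLattice) (hv : sqNorm (v : IVec) = 32)
    (hw : sqNorm (w : IVec) = 32) (hvw : dotInt (v : IVec) (w : IVec) = -8) (ha : a ∈ cfg2 v w)
    (K : Subgroup ↥Co0)
    (h1 : ∀ g : ↥Co0, g • v = v → g • w = w → g • a = a → g ∈ K)
    (k : ↥Co0) (hk : k ∈ K) (hkv : k • v = v) (hkw : k • w = w) (hka : k • a ≠ a) :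
    ∀ g : ↥Co0, g • v = v → g • w = w → g ∈ K := by
  obtain ⟨t, htv, htw⟩ := exists_to_std v w hv hw hvw
  have hv' : t⁻¹ • v0L = v := inv_smul_eq_iff.mpr htv.symm
  have hw' : t⁻¹ • w0L = w := inv_smul_eq_iff.mpr htw.symm
  -- the conjugate subgroup
  let K' : Subgroup ↥Co0 := K.comap (MulAut.conj t⁻¹).toMonoidHom
  have hK' : ∀ x : ↥Co0, x ∈ K' ↔ t⁻¹ * x * t ∈ K := by
    intro x
    show (MulAut.conj t⁻¹) x ∈ K ↔ _
    rw [MulAut.conj_apply, inv_inv]
  have key := le_of_coatom_std K' (t • a)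
    (by rw [← htv, ← htw, mem_cfg2_smul]; exact ha)
    (by
      intro g hgv hgw hga
      rw [hK']
      apply h1
      · rw [mul_smul, mul_smul, htv, hgv, hv']
      · rw [mul_smul, mul_smul, htw, hgw, hw']
      · rw [mul_smul, mul_smul, hga, inv_smul_smul])
    (t * k * t⁻¹)
    (by
      rw [hK']
      have : t⁻¹ * (t * k * t⁻¹) * t = k := by group
      rw [this]
      exact hk)
    (by rw [mul_smul, mul_smul, hv', hkv, htv])
    (by rw [mul_smul, mul_smul, hw', hkw, htw])
    (by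
      rw [mul_smul, mul_smul, inv_smul_smul]
      intro h
      exact hka (MulAction.injective t h))
  intro g hgv hgw
  have h2 := key (t * g * t⁻¹)
    (by rw [mul_smul, mul_smul, hv', hgv, htv])
    (by rw [mul_smul, mul_smul, hw', hgw, htw])
  rw [hK'] at h2
  have : t⁻¹ * (t * g * t⁻¹) * t = g := by group
  rw [this] at h2
  exact h2

end Cfsg.Agent.Helper26.OutCo2
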