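import Cfsg.Agent.Helper26.OutCo2C
import Cfsg.Agent.Helper26.OutCo2P

/-!
# All automorphisms of the stabiliser of `(-3, 1^23)` are inner

The stabiliser `G2` is generated by `elA`, `elC`, `elD` and the involution; an automorphism
fixing `elC`, `elD` and the subgroup `⟨elA⟩` fixes the four generators, hence is trivial; the
Sylow chain lemma then shows that every automorphism is inner.
-/

set_option autoImplicit false

namespace Cfsg.Agent.Helper26.OutCo2

open Cfsg Cfsg.Agent.Helper7 Cfsg.Agent.Helper8 Cfsg.Agent.Helper27 Cfsg.Agent.Helper92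
  Cfsg.Agent.Helper93.HSL MulAction

/-! ### generation -/

theorem sqNorm_v1 : sqNorm (v1L : IVec) = 32 := Cfsg.Agent.Helper26.sqNorm_oddBase none

/-- the stabiliser of the triple lies in `K0` -/
theorem mem_K0_of_fix3 (g : ↥Co0) (hx : g • x0L = x0L) (hv : g • v1L = v1L) (hz : g • z0L = z0L) :
    g ∈ K0 := by
  have h8 : g • vec8 none = vec8 none := by
    rw [vec8_none_eq', co0_smul_sub, hx, hz]
  obtain ⟨σ, hσ⟩ := exists_m23_of_fix8 (⟨g, mem_stabilizer_iff.mpr hv⟩ : ↥G2) h8
  have : g = ((m23 σ : ↥G2) : ↥Co0) := congrArg Subtype.val hσ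
  rw [this]
  exact m23_mem_K0 σ

/-- the stabiliser of the pair lies in `K0` -/
theorem mem_K0_of_fix2 : ∀ g : ↥Co0, g • x0L = x0L → g • v1L = v1L → g ∈ K0 := by
  apply le_of_coatom x0L v1L z0L base_facts.1 sqNorm_v1
    (by rw [dotInt_comm]; exact base_facts.2.1)
    ⟨base_facts.2.2.1, base_facts.2.2.2.1, base_facts.2.2.2.2⟩ K0 mem_K0_of_fix3 jE jE_mem_K0
    jE_x0 jE_v1 jE_z0

theorem wit_all (i : Fin 5) :
    ∃ g ∈ K0, dotInt (x0L : IVec) ((g • x0L : ↥leechLattice) : IVec) = Cfsg.Agent.Helper26.c2dot i := by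
  fin_cases i
  · exact witm16
  · exact wit16
  · exact witm8
  · exact wit8
  · exact wit0

theorem x0_mem_shell : x0L ∈ Cfsg.Agent.Helper26.shellDot 32 (-8) v1L :=
  ⟨base_facts.1, base_facts.2.1⟩

theorem smul_x0_mem_shell (g : ↥Co0) (hg : g • v1L = v1L) :
    g • x0L ∈ Cfsg.Agent.Helper26.shellDot 32 (-8) v1L := by
  refine ⟨(co0_sqNorm g x0L).trans base_facts.1, ?_⟩
  have := co0_dotInt g v1L x0L
  rw [hg] at this
  rw [this]
  exact base_facts.2.1

theorem G2_le_K0 : G2 ≤ K0 := by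
  intro g hg
  have hgv : g • v1L = v1L := mem_stabilizer_iff.mp hg
  obtain ⟨y, -, -, hyd, hU⟩ := Cfsg.Agent.Helper26.c2_main v1L x0L sqNorm_v1 x0_mem_shell
  have hp := smul_x0_mem_shell g hgv
  rw [hU] at hp
  rcases hp with hp | hp
  · exact mem_K0_of_fix2 g hp hgv
  · obtain ⟨i, h1, h1v, h1x, h1y⟩ := Set.mem_iUnion.mp hp
    obtain ⟨k, hk, hkd⟩ := wit_all i
    have hkv : k • v1L = v1L := mem_stabilizer_iff.mp (K0_le_G2 hk)
    have hq := smul_x0_mem_shell k hkv
    rw [hU] at hq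
    rcases hq with hq | hq
    · exfalso
      rw [Set.mem_singleton_iff] at hq
      rw [hq, dotInt_self, base_facts.1] at hkd
      exact Cfsg.Agent.Helper26.c2dot_ne i hkd.symm
    · obtain ⟨j, h2, h2v, h2x, h2y⟩ := Set.mem_iUnion.mp hq
      have hdj : dotInt (x0L : IVec) ((k • x0L : ↥leechLattice) : IVec) =
          Cfsg.Agent.Helper26.c2dot j := by
        rw [← hyd j, ← h2y]
        have := co0_dotInt h2 x0L (y j)
        rw [h2x] at this
        exact this
      have hji : j = i := Cfsg.Agent.Helper26.c2dot_inj (hdj.symm.trans hkd)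
      subst hji
      -- the element moving `x0` as `g` does
      have hm1 : h1 * h2⁻¹ ∈ K0 := by
        apply mem_K0_of_fix2
        · rw [mul_smul, inv_smul_eq_iff.mpr h2x.symm, h1x]
        · rw [mul_smul, inv_smul_eq_iff.mpr h2v.symm, h1v]
      have hgx : g • x0L = (h1 * h2⁻¹ * k) • x0L := by
        rw [mul_smul, mul_smul, ← h2y, inv_smul_smul, h1y]
      have hm2 : (h1 * h2⁻¹ * k)⁻¹ * g ∈ K0 := by
        apply mem_K0_of_fix2
        · rw [mul_smul, hgx, inv_smul_smul]
        · rw [mul_smul, hgv, inv_smul_eq_iff]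
          rw [mul_smul, mul_smul, hkv, inv_smul_eq_iff.mpr h2v.symm, h1v]
      have : g = (h1 * h2⁻¹ * k) * ((h1 * h2⁻¹ * k)⁻¹ * g) := by group
      rw [this]
      exact K0.mul_mem (K0.mul_mem hm1 hk) hm2

theorem K0_eq_G2 : K0 = G2 := le_antisymm K0_le_G2 G2_le_K0

theorem closure_G2 : Subgroup.closure ({elA, elC, elD, eG} : Set ↥G2) = ⊤ := by
  apply Subgroup.map_injective G2.subtype_injective
  rw [MonoidHom.map_closure, ← MonoidHom.range_eq_map, Subgroup.range_subtype]
  rw [Set.image_insert_eq, Set.image_insert_eq, Set.image_insert_eq, Set.image_singleton]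
  exact K0_eq_G2

/-! ### the involution and the elements of order 11 and 5 -/

theorem eG_mul_elC : eG * elC = elC⁻¹ * eG := by
  have h : elC * (eG * elC) = eG := Subtype.ext eE_rel_C
  exact eq_inv_mul_of_mul_eq h

theorem eG_conj_elC : eG * elC * eG⁻¹ = elC⁻¹ := by
  rw [eG_mul_elC, mul_inv_cancel_right]

theorem eG_comm_elD : eG * elD = elD * eG := Subtype.ext eE_rel_D

theorem elC_mul_of_conj {g : ↥G2} (h : g * elC * g⁻¹ = elC⁻¹) : elC * g = g * elC⁻¹ := by
  have h1 : g * elC = elC⁻¹ * g := by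
    rw [← h]
    group
  calc elC * g = elC * (g * elC) * elC⁻¹ := by group
    _ = elC * (elC⁻¹ * g) * elC⁻¹ := by rw [h1]
    _ = g * elC⁻¹ := by group

theorem elC_inv_x0 : ((elC⁻¹ : ↥G2) : ↥Co0) • x0L = x0L := by
  rw [Subgroup.coe_inv, inv_smul_eq_iff, elC_x0]

theorem elC_inv_z0 : ((elC⁻¹ : ↥G2) : ↥Co0) • z0L = z0L := by
  rw [Subgroup.coe_inv, inv_smul_eq_iff, elC_z0]

theorem perm_of_invert (g : ↥G2) (h : g * elC * g⁻¹ = elC⁻¹) :
    g • x0L = x0L ∨ g • x0L = wL :=
  smul_x0_cases g elC⁻¹ elC_inv_x0 (elC_mul_of_conj h)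

theorem mu23_inv : mu23⁻¹ = mu23 ^ 10 := by
  apply inv_eq_of_mul_eq_one_right
  rw [← pow_succ', mu23_pow_eleven]

theorem not_invert_of_fix (g : ↥G2) (hx : g • x0L = x0L) : g * elC * g⁻¹ ≠ elC⁻¹ := by
  intro h
  have hx' : (g : ↥Co0) • x0L = x0L := hx
  have hC : (elC : ↥Co0) • ((g : ↥Co0) • z0L) = (g : ↥Co0) • z0L := by
    rw [← mul_smul, ← Subgroup.coe_mul, elC_mul_of_conj h, Subgroup.coe_mul, mul_smul, elC_inv_z0]
  obtain ⟨σ, rfl⟩ := exists_m23_of_fix_x0 g hx' hC
  have h1 : σ * cP * σ⁻¹ = cP⁻¹ := by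
    apply m23_injective
    rw [map_mul, map_mul, map_inv, map_inv]
    exact h
  have h2 : σ.1 * mu23 * σ.1⁻¹ = mu23⁻¹ := congrArg Subtype.val h1
  have hfix : σ.1 none = none := mem_stabilizer_iff.mp σ.2.2
  have hN : σ.1 ∈ NQ23 := by
    apply mem_NQ23_of_conj σ.2.1 hfix
    rw [h2]
    exact Subgroup.inv_mem _ (Subgroup.mem_zpowers _)
  have h3 := mem_goodTabL (tab_mem_goodTabs hN)
  have tg := isTable_tabOfFun σ.1
  have hc : σ.1 * mu23 = mu23 ^ 10 * σ.1 := by
    rw [← mu23_inv, ← h2]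
    group
  have e : compT (tabOfFun σ.1) tM = compT (tpow tM 10) (tabOfFun σ.1) := by
    have t1 := tg.mul isTable_mu23
    have t2 := (isTable_tpow isTable_mu23 10).mul tg
    rw [hc] at t1
    exact IsTable.eq_of_eq t1 t2
  exact centChk' _ h3 e

theorem cent_of_fix (g : ↥G2) (hx : g • x0L = x0L) (hg : g * elC = elC * g) :
    g ∈ Subgroup.zpowers elC := cent_elC_of_fix g hx hg

/-! ### the relators -/

set_option maxRecDepth 100000 in
theorem rels_hold : relsHold tA tM tC rels23 = true := by decide +kernel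

set_option maxRecDepth 100000 in
theorem rels_pin : ∀ j < 23, relsHold (tpow tA j) tM tC rels23 = true → j = 1 := by
  decide +kernel

theorem psi_elA (ψ : MulAut ↥G2) (h1 : ψ elA ∈ Subgroup.zpowers elA) (h2 : ψ elC = elC)
    (h3 : ψ elD = elD) : ψ elA = elA := by
  obtain ⟨j, hj, hψ⟩ := exists_lt_pow_of_mem_zpowers (by norm_num) elA_pow h1
  have hr1 := (relsHold_iff isTable_trP_one isTable_mu23 isTable_cubeTwist rels23).mp rels_hold
  have hr2 : ∀ r ∈ rels23, evalW3 (trP 1 ^ j) mu23 cubeTwist r.1 ^ r.2 = 1 := by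
    intro r hr
    -- the relator in `M23`
    have e0 : evalW3 aP cP dP r.1 ^ r.2 = 1 := by
      apply Subtype.ext
      rw [Subgroup.coe_pow, ← Subgroup.coe_subtype, map_evalW3 M23p.subtype]
      exact hr1 r hr
    -- in `G2`
    have e1 : evalW3 elA elC elD r.1 ^ r.2 = 1 := by
      have := congrArg m23 e0
      rw [map_pow, map_one, map_evalW3 m23] at this
      exact this
    have e2 := congrArg ψ e1
    rw [map_pow, map_one] at e2
    have e3 : ψ (evalW3 elA elC elD r.1) = evalW3 (elA ^ j) elC elD r.1 := by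
      have := map_evalW3 (ψ : ↥G2 ≃* ↥G2).toMonoidHom elA elC elD r.1
      have this' : ψ (evalW3 elA elC elD r.1) = evalW3 (ψ elA) (ψ elC) (ψ elD) r.1 := this
      rw [this', hψ, h2, h3]
    rw [e3] at e2
    -- back to `M23`
    have e4 : evalW3 (aP ^ j) cP dP r.1 ^ r.2 = 1 := by
      apply m23_injective
      rw [map_pow, map_one, map_evalW3 m23, map_pow]
      exact e2
    have e5 := congrArg Subtype.val e4
    rw [Subgroup.coe_pow, ← Subgroup.coe_subtype, map_evalW3 M23p.subtype] at e5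
    exact e5
  have hr3 := (relsHold_iff (isTable_tpow isTable_trP_one j) isTable_mu23 isTable_cubeTwist
    rels23).mpr hr2
  have hj1 := rels_pin j hj hr3
  rw [hψ, hj1, pow_one]

/-! ### the final step and the theorem -/

theorem fin_step (ψ : MulAut ↥G2) (h1 : ψ elA ∈ Subgroup.zpowers elA) (h2 : ψ elC = elC)
    (h3 : ψ elD = elD) : ψ ∈ (MulAut.conj : ↥G2 →* MulAut ↥G2).range := by
  have hA := psi_elA ψ h1 h2 h3
  have he' : ψ eG * elC * (ψ eG)⁻¹ = elC⁻¹ := by
    have := congrArg ψ eG_conj_elC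
    rwa [map_mul, map_mul, map_inv, map_inv, h2] at this
  have he'D : ψ eG * elD = elD * ψ eG := by
    have := congrArg ψ eG_comm_elD
    rwa [map_mul, map_mul, h3] at this
  have hE : ψ eG = eG :=
    OutAbs.pin_of_swap elC elD eG (ψ eG) x0L wL perm_of_invert not_invert_of_fix cent_of_fix
      (fun z hz hzD => OutAbs.eq_one_of_commute_cube orderOf_elC elD_conj_elC hz hzD)
      eG_conj_elC he' eG_comm_elD he'D
  have hone : ψ = 1 := by
    have hmon : (ψ : ↥G2 ≃* ↥G2).toMonoidHom = MonoidHom.id ↥G2 := by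
      apply MonoidHom.eq_of_eqOn_dense closure_G2
      rintro x (rfl | rfl | rfl | hx)
      · exact hA
      · exact h2
      · exact h3
      · rw [Set.mem_singleton_iff] at hx
        rw [hx]
        exact hE
    apply MulEquiv.ext
    intro x
    exact congrArg (fun f : ↥G2 →* ↥G2 => f x) hmon
  rw [hone]
  exact Subgroup.one_mem _

theorem inn_G2_eq_top : (MulAut.conj : ↥G2 →* MulAut ↥G2).range = ⊤ := by
  have : Fact (Nat.Prime 23) := ⟨by norm_num⟩
  exact OutAbs.inn_eq_top_of_chain' 23 elA elC elD 2 3 5 orderOf_elA not_sq_dvd_card_G2 cent_elA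
    elC_conj_elA normalises_elA elD_conj_elC normalises_elC elD_pow weak_cent_elC fin_step

end Cfsg.Agent.Helper26.OutCo2
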