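import Cfsg.Agent.Helper26.OutCo2B
import Cfsg.Agent.Helper8.WordCalc

/-!
# The stabiliser of `(-3, 1^23)`: an involution inverting the element of order 11

Elements of `Co0` acting as words in monomial maps and the extra automorphism; the involution
`eE`, given by a word, fixes `(-3, 1^23)`, inverts `elC`, commutes with `elD` and moves
`(4, 4, 0^22)` to `(3, 1^12, -1^11)`.
-/

set_option autoImplicit false

namespace Cfsg.Agent.Helper26.OutCo2

open Cfsg Cfsg.Agent.Helper7 Cfsg.Agent.Helper8 Cfsg.Agent.Helper27 Cfsg.Agent.Helper92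
  Cfsg.Agent.Helper93.HSL MulAction

/-! ### elements acting as words -/

/-- the element acts on the lattice as the word does on vectors -/
def Acts (g : ↥Co0) (W : List Letter) : Prop :=
  ∀ v : ↥leechLattice, ((g • v : ↥leechLattice) : IVec) = semW W v.1

theorem semW_append (W W' : List Letter) (x : IVec) :
    semW (W ++ W') x = semW W' (semW W x) := by
  induction W generalizing x with
  | nil => rfl
  | cons a W ih => exact ih (a.sem x)

theorem Acts.mul {g g' : ↥Co0} {W W' : List Letter} (h : Acts g W) (h' : Acts g' W') :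
    Acts (g' * g) (W ++ W') := by
  intro v
  rw [mul_smul, h', h, semW_append]

theorem Acts.run {g : ↥Co0} {W : List Letter} (h : Acts g W) (hW : okW W = true)
    {v : ↥leechLattice} {l : List ℤ} (hv : (v : IVec) = vecOf l) :
    ((g • v : ↥leechLattice) : IVec) = vecOf (runW W l) := by
  rw [h, hv, vecOf_runW W hW]

/-- the list of `8 e_k` -/
def basisL (k : ℕ) : List ℤ := (List.range 24).map fun i => if i = k then 8 else 0

theorem gIdx_injective : Function.Injective gIdx :=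
  Function.LeftInverse.injective gPt_gIdx

theorem vec8_eq_vecOf (p : GolayPt) :
    ((vec8 p : ↥leechLattice) : IVec) = vecOf (basisL (gIdx p)) := by
  funext q
  unfold basisL
  rw [vecOf_range_map, vec8_val]
  by_cases h : q = p
  · subst h; rw [Pi.single_eq_same, if_pos rfl]
  · rw [Pi.single_eq_of_ne h, if_neg (fun h' => h (gIdx_injective h'))]

theorem Acts.ext {g g' : ↥Co0} {W W' : List Letter} (h : Acts g W) (h' : Acts g' W')
    (hW : okW W = true) (hW' : okW W' = true)
    (H : ∀ k < 24, runW W (basisL k) = runW W' (basisL k)) : g = g' := by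
  apply co0_ext_vec8
  intro p
  apply Subtype.ext
  rw [h.run hW (vec8_eq_vecOf p), h'.run hW' (vec8_eq_vecOf p), H _ (gIdx_lt p)]

theorem acts_perm {t s : List ℕ} (hinv : isInvPair t s = true) (hc : checkM24 s = true) :
    Acts (monoHom ⟨permOfTabs t s, permOfTabs_mem_M24 hinv hc⟩) [.P t s] := by
  intro v
  exact monoCo0_smul _ _ v

theorem pt_eq_gPt (i : ℕ) : pt i = gPt i := by
  unfold pt gPt
  split_ifs with h
  · congr 1
    apply Fin.ext
    exact (ZMod.val_cast_of_lt h).symm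
  · rfl

theorem permOfTabs_eq_of_isTable {t s : List ℕ} {σ : Equiv.Perm GolayPt}
    (hinv : isInvPair t s = true) (hT : IsTable t σ) : permOfTabs t s = σ := by
  apply Equiv.ext
  intro p
  rw [permOfTabs_apply hinv, tabFun, hT.apply, pt_eq_gPt]
  rfl

theorem acts_of_isTable {t s : List ℕ} {σ : Equiv.Perm GolayPt} (hinv : isInvPair t s = true)
    (hT : IsTable t σ) (hσ : σ ∈ M24) : Acts (monoHom ⟨σ, hσ⟩) [.P t s] := by
  intro v
  have e := permOfTabs_eq_of_isTable hinv hT
  show ((monoCo0 hσ Cfsg.Agent.S0390.empty_mem_supports • v : ↥leechLattice) : IVec) =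
    signedPerm (permOfTabs t s) ∅ v.1
  rw [e]
  exact monoCo0_smul _ _ v

/-! ### the three generators as letters -/

/-- the inverse table of the translation -/
def sA : List ℕ := [22, 0, 1, 2, 3, 4, 5, 6, 7, 8, 9, 10, 11, 12, 13, 14, 15, 16, 17, 18, 19, 20,
  21, 23]

/-- the inverse table of the doubling -/
def sM : List ℕ := [0, 12, 1, 13, 2, 14, 3, 15, 4, 16, 5, 17, 6, 18, 7, 19, 8, 20, 9, 21, 10, 22,
  11, 23]

/-- the inverse table of the cube twist -/
def sC : List ℕ := [0, 6, 4, 3, 18, 7, 2, 10, 12, 13, 20, 17, 9, 16, 22, 15, 8, 14, 1, 11, 21, 5,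
  19, 23]

theorem acts_elA : Acts (elA : ↥Co0) [.P tA sA] :=
  acts_of_isTable (by decide +kernel) isTable_trP_one _

theorem acts_elC : Acts (elC : ↥Co0) [.P tM sM] :=
  acts_of_isTable (by decide +kernel) isTable_mu23 _

theorem acts_elD : Acts (elD : ↥Co0) [.P tC sC] :=
  acts_of_isTable (by decide +kernel) isTable_cubeTwist _

/-! ### the involution -/

/-- the word of the involution -/
def wE : List Letter := [
  .P [3, 20, 16, 13, 5, 11, 14, 15, 8, 12, 1, 9, 23, 17, 2, 7, 0, 22, 10, 4, 21, 6, 18, 19] [16, 10, 14, 0, 19, 4, 21, 15, 8, 11, 18, 5, 9, 3, 6, 7, 2, 13, 22, 23, 1, 20, 17, 12],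
  .S 11311219,
  .X,
  .S 5081773,
  .P [2, 6, 8, 18, 23, 7, 22, 10, 17, 13, 20, 1, 21, 14, 0, 9, 11, 5, 12, 4, 15, 16, 19, 3] [14, 11, 0, 23, 19, 17, 1, 5, 2, 15, 7, 16, 18, 9, 13, 20, 21, 8, 3, 22, 10, 12, 6, 4],
  .X,
  .S 4934364,
  .P [1, 6, 17, 15, 8, 21, 18, 16, 14, 12, 13, 11, 4, 20, 23, 19, 9, 5, 3, 2, 7, 0, 22, 10] [21, 0, 19, 18, 12, 17, 1, 20, 4, 16, 23, 11, 9, 10, 8, 3, 7, 2, 6, 15, 13, 5, 22, 14],
  .X,
  .S 12502786,
  .P [18, 23, 17, 22, 8, 13, 21, 19, 12, 2, 11, 1, 20, 5, 4, 14, 0, 6, 3, 16, 15, 7, 9, 10] [16, 11, 9, 18, 14, 13, 17, 21, 4, 22, 23, 10, 8, 5, 15, 20, 19, 2, 0, 7, 12, 6, 3, 1],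
  .X,
  .S 9869772,
  .P [20, 15, 17, 21, 6, 2, 1, 14, 7, 12, 11, 13, 8, 18, 3, 5, 16, 19, 10, 4, 0, 22, 9, 23] [20, 6, 5, 14, 19, 15, 4, 8, 12, 22, 18, 10, 9, 11, 7, 1, 16, 2, 13, 17, 0, 3, 21, 23]]

set_option maxRecDepth 100000 in
theorem wE_ok : okW wE = true := by decide +kernel

/-- the involution -/
noncomputable def eE : ↥Co0 := Classical.choose (exists_co0_word wE wE_ok)

theorem acts_eE : Acts eE wE := Classical.choose_spec (exists_co0_word wE wE_ok)

/-- the vector `(4, 4, 0^22)` -/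
def x0L : ↥leechLattice := Spor.leechU

/-- the vector `(-4, 4, 0^22)` -/
def z0L : ↥leechLattice := -Spor.leechU'

/-- lists of the vectors -/
def lv1 : List ℤ := [1, 1, 1, 1, 1, 1, 1, 1, 1, 1, 1, 1, 1, 1, 1, 1, 1, 1, 1, 1, 1, 1, 1, -3]
def lx0 : List ℤ := [4, 0, 0, 0, 0, 0, 0, 0, 0, 0, 0, 0, 0, 0, 0, 0, 0, 0, 0, 0, 0, 0, 0, 4]
def lz0 : List ℤ := [4, 0, 0, 0, 0, 0, 0, 0, 0, 0, 0, 0, 0, 0, 0, 0, 0, 0, 0, 0, 0, 0, 0, -4]
def lw : List ℤ := [1, 1, 1, 1, 1, -1, 1, -1, 1, 1, -1, -1, 1, 1, -1, -1, 1, -1, 1, -1, -1, -1, -1,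
  3]

theorem eq_vecOf_of_listOf' {x : IVec} {l : List ℤ} (h : listOf x = l) : x = vecOf l := by
  rw [← h, vecOf_listOf]

set_option maxRecDepth 100000 in
theorem v1_list : (v1L : IVec) = vecOf lv1 :=
  eq_vecOf_of_listOf' (show listOf (oddBase none) = lv1 by decide +kernel)

set_option maxRecDepth 100000 in
theorem x0_list : (x0L : IVec) = vecOf lx0 :=
  eq_vecOf_of_listOf' (show listOf Spor.vecU = lx0 by decide +kernel)

set_option maxRecDepth 100000 in
theorem z0_list : (z0L : IVec) = vecOf lz0 :=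
  eq_vecOf_of_listOf' (show listOf (-Spor.vecU') = lz0 by decide +kernel)

set_option maxRecDepth 100000 in
theorem wE_v1 : runW wE lv1 = lv1 := by decide +kernel

set_option maxRecDepth 100000 in
theorem wE_x0 : runW wE lx0 = lw := by decide +kernel

set_option maxRecDepth 100000 in
theorem wE_w : runW wE lw = lx0 := by decide +kernel

theorem eE_v1 : eE • v1L = v1L := by
  apply Subtype.ext
  rw [acts_eE.run wE_ok v1_list, wE_v1]
  exact v1_list.symm

/-- the image of `(4, 4, 0^22)` under the involution -/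
noncomputable def wL : ↥leechLattice := eE • x0L

theorem wL_list : (wL : IVec) = vecOf lw := by
  unfold wL
  rw [acts_eE.run wE_ok x0_list, wE_x0]

theorem eE_wL : eE • wL = x0L := by
  apply Subtype.ext
  rw [acts_eE.run wE_ok wL_list, wE_w]
  exact x0_list.symm

/-- the involution as an element of `G2` -/
noncomputable def eG : ↥G2 := ⟨eE, mem_stabilizer_iff.mpr eE_v1⟩

set_option maxRecDepth 100000 in
theorem eE_rel_C : (elC : ↥Co0) * (eE * (elC : ↥Co0)) = eE := by
  refine Acts.ext ((acts_elC.mul acts_eE).mul acts_elC) acts_eE (by decide +kernel) wE_ok ?_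
  decide +kernel

set_option maxRecDepth 100000 in
theorem eE_rel_D : eE * (elD : ↥Co0) = (elD : ↥Co0) * eE := by
  refine Acts.ext (acts_elD.mul acts_eE) (acts_eE.mul acts_elD) (by decide +kernel)
    (by decide +kernel) ?_
  decide +kernel

end Cfsg.Agent.Helper26.OutCo2
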