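import Cfsg.Agent.Helper26.OutCo2E

/-!
# The stabiliser of `(-3, 1^23)`: the subgroup generated by `M23` and the involution

The subgroup `K0` generated by `elA`, `elC`, `elD` and `eE` contains the coordinate permutations
of `M23`, an element fixing `(4, 4, 0^22)` and moving `(-4, 4, 0^22)`, and elements moving
`(4, 4, 0^22)` to vectors with each of the five possible inner products.
-/

set_option autoImplicit false

namespace Cfsg.Agent.Helper26.OutCo2

open Cfsg Cfsg.Agent.Helper7 Cfsg.Agent.Helper8 Cfsg.Agent.Helper27 Cfsg.Agent.Helper92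
  Cfsg.Agent.Helper93.HSL MulAction

/-- the subgroup generated by the four elements -/
def K0 : Subgroup ↥Co0 :=
  Subgroup.closure {(elA : ↥Co0), (elC : ↥Co0), (elD : ↥Co0), eE}

theorem elA_mem_K0 : (elA : ↥Co0) ∈ K0 := Subgroup.subset_closure (by simp)

theorem elC_mem_K0 : (elC : ↥Co0) ∈ K0 := Subgroup.subset_closure (by simp)

theorem elD_mem_K0 : (elD : ↥Co0) ∈ K0 := Subgroup.subset_closure (by simp)

theorem eE_mem_K0 : eE ∈ K0 := Subgroup.subset_closure (by simp)

theorem K0_le_G2 : K0 ≤ G2 := by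
  unfold K0
  rw [Subgroup.closure_le]
  rintro g (rfl | rfl | rfl | hg)
  · exact elA.2
  · exact elC.2
  · exact elD.2
  · rw [Set.mem_singleton_iff] at hg
    rw [hg]
    exact mem_stabilizer_iff.mpr eE_v1

theorem m23_mem_K0 (σ : ↥M23p) : ((m23 σ : ↥G2) : ↥Co0) ∈ K0 := by
  have htop := closure_subtype_eq_top M23p (trP 1) mu23 cubeTwist aP.2 cP.2 dP.2 closure_M23p
  have hle : Subgroup.closure ({aP, cP, dP} : Set ↥M23p) ≤
      K0.comap ((Subgroup.subtype G2).comp m23) := by
    rw [Subgroup.closure_le]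
    rintro g (rfl | rfl | hg)
    · exact elA_mem_K0
    · exact elC_mem_K0
    · rw [Set.mem_singleton_iff] at hg
      rw [hg]
      exact elD_mem_K0
  have h : σ ∈ Subgroup.closure ({aP, cP, dP} : Set ↥M23p) := by
    have : Subgroup.closure ({aP, cP, dP} : Set ↥M23p) = ⊤ := htop
    rw [this]
    exact Subgroup.mem_top σ
  exact hle h

/-! ### an element fixing `(4, 4, 0^22)` and moving `(-4, 4, 0^22)` -/

/-- the table of a permutation of `M23` fixing the image of `(4, 4, 0^22)` -/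
def th : List ℕ := [12, 18, 13, 2, 3, 20, 8, 10, 1, 9, 11, 21, 6, 0, 15, 17, 4, 22, 16, 14, 7, 19,
  5, 23]

/-- its inverse table -/
def sh : List ℕ := [13, 8, 3, 4, 16, 22, 12, 20, 6, 9, 7, 10, 0, 2, 19, 14, 18, 15, 1, 21, 5, 11,
  17, 23]

set_option maxRecDepth 100000 in
theorem th_ok : isInvPair th sh = true ∧ checkM24 sh = true := by decide +kernel

/-- the permutation -/
noncomputable def hP : ↥M23p :=
  ⟨permOfTabs th sh, permOfTabs_mem_M24 th_ok.1 th_ok.2, mem_stabilizer_iff.mpr (by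
    have h := permOfTabs_gPt th_ok.1 23 (by norm_num)
    exact h)⟩

theorem acts_hP : Acts ((m23 hP : ↥G2) : ↥Co0) [.P th sh] := acts_perm th_ok.1 th_ok.2

/-- the conjugate of the permutation -/
noncomputable def jE : ↥Co0 := eE * (((m23 hP : ↥G2) : ↥Co0) * eE)

theorem acts_jE : Acts jE ((wE ++ [.P th sh]) ++ wE) := (acts_eE.mul acts_hP).mul acts_eE

set_option maxRecDepth 100000 in
theorem wJ_ok : okW ((wE ++ [.P th sh]) ++ wE) = true := by decide +kernel

theorem jE_mem_K0 : jE ∈ K0 :=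
  K0.mul_mem eE_mem_K0 (K0.mul_mem (m23_mem_K0 hP) eE_mem_K0)

/-- the image of `(-4, 4, 0^22)` -/
def lc : List ℤ := [2, 0, 2, 2, 2, 0, 0, 0, 2, 2, 0, 0, 0, 0, 0, 0, 0, 0, 0, 0, 0, -2, 0, -2]

set_option maxRecDepth 100000 in
theorem wJ_v1 : runW ((wE ++ [.P th sh]) ++ wE) lv1 = lv1 := by decide +kernel

set_option maxRecDepth 100000 in
theorem wJ_x0 : runW ((wE ++ [.P th sh]) ++ wE) lx0 = lx0 := by decide +kernel

set_option maxRecDepth 100000 in
theorem wJ_z0 : runW ((wE ++ [.P th sh]) ++ wE) lz0 = lc := by decide +kernel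

theorem jE_v1 : jE • v1L = v1L := by
  apply Subtype.ext
  rw [acts_jE.run wJ_ok v1_list, wJ_v1]
  exact v1_list.symm

theorem jE_x0 : jE • x0L = x0L := by
  apply Subtype.ext
  rw [acts_jE.run wJ_ok x0_list, wJ_x0]
  exact x0_list.symm

theorem jE_z0 : jE • z0L ≠ z0L := by
  intro h
  have h1 : vecOf lc = vecOf lz0 := by
    have h0 := acts_jE.run wJ_ok z0_list
    rw [wJ_z0, h, z0_list] at h0
    exact h0.symm
  have h2 := congrFun h1 (some 2)
  revert h2
  decide +kernel

/-! ### the five inner products -/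

theorem dot_vecU (y : IVec) : dotInt Spor.vecU y = 4 * y none + 4 * y (some 0) := by
  unfold dotInt
  rw [sum_golayPt (fun i => Spor.vecU i * y i), Finset.sum_eq_single (0 : ZMod 23)]
  · unfold Spor.vecU
    rw [if_pos (Or.inl rfl), if_pos (Or.inr rfl)]
  · intro t _ ht
    unfold Spor.vecU
    rw [if_neg, zero_mul]
    rintro (h | h)
    · exact Option.some_ne_none _ h
    · exact ht (Option.some.inj h)
  · intro h
    exact absurd (Finset.mem_univ _) h

theorem dot_x0 (y : ↥leechLattice) :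
    dotInt (x0L : IVec) (y : IVec) = 4 * y.1 none + 4 * y.1 (some 0) := dot_vecU y.1

/-- the list of the image for the inner product 16 -/
def l16 : List ℤ := [0, 4, 0, 0, 0, 0, 0, 0, 0, 0, 0, 0, 0, 0, 0, 0, 0, 0, 0, 0, 0, 0, 0, 4]
/-- the list of the image for the inner product 8 -/
def l8 : List ℤ := [-1, 1, 1, 1, 1, 1, -1, 1, -1, 1, 1, -1, -1, 1, 1, -1, -1, 1, -1, 1, -1, -1, -1,
  3]
/-- the list of the image for the inner product 0 -/
def l0 : List ℤ := [-1, 3, -1, -1, 1, 1, -1, 1, -1, -1, 1, -1, 1, -1, 1, -1, -1, 1, -1, -1, -1, -1,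
  -1, 1]
/-- the list of the image for the inner product -8 -/
def lm8 : List ℤ := [-2, 2, 0, 0, 0, 0, -2, 2, -2, 0, 0, 0, -2, 0, 0, 0, -2, 0, 0, 0, 0, 0, -2, 0]
/-- the list of the image for the inner product -16 -/
def lm16 : List ℤ := [-3, -1, -1, -1, 1, -1, 1, -1, -1, -1, 1, -1, 1, 1, 1, -1, 1, -1, -1, -1, -1,
  -1, -1, -1]

/-- an element of `K0` acting as a word -/
def KActs (W : List Letter) : Prop := ∃ g ∈ K0, Acts g W

theorem KActs.append {W W' : List Letter} (h : KActs W) (h' : KActs W') : KActs (W ++ W') := by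
  obtain ⟨g, hg, hA⟩ := h
  obtain ⟨g', hg', hA'⟩ := h'
  exact ⟨g' * g, K0.mul_mem hg' hg, hA.mul hA'⟩

theorem kacts_A : KActs [.P tA sA] := ⟨_, elA_mem_K0, acts_elA⟩

theorem kacts_C : KActs [.P tM sM] := ⟨_, elC_mem_K0, acts_elC⟩

theorem kacts_D : KActs [.P tC sC] := ⟨_, elD_mem_K0, acts_elD⟩

theorem kacts_E : KActs wE := ⟨_, eE_mem_K0, acts_eE⟩

theorem KActs.dot {W : List Letter} (h : KActs W) (hW : okW W = true) {l : List ℤ}
    (hl : runW W lx0 = l) {t : ℤ} (ht : 4 * vecOf l none + 4 * vecOf l (some 0) = t) :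
    ∃ g ∈ K0, dotInt (x0L : IVec) ((g • x0L : ↥leechLattice) : IVec) = t := by
  obtain ⟨g, hg, hA⟩ := h
  refine ⟨g, hg, ?_⟩
  rw [dot_x0, hA.run hW x0_list, hl]
  exact ht

set_option maxRecDepth 100000 in
theorem wit16 : ∃ g ∈ K0, dotInt (x0L : IVec) ((g • x0L : ↥leechLattice) : IVec) = 16 :=
  kacts_A.dot (l := l16) (by decide +kernel) (by decide +kernel) (by decide +kernel)

set_option maxRecDepth 100000 in
theorem wit8 : ∃ g ∈ K0, dotInt (x0L : IVec) ((g • x0L : ↥leechLattice) : IVec) = 8 :=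
  (kacts_E.append kacts_A).dot (l := l8) (by decide +kernel) (by decide +kernel)
    (by decide +kernel)

set_option maxRecDepth 100000 in
theorem wit0 : ∃ g ∈ K0, dotInt (x0L : IVec) ((g • x0L : ↥leechLattice) : IVec) = 0 :=
  (((kacts_A.append kacts_A).append kacts_E).append kacts_A).dot (l := l0) (by decide +kernel)
    (by decide +kernel) (by decide +kernel)

set_option maxRecDepth 100000 in
theorem witm8 : ∃ g ∈ K0, dotInt (x0L : IVec) ((g • x0L : ↥leechLattice) : IVec) = -8 :=
  ((((kacts_A.append kacts_D).append kacts_A).append kacts_E).append kacts_A).dot (l := lm8)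
    (by decide +kernel) (by decide +kernel) (by decide +kernel)

set_option maxRecDepth 100000 in
theorem witm16 : ∃ g ∈ K0, dotInt (x0L : IVec) ((g • x0L : ↥leechLattice) : IVec) = -16 :=
  ((((((((kacts_E.append kacts_A).append kacts_E).append kacts_A).append kacts_A).append
    kacts_A).append kacts_C).append kacts_A).append kacts_E).dot (l := lm16)
    (by decide +kernel) (by decide +kernel) (by decide +kernel)

end Cfsg.Agent.Helper26.OutCo2
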