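import Cfsg.Agent.Helper26.OutCo2D
import Cfsg.Agent.Helper7.OutCongr

/-!
# The explicit group `Co2` has trivial outer automorphism group

The group `Spor.Co2`, the stabiliser of `(4, 4, 0^22)` in `Co0`, is conjugate to the stabiliser
of `(-3, 1^23)`.
-/

set_option autoImplicit false

namespace Cfsg.Agent.Helper26.OutCo2

open Cfsg Cfsg.Agent.Helper7 Cfsg.Agent.Helper8 MulAction

theorem sporCo2_eq_map : (stabilizer ↥Co0 Spor.leechU).map Co0.subtype = Spor.Co2 := by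
  ext f
  constructor
  · rintro ⟨g, hg, rfl⟩
    exact ⟨g.2, hg⟩
  · rintro ⟨hf, h1⟩
    exact ⟨⟨f, hf⟩, h1, rfl⟩

theorem sporCo2_equiv_G2 : Nonempty (↥Spor.Co2 ≃* ↥G2) := by
  obtain ⟨t, ht⟩ := co0_transitive_min32 x0L v1L base_facts.1 sqNorm_v1
  have e1 : ↥(stabilizer ↥Co0 Spor.leechU) ≃* ↥Spor.Co2 :=
    ((stabilizer ↥Co0 Spor.leechU).equivMapOfInjective Co0.subtype
      Subtype.val_injective).trans (MulEquiv.subgroupCongr sporCo2_eq_map)
  have e2 : ↥(stabilizer ↥Co0 x0L) ≃* ↥(stabilizer ↥Co0 (t • x0L)) :=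
    ((stabilizer ↥Co0 x0L).equivMapOfInjective (MulAut.conj t).toMonoidHom
      (MulAut.conj t).injective).trans
      (MulEquiv.subgroupCongr (by rw [← stabilizer_smul_eq_stabilizer_map_conj]))
  rw [ht] at e2
  exact ⟨e1.symm.trans e2⟩

theorem card_out_sporCo2 : Nat.card (Cfsg.Out ↥Spor.Co2) = 1 := by
  obtain ⟨e⟩ := sporCo2_equiv_G2
  show (Cfsg.Inn ↥Spor.Co2).index = 1
  rw [inn_index_congr e]
  show ((MulAut.conj : ↥G2 →* MulAut ↥G2).range).index = 1
  rw [inn_G2_eq_top, Subgroup.index_top]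

end Cfsg.Agent.Helper26.OutCo2
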