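import Cfsg.Agent.Helper26.PairRel
import Cfsg.Agent.Helper26.OrthPairs

/-!
# Pairs of minimal vectors: the base vector `4 e_p - 4 e_q` and its monomial stabiliser
-/

set_option autoImplicit false

namespace Cfsg.Agent.Helper26

open Cfsg Cfsg.Agent.Helper8
open scoped Pointwise

variable {p q : GolayPt}

/-- the base vector `4 e_p - 4 e_q` -/
def vPQ (p q : GolayPt) : IVec := Pi.single p 4 + Pi.single q (-4)

theorem vPQ_mem (hpq : p ≠ q) : vPQ p q ∈ leechLattice :=
  (vrelA ⟨p, q, 4, -4, hpq, Or.inl rfl, Or.inr rfl, rfl⟩).mem_right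

theorem dotInt_single (i : GolayPt) (s : ℤ) (w : IVec) : dotInt (Pi.single i s) w = s * w i := by
  unfold dotInt
  rw [Finset.sum_eq_single i]
  · rw [Pi.single_eq_same]
  · intro j _ hj
    rw [Pi.single_eq_of_ne hj, zero_mul]
  · intro h
    exact absurd (Finset.mem_univ i) h

theorem dotInt_add_left' (a b w : IVec) : dotInt (a + b) w = dotInt a w + dotInt b w := by
  unfold dotInt
  rw [← Finset.sum_add_distrib]
  refine Finset.sum_congr rfl fun i _ => ?_
  rw [Pi.add_apply]
  ring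

theorem dotInt_vPQ (p q : GolayPt) (w : IVec) : dotInt (vPQ p q) w = 4 * w p - 4 * w q := by
  unfold vPQ
  rw [dotInt_add_left', dotInt_single, dotInt_single]
  ring

theorem sqNorm_vPQ (hpq : p ≠ q) : sqNorm (vPQ p q) = 32 := by
  unfold vPQ
  rw [sqNorm_add', sqNorm_single, sqNorm_single, dotInt_single, Pi.single_eq_of_ne hpq]
  norm_num

/-- monomials fixing `p`, `q` and not changing their signs fix the base vector -/
theorem signedPerm_vPQ_fix {σ : Equiv.Perm GolayPt} {D : Finset GolayPt} (hp : σ p = p)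
    (hq : σ q = q) (hpD : p ∉ D) (hqD : q ∉ D) : signedPerm σ D (vPQ p q) = vPQ p q := by
  unfold vPQ
  rw [signedPerm_add, signedPerm_single, signedPerm_single, hp, hq, if_neg hpD, if_neg hqD]

/-- the negative of a permutation swapping `p` and `q` fixes the base vector -/
theorem signedPerm_vPQ_swap {σ : Equiv.Perm GolayPt} (hp : σ p = q) (hq : σ q = p) :
    signedPerm σ Finset.univ (vPQ p q) = vPQ p q := by
  unfold vPQ
  rw [signedPerm_add, signedPerm_single, signedPerm_single, hp, hq,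
    if_pos (Finset.mem_univ _), if_pos (Finset.mem_univ _), add_comm]
  norm_num

theorem frel_fix (hpq : p ≠ q) {w : IVec} (hw : w ∈ leechLattice) {σ : Equiv.Perm GolayPt}
    (hσ : σ ∈ M24) {D : Finset GolayPt}
    (hD : D ∈ supports (golayCode : Set (GolayPt → ZMod 2))) (hp : σ p = p) (hq : σ q = q)
    (hpD : p ∉ D) (hqD : q ∉ D) : FRel (vPQ p q) w (signedPerm σ D w) :=
  frel_mono (vPQ_mem hpq) hw hσ hD (signedPerm_vPQ_fix hp hq hpD hqD)

theorem frel_swap (hpq : p ≠ q) {w : IVec} (hw : w ∈ leechLattice) {σ : Equiv.Perm GolayPt}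
    (hσ : σ ∈ M24) (hp : σ p = q) (hq : σ q = p) :
    FRel (vPQ p q) w (signedPerm σ Finset.univ w) :=
  frel_mono (vPQ_mem hpq) hw hσ Cfsg.Agent.S0390.univ_mem_supports (signedPerm_vPQ_swap hp hq)

/-! ### existence of permutations and code words -/

theorem exists_swap (hpq : p ≠ q) : ∃ σ ∈ M24, σ p = q ∧ σ q = p := by
  obtain ⟨σ, hσ, hmap⟩ := exists_map_list [p, q] [q, p] (by simp [hpq]) (by simp [Ne.symm hpq])
    rfl (by norm_num)
  simp only [List.map_cons, List.map_nil, List.cons.injEq, and_true] at hmap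
  exact ⟨σ, hσ, hmap.1, hmap.2⟩

theorem exists_fix2_map {j j' : GolayPt} (hpq : p ≠ q) (hj : j ≠ p ∧ j ≠ q)
    (hj' : j' ≠ p ∧ j' ≠ q) : ∃ σ ∈ M24, σ p = p ∧ σ q = q ∧ σ j = j' := by
  obtain ⟨σ, hσ, hmap⟩ := exists_map_list [p, q, j] [p, q, j']
    (by simp [hpq, Ne.symm hj.1, Ne.symm hj.2]) (by simp [hpq, Ne.symm hj'.1, Ne.symm hj'.2])
    rfl (by norm_num)
  simp only [List.map_cons, List.map_nil, List.cons.injEq, and_true] at hmap
  exact ⟨σ, hσ, hmap.1, hmap.2.1, hmap.2.2⟩

theorem exists_octad_through (I : Finset GolayPt) (hI : I.card ≤ 5) :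
    ∃ O ∈ octads, I ⊆ O := by
  have h := card_blocks_through Helper27.octads_steiner I hI
  have hpos : 0 < Nat.choose (Fintype.card GolayPt - I.card) (5 - I.card) := by
    apply Nat.choose_pos
    rw [card_golayPt]
    omega
  have hne : {b : Finset GolayPt | b ∈ octads ∧ I ⊆ b}.Nonempty := by
    rw [← Set.ncard_pos (Set.toFinite _)]
    by_contra hcon
    have : {b : Finset GolayPt | b ∈ octads ∧ I ⊆ b}.ncard = 0 := by omega
    rw [this, zero_mul] at h
    omega
  obtain ⟨O, hO, hIO⟩ := hne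
  exact ⟨O, hO, hIO⟩

/-- a code word through `j` avoiding `p` and `q` -/
theorem exists_code_avoid2 {j : GolayPt} (hpq : p ≠ q) (hj : j ≠ p ∧ j ≠ q) :
    ∃ D ∈ supports (golayCode : Set (GolayPt → ZMod 2)), j ∈ D ∧ p ∉ D ∧ q ∉ D := by
  classical
  obtain ⟨O, hO, hIO⟩ := exists_octad_through {p, q, j} (by
    refine (Finset.card_le_three).trans (by norm_num))
  have hpO : p ∈ O := hIO (by simp)
  have hqO : q ∈ O := hIO (by simp)
  have hjO : j ∈ O := hIO (by simp)
  have hcard : ({p, q, j} : Finset GolayPt).card < O.card := by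
    rw [hO.2]
    exact lt_of_le_of_lt Finset.card_le_three (by norm_num)
  obtain ⟨y, hyO, hy⟩ := Finset.exists_mem_notMem_of_card_lt_card hcard
  simp only [Finset.mem_insert, Finset.mem_singleton, not_or] at hy
  have hS : ({j, y} : Finset GolayPt) ⊆ O := by
    intro x hx
    simp only [Finset.mem_insert, Finset.mem_singleton] at hx
    rcases hx with rfl | rfl
    · exact hjO
    · exact hyO
  have hev : Even ({j, y} : Finset GolayPt).card := by
    rw [Finset.card_pair (Ne.symm hy.2.2)]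
    exact ⟨1, rfl⟩
  obtain ⟨D, hD, hDO⟩ := exists_code_inter_octad hO hS hev
  have hmem : ∀ x ∈ O, x ∈ D ↔ x = j ∨ x = y := by
    intro x hx
    have : x ∈ D ∩ O ↔ x ∈ ({j, y} : Finset GolayPt) := by rw [hDO]
    rw [Finset.mem_inter, Finset.mem_insert, Finset.mem_singleton] at this
    constructor
    · intro h; exact this.1 ⟨h, hx⟩
    · intro h; exact (this.2 h).1
  refine ⟨D, hD, (hmem j hjO).2 (Or.inl rfl), ?_, ?_⟩
  · intro h
    rcases (hmem p hpO).1 h with h | h
    · exact hj.1 h.symm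
    · exact hy.1 h.symm
  · intro h
    rcases (hmem q hqO).1 h with h | h
    · exact hj.2 h.symm
    · exact hy.2.1 h.symm

/-- an element of `M24` fixing `p`, `q` and mapping an octad through them to another -/
theorem exists_fix2_map_octad (hpq : p ≠ q) {O O' : Finset GolayPt} (hO : O ∈ octads)
    (hO' : O' ∈ octads) (hp : p ∈ O) (hq : q ∈ O) (hp' : p ∈ O') (hq' : q ∈ O') :
    ∃ σ ∈ M24, σ p = p ∧ σ q = q ∧ σ • O = O' := by
  classical
  have key : ∀ {U : Finset GolayPt}, U ∈ octads → p ∈ U → q ∈ U →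
      ∃ x y z, x ∈ U ∧ y ∈ U ∧ z ∈ U ∧ [p, q, x, y, z].Nodup := by
    intro U hU hpU hqU
    have h6 : 3 ≤ ((U.erase p).erase q).card := by
      rw [Finset.card_erase_of_mem (Finset.mem_erase.2 ⟨Ne.symm hpq, hqU⟩),
        Finset.card_erase_of_mem hpU, hU.2]
      norm_num
    obtain ⟨t, ht, ht3⟩ := Finset.exists_subset_card_eq h6
    obtain ⟨x, y, z, hxy, hxz, hyz, rfl⟩ := Finset.card_eq_three.1 ht3
    have hx := ht (by simp : x ∈ ({x, y, z} : Finset GolayPt))
    have hy := ht (by simp : y ∈ ({x, y, z} : Finset GolayPt))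
    have hz := ht (by simp : z ∈ ({x, y, z} : Finset GolayPt))
    simp only [Finset.mem_erase] at hx hy hz
    refine ⟨x, y, z, hx.2.2, hy.2.2, hz.2.2, ?_⟩
    simp only [List.nodup_cons, List.mem_cons, List.not_mem_nil, or_false, not_or,
      List.nodup_nil, and_true, not_false_eq_true]
    exact ⟨⟨hpq, Ne.symm hx.2.1, Ne.symm hy.2.1, Ne.symm hz.2.1⟩,
      ⟨Ne.symm hx.1, Ne.symm hy.1, Ne.symm hz.1⟩, ⟨hxy, hxz⟩, hyz⟩
  obtain ⟨x, y, z, hx, hy, hz, hnd⟩ := key hO hp hq
  obtain ⟨x', y', z', hx', hy', hz', hnd'⟩ := key hO' hp' hq'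
  obtain ⟨σ, hσ, hmap⟩ := exists_map_list _ _ hnd hnd' rfl (by norm_num)
  simp only [List.map_cons, List.map_nil, List.cons.injEq, and_true] at hmap
  obtain ⟨e1, e2, e3, e4, e5⟩ := hmap
  refine ⟨σ, hσ, e1, e2, ?_⟩
  by_contra hne
  have hσO : σ • O ∈ octads := Helper7.smul_mem_octads hσ hO
  have hle := Helper27.octad_inter_le hσO hO' hne
  have hsub : ({p, q, x', y', z'} : Finset GolayPt) ⊆ σ • O ∩ O' := by
    intro a ha
    simp only [Finset.mem_insert, Finset.mem_singleton] at ha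
    rw [Finset.mem_inter]
    rcases ha with rfl | rfl | rfl | rfl | rfl
    · exact ⟨by rw [← e1]; exact Finset.smul_mem_smul_finset hp, hp'⟩
    · exact ⟨by rw [← e2]; exact Finset.smul_mem_smul_finset hq, hq'⟩
    · exact ⟨by rw [← e3]; exact Finset.smul_mem_smul_finset hx, hx'⟩
    · exact ⟨by rw [← e4]; exact Finset.smul_mem_smul_finset hy, hy'⟩
    · exact ⟨by rw [← e5]; exact Finset.smul_mem_smul_finset hz, hz'⟩
  have h5 : ({p, q, x', y', z'} : Finset GolayPt).card = 5 := by
    have h := List.toFinset_card_of_nodup hnd'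
    simp only [List.toFinset_cons, List.toFinset_nil, insert_empty_eq, List.length_cons,
      List.length_nil] at h
    exact h
  have := Finset.card_le_card hsub
  omega

end Cfsg.Agent.Helper26
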