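import Cfsg.Agent.Helper26.PairClasses

/-!
# Pairs of minimal vectors: the classes for inner products `-16` and `-8`
-/

set_option autoImplicit false

namespace Cfsg.Agent.Helper26

open Cfsg Cfsg.Agent.Helper8
open scoped Pointwise

variable {p q : GolayPt}

theorem signedPerm_one_empty (x : IVec) : signedPerm 1 ∅ x = x := by
  ext i
  rw [signedPerm_one_apply, if_neg (Finset.notMem_empty _)]

theorem oddC_apply (k : GolayPt) (C : Finset GolayPt) (i : GolayPt) :
    signedPerm 1 C (oddBase k) i =
      if i ∈ C then -(if i = k then (-3 : ℤ) else 1) else (if i = k then (-3 : ℤ) else 1) := rfl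

/-! ### inner product `-16` -/

/-- shape A, inner product `-16` -/
theorem classA16 (hpq : p ≠ q) {w : IVec} (hA : IsA w) (hd : w p - w q = -4) {j0 : GolayPt}
    (hj0 : j0 ≠ p ∧ j0 ≠ q) : FRel (vPQ p q) w (Pi.single p (-4) + Pi.single j0 4) := by
  classical
  -- first form
  have form1 : ∀ (j : GolayPt) (t : ℤ), (j ≠ p ∧ j ≠ q) → (t = 4 ∨ t = -4) →
      FRel (vPQ p q) (Pi.single p (-4) + Pi.single j t) (Pi.single p (-4) + Pi.single j0 4) := by
    intro j t hj ht
    have hmem : (Pi.single p (-4) + Pi.single j t : IVec) ∈ leechLattice :=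
      (vrelA ⟨p, j, -4, t, Ne.symm hj.1, Or.inr rfl, ht, rfl⟩).mem_right
    obtain ⟨σ, hσ, hσp, hσq, hσj⟩ := exists_fix2_map hpq hj hj0
    have r1 := frel_fix hpq hmem hσ Cfsg.Agent.S0390.empty_mem_supports hσp hσq
      (Finset.notMem_empty _) (Finset.notMem_empty _)
    rw [signedPerm_add, signedPerm_empty_single, signedPerm_empty_single, hσp, hσj] at r1
    rcases ht with rfl | rfl
    · exact r1
    · obtain ⟨D, hD, hjD, hpD, hqD⟩ := exists_code_avoid2 hpq hj0
      have r2 := frel_fix hpq r1.mem_right (Subgroup.one_mem _) hD rfl rfl hpD hqD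
      rw [signedPerm_add, signedPerm_one_single, signedPerm_one_single, if_neg hpD, if_pos hjD,
        neg_neg] at r2
      exact r1.trans r2
  -- second form
  have form2 : ∀ (j : GolayPt) (t : ℤ), (j ≠ p ∧ j ≠ q) → (t = 4 ∨ t = -4) →
      FRel (vPQ p q) (Pi.single q 4 + Pi.single j t) (Pi.single p (-4) + Pi.single j0 4) := by
    intro j t hj ht
    have hmem : (Pi.single q 4 + Pi.single j t : IVec) ∈ leechLattice :=
      (vrelA ⟨q, j, 4, t, Ne.symm hj.2, Or.inl rfl, ht, rfl⟩).mem_right
    obtain ⟨σ, hσ, hσp, hσq⟩ := exists_swap hpq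
    have r1 := frel_swap hpq hmem hσ hσp hσq
    rw [signedPerm_add, signedPerm_single, signedPerm_single, hσq,
      if_pos (Finset.mem_univ _), if_pos (Finset.mem_univ _)] at r1
    refine r1.trans (form1 (σ j) (-t) ⟨fun h => hj.2 (σ.injective (h.trans hσq.symm)),
      fun h => hj.1 (σ.injective (h.trans hσp.symm))⟩ ?_)
    rcases ht with rfl | rfl
    · right; rfl
    · left; norm_num
  obtain ⟨i, j, s, t, hij, hs, ht, rfl⟩ := hA
  have hwp : (Pi.single i s + Pi.single j t : IVec) p =
      (if p = i then s else 0) + (if p = j then t else 0) := by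
    simp only [Pi.add_apply, Pi.single_apply]
  have hwq : (Pi.single i s + Pi.single j t : IVec) q =
      (if q = i then s else 0) + (if q = j then t else 0) := by
    simp only [Pi.add_apply, Pi.single_apply]
  rw [hwp, hwq] at hd
  by_cases hip : p = i
  · have hpj : p ≠ j := fun h => hij (hip.symm.trans h)
    have hqi : q ≠ i := fun h => hpq (hip.trans h.symm)
    by_cases hqj : q = j
    · exfalso
      rw [if_pos hip, if_neg hpj, if_neg hqi, if_pos hqj] at hd
      rcases hs with rfl | rfl <;> rcases ht with rfl | rfl <;> omega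
    · rw [if_pos hip, if_neg hpj, if_neg hqi, if_neg hqj] at hd
      have hs4 : s = -4 := by omega
      rw [hs4, ← hip]
      exact form1 j t ⟨Ne.symm hpj, Ne.symm hqj⟩ ht
  · by_cases hiq : q = i
    · have hqj : q ≠ j := fun h => hij (hiq.symm.trans h)
      by_cases hpj : p = j
      · exfalso
        rw [if_neg hip, if_pos hpj, if_pos hiq, if_neg hqj] at hd
        rcases hs with rfl | rfl <;> rcases ht with rfl | rfl <;> omega
      · rw [if_neg hip, if_neg hpj, if_pos hiq, if_neg hqj] at hd
        have hs4 : s = 4 := by omega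
        rw [hs4, ← hiq]
        exact form2 j t ⟨Ne.symm hpj, Ne.symm hqj⟩ ht
    · by_cases hpj : p = j
      · have hqj : q ≠ j := fun h => hpq (hpj.trans h.symm)
        rw [if_neg hip, if_pos hpj, if_neg hiq, if_neg hqj] at hd
        have ht4 : t = -4 := by omega
        rw [ht4, ← hpj, add_comm]
        exact form1 i s ⟨Ne.symm hip, Ne.symm hiq⟩ hs
      · by_cases hqj : q = j
        · rw [if_neg hip, if_neg hpj, if_neg hiq, if_pos hqj] at hd
          have ht4 : t = 4 := by omega
          rw [ht4, ← hqj, add_comm]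
          exact form2 i s ⟨Ne.symm hip, Ne.symm hiq⟩ hs
        · rw [if_neg hip, if_neg hpj, if_neg hiq, if_neg hqj] at hd
          omega

/-- shape B, inner product `-16` -/
theorem classB16 (hpq : p ≠ q) {w w' : IVec} (hw : w ∈ leechLattice) (hw' : w' ∈ leechLattice)
    (hB : IsB w) (hB' : IsB w') (hd : w p - w q = -4) (hd' : w' p - w' q = -4) :
    FRel (vPQ p q) w w' := by
  obtain ⟨O, hO, h1, h0⟩ := hB
  obtain ⟨O', hO', h1', h0'⟩ := hB'
  have key : ∀ {u : IVec} {U : Finset GolayPt}, (∀ i ∈ U, u i = 2 ∨ u i = -2) →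
      (∀ i ∉ U, u i = 0) → u p - u q = -4 → p ∈ U ∧ q ∈ U ∧ u p = -2 ∧ u q = 2 := by
    intro u U g1 g0 gd
    have hpU : p ∈ U := by
      by_contra h
      have := g0 p h
      by_cases hq : q ∈ U
      · rcases g1 q hq with h' | h' <;> omega
      · have := g0 q hq
        omega
    have hqU : q ∈ U := by
      by_contra h
      have := g0 q h
      rcases g1 p hpU with h' | h' <;> omega
    refine ⟨hpU, hqU, ?_, ?_⟩ <;>
      rcases g1 p hpU with h' | h' <;> rcases g1 q hqU with h'' | h'' <;> omega
  obtain ⟨hp, hq, e1, e2⟩ := key h1 h0 hd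
  obtain ⟨hp', hq', e1', e2'⟩ := key h1' h0' hd'
  obtain ⟨σ, hσ, hσp, hσq, hσO⟩ := exists_fix2_map_octad hpq hO hO' hp hq hp' hq'
  exact frel_B hpq hw hw' hO' h1 h0 h1' h0' hσ hσp hσq hσO hp' (by rw [e1, e1'])
    (by rw [e2, e2'])

/-- shape C, inner product `-16` -/
theorem classC16 (hpq : p ≠ q) {w : IVec} (hC : IsC w) (hd : w p - w q = -4) :
    FRel (vPQ p q) w (oddBase p) := by
  classical
  obtain ⟨k, C, hC, rfl⟩ := hC
  rw [oddC_apply, oddC_apply] at hd
  have he := Cfsg.Agent.S0390.empty_mem_supports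
  by_cases hkp : p = k
  · subst hkp
    have hpC : p ∉ C := by
      intro h
      rw [if_pos h, if_pos rfl, if_neg (Ne.symm hpq)] at hd
      split_ifs at hd <;> omega
    have hqC : q ∉ C := by
      intro h
      rw [if_neg hpC, if_pos rfl, if_neg (Ne.symm hpq), if_pos h] at hd
      omega
    have r := frel_C_signs hpq (k := p) hC he
      (iff_of_false hpC (Finset.notMem_empty _)) (iff_of_false hqC (Finset.notMem_empty _))
    rwa [signedPerm_one_empty] at r
  · by_cases hkq : q = k
    · subst hkq
      have hpC : p ∈ C := by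
        by_contra h
        rw [if_neg h, if_neg hpq, if_pos rfl] at hd
        split_ifs at hd <;> omega
      have hqC : q ∈ C := by
        by_contra h
        rw [if_pos hpC, if_neg hpq, if_pos rfl, if_neg h] at hd
        omega
      obtain ⟨σ, hσ, hσp, hσq⟩ := exists_swap hpq
      have r1 := frel_C_swap hpq hσ hσp hσq (k := q) hC
      rw [hσq] at r1
      have hp' : p ∈ σ • C := by rw [← hσq]; exact Finset.smul_mem_smul_finset hqC
      have hq' : q ∈ σ • C := by rw [← hσp]; exact Finset.smul_mem_smul_finset hpC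
      have r2 := frel_C_signs hpq (k := p)
        (golay_compl (Helper93.smul_mem_supports hσ hC)) he
        (iff_of_false (by rw [Finset.mem_compl]; exact fun h => h hp') (Finset.notMem_empty _))
        (iff_of_false (by rw [Finset.mem_compl]; exact fun h => h hq') (Finset.notMem_empty _))
      rw [signedPerm_one_empty] at r2
      exact r1.trans r2
    · rw [if_neg hkp, if_neg hkq] at hd
      split_ifs at hd <;> omega

/-! ### inner product `-8` -/

/-- shape B, normalised: the octad contains `p` and not `q` -/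
def BNorm (p q : GolayPt) (w : IVec) : Prop :=
  ∃ O ∈ octads, (∀ i ∈ O, w i = 2 ∨ w i = -2) ∧ (∀ i ∉ O, w i = 0) ∧ p ∈ O ∧ q ∉ O ∧ w p = -2

theorem frel_BNorm (hpq : p ≠ q) {w w' : IVec} (hw : w ∈ leechLattice) (hw' : w' ∈ leechLattice)
    (hB : BNorm p q w) (hB' : BNorm p q w') : FRel (vPQ p q) w w' := by
  obtain ⟨O, hO, h1, h0, hp, hq, e⟩ := hB
  obtain ⟨O', hO', h1', h0', hp', hq', e'⟩ := hB'
  obtain ⟨σ, hσ, hσp, hσq, hσO⟩ := exists_fix2_map_octad' hpq hO hO' hp hq hp' hq'
  exact frel_B hpq hw hw' hO' h1 h0 h1' h0' hσ hσp hσq hσO hp' (by rw [e, e'])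
    (by rw [h0 q hq, h0' q hq'])

/-- shape B, inner product `-8` -/
theorem classB8 (hpq : p ≠ q) {w w' : IVec} (hw : w ∈ leechLattice) (hw' : w' ∈ leechLattice)
    (hB : IsB w) (hd : w p - w q = -2) (hB' : BNorm p q w') : FRel (vPQ p q) w w' := by
  classical
  obtain ⟨O, hO, h1, h0⟩ := hB
  by_cases hp : p ∈ O
  · have hq : q ∉ O := by
      intro hq
      rcases h1 p hp with h' | h' <;> rcases h1 q hq with h'' | h'' <;> omega
    have e : w p = -2 := by
      have := h0 q hq
      omega
    exact frel_BNorm hpq hw hw' ⟨O, hO, h1, h0, hp, hq, e⟩ hB'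
  · have e0 := h0 p hp
    have hq : q ∈ O := by
      by_contra hq
      have := h0 q hq
      omega
    have e : w q = 2 := by omega
    obtain ⟨σ, hσ, hσp, hσq⟩ := exists_swap hpq
    have r1 := frel_swap hpq hw hσ hσp hσq
    have ent : ∀ i, signedPerm σ Finset.univ w i = -w (σ.symm i) := by
      intro i
      unfold signedPerm
      rw [if_pos (Finset.mem_univ _)]
    have hsp : σ.symm p = q := by rw [Equiv.symm_apply_eq, hσq]
    have hB₁ : BNorm p q (signedPerm σ Finset.univ w) := by
      refine ⟨σ • O, Helper7.smul_mem_octads hσ hO, fun i hi => ?_, fun i hi => ?_, ?_, ?_, ?_⟩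
      · rw [ent]
        rw [mem_smul_iff_symm] at hi
        rcases h1 _ hi with h' | h' <;> rw [h']
        · right; rfl
        · left; norm_num
      · rw [ent]
        rw [mem_smul_iff_symm] at hi
        rw [h0 _ hi, neg_zero]
      · rw [← hσq]; exact Finset.smul_mem_smul_finset hq
      · rw [mem_smul_iff_symm]
        have : σ.symm q = p := by rw [Equiv.symm_apply_eq, hσp]
        rw [this]
        exact hp
      · rw [ent, hsp, e]
    exact r1.trans (frel_BNorm hpq r1.mem_right hw' hB₁ hB')

/-- shape C, inner product `-8`: the three cases -/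
theorem classC8 (hpq : p ≠ q) {w : IVec} (hC : IsC w) (hd : w p - w q = -2)
    {k₁ : GolayPt} {C₁ : Finset GolayPt} (hk₁ : k₁ ≠ p ∧ k₁ ≠ q)
    (hC₁ : C₁ ∈ supports (golayCode : Set (GolayPt → ZMod 2))) (hp₁ : p ∈ C₁) (hq₁ : q ∉ C₁)
    {C₀ : Finset GolayPt} (hC₀ : C₀ ∈ supports (golayCode : Set (GolayPt → ZMod 2)))
    (hp₀ : p ∉ C₀) (hq₀ : q ∈ C₀)
    (hlink : FRel (vPQ p q) (signedPerm 1 C₀ (oddBase p)) (signedPerm 1 C₁ (oddBase k₁))) :
    FRel (vPQ p q) w (signedPerm 1 C₁ (oddBase k₁)) := by
  classical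
  obtain ⟨k, C, hC, rfl⟩ := hC
  rw [oddC_apply, oddC_apply] at hd
  by_cases hkp : p = k
  · subst hkp
    have hpC : p ∉ C := by
      intro h
      rw [if_pos h, if_pos rfl, if_neg (Ne.symm hpq)] at hd
      split_ifs at hd <;> omega
    have hqC : q ∈ C := by
      by_contra h
      rw [if_neg hpC, if_pos rfl, if_neg (Ne.symm hpq), if_neg h] at hd
      omega
    exact (frel_C_signs hpq (k := p) hC hC₀ (iff_of_false hpC hp₀)
      (iff_of_true hqC hq₀)).trans hlink
  · by_cases hkq : q = k
    · subst hkq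
      have hqC : q ∈ C := by
        by_contra h
        rw [if_neg hpq, if_pos rfl, if_neg h] at hd
        split_ifs at hd <;> omega
      have hpC : p ∉ C := by
        intro h
        rw [if_pos h, if_neg hpq, if_pos rfl, if_pos hqC] at hd
        omega
      obtain ⟨σ, hσ, hσp, hσq⟩ := exists_swap hpq
      have r1 := frel_C_swap hpq hσ hσp hσq (k := q) hC
      rw [hσq] at r1
      have hp' : p ∈ σ • C := by rw [← hσq]; exact Finset.smul_mem_smul_finset hqC
      have hq' : q ∉ σ • C := by
        rw [mem_smul_iff_symm]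
        have : σ.symm q = p := by rw [Equiv.symm_apply_eq, hσp]
        rw [this]
        exact hpC
      have r2 := frel_C_signs hpq (k := p)
        (golay_compl (Helper93.smul_mem_supports hσ hC)) hC₀
        (iff_of_false (by rw [Finset.mem_compl]; exact fun h => h hp') hp₀)
        (iff_of_true (by rw [Finset.mem_compl]; exact hq') hq₀)
      exact (r1.trans r2).trans hlink
    · rw [if_neg hkp, if_neg hkq] at hd
      have hpC : p ∈ C := by
        by_contra h
        rw [if_neg h] at hd
        split_ifs at hd <;> omega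
      have hqC : q ∉ C := by
        intro h
        rw [if_pos hpC, if_pos h] at hd
        omega
      obtain ⟨σ, hσ, hσp, hσq, hσk⟩ := exists_fix2_map hpq
        ⟨fun h => hkp h.symm, fun h => hkq h.symm⟩ hk₁
      have r1 := frel_C_perm hpq hσ hσp hσq (k := k) hC
      rw [hσk] at r1
      have hp' : p ∈ σ • C := by
        have := Finset.smul_mem_smul_finset (a := σ) hpC
        rwa [Equiv.Perm.smul_def, hσp] at this
      have hq' : q ∉ σ • C := by
        rw [mem_smul_iff_symm]
        have : σ.symm q = q := by rw [Equiv.symm_apply_eq, hσq]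
        rw [this]
        exact hqC
      exact r1.trans (frel_C_signs hpq (k := k₁) (Helper93.smul_mem_supports hσ hC) hC₁
        (iff_of_true hp' hp₁) (iff_of_false hq' hq₁))

end Cfsg.Agent.Helper26
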