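import Cfsg.Agent.Helper8.Min32b
import Cfsg.Agent.Helper8.PairCensus2
import Cfsg.Agent.Helper26.M24Homog

/-!
# The orbit relation of the automorphism group of the rank-24 lattice on pairs of vectors

`FRel v w w'`: some automorphism fixes `v` and maps `w` to `w'`.
-/

set_option autoImplicit false

namespace Cfsg.Agent.Helper26

open Cfsg Cfsg.Agent.Helper8
open scoped Pointwise

/-- some automorphism fixes the lattice vector `v` and maps the lattice vector `w` to `w'` -/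
def FRel (v w w' : IVec) : Prop :=
  ∃ (hv : v ∈ leechLattice) (hw : w ∈ leechLattice) (g : ↥Co0),
    g • (⟨v, hv⟩ : ↥leechLattice) = ⟨v, hv⟩ ∧
      ((g • (⟨w, hw⟩ : ↥leechLattice) : ↥leechLattice) : IVec) = w'

theorem FRel.mem_right {v w w' : IVec} (h : FRel v w w') : w' ∈ leechLattice := by
  obtain ⟨hv, hw, g, -, rfl⟩ := h
  exact (g • (⟨w, hw⟩ : ↥leechLattice)).2

theorem FRel.mem_left {v w w' : IVec} (h : FRel v w w') : w ∈ leechLattice := h.2.1

theorem FRel.refl {v w : IVec} (hv : v ∈ leechLattice) (hw : w ∈ leechLattice) : FRel v w w :=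
  ⟨hv, hw, 1, one_smul _ _, by rw [one_smul]⟩

theorem FRel.trans {v w w' w'' : IVec} (h1 : FRel v w w') (h2 : FRel v w' w'') : FRel v w w'' := by
  obtain ⟨hv, hw, g, hg, rfl⟩ := h1
  obtain ⟨_, hw', h, hh, rfl⟩ := h2
  refine ⟨hv, hw, h * g, by rw [mul_smul, hg, hh], ?_⟩
  rw [mul_smul]

theorem FRel.symm {v w w' : IVec} (h : FRel v w w') : FRel v w' w := by
  have hw' := h.mem_right
  obtain ⟨hv, hw, g, hg, rfl⟩ := h
  refine ⟨hv, hw', g⁻¹, by rw [inv_smul_eq_iff, hg], ?_⟩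
  have : (⟨((g • (⟨w, hw⟩ : ↥leechLattice) : ↥leechLattice) : IVec), hw'⟩ : ↥leechLattice) =
      g • (⟨w, hw⟩ : ↥leechLattice) := Subtype.ext rfl
  rw [this, inv_smul_smul]

/-- signed coordinate permutations fixing `v` -/
theorem frel_mono {v w : IVec} (hv : v ∈ leechLattice) (hw : w ∈ leechLattice)
    {σ : Equiv.Perm GolayPt} (hσ : σ ∈ M24) {D : Finset GolayPt}
    (hD : D ∈ supports (golayCode : Set (GolayPt → ZMod 2)))
    (hfix : signedPerm σ D v = v) : FRel v w (signedPerm σ D w) :=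
  ⟨hv, hw, monoCo0 hσ hD, Subtype.ext hfix, rfl⟩

/-- the automorphism `xi` when it fixes `v` -/
theorem frel_xi {v w : IVec} (hv : v ∈ leechLattice) (hw : w ∈ leechLattice)
    (hfix : xiFun v = v) : FRel v w (xiFun w) :=
  ⟨hv, hw, xiCo0, Subtype.ext (by rw [xiCo0_smul]; exact hfix), by rw [xiCo0_smul]⟩

/-- from the relation to an element of the group -/
theorem exists_smul_of_frel {v w w' : ↥leechLattice} (h : FRel v.1 w.1 w'.1) :
    ∃ g : ↥Co0, g • v = v ∧ g • w = w' := by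
  obtain ⟨hv, hw, g, hg, hgw⟩ := h
  exact ⟨g, hg, Subtype.ext hgw⟩

/-- transport of the transitivity statement to an arbitrary minimal vector -/
theorem trans_of_base {v₁ w₀ : IVec} (hv₁ : v₁ ∈ leechLattice) (hn₁ : sqNorm v₁ = 32) (c : ℤ)
    (hbase : ∀ w ∈ leechLattice, sqNorm w = 32 → dotInt v₁ w = c → FRel v₁ w w₀)
    (v w w' : ↥leechLattice) (hv : sqNorm (v : IVec) = 32) (hw : sqNorm (w : IVec) = 32)
    (hw' : sqNorm (w' : IVec) = 32) (hd : dotInt (v : IVec) (w : IVec) = c)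
    (hd' : dotInt (v : IVec) (w' : IVec) = c) : ∃ g : ↥Co0, g • v = v ∧ g • w = w' := by
  obtain ⟨g₀, hg₀⟩ := co0_transitive_min32 v ⟨v₁, hv₁⟩ hv hn₁
  have e1 : ((g₀ • v : ↥leechLattice) : IVec) = v₁ := congrArg Subtype.val hg₀
  have r1 := hbase _ (g₀ • w).2 (by rw [co0_sqNorm, hw]) (by rw [← e1, co0_dotInt, hd])
  have r2 := hbase _ (g₀ • w').2 (by rw [co0_sqNorm, hw']) (by rw [← e1, co0_dotInt, hd'])
  obtain ⟨h, hh1, hh2⟩ := exists_smul_of_frel (v := ⟨v₁, hv₁⟩) (w := g₀ • w) (w' := g₀ • w')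
    (r1.trans r2.symm)
  refine ⟨g₀⁻¹ * h * g₀, ?_, ?_⟩
  · rw [mul_smul, mul_smul, hg₀, hh1, inv_smul_eq_iff, hg₀]
  · rw [mul_smul, mul_smul, hh2, inv_smul_smul]

end Cfsg.Agent.Helper26
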