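import Cfsg.Agent.Helper26.HSTrans

/-!
# Orbits of the joint stabiliser of the base pair on lattice vectors: a certificate checker

A certificate lists `n` packed vectors in increasing order, with for each of them (but the root)
an earlier-in-depth parent and a generator mapping the parent to it.
-/

set_option autoImplicit false

namespace Cfsg.Agent.Helper26

open Cfsg Cfsg.Agent.Helper8 Cfsg.Agent.Helper27 Cfsg.Agent.Helper92
open scoped Pointwise

/-- bounded universal quantifier as a Boolean -/
def allBelow (n : ℕ) (f : ℕ → Bool) : Bool := Nat.rec true (fun i ih => f i && ih) n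

theorem allBelow_iff (n : ℕ) (f : ℕ → Bool) : allBelow n f = true ↔ ∀ i < n, f i = true := by
  induction n with
  | zero => exact ⟨fun _ i hi => absurd hi (Nat.not_lt_zero i), fun _ => rfl⟩
  | succ n ih =>
    show (f n && allBelow n f) = true ↔ _
    rw [Bool.and_eq_true, ih]
    constructor
    · rintro ⟨h1, h2⟩ i hi
      rcases Nat.lt_succ_iff_lt_or_eq.mp hi with h | rfl
      · exact h2 i h
      · exact h1
    · intro h
      exact ⟨h n (Nat.lt_succ_self n), fun i hi => h i (Nat.lt_succ_of_lt hi)⟩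

/-- the `i`-th word of width `w` of a packed natural -/
def getWd (w M i : ℕ) : ℕ := Nat.land (Nat.shiftRight M (Nat.mul w i)) (Nat.sub (Nat.pow 2 w) 1)

/-- decoding a packed vector: four bits per coordinate, offset `4` -/
def decV (c : ℕ) : IVec := fun p =>
  Int.sub (Int.ofNat (Nat.land (Nat.shiftRight c (Nat.mul 4 (gIdx p))) 15)) 4

/-- encoding a vector with entries at least `-4` -/
def encV (w : IVec) : ℕ :=
  (List.range 24).foldl (fun acc a => Nat.add acc (Nat.shiftLeft (Int.toNat (w (gPt a) + 4))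
    (Nat.mul 4 a))) 0

/-- Boolean equality of vectors -/
def vecEqB (w w' : IVec) : Bool := (List.range 24).all fun a => decide (w (gPt a) = w' (gPt a))

theorem vecEqB_iff (w w' : IVec) : vecEqB w w' = true ↔ w = w' := by
  unfold vecEqB
  rw [List.all_eq_true]
  constructor
  · intro h
    funext p
    have := h (gIdx p) (List.mem_range.mpr (gIdx_lt p))
    rw [decide_eq_true_eq, gPt_gIdx] at this
    exact this
  · rintro rfl a _
    exact decide_eq_true rfl

/-- the action of a coordinate permutation given by its inverse table -/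
def actPerm (s : List ℕ) (w : IVec) : IVec := fun p => w (tabFun s p)

theorem actPerm_eq {t s : List ℕ} (h : isInvPair t s = true) (w : IVec) :
    signedPerm (permOfTabs t s) ∅ w = actPerm s w := by
  funext p
  rw [signedPerm_empty_apply, permOfTabs_symm_apply h]
  rfl

/-- the orbit of `y` under the joint stabiliser of `u` and `x` -/
def orbSet (u x y : ↥leechLattice) : Set ↥leechLattice :=
  {z | ∃ h : ↥Co0, h • u = u ∧ h • x = x ∧ h • y = z}

theorem orbit_eq_orbSet (u x y : ↥leechLattice) :
    MulAction.orbit ↥(MulAction.stabilizer ↥Co0 u ⊓ MulAction.stabilizer ↥Co0 x) y =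
      orbSet u x y := by
  ext z
  rw [MulAction.mem_orbit_iff]
  constructor
  · rintro ⟨⟨h, hh⟩, rfl⟩
    rw [Subgroup.mem_inf, MulAction.mem_stabilizer_iff, MulAction.mem_stabilizer_iff] at hh
    exact ⟨h, hh.1, hh.2, rfl⟩
  · rintro ⟨h, h1, h2, rfl⟩
    exact ⟨⟨h, Subgroup.mem_inf.mpr ⟨MulAction.mem_stabilizer_iff.mpr h1,
      MulAction.mem_stabilizer_iff.mpr h2⟩⟩, rfl⟩

theorem orbSet_self (u x y : ↥leechLattice) : y ∈ orbSet u x y :=
  ⟨1, one_smul _ _, one_smul _ _, one_smul _ _⟩

theorem orbSet_step {u x y z : ↥leechLattice} (hz : z ∈ orbSet u x y) {h : ↥Co0}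
    (h1 : h • u = u) (h2 : h • x = x) : h • z ∈ orbSet u x y := by
  obtain ⟨k, k1, k2, rfl⟩ := hz
  exact ⟨h * k, by rw [mul_smul, k1, h1], by rw [mul_smul, k2, h2], mul_smul _ _ _⟩

theorem orbSet_smul (g : ↥Co0) (u x y : ↥leechLattice) :
    orbSet (g • u) (g • x) (g • y) = (fun z : ↥leechLattice => g • z) '' orbSet u x y := by
  ext z
  constructor
  · rintro ⟨h, h1, h2, rfl⟩
    refine ⟨(g⁻¹ * h * g) • y, ⟨g⁻¹ * h * g, ?_, ?_, rfl⟩, ?_⟩
    · rw [mul_smul, mul_smul, h1, inv_smul_smul]
    · rw [mul_smul, mul_smul, h2, inv_smul_smul]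
    · show g • ((g⁻¹ * h * g) • y) = h • g • y
      rw [mul_smul, mul_smul, smul_inv_smul]
  · rintro ⟨z₀, ⟨h, h1, h2, rfl⟩, rfl⟩
    refine ⟨g * h * g⁻¹, ?_, ?_, ?_⟩
    · rw [mul_smul, mul_smul, inv_smul_smul, h1]
    · rw [mul_smul, mul_smul, inv_smul_smul, h2]
    · show (g * h * g⁻¹) • g • y = g • h • y
      rw [mul_smul, mul_smul, inv_smul_smul]

theorem orbSet_dot {u x y z : ↥leechLattice} (hz : z ∈ orbSet u x y) :
    dotInt (x : IVec) (z : IVec) = dotInt (x : IVec) (y : IVec) ∧
      dotInt (u : IVec) (z : IVec) = dotInt (u : IVec) (y : IVec) ∧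
      sqNorm (z : IVec) = sqNorm (y : IVec) := by
  obtain ⟨h, h1, h2, rfl⟩ := hz
  refine ⟨?_, ?_, co0_sqNorm h y⟩
  · have := co0_dotInt h x y
    rwa [h2] at this
  · have := co0_dotInt h u y
    rwa [h1] at this

/-! ### the checker -/

section Checker

variable (actG : ℕ → IVec → IVec)

/-- the check of the entry with number `i` -/
def entryOK (n r0 MC MP MG MD i : ℕ) : Bool :=
  (Nat.ble n (i + 1) || Nat.blt (getWd 96 MC i) (getWd 96 MC (i + 1))) &&
    Nat.beq (encV (decV (getWd 96 MC i))) (getWd 96 MC i) &&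
    (if Nat.beq i r0 then Nat.beq (getWd 8 MD i) 0 else
      Nat.blt (getWd 16 MP i) n && Nat.blt (getWd 8 MD (getWd 16 MP i)) (getWd 8 MD i) &&
        vecEqB (actG (getWd 8 MG i) (decV (getWd 96 MC (getWd 16 MP i))))
          (decV (getWd 96 MC i)))

/-- the check of the certificate -/
def certOK (n r0 MC MP MG MD : ℕ) : Bool := allBelow n (entryOK actG n r0 MC MP MG MD)

variable {actG}

theorem cert_sound {u x y : ↥leechLattice}
    (hgen : ∀ t, ∃ h : ↥Co0, h • u = u ∧ h • x = x ∧
      ∀ v : ↥leechLattice, ((h • v : ↥leechLattice) : IVec) = actG t (v : IVec))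
    {n r0 MC MP MG MD : ℕ} (hc : certOK actG n r0 MC MP MG MD = true)
    (hy : (y : IVec) = decV (getWd 96 MC r0)) :
    ∀ i < n, ∃ z ∈ orbSet u x y, (z : IVec) = decV (getWd 96 MC i) := by
  unfold certOK at hc
  rw [allBelow_iff] at hc
  have key : ∀ d i, i < n → getWd 8 MD i = d →
      ∃ z ∈ orbSet u x y, (z : IVec) = decV (getWd 96 MC i) := by
    intro d
    induction d using Nat.strong_induction_on with
    | _ d ih =>
      intro i hi hd
      have h := hc i hi
      unfold entryOK at h
      rw [Bool.and_eq_true] at h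
      obtain ⟨-, h3⟩ := h
      by_cases hr : i = r0
      · subst hr
        exact ⟨y, orbSet_self u x y, hy⟩
      · rw [if_neg (fun hb => hr (Nat.eq_of_beq_eq_true hb)), Bool.and_eq_true, Bool.and_eq_true,
          Nat.blt_eq, Nat.blt_eq, vecEqB_iff] at h3
        obtain ⟨⟨hp, hdp⟩, hv⟩ := h3
        obtain ⟨z, hz, hzv⟩ := ih _ (by rw [← hd]; exact hdp) _ hp rfl
        obtain ⟨g, g1, g2, g3⟩ := hgen (getWd 8 MG i)
        refine ⟨g • z, orbSet_step hz g1 g2, ?_⟩
        rw [g3, hzv, hv]
  intro i hi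
  exact key _ i hi rfl

theorem cert_strictMono {n r0 MC MP MG MD : ℕ} (hc : certOK actG n r0 MC MP MG MD = true) :
    ∀ i i', i < i' → i' < n → getWd 96 MC i < getWd 96 MC i' := by
  unfold certOK at hc
  rw [allBelow_iff] at hc
  have step : ∀ i, i + 1 < n → getWd 96 MC i < getWd 96 MC (i + 1) := by
    intro i hi
    have h := hc i (Nat.lt_of_succ_lt hi)
    unfold entryOK at h
    rw [Bool.and_eq_true, Bool.and_eq_true, Bool.or_eq_true] at h
    rcases h.1.1 with h' | h'
    · rw [Nat.ble_eq] at h'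
      omega
    · rwa [Nat.blt_eq] at h'
  intro i i' hii'
  induction i', hii' using Nat.le_induction with
  | base => exact fun h => step i h
  | succ k hk ih =>
    intro h
    exact lt_trans (ih (Nat.lt_of_succ_lt h)) (step k h)

theorem cert_inj {n r0 MC MP MG MD : ℕ} (hc : certOK actG n r0 MC MP MG MD = true) :
    ∀ i i', i < n → i' < n → decV (getWd 96 MC i) = decV (getWd 96 MC i') → i = i' := by
  have hmono := cert_strictMono hc
  unfold certOK at hc
  rw [allBelow_iff] at hc
  have henc : ∀ i < n, encV (decV (getWd 96 MC i)) = getWd 96 MC i := by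
    intro i hi
    have h := hc i hi
    unfold entryOK at h
    rw [Bool.and_eq_true, Bool.and_eq_true] at h
    exact Nat.eq_of_beq_eq_true h.1.2
  intro i i' hi hi' he
  have hcode : getWd 96 MC i = getWd 96 MC i' := by rw [← henc i hi, ← henc i' hi', he]
  rcases Nat.lt_trichotomy i i' with h | h | h
  · exact absurd hcode (Nat.ne_of_lt (hmono i i' h hi'))
  · exact h
  · exact absurd hcode.symm (Nat.ne_of_lt (hmono i' i h hi))

/-- the certificate bounds the orbit from below -/
theorem cert_ncard {u x y : ↥leechLattice}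
    (hgen : ∀ t, ∃ h : ↥Co0, h • u = u ∧ h • x = x ∧
      ∀ v : ↥leechLattice, ((h • v : ↥leechLattice) : IVec) = actG t (v : IVec))
    {n r0 MC MP MG MD : ℕ} (hc : certOK actG n r0 MC MP MG MD = true)
    (hy : (y : IVec) = decV (getWd 96 MC r0)) (hfin : (orbSet u x y).Finite) :
    n ≤ (orbSet u x y).ncard := by
  classical
  have hs := cert_sound hgen hc hy
  have hinj := cert_inj hc
  let f : ℕ → ↥leechLattice := fun i => if h : i < n then Classical.choose (hs i h) else y
  have hf : ∀ i (h : i < n), f i ∈ orbSet u x y ∧ ((f i : ↥leechLattice) : IVec) =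
      decV (getWd 96 MC i) := by
    intro i h
    have := Classical.choose_spec (hs i h)
    simp only [f, dif_pos h]
    exact this
  have hsub : f '' (Set.Iio n) ⊆ orbSet u x y := by
    rintro _ ⟨i, hi, rfl⟩
    exact (hf i hi).1
  have hinjOn : Set.InjOn f (Set.Iio n) := by
    intro i hi i' hi' he
    apply hinj i i' hi hi'
    rw [← (hf i hi).2, ← (hf i' hi').2, he]
  calc n = (Set.Iio n).ncard := by
        rw [← Finset.coe_Iio, Set.ncard_coe_finset, Nat.card_Iio]
    _ = (f '' Set.Iio n).ncard := (Set.InjOn.ncard_image hinjOn).symm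
    _ ≤ (orbSet u x y).ncard := Set.ncard_le_ncard hsub hfin

end Checker

end Cfsg.Agent.Helper26
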