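import Cfsg.Agent.Helper26.R5Cert

/-!
# The generators used by the orbit certificates for the base pair `(u48, x48)`
-/

set_option autoImplicit false

namespace Cfsg.Agent.Helper26

open Cfsg Cfsg.Agent.Helper8 Cfsg.Agent.Helper27 Cfsg.Agent.Helper92
open scoped Pointwise

def r5A : List ℕ := [22, 17, 5, 8, 4, 12, 6, 11, 2, 18, 15, 16, 10, 0, 1, 3, 19, 13, 20, 9, 7, 14, 21, 23]
def r5Ai : List ℕ := [13, 14, 8, 15, 4, 2, 6, 20, 3, 19, 12, 7, 5, 17, 21, 10, 11, 1, 9, 16, 18, 22, 0, 23]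
def r5B : List ℕ := [17, 7, 19, 8, 4, 3, 14, 13, 1, 10, 18, 9, 5, 6, 0, 21, 15, 12, 20, 22, 16, 2, 11, 23]
def r5Bi : List ℕ := [14, 8, 21, 5, 4, 12, 13, 1, 3, 11, 9, 22, 17, 7, 6, 16, 20, 0, 10, 2, 18, 15, 19, 23]

theorem r5A_inv : isInvPair r5A r5Ai = true := by decide +kernel

theorem r5Ai_inv : isInvPair r5Ai r5A = true := by decide +kernel

theorem r5B_inv : isInvPair r5B r5Bi = true := by decide +kernel

theorem r5Bi_inv : isInvPair r5Bi r5B = true := by decide +kernel

theorem r5A_chk : checkM24 r5A = true := by decide +kernel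

theorem r5Ai_chk : checkM24 r5Ai = true := by decide +kernel

theorem r5B_chk : checkM24 r5B = true := by decide +kernel

theorem r5Bi_chk : checkM24 r5Bi = true := by decide +kernel

/-- the second vector of the base pair -/
def latX : ↥leechLattice := ⟨x48, x48_mem⟩

/-- the action of the generator with number `t` -/
def r5Act : ℕ → IVec → IVec
  | 0 => actPerm r5Ai
  | 1 => actPerm r5A
  | 2 => actPerm r5Bi
  | 3 => actPerm r5B
  | _ => xmxFun hsS0

theorem hgen_perm {t s : List ℕ} (h : isInvPair t s = true) (hc : checkM24 s = true)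
    (hu : ∀ i, actPerm s u48 i = u48 i) (hx : ∀ i, actPerm s x48 i = x48 i) :
    ∃ g : ↥Co0, g • latU = latU ∧ g • latX = latX ∧
      ∀ v : ↥leechLattice, ((g • v : ↥leechLattice) : IVec) = actPerm s (v : IVec) :=
  ⟨monoCo0 (permOfTabs_mem_M24 h hc) Cfsg.Agent.S0390.empty_mem_supports,
    Subtype.ext (by
      show signedPerm (permOfTabs t s) ∅ u48 = u48
      rw [actPerm_eq h]
      exact funext hu),
    Subtype.ext (by
      show signedPerm (permOfTabs t s) ∅ x48 = x48
      rw [actPerm_eq h]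
      exact funext hx),
    fun v => actPerm_eq h (v : IVec)⟩

theorem hgen_xmx {t s : List ℕ} (h : isInvPair t s = true) (hc : checkM24 s = true)
    (hu : ∀ i, xmxFun s u48 i = u48 i) (hx : ∀ i, xmxFun s x48 i = x48 i) :
    ∃ g : ↥Co0, g • latU = latU ∧ g • latX = latX ∧
      ∀ v : ↥leechLattice, ((g • v : ↥leechLattice) : IVec) = xmxFun s (v : IVec) :=
  ⟨xiCo0 * monoCo0 (permOfTabs_mem_M24 h hc) Cfsg.Agent.S0390.empty_mem_supports * xiCo0,
    Subtype.ext (by
      rw [mul_smul, mul_smul]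
      show xiFun (signedPerm (permOfTabs t s) ∅ (xiFun u48)) = u48
      rw [xmx_eq h]
      exact funext hu),
    Subtype.ext (by
      rw [mul_smul, mul_smul]
      show xiFun (signedPerm (permOfTabs t s) ∅ (xiFun x48)) = x48
      rw [xmx_eq h]
      exact funext hx),
    fun v => by
      rw [mul_smul, mul_smul]
      show xiFun (signedPerm (permOfTabs t s) ∅ (xiFun (v : IVec))) = xmxFun s (v : IVec)
      rw [xmx_eq h]⟩

set_option maxRecDepth 100000 in
theorem r5_fixA : (∀ i, actPerm r5A u48 i = u48 i) ∧ ∀ i, actPerm r5A x48 i = x48 i := by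
  decide +kernel

set_option maxRecDepth 100000 in
theorem r5_fixAi : (∀ i, actPerm r5Ai u48 i = u48 i) ∧ ∀ i, actPerm r5Ai x48 i = x48 i := by
  decide +kernel

set_option maxRecDepth 100000 in
theorem r5_fixB : (∀ i, actPerm r5B u48 i = u48 i) ∧ ∀ i, actPerm r5B x48 i = x48 i := by
  decide +kernel

set_option maxRecDepth 100000 in
theorem r5_fixBi : (∀ i, actPerm r5Bi u48 i = u48 i) ∧ ∀ i, actPerm r5Bi x48 i = x48 i := by
  decide +kernel

set_option maxRecDepth 100000 in
theorem r5_fixG : ∀ i, xmxFun hsS0 x48 i = x48 i := by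
  decide +kernel

/-- every generator fixes the base pair and acts by its table -/
theorem r5_hgen : ∀ t, ∃ g : ↥Co0, g • latU = latU ∧ g • latX = latX ∧
    ∀ v : ↥leechLattice, ((g • v : ↥leechLattice) : IVec) = r5Act t (v : IVec) := by
  intro t
  match t with
  | 0 => exact hgen_perm r5A_inv r5Ai_chk r5_fixAi.1 r5_fixAi.2
  | 1 => exact hgen_perm r5Ai_inv r5A_chk r5_fixA.1 r5_fixA.2
  | 2 => exact hgen_perm r5B_inv r5Bi_chk r5_fixBi.1 r5_fixBi.2
  | 3 => exact hgen_perm r5Bi_inv r5B_chk r5_fixB.1 r5_fixB.2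
  | (n + 4) => exact hgen_xmx hs0_inv hs0_chk hs0_fix.1 r5_fixG

end Cfsg.Agent.Helper26
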