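import Cfsg.Agent.Helper26.R5Main

/-!
# The suborbits of the 11178, indexed, with their inner products
-/

set_option autoImplicit false

namespace Cfsg.Agent.Helper26

open Cfsg Cfsg.Agent.Helper8 Cfsg.Agent.Helper27 Cfsg.Agent.Helper92
open scoped Pointwise

/-- every pair `(u, x)` is conjugate to the base pair -/
theorem exists_to_base (u x : ↥leechLattice) (hu : sqNorm (u : IVec) = 48)
    (hx : x ∈ shellDot 32 (-16) u) : ∃ g : ↥Co0, g • latU = u ∧ g • latX = x := by
  obtain ⟨g₀, hg₀⟩ := trans48' latU u latU_norm hu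
  have hx' : g₀⁻¹ • x ∈ shellDot 32 (-16) latU := by
    refine ⟨(co0_sqNorm _ _).trans hx.1, ?_⟩
    rw [← co0_dotInt g₀, hg₀, smul_inv_smul]
    exact hx.2
  obtain ⟨h, hh1, hh2⟩ := trans_of_base' (N := 48) trans48' u48_mem sqNorm_u48 (-16) base48
    latU latX (g₀⁻¹ • x) latU_norm x48_facts.1 hx'.1 x48_facts.2.1 hx'.2
  exact ⟨g₀ * h, by rw [mul_smul, hh1, hg₀], by rw [mul_smul, hh2, smul_inv_smul]⟩

/-- the roots of the four suborbits at the base pair -/
def latY : Fin 4 → ↥leechLattice := ![latYA, latYB, latYC, latYD]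

/-- the subdegrees -/
def r5deg : Fin 4 → ℕ := ![352, 1100, 4125, 5600]

/-- the inner products with the base point on the suborbits -/
def r5dot : Fin 4 → ℤ := ![-8, 16, 0, 8]

theorem latY_facts (i : Fin 4) : sqNorm (latY i : IVec) = 32 ∧ dotInt u48 (latY i : IVec) = -16 ∧
    dotInt x48 (latY i : IVec) = r5dot i := by
  fin_cases i
  · exact r5yA_facts
  · exact r5yB_facts
  · exact r5yC_facts
  · exact r5yD_facts

theorem r5_base' : (∀ i, (orbSet latU latX (latY i)).ncard = r5deg i) ∧
    shellDot 32 (-16) latU = {latX} ∪ ⋃ i, orbSet latU latX (latY i) := by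
  obtain ⟨cA, cB, cC, cD, hU⟩ := r5_base
  refine ⟨?_, ?_⟩
  · intro i
    fin_cases i
    · exact cA
    · exact cB
    · exact cC
    · exact cD
  · rw [hU]
    ext z
    simp only [Set.mem_union, Set.mem_singleton_iff, Set.mem_iUnion]
    constructor
    · rintro ((((h | h) | h) | h) | h)
      · exact Or.inl h
      · exact Or.inr ⟨0, h⟩
      · exact Or.inr ⟨1, h⟩
      · exact Or.inr ⟨2, h⟩
      · exact Or.inr ⟨3, h⟩
    · rintro (h | ⟨i, h⟩)
      · exact Or.inl (Or.inl (Or.inl (Or.inl h)))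
      · fin_cases i
        · exact Or.inl (Or.inl (Or.inl (Or.inr h)))
        · exact Or.inl (Or.inl (Or.inr h))
        · exact Or.inl (Or.inr h)
        · exact Or.inr h

/-- the general case, indexed -/
theorem r5_main' (u x : ↥leechLattice) (hu : sqNorm (u : IVec) = 48)
    (hx : x ∈ shellDot 32 (-16) u) :
    ∃ y : Fin 4 → ↥leechLattice, (∀ i, y i ∈ shellDot 32 (-16) u) ∧
      (∀ i, (orbSet u x (y i)).ncard = r5deg i) ∧
      (∀ i, dotInt (x : IVec) (y i : IVec) = r5dot i) ∧
      shellDot 32 (-16) u = {x} ∪ ⋃ i, orbSet u x (y i) := by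
  obtain ⟨g, hgu, hgx⟩ := exists_to_base u x hu hx
  have hinj : Function.Injective fun z : ↥leechLattice => g • z := MulAction.injective g
  have hsh : shellDot 32 (-16) u =
      (fun z : ↥leechLattice => g • z) '' shellDot 32 (-16) latU := by
    rw [← shellDot_smul, hgu]
  have horb : ∀ y : ↥leechLattice, orbSet u x (g • y) =
      (fun z : ↥leechLattice => g • z) '' orbSet latU latX y := by
    intro y
    rw [← orbSet_smul, hgu, hgx]
  refine ⟨fun i => g • latY i, ?_, ?_, ?_, ?_⟩
  · intro i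
    rw [hsh]
    exact Set.mem_image_of_mem _ ⟨(latY_facts i).1, (latY_facts i).2.1⟩
  · intro i
    rw [horb, Set.ncard_image_of_injective _ hinj, r5_base'.1 i]
  · intro i
    rw [← hgx, co0_dotInt]
    exact (latY_facts i).2.2
  · rw [hsh, r5_base'.2, Set.image_union, Set.image_singleton, hgx, Set.image_iUnion]
    congr 1
    apply Set.iUnion_congr
    intro i
    rw [horb]

end Cfsg.Agent.Helper26
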