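import Cfsg.Agent.Helper26.R5CertA
import Cfsg.Agent.Helper26.R5CertB
import Cfsg.Agent.Helper26.R5CertC
import Cfsg.Agent.Helper26.R5CertD
import Cfsg.Agent.S0401

/-!
# The joint stabiliser of the base pair has orbits of sizes 352, 1100, 4125, 5600 on the 11178
-/

set_option autoImplicit false

namespace Cfsg.Agent.Helper26

open Cfsg Cfsg.Agent.Helper8 Cfsg.Agent.Helper27 Cfsg.Agent.Helper92
open scoped Pointwise

/-- five sets squeezed into a set of the right size -/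
theorem squeeze5 {α : Type*} {T O1 O2 O3 O4 : Set α} {x : α} {a b c d : ℕ} (f : α → ℤ)
    {c0 c1 c2 c3 c4 : ℤ}
    (hT : T.Finite) (hcard : T.ncard = 1 + a + b + c + d) (hx : x ∈ T)
    (h1 : O1 ⊆ T) (h2 : O2 ⊆ T) (h3 : O3 ⊆ T) (h4 : O4 ⊆ T)
    (f0 : f x = c0) (f1 : ∀ z ∈ O1, f z = c1) (f2 : ∀ z ∈ O2, f z = c2)
    (f3 : ∀ z ∈ O3, f z = c3) (f4 : ∀ z ∈ O4, f z = c4)
    (hne : c0 ≠ c1 ∧ c0 ≠ c2 ∧ c0 ≠ c3 ∧ c0 ≠ c4 ∧ c1 ≠ c2 ∧ c1 ≠ c3 ∧ c1 ≠ c4 ∧ c2 ≠ c3 ∧
      c2 ≠ c4 ∧ c3 ≠ c4)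
    (b1 : a ≤ O1.ncard) (b2 : b ≤ O2.ncard) (b3 : c ≤ O3.ncard) (b4 : d ≤ O4.ncard) :
    O1.ncard = a ∧ O2.ncard = b ∧ O3.ncard = c ∧ O4.ncard = d ∧
      T = {x} ∪ O1 ∪ O2 ∪ O3 ∪ O4 := by
  obtain ⟨n01, n02, n03, n04, n12, n13, n14, n23, n24, n34⟩ := hne
  have fin1 := hT.subset h1
  have fin2 := hT.subset h2
  have fin3 := hT.subset h3
  have fin4 := hT.subset h4
  have g1 : ∀ z ∈ ({x} ∪ O1 : Set α), f z = c0 ∨ f z = c1 := by
    rintro z (rfl | h)
    · exact Or.inl f0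
    · exact Or.inr (f1 z h)
  have g2 : ∀ z ∈ ({x} ∪ O1 ∪ O2 : Set α), f z = c0 ∨ f z = c1 ∨ f z = c2 := by
    rintro z (h | h)
    · rcases g1 z h with h | h
      · exact Or.inl h
      · exact Or.inr (Or.inl h)
    · exact Or.inr (Or.inr (f2 z h))
  have g3 : ∀ z ∈ ({x} ∪ O1 ∪ O2 ∪ O3 : Set α), f z = c0 ∨ f z = c1 ∨ f z = c2 ∨ f z = c3 := by
    rintro z (h | h)
    · rcases g2 z h with h | h | h
      · exact Or.inl h
      · exact Or.inr (Or.inl h)
      · exact Or.inr (Or.inr (Or.inl h))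
    · exact Or.inr (Or.inr (Or.inr (f3 z h)))
  have d1 : Disjoint ({x} : Set α) O1 := Set.disjoint_left.mpr (by
    rintro z rfl hz
    exact n01 (f0.symm.trans (f1 z hz)))
  have d2 : Disjoint ({x} ∪ O1 : Set α) O2 := Set.disjoint_left.mpr (by
    intro z hz hz2
    have e := f2 z hz2
    rcases g1 z hz with h | h
    · exact n02 (h.symm.trans e)
    · exact n12 (h.symm.trans e))
  have d3 : Disjoint ({x} ∪ O1 ∪ O2 : Set α) O3 := Set.disjoint_left.mpr (by
    intro z hz hz2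
    have e := f3 z hz2
    rcases g2 z hz with h | h | h
    · exact n03 (h.symm.trans e)
    · exact n13 (h.symm.trans e)
    · exact n23 (h.symm.trans e))
  have d4 : Disjoint ({x} ∪ O1 ∪ O2 ∪ O3 : Set α) O4 := Set.disjoint_left.mpr (by
    intro z hz hz2
    have e := f4 z hz2
    rcases g3 z hz with h | h | h | h
    · exact n04 (h.symm.trans e)
    · exact n14 (h.symm.trans e)
    · exact n24 (h.symm.trans e)
    · exact n34 (h.symm.trans e))
  have k1 : ({x} ∪ O1 : Set α).Finite := (Set.finite_singleton x).union fin1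
  have k2 : ({x} ∪ O1 ∪ O2 : Set α).Finite := k1.union fin2
  have k3 : ({x} ∪ O1 ∪ O2 ∪ O3 : Set α).Finite := k2.union fin3
  have e1 : ({x} ∪ O1 : Set α).ncard = 1 + O1.ncard := by
    rw [Set.ncard_union_eq d1 (Set.finite_singleton x) fin1, Set.ncard_singleton]
  have e2 : ({x} ∪ O1 ∪ O2 : Set α).ncard = 1 + O1.ncard + O2.ncard := by
    rw [Set.ncard_union_eq d2 k1 fin2, e1]
  have e3 : ({x} ∪ O1 ∪ O2 ∪ O3 : Set α).ncard = 1 + O1.ncard + O2.ncard + O3.ncard := by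
    rw [Set.ncard_union_eq d3 k2 fin3, e2]
  have e4 : ({x} ∪ O1 ∪ O2 ∪ O3 ∪ O4 : Set α).ncard =
      1 + O1.ncard + O2.ncard + O3.ncard + O4.ncard := by
    rw [Set.ncard_union_eq d4 k3 fin4, e3]
  have hsub : ({x} ∪ O1 ∪ O2 ∪ O3 ∪ O4 : Set α) ⊆ T := by
    rintro z ((((rfl | h) | h) | h) | h)
    · exact hx
    · exact h1 h
    · exact h2 h
    · exact h3 h
    · exact h4 h
  have hle := Set.ncard_le_ncard hsub hT
  refine ⟨by omega, by omega, by omega, by omega,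
    (Set.eq_of_subset_of_ncard_le hsub (by omega) hT).symm⟩

/-! ### the roots of the certificates -/

def r5yA : IVec := decV (getWd 96 r5MCA r5rA)
def r5yB : IVec := decV (getWd 96 r5MCB r5rB)
def r5yC : IVec := decV (getWd 96 r5MCC r5rC)
def r5yD : IVec := decV (getWd 96 r5MCD r5rD)

set_option maxRecDepth 100000 in
theorem r5yA_chk : leechChk r5yA = true := by decide +kernel

set_option maxRecDepth 100000 in
theorem r5yB_chk : leechChk r5yB = true := by decide +kernel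

set_option maxRecDepth 100000 in
theorem r5yC_chk : leechChk r5yC = true := by decide +kernel

set_option maxRecDepth 100000 in
theorem r5yD_chk : leechChk r5yD = true := by decide +kernel

set_option maxRecDepth 100000 in
theorem r5yA_facts : sqNorm r5yA = 32 ∧ dotInt u48 r5yA = -16 ∧ dotInt x48 r5yA = -8 := by
  decide +kernel

set_option maxRecDepth 100000 in
theorem r5yB_facts : sqNorm r5yB = 32 ∧ dotInt u48 r5yB = -16 ∧ dotInt x48 r5yB = 16 := by
  decide +kernel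

set_option maxRecDepth 100000 in
theorem r5yC_facts : sqNorm r5yC = 32 ∧ dotInt u48 r5yC = -16 ∧ dotInt x48 r5yC = 0 := by
  decide +kernel

set_option maxRecDepth 100000 in
theorem r5yD_facts : sqNorm r5yD = 32 ∧ dotInt u48 r5yD = -16 ∧ dotInt x48 r5yD = 8 := by
  decide +kernel

def latYA : ↥leechLattice := ⟨r5yA, mem_of_leechChk r5yA_chk⟩
def latYB : ↥leechLattice := ⟨r5yB, mem_of_leechChk r5yB_chk⟩
def latYC : ↥leechLattice := ⟨r5yC, mem_of_leechChk r5yC_chk⟩
def latYD : ↥leechLattice := ⟨r5yD, mem_of_leechChk r5yD_chk⟩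

theorem trans48' : Trans48 := fun v w hv hw => Cfsg.Agent.S0401.result v w hv hw

theorem latU_norm : sqNorm (latU : IVec) = 48 := sqNorm_u48

theorem orbSet_sub {y : ↥leechLattice} (hy : sqNorm (y : IVec) = 32)
    (hd : dotInt u48 (y : IVec) = -16) : orbSet latU latX y ⊆ shellDot 32 (-16) latU := by
  intro z hz
  obtain ⟨-, h2, h3⟩ := orbSet_dot hz
  exact ⟨h3.trans hy, h2.trans hd⟩

/-- the base case -/
theorem r5_base : (orbSet latU latX latYA).ncard = 352 ∧ (orbSet latU latX latYB).ncard = 1100 ∧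
    (orbSet latU latX latYC).ncard = 4125 ∧ (orbSet latU latX latYD).ncard = 5600 ∧
    shellDot 32 (-16) latU = {latX} ∪ orbSet latU latX latYA ∪ orbSet latU latX latYB ∪
      orbSet latU latX latYC ∪ orbSet latU latX latYD := by
  have hcard := ncard_shellDot_48 trans48' latU latU_norm
  have hT : (shellDot 32 (-16) latU).Finite := Set.finite_of_ncard_ne_zero (by rw [hcard]; norm_num)
  have sA := orbSet_sub (y := latYA) r5yA_facts.1 r5yA_facts.2.1
  have sB := orbSet_sub (y := latYB) r5yB_facts.1 r5yB_facts.2.1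
  have sC := orbSet_sub (y := latYC) r5yC_facts.1 r5yC_facts.2.1
  have sD := orbSet_sub (y := latYD) r5yD_facts.1 r5yD_facts.2.1
  refine squeeze5 (fun z : ↥leechLattice => dotInt x48 (z : IVec))
    (c0 := 32) (c1 := -8) (c2 := 16) (c3 := 0) (c4 := 8) hT hcard
    ⟨x48_facts.1, x48_facts.2.1⟩ sA sB sC sD ?_ ?_ ?_ ?_ ?_ (by norm_num) ?_ ?_ ?_ ?_
  · show dotInt x48 x48 = 32
    rw [dotInt_self, x48_facts.1]
  · intro z hz
    exact (orbSet_dot hz).1.trans r5yA_facts.2.2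
  · intro z hz
    exact (orbSet_dot hz).1.trans r5yB_facts.2.2
  · intro z hz
    exact (orbSet_dot hz).1.trans r5yC_facts.2.2
  · intro z hz
    exact (orbSet_dot hz).1.trans r5yD_facts.2.2
  · exact cert_ncard r5_hgen r5certA rfl (hT.subset sA)
  · exact cert_ncard r5_hgen r5certB rfl (hT.subset sB)
  · exact cert_ncard r5_hgen r5certC rfl (hT.subset sC)
  · exact cert_ncard r5_hgen r5certD rfl (hT.subset sD)

/-- the general case -/
theorem r5_main (u x : ↥leechLattice) (hu : sqNorm (u : IVec) = 48)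
    (hx : x ∈ shellDot 32 (-16) u) :
    ∃ y₁ ∈ shellDot 32 (-16) u, ∃ y₂ ∈ shellDot 32 (-16) u, ∃ y₃ ∈ shellDot 32 (-16) u,
      ∃ y₄ ∈ shellDot 32 (-16) u,
      (orbSet u x y₁).ncard = 352 ∧ (orbSet u x y₂).ncard = 1100 ∧
      (orbSet u x y₃).ncard = 4125 ∧ (orbSet u x y₄).ncard = 5600 ∧
      shellDot 32 (-16) u = {x} ∪ orbSet u x y₁ ∪ orbSet u x y₂ ∪ orbSet u x y₃ ∪
        orbSet u x y₄ := by
  obtain ⟨g₀, hg₀⟩ := trans48' latU u latU_norm hu
  have hx' : g₀⁻¹ • x ∈ shellDot 32 (-16) latU := by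
    refine ⟨(co0_sqNorm _ _).trans hx.1, ?_⟩
    rw [← co0_dotInt g₀, hg₀, smul_inv_smul]
    exact hx.2
  obtain ⟨h, hh1, hh2⟩ := trans_of_base' (N := 48) trans48' u48_mem sqNorm_u48 (-16) base48
    latU latX (g₀⁻¹ • x) latU_norm x48_facts.1 hx'.1 x48_facts.2.1 hx'.2
  have hgu : (g₀ * h) • latU = u := by rw [mul_smul, hh1, hg₀]
  have hgx : (g₀ * h) • latX = x := by rw [mul_smul, hh2, smul_inv_smul]
  obtain ⟨cA, cB, cC, cD, hU⟩ := r5_base
  have hinj : Function.Injective fun z : ↥leechLattice => (g₀ * h) • z :=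
    MulAction.injective (g₀ * h)
  have hsh : shellDot 32 (-16) u =
      (fun z : ↥leechLattice => (g₀ * h) • z) '' shellDot 32 (-16) latU := by
    rw [← shellDot_smul, hgu]
  have hmem : ∀ y : ↥leechLattice, sqNorm (y : IVec) = 32 → dotInt u48 (y : IVec) = -16 →
      (g₀ * h) • y ∈ shellDot 32 (-16) u := by
    intro y h1 h2
    rw [hsh]
    exact Set.mem_image_of_mem _ ⟨h1, h2⟩
  have horb : ∀ y : ↥leechLattice, orbSet u x ((g₀ * h) • y) =
      (fun z : ↥leechLattice => (g₀ * h) • z) '' orbSet latU latX y := by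
    intro y
    rw [← orbSet_smul, hgu, hgx]
  refine ⟨(g₀ * h) • latYA, hmem _ r5yA_facts.1 r5yA_facts.2.1,
    (g₀ * h) • latYB, hmem _ r5yB_facts.1 r5yB_facts.2.1,
    (g₀ * h) • latYC, hmem _ r5yC_facts.1 r5yC_facts.2.1,
    (g₀ * h) • latYD, hmem _ r5yD_facts.1 r5yD_facts.2.1, ?_, ?_, ?_, ?_, ?_⟩
  · rw [horb, Set.ncard_image_of_injective _ hinj, cA]
  · rw [horb, Set.ncard_image_of_injective _ hinj, cB]
  · rw [horb, Set.ncard_image_of_injective _ hinj, cC]
  · rw [horb, Set.ncard_image_of_injective _ hinj, cD]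
  · rw [horb, horb, horb, horb, hsh, hU, Set.image_union, Set.image_union, Set.image_union,
      Set.image_union, Set.image_singleton, hgx]

end Cfsg.Agent.Helper26
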