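import Cfsg.Agent.Helper26.R5Cert

/-!
# The certificate checker with the data given by functions, and chunked access to packed data

Reading the `i`-th word of a packed natural by one shift keeps in the kernel's cache a number of
the size of the remaining data for each `i`; reading it in two steps (first a chunk of `K` words,
then the word inside the chunk) keeps the memory linear.
-/

set_option autoImplicit false

namespace Cfsg.Agent.Helper26

open Cfsg Cfsg.Agent.Helper8 Cfsg.Agent.Helper27 Cfsg.Agent.Helper92
open scoped Pointwise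

/-- the `i`-th word of width `w` of a packed natural, read through chunks of `K` words -/
def getCh (w K M i : ℕ) : ℕ := getWd w (getWd (Nat.mul w K) M (Nat.div i K)) (Nat.mod i K)

section CheckerF

variable (actG : ℕ → IVec → IVec)

/-- the check of the entry with number `i`, the data being given by functions -/
def entryOKF (n r0 : ℕ) (C P Gn D : ℕ → ℕ) (i : ℕ) : Bool :=
  (Nat.ble n (i + 1) || Nat.blt (C i) (C (i + 1))) &&
    Nat.beq (encV (decV (C i))) (C i) &&
    (if Nat.beq i r0 then Nat.beq (D i) 0 else
      Nat.blt (P i) n && Nat.blt (D (P i)) (D i) &&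
        vecEqB (actG (Gn i) (decV (C (P i))))
          (decV (C i)))

/-- the check of the certificate -/
def certOKF (n r0 : ℕ) (C P Gn D : ℕ → ℕ) : Bool :=
  allBelow n (entryOKF actG n r0 C P Gn D)

variable {actG}

theorem cert_soundF {u x y : ↥leechLattice}
    (hgen : ∀ t, ∃ h : ↥Co0, h • u = u ∧ h • x = x ∧
      ∀ v : ↥leechLattice, ((h • v : ↥leechLattice) : IVec) = actG t (v : IVec))
    {n r0 : ℕ} {C P Gn D : ℕ → ℕ} (hc : certOKF actG n r0 C P Gn D = true)
    (hy : (y : IVec) = decV (C r0)) :
    ∀ i < n, ∃ z ∈ orbSet u x y, (z : IVec) = decV (C i) := by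
  unfold certOKF at hc
  rw [allBelow_iff] at hc
  have key : ∀ d i, i < n → D i = d →
      ∃ z ∈ orbSet u x y, (z : IVec) = decV (C i) := by
    intro d
    induction d using Nat.strong_induction_on with
    | _ d ih =>
      intro i hi hd
      have h := hc i hi
      unfold entryOKF at h
      rw [Bool.and_eq_true] at h
      obtain ⟨-, h3⟩ := h
      by_cases hr : i = r0
      · subst hr
        exact ⟨y, orbSet_self u x y, hy⟩
      · rw [if_neg (fun hb => hr (Nat.eq_of_beq_eq_true hb)), Bool.and_eq_true, Bool.and_eq_true,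
          Nat.blt_eq, Nat.blt_eq, vecEqB_iff] at h3
        obtain ⟨⟨hp, hdp⟩, hv⟩ := h3
        obtain ⟨z, hz, hzv⟩ := ih _ (by rw [← hd]; exact hdp) _ hp rfl
        obtain ⟨g, g1, g2, g3⟩ := hgen (Gn i)
        refine ⟨g • z, orbSet_step hz g1 g2, ?_⟩
        rw [g3, hzv, hv]
  intro i hi
  exact key _ i hi rfl

theorem cert_strictMonoF {n r0 : ℕ} {C P Gn D : ℕ → ℕ} (hc : certOKF actG n r0 C P Gn D = true) :
    ∀ i i', i < i' → i' < n → C i < C i' := by
  unfold certOKF at hc
  rw [allBelow_iff] at hc
  have step : ∀ i, i + 1 < n → C i < C (i + 1) := by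
    intro i hi
    have h := hc i (Nat.lt_of_succ_lt hi)
    unfold entryOKF at h
    rw [Bool.and_eq_true, Bool.and_eq_true, Bool.or_eq_true] at h
    rcases h.1.1 with h' | h'
    · rw [Nat.ble_eq] at h'
      omega
    · rwa [Nat.blt_eq] at h'
  intro i i' hii'
  induction i', hii' using Nat.le_induction with
  | base => exact fun h => step i h
  | succ k hk ih =>
    intro h
    exact lt_trans (ih (Nat.lt_of_succ_lt h)) (step k h)

theorem cert_injF {n r0 : ℕ} {C P Gn D : ℕ → ℕ} (hc : certOKF actG n r0 C P Gn D = true) :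
    ∀ i i', i < n → i' < n → decV (C i) = decV (C i') → i = i' := by
  have hmono := cert_strictMonoF hc
  unfold certOKF at hc
  rw [allBelow_iff] at hc
  have henc : ∀ i < n, encV (decV (C i)) = C i := by
    intro i hi
    have h := hc i hi
    unfold entryOKF at h
    rw [Bool.and_eq_true, Bool.and_eq_true] at h
    exact Nat.eq_of_beq_eq_true h.1.2
  intro i i' hi hi' he
  have hcode : C i = C i' := by rw [← henc i hi, ← henc i' hi', he]
  rcases Nat.lt_trichotomy i i' with h | h | h
  · exact absurd hcode (Nat.ne_of_lt (hmono i i' h hi'))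
  · exact h
  · exact absurd hcode.symm (Nat.ne_of_lt (hmono i' i h hi))

/-- the certificate bounds the orbit from below -/
theorem cert_ncardF {u x y : ↥leechLattice}
    (hgen : ∀ t, ∃ h : ↥Co0, h • u = u ∧ h • x = x ∧
      ∀ v : ↥leechLattice, ((h • v : ↥leechLattice) : IVec) = actG t (v : IVec))
    {n r0 : ℕ} {C P Gn D : ℕ → ℕ} (hc : certOKF actG n r0 C P Gn D = true)
    (hy : (y : IVec) = decV (C r0)) (hfin : (orbSet u x y).Finite) :
    n ≤ (orbSet u x y).ncard := by
  classical
  have hs := cert_soundF hgen hc hy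
  have hinj := cert_injF hc
  let f : ℕ → ↥leechLattice := fun i => if h : i < n then Classical.choose (hs i h) else y
  have hf : ∀ i (h : i < n), f i ∈ orbSet u x y ∧ ((f i : ↥leechLattice) : IVec) =
      decV (C i) := by
    intro i h
    have := Classical.choose_spec (hs i h)
    simp only [f, dif_pos h]
    exact this
  have hsub : f '' (Set.Iio n) ⊆ orbSet u x y := by
    rintro _ ⟨i, hi, rfl⟩
    exact (hf i hi).1
  have hinjOn : Set.InjOn f (Set.Iio n) := by
    intro i hi i' hi' he
    apply hinj i i' hi hi'
    rw [← (hf i hi).2, ← (hf i' hi').2, he]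
  calc n = (Set.Iio n).ncard := by
        rw [← Finset.coe_Iio, Set.ncard_coe_finset, Nat.card_Iio]
    _ = (f '' Set.Iio n).ncard := (Set.InjOn.ncard_image hinjOn).symm
    _ ≤ (orbSet u x y).ncard := Set.ncard_le_ncard hsub hfin

end CheckerF

/-- the check of a certificate packed in four naturals, read through chunks of 128 entries -/
def certOKC (actG : ℕ → IVec → IVec) (n r0 MC MP MG MD : ℕ) : Bool :=
  certOKF actG n r0 (getCh 96 128 MC) (getCh 16 128 MP) (getCh 8 128 MG) (getCh 8 128 MD)

/-- the check of the entries with numbers in `[lo, lo + len)` of such a certificate -/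
def rangeOKC (actG : ℕ → IVec → IVec) (n r0 MC MP MG MD lo len : ℕ) : Bool :=
  allBelow len fun j => entryOKF actG n r0 (getCh 96 128 MC) (getCh 16 128 MP) (getCh 8 128 MG)
    (getCh 8 128 MD) (Nat.add lo j)

theorem rangeOKC_spec {actG : ℕ → IVec → IVec} {n r0 MC MP MG MD lo len : ℕ}
    (h : rangeOKC actG n r0 MC MP MG MD lo len = true) (i : ℕ) (h1 : lo ≤ i) (h2 : i < lo + len) :
    entryOKF actG n r0 (getCh 96 128 MC) (getCh 16 128 MP) (getCh 8 128 MG) (getCh 8 128 MD) i =
      true := by
  unfold rangeOKC at h
  rw [allBelow_iff] at h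
  have := h (i - lo) (by omega)
  have e : Nat.add lo (i - lo) = i := by
    show lo + (i - lo) = i
    omega
  rwa [e] at this

theorem certOKC_of_forall {actG : ℕ → IVec → IVec} {n r0 MC MP MG MD : ℕ}
    (h : ∀ i < n, entryOKF actG n r0 (getCh 96 128 MC) (getCh 16 128 MP) (getCh 8 128 MG)
      (getCh 8 128 MD) i = true) : certOKC actG n r0 MC MP MG MD = true := by
  unfold certOKC certOKF
  rw [allBelow_iff]
  exact h

end Cfsg.Agent.Helper26
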