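import Mathlib

/-!
# A simplicity criterion: a faithful transitive group of degree 100 with a simple point
stabiliser having orbits of lengths 1, 22 and 77
-/

set_option autoImplicit false

namespace Cfsg.Agent.Helper26

open MulAction
open scoped Pointwise

/-- a transitive action whose point stabiliser has three orbits, of lengths `1`, `22`, `77`, is
primitive -/
theorem isPreprimitive_of_rank3 {H Ω : Type*} [Group H] [MulAction H Ω] [Finite Ω]
    [IsPretransitive H Ω] (a : Ω) (A B : Set Ω)
    (hcover : ∀ y, y = a ∨ y ∈ A ∨ y ∈ B)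
    (hA : ∀ y ∈ A, ∀ y' ∈ A, ∃ h ∈ stabilizer H a, h • y = y')
    (hB : ∀ y ∈ B, ∀ y' ∈ B, ∃ h ∈ stabilizer H a, h • y = y')
    (hcard : Nat.card Ω = 100) (hAc : A.ncard = 22) (hBc : B.ncard = 77) :
    IsPreprimitive H Ω := by
  apply IsPreprimitive.of_isTrivialBlock_base a
  intro S haS hS
  have hfin : ∀ T : Set Ω, T.Finite := fun T => Set.toFinite T
  -- the block is invariant under the point stabiliser
  have hinv : ∀ h ∈ stabilizer H a, ∀ y ∈ S, h • y ∈ S := by
    intro h hh y hy
    have := hS.stabilizer_le haS hh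
    rw [mem_stabilizer_iff] at this
    rw [← this]
    exact Set.smul_mem_smul_set hy
  have hAS : (∃ y ∈ A, y ∈ S) → A ⊆ S := by
    rintro ⟨y, hyA, hyS⟩ y' hy'
    obtain ⟨h, hh, rfl⟩ := hA y hyA y' hy'
    exact hinv h hh y hyS
  have hBS : (∃ y ∈ B, y ∈ S) → B ⊆ S := by
    rintro ⟨y, hyB, hyS⟩ y' hy'
    obtain ⟨h, hh, rfl⟩ := hB y hyB y' hy'
    exact hinv h hh y hyS
  have hdvd : S.ncard ∣ 100 := by
    rw [← hcard]
    exact hS.ncard_dvd_card ⟨a, haS⟩
  by_cases h1 : ∃ y ∈ A, y ∈ S <;> by_cases h2 : ∃ y ∈ B, y ∈ S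
  · right
    rw [Set.eq_univ_iff_forall]
    intro y
    rcases hcover y with rfl | hy | hy
    · exact haS
    · exact hAS h1 hy
    · exact hBS h2 hy
  · exfalso
    have hsub : S ⊆ insert a A := by
      intro y hy
      rcases hcover y with rfl | hyA | hyB
      · exact Set.mem_insert _ _
      · exact Set.mem_insert_of_mem _ hyA
      · exact absurd ⟨y, hyB, hy⟩ h2
    have hle : S.ncard ≤ 23 := by
      have h3 := Set.ncard_le_ncard hsub (hfin _)
      have h4 := Set.ncard_insert_le a A
      omega
    have hge : 22 ≤ S.ncard := by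
      rw [← hAc]
      exact Set.ncard_le_ncard (hAS h1) (hfin _)
    have : S.ncard = 22 ∨ S.ncard = 23 := by omega
    rcases this with h | h <;> rw [h] at hdvd <;> omega
  · exfalso
    have hsub : S ⊆ insert a B := by
      intro y hy
      rcases hcover y with rfl | hyA | hyB
      · exact Set.mem_insert _ _
      · exact absurd ⟨y, hyA, hy⟩ h1
      · exact Set.mem_insert_of_mem _ hyB
    have hle : S.ncard ≤ 78 := by
      have h3 := Set.ncard_le_ncard hsub (hfin _)
      have h4 := Set.ncard_insert_le a B
      omega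
    have hge : 77 ≤ S.ncard := by
      rw [← hBc]
      exact Set.ncard_le_ncard (hBS h2) (hfin _)
    have : S.ncard = 77 ∨ S.ncard = 78 := by omega
    rcases this with h | h <;> rw [h] at hdvd <;> omega
  · left
    intro y hy z hz
    have e1 : y = a := by
      rcases hcover y with rfl | hyA | hyB
      · rfl
      · exact absurd ⟨y, hyA, hy⟩ h1
      · exact absurd ⟨y, hyB, hy⟩ h2
    have e2 : z = a := by
      rcases hcover z with rfl | hzA | hzB
      · rfl
      · exact absurd ⟨z, hzA, hz⟩ h1
      · exact absurd ⟨z, hzB, hz⟩ h2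
    rw [e1, e2]

/-- a nontrivial normal subgroup of a faithful primitive group is transitive -/
theorem normal_isPretransitive_of_preprimitive {H Ω : Type*} [Group H] [MulAction H Ω]
    [FaithfulSMul H Ω] [IsPreprimitive H Ω] (N : Subgroup H) [N.Normal] (hN : N ≠ ⊥) :
    IsPretransitive N Ω := by
  refine IsQuasiPreprimitive.isPretransitive_of_normal (G := H) (X := Ω) ?_
  intro hfix
  apply hN
  rw [eq_bot_iff]
  intro n hn
  rw [Subgroup.mem_bot]
  apply FaithfulSMul.eq_of_smul_eq_smul (α := Ω)
  intro x
  have hx : x ∈ fixedPoints N Ω := by rw [hfix]; exact Set.mem_univ x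
  have := hx ⟨n, hn⟩
  simpa using this

/-- the simplicity criterion -/
theorem isSimpleGroup_of_rank3 {H Ω : Type*} [Group H] [MulAction H Ω] [FaithfulSMul H Ω]
    [Finite H] [Finite Ω] [IsPretransitive H Ω] (a : Ω)
    (hs : IsSimpleGroup (stabilizer H a)) (A B : Set Ω)
    (hcover : ∀ y, y = a ∨ y ∈ A ∨ y ∈ B)
    (hA : ∀ y ∈ A, ∀ y' ∈ A, ∃ h ∈ stabilizer H a, h • y = y')
    (hB : ∀ y ∈ B, ∀ y' ∈ B, ∃ h ∈ stabilizer H a, h • y = y')
    (hcard : Nat.card Ω = 100) (hAc : A.ncard = 22) (hBc : B.ncard = 77) :
    IsSimpleGroup H := by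
  have hprim : IsPreprimitive H Ω := isPreprimitive_of_rank3 a A B hcover hA hB hcard hAc hBc
  have hnt : Nontrivial H := by
    obtain ⟨x, y, hxy⟩ := hs.toNontrivial
    exact ⟨⟨x.1, y.1, fun h => hxy (Subtype.ext h)⟩⟩
  -- the degree divides the order of a nontrivial normal subgroup
  have hdiv : ∀ N : Subgroup H, N.Normal → N ≠ ⊥ → 100 ∣ Nat.card N := by
    intro N hN hbot
    have htr := normal_isPretransitive_of_preprimitive (Ω := Ω) N hbot
    rw [← hcard, ← MulAction.index_stabilizer_of_transitive N a]
    exact Subgroup.index_dvd_card _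
  refine ⟨fun N hN => ?_⟩
  by_cases hbot : N = ⊥
  · exact Or.inl hbot
  right
  have htr := normal_isPretransitive_of_preprimitive (Ω := Ω) N hbot
  have hKn : (N.subgroupOf (stabilizer H a)).Normal := inferInstance
  rcases hs.eq_bot_or_eq_top_of_normal _ hKn with hK | hK
  · -- regular normal subgroup: impossible
    exfalso
    rw [Subgroup.subgroupOf_eq_bot] at hK
    have hstab : stabilizer N a = ⊥ := by
      rw [eq_bot_iff]
      intro n hn
      rw [Subgroup.mem_bot]
      have hn' : (n : H) • a = a := hn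
      have h1 : (n : H) ∈ N ⊓ stabilizer H a := Subgroup.mem_inf.mpr ⟨n.2, hn'⟩
      rw [hK.eq_bot, Subgroup.mem_bot] at h1
      exact Subtype.ext h1
    have hcN : Nat.card N = 100 := by
      rw [← hcard, ← MulAction.index_stabilizer_of_transitive N a, hstab, Subgroup.index_bot]
    have : Fact (Nat.Prime 5) := ⟨by norm_num⟩
    obtain ⟨P⟩ : Nonempty (Sylow 5 N) := Sylow.nonempty
    have hcP : Nat.card P = 25 := by
      rw [Sylow.card_eq_multiplicity, hcN]
      have : Nat.factorization 100 5 = 2 := by
        have h : (100 : ℕ) = 5 ^ 2 * 2 ^ 2 := by norm_num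
        rw [h, Nat.factorization_mul (by norm_num) (by norm_num), Nat.factorization_pow,
          Nat.factorization_pow]
        simp [Nat.Prime.factorization (by norm_num : Nat.Prime 5),
          Nat.Prime.factorization (by norm_num : Nat.Prime 2)]
      rw [this]
      norm_num
    have hidx : (P : Subgroup N).index = 4 := by
      have := (P : Subgroup N).card_mul_index
      rw [hcP, hcN] at this
      omega
    have h1 := Sylow.card_dvd_index P
    have h2 := card_sylow_modEq_one 5 N
    rw [hidx] at h1
    have hle : Nat.card (Sylow 5 N) ≤ 4 := Nat.le_of_dvd (by norm_num) h1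
    have hone : Nat.card (Sylow 5 N) = 1 := by
      unfold Nat.ModEq at h2
      have hpos : 0 < Nat.card (Sylow 5 N) := Nat.pos_of_dvd_of_pos h1 (by norm_num)
      interval_cases (Nat.card (Sylow 5 N)) <;> simp_all
    have : Subsingleton (Sylow 5 N) := (Nat.card_eq_one_iff_unique.mp hone).1
    have : (P : Subgroup N).Characteristic := Sylow.characteristic_of_subsingleton P
    have hPn : ((P : Subgroup N).map N.subtype).Normal := ConjAct.normal_of_characteristic_of_normal
    have hcP' : Nat.card ((P : Subgroup N).map N.subtype) = 25 := by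
      rw [Subgroup.card_map_of_injective N.subtype_injective, hcP]
    have hne : (P : Subgroup N).map N.subtype ≠ ⊥ := by
      intro h
      rw [h, Subgroup.card_bot] at hcP'
      norm_num at hcP'
    have := hdiv _ hPn hne
    rw [hcP'] at this
    omega
  · -- the point stabiliser is inside the normal subgroup
    rw [Subgroup.subgroupOf_eq_top] at hK
    rw [eq_top_iff]
    intro h _
    obtain ⟨n, hn⟩ := MulAction.exists_smul_eq N a (h • a)
    have h1 : (n : H)⁻¹ * h ∈ stabilizer H a := by
      rw [mem_stabilizer_iff, mul_smul, inv_smul_eq_iff]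
      exact hn.symm
    have h2 : (n : H)⁻¹ * h ∈ N := hK h1
    have := N.mul_mem n.2 h2
    rwa [mul_inv_cancel_left] at this

end Cfsg.Agent.Helper26
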