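import Cfsg.Agent.Helper26.SecBase
import Cfsg.Agent.Helper90.ExtraCrit
import Cfsg.Agent.Helper53.Heis

/-!
# Simple sections of `Co0` from elements of odd prime order in the centraliser of the involution

Let `a` be an element of odd order `p` of the centraliser `N` of the involution `tE` of `Co0`,
`X = C_N(a)`, `E = C_{K0}(a)` with `K0` the normal extraspecial subgroup of `N`.  Given a
homomorphism of `X` onto a simple group with kernel `E · ⟨a, -1⟩` and a few elements, the quotient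
`C(a) / ⟨a, -1⟩` is simple and satisfies the large extraspecial hypothesis.
-/

set_option autoImplicit false

namespace Cfsg.Agent.Helper26.SecAsm

open Cfsg Cfsg.Agent.Helper7 Cfsg.Agent.Helper8 Cfsg.Agent.Helper27 Cfsg.Agent.Helper26.Co2Inv
  Cfsg.Agent.Helper26.Co1Inv Cfsg.Agent.Helper26.SecLocal MulAction

/-- the input of the construction -/
structure SecInput (ι : Type) [Fintype ι] [DecidableEq ι] (Qm : (ι → ZMod 2) → ZMod 2)
    (p k : ℕ) extends SecBase p where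
  rho : ↥(XS a) →* ↥(Cfsg.Omega (ZMod 2) Qm)
  hsurj : Function.Surjective rho
  hker : ∀ x : ↥(XS a), rho x = 1 ↔ ∃ e ∈ ES a, ∃ c ∈ AZS a, x.1 = e * c
  hsimple : IsSimpleGroup ↥(Cfsg.Omega (ZMod 2) Qm)
  hnot2 : ¬ IsPGroup 2 ↥(Cfsg.Omega (ZMod 2) Qm)
  hcard : Nat.card ↥(ES a) = 2 ^ k
  hcen : ∀ e ∈ ES a, (∀ e' ∈ ES a, e' * e = e * e') → e = 1 ∨ e = tE
  hnc : ∃ e ∈ ES a, ∃ e' ∈ ES a, e * e' ≠ e' * e
  g0 : ↥Co0
  s : ↥Co0
  hg0 : g0 * a = a * g0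
  hs : s ∈ ES a
  hs1 : s ≠ tE
  hconj : g0 * tE * g0⁻¹ = negCo0 * s
  hgen : ∀ M : Subgroup ↥Co0, tE ∈ M → s ∈ M →
    (∀ x ∈ XS a, ∀ m ∈ M, x * m * x⁻¹ ∈ M) → ES a ≤ M
  c : ↥Co0
  g1 : ↥Co0
  hcX : c ∈ XS a
  hg1 : g1 * a = a * g1
  hc : c = g1 * tE * g1⁻¹ ∨ c = negCo0 * (g1 * tE * g1⁻¹)
  em : ↥Co0
  hem : em ∈ ES a
  hmove1 : c * em * c⁻¹ ≠ em
  hmove2 : c * em * c⁻¹ ≠ tE * em

section

variable {ι : Type} [Fintype ι] [DecidableEq ι] {Qm : (ι → ZMod 2) → ZMod 2} {p k : ℕ}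
  (D : SecInput ι Qm p k)

namespace SecInput

/-- the normal subgroup -/
noncomputable abbrev B : Subgroup ↥D.CA := (AZS D.a).subgroupOf D.CA

instance normal_B : D.B.Normal := by
  refine ⟨fun n hn g => ?_⟩
  rw [Subgroup.mem_subgroupOf] at hn ⊢
  have e : ((g * n * g⁻¹ : ↥D.CA) : ↥Co0) = n.1 := by
    show g.1 * n.1 * g.1⁻¹ = n.1
    rw [← D.AZ_comm hn g.2, mul_inv_cancel_right]
  rw [e]
  exact hn

/-- the section -/
noncomputable abbrev Sec : Type := ↥D.CA ⧸ D.B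

/-- the quotient map, extended by `1` -/
noncomputable def mk0 (g : ↥Co0) : D.Sec := by
  classical exact if h : g ∈ D.CA then ((⟨g, h⟩ : ↥D.CA) : D.Sec) else 1

theorem mk0_of {g : ↥Co0} (h : g ∈ D.CA) : D.mk0 g = ((⟨g, h⟩ : ↥D.CA) : D.Sec) := by
  unfold mk0
  rw [dif_pos h]

theorem mk0_mul {g h : ↥Co0} (hg : g ∈ D.CA) (hh : h ∈ D.CA) :
    D.mk0 (g * h) = D.mk0 g * D.mk0 h := by
  rw [D.mk0_of hg, D.mk0_of hh, D.mk0_of (D.CA.mul_mem hg hh)]
  rfl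

theorem mk0_one : D.mk0 1 = 1 := by
  rw [D.mk0_of D.CA.one_mem]
  rfl

theorem mk0_inv {g : ↥Co0} (hg : g ∈ D.CA) : D.mk0 g⁻¹ = (D.mk0 g)⁻¹ := by
  rw [D.mk0_of hg, D.mk0_of (D.CA.inv_mem hg)]
  rfl

theorem mk0_conj {g h : ↥Co0} (hg : g ∈ D.CA) (hh : h ∈ D.CA) :
    D.mk0 (g * h * g⁻¹) = D.mk0 g * D.mk0 h * (D.mk0 g)⁻¹ := by
  rw [D.mk0_mul (D.CA.mul_mem hg hh) (D.CA.inv_mem hg), D.mk0_mul hg hh, D.mk0_inv hg]

theorem mk0_eq_iff {g h : ↥Co0} (hg : g ∈ D.CA) (hh : h ∈ D.CA) :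
    D.mk0 g = D.mk0 h ↔ ∃ w ∈ AZS D.a, h = g * w := by
  rw [D.mk0_of hg, D.mk0_of hh, QuotientGroup.eq, Subgroup.mem_subgroupOf]
  constructor
  · intro hw
    exact ⟨_, hw, by show h = g * (g⁻¹ * h); rw [mul_inv_cancel_left]⟩
  · rintro ⟨w, hw, rfl⟩
    show g⁻¹ * (g * w) ∈ AZS D.a
    rw [inv_mul_cancel_left]
    exact hw

theorem mk0_surj (y : D.Sec) : ∃ g ∈ D.CA, D.mk0 g = y := by
  obtain ⟨g, rfl⟩ := QuotientGroup.mk_surjective y
  exact ⟨g.1, g.2, D.mk0_of g.2⟩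

/-- equality of images of elements of the extraspecial group -/
theorem mk0_inj_K0 {g h : ↥Co0} (hg : g ∈ ES D.a) (hh : h ∈ ES D.a) (e : D.mk0 g = D.mk0 h) :
    g = h := by
  obtain ⟨w, hw, rfl⟩ := (D.mk0_eq_iff (D.ES_le_CA hg) (D.ES_le_CA hh)).mp e
  have hk : w ∈ K0 := by
    have : w = g⁻¹ * (g * w) := by rw [inv_mul_cancel_left]
    rw [this]
    exact K0.mul_mem (K0.inv_mem hg.1) hh.1
  rw [D.AZ_inter_K0 hw hk, mul_one]

/-- the involution of the section -/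
noncomputable def zS : D.Sec := D.mk0 tE

/-- its centraliser -/
noncomputable abbrev X1 : Subgroup D.Sec := Subgroup.centralizer ({D.zS} : Set D.Sec)

theorem zS_mul_self : D.zS * D.zS = 1 := by
  unfold zS
  rw [← D.mk0_mul D.tE_mem_CA D.tE_mem_CA, tE_mul_self, mk0_one]

theorem zS_ne_one : D.zS ≠ 1 := by
  intro h
  have h1 : D.mk0 tE = D.mk0 1 := by rw [mk0_one]; exact h
  exact tE_ne_one (D.mk0_inj_K0 D.tE_mem_ES (ES D.a).one_mem h1)

theorem orderOf_zS : orderOf D.zS = 2 := by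
  apply orderOf_eq_prime
  · rw [pow_two]
    exact D.zS_mul_self
  · exact D.zS_ne_one

/-- the centraliser of the involution of the section is the image of the centraliser -/
theorem mem_X1 {g : ↥Co0} (hg : g ∈ D.CA) : D.mk0 g ∈ D.X1 ↔ g ∈ N := by
  rw [Subgroup.mem_centralizer_singleton_iff, mem_N]
  unfold zS
  rw [← D.mk0_mul hg D.tE_mem_CA, ← D.mk0_mul D.tE_mem_CA hg]
  constructor
  · intro h
    obtain ⟨w, hw, e⟩ := (D.mk0_eq_iff (D.CA.mul_mem hg D.tE_mem_CA)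
      (D.CA.mul_mem D.tE_mem_CA hg)).mp h
    -- `tE * g = g * tE * w`
    have hwt : w * tE = tE * w := (mem_N.mp (D.AZ_le_N hw)).symm
    have e1 : g⁻¹ * tE * g = tE * w := by
      rw [mul_assoc, e]
      group
    have e2 : (tE * w) * (tE * w) = 1 := by
      rw [← e1]
      calc g⁻¹ * tE * g * (g⁻¹ * tE * g) = g⁻¹ * (tE * tE) * g := by group
        _ = 1 := by rw [tE_mul_self]; group
    have e3 : w * w = 1 := by
      have : (tE * w) * (tE * w) = (tE * tE) * (w * w) := by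
        calc (tE * w) * (tE * w) = tE * (w * tE) * w := by group
          _ = tE * (tE * w) * w := by rw [hwt]
          _ = _ := by group
      rw [this, tE_mul_self, one_mul] at e2
      exact e2
    have e4 : w ^ 4 = 1 := by
      have : w ^ 4 = (w * w) * (w * w) := by
        rw [pow_succ, pow_succ, pow_succ, pow_one, mul_assoc, mul_assoc]
      rw [this, e3, one_mul]
    rcases D.AZ_pow4 hw e4 with h1 | h1
    · rw [e, h1, mul_one]
    · exfalso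
      apply not_conj g⁻¹
      rw [inv_inv, e1, h1, neg_comm]
  · intro h
    rw [h]

/-- the map from the centraliser of `a` in the centraliser of the involution -/
noncomputable def piX : ↥(XS D.a) →* ↥D.X1 where
  toFun x := ⟨D.mk0 x.1, (D.mem_X1 (D.XS_le_CA x.2)).mpr x.2.1⟩
  map_one' := Subtype.ext D.mk0_one
  map_mul' x y := Subtype.ext (D.mk0_mul (D.XS_le_CA x.2) (D.XS_le_CA y.2))

theorem piX_val (x : ↥(XS D.a)) : ((D.piX x : ↥D.X1) : D.Sec) = D.mk0 x.1 := rfl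

theorem piX_surj : Function.Surjective D.piX := by
  rintro ⟨y, hy⟩
  obtain ⟨g, hg, rfl⟩ := D.mk0_surj y
  have hN := (D.mem_X1 hg).mp hy
  exact ⟨⟨g, hN, D.mem_cent.mpr (D.mem_CA.mp hg)⟩, rfl⟩

theorem piX_eq_iff (x y : ↥(XS D.a)) : D.piX x = D.piX y ↔ ∃ w ∈ AZS D.a, y.1 = x.1 * w := by
  rw [Subtype.ext_iff]
  exact D.mk0_eq_iff (D.XS_le_CA x.2) (D.XS_le_CA y.2)

theorem AZ_le_XS : AZS D.a ≤ XS D.a :=
  fun _ hw => ⟨D.AZ_le_N hw, D.mem_cent.mpr (D.mem_CA.mp (D.AZ_le_CA hw))⟩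

theorem piX_ker_le : D.piX.ker ≤ D.rho.ker := by
  intro x hx
  rw [MonoidHom.mem_ker] at hx ⊢
  obtain ⟨w, hw, e⟩ := (D.piX_eq_iff x 1).mp (by rw [hx, map_one])
  rw [D.hker]
  refine ⟨1, (ES D.a).one_mem, x.1, ?_, (one_mul _).symm⟩
  have e1 : x.1 = w⁻¹ := by
    have e' : (1 : ↥Co0) = x.1 * w := e
    exact eq_inv_of_mul_eq_one_left e'.symm
  rw [e1]
  exact (AZS D.a).inv_mem hw

/-- the homomorphism on the centraliser of the involution of the section -/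
noncomputable def PsiX : ↥D.X1 →* ↥(Cfsg.Omega (ZMod 2) Qm) :=
  D.piX.liftOfRightInverse (Function.surjInv D.piX_surj)
    (Function.rightInverse_surjInv D.piX_surj) ⟨D.rho, D.piX_ker_le⟩

theorem PsiX_piX (x : ↥(XS D.a)) : D.PsiX (D.piX x) = D.rho x :=
  MonoidHom.liftOfRightInverse_comp_apply _ _ _ ⟨D.rho, D.piX_ker_le⟩ x

theorem PsiX_surj : Function.Surjective D.PsiX := fun y => by
  obtain ⟨x, rfl⟩ := D.hsurj y
  exact ⟨D.piX x, D.PsiX_piX x⟩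

/-- an element of `E` as an element of `X` -/
noncomputable def eX (e : ↥(ES D.a)) : ↥(XS D.a) := ⟨e.1, D.ES_le_XS e.2⟩

theorem rho_eX (e : ↥(ES D.a)) : D.rho (D.eX e) = 1 := by
  rw [D.hker]
  exact ⟨e.1, e.2, 1, (AZS D.a).one_mem, (mul_one _).symm⟩

/-- the kernel is the image of `E` -/
theorem mem_ker_iff (y : ↥D.X1) : y ∈ D.PsiX.ker ↔ ∃ e : ↥(ES D.a), D.piX (D.eX e) = y := by
  constructor
  · intro hy
    obtain ⟨x, rfl⟩ := D.piX_surj y
    rw [MonoidHom.mem_ker, D.PsiX_piX, D.hker] at hy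
    obtain ⟨e, he, c, hc, h⟩ := hy
    refine ⟨⟨e, he⟩, ?_⟩
    rw [D.piX_eq_iff]
    exact ⟨c, hc, h⟩
  · rintro ⟨e, rfl⟩
    rw [MonoidHom.mem_ker, D.PsiX_piX, D.rho_eX]

/-- `E` to the kernel -/
noncomputable def eQhom : ↥(ES D.a) →* ↥D.PsiX.ker where
  toFun e := ⟨D.piX (D.eX e), (D.mem_ker_iff _).mpr ⟨e, rfl⟩⟩
  map_one' := by
    apply Subtype.ext
    apply Subtype.ext
    exact D.mk0_one
  map_mul' e e' := by
    apply Subtype.ext
    apply Subtype.ext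
    exact D.mk0_mul (D.ES_le_CA e.2) (D.ES_le_CA e'.2)

theorem eQhom_val (e : ↥(ES D.a)) : (((D.eQhom e : ↥D.PsiX.ker) : ↥D.X1) : D.Sec) = D.mk0 e.1 :=
  rfl

theorem eQ_inj : Function.Injective D.eQhom := by
  intro e e' h
  apply Subtype.ext
  apply D.mk0_inj_K0 e.2 e'.2
  rw [← eQhom_val, ← eQhom_val, h]

theorem eQ_surj : Function.Surjective D.eQhom := by
  rintro ⟨y, hy⟩
  obtain ⟨e, he⟩ := (D.mem_ker_iff y).mp hy
  exact ⟨e, Subtype.ext he⟩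

/-- the kernel is isomorphic to `E` -/
noncomputable def eQ : ↥(ES D.a) ≃* ↥D.PsiX.ker :=
  MulEquiv.ofBijective D.eQhom ⟨D.eQ_inj, D.eQ_surj⟩

theorem card_ker : Nat.card ↥D.PsiX.ker = 2 ^ k := by
  rw [← Nat.card_congr D.eQ.toEquiv, D.hcard]

theorem isPGroup_ES : IsPGroup 2 ↥(ES D.a) := IsPGroup.of_card D.hcard

theorem isPGroup_ker : IsPGroup 2 ↥D.PsiX.ker := IsPGroup.of_card D.card_ker

theorem extraspecial_ES : Cfsg.IsExtraspecial 2 ↥(ES D.a) := by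
  apply Cfsg.Agent.Helper90.isExtraspecial_of_data (ES D.a) tE D.tE_mem_ES tE_ne_one
    D.isPGroup_ES D.hcen
  · intro d hd
    exact K0_tE_comm hd.1
  · intro x hx y hy
    exact K0_comm' hx.1 hy.1
  · intro x hx
    exact K0_sq hx.1
  · exact D.hnc

theorem extraspecial_ker : Cfsg.IsExtraspecial 2 ↥D.PsiX.ker :=
  Cfsg.Agent.Helper53.isExtraspecial_of_mulEquiv D.eQ D.extraspecial_ES

/-- the involution in the centraliser -/
noncomputable def zX : ↥D.X1 := D.piX (D.eX ⟨tE, D.tE_mem_ES⟩)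

theorem zX_val : (D.zX : D.Sec) = D.zS := rfl

theorem zX_mem : D.zX ∈ D.PsiX.ker := (D.mem_ker_iff _).mpr ⟨_, rfl⟩

/-- commutators in the image of `E` -/
theorem comm_mk0 {e e' : ↥Co0} (he : e ∈ ES D.a) (he' : e' ∈ ES D.a) :
    D.mk0 e * D.mk0 e' = D.mk0 e' * D.mk0 e ∨
      D.mk0 e * D.mk0 e' = D.zS * (D.mk0 e' * D.mk0 e) := by
  have h1 := D.ES_le_CA he
  have h2 := D.ES_le_CA he'
  rcases K0_comm he.1 he'.1 with h | h
  · left
    rw [← D.mk0_mul h1 h2, ← D.mk0_mul h2 h1, h]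
  · right
    unfold zS
    rw [← D.mk0_mul h1 h2, ← D.mk0_mul h2 h1, ← D.mk0_mul D.tE_mem_CA (D.CA.mul_mem h2 h1), h]

theorem comm_ker (x : ↥D.X1) (hx : x ∈ D.PsiX.ker) (y : ↥D.X1) (hy : y ∈ D.PsiX.ker) :
    x * y = y * x ∨ x * y = D.zX * (y * x) := by
  obtain ⟨e, rfl⟩ := (D.mem_ker_iff x).mp hx
  obtain ⟨e', rfl⟩ := (D.mem_ker_iff y).mp hy
  rcases D.comm_mk0 e.2 e'.2 with h | h
  · left
    exact Subtype.ext h
  · right
    exact Subtype.ext h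

/-- the moving element -/
noncomputable def cX : ↥(XS D.a) := ⟨D.c, D.hcX⟩

theorem move1 : D.mk0 D.c * D.mk0 D.em ≠ D.mk0 D.em * D.mk0 D.c := by
  have hc := D.XS_le_CA D.hcX
  have he := D.ES_le_CA D.hem
  rw [← D.mk0_mul hc he, ← D.mk0_mul he hc]
  intro h
  obtain ⟨w, hw, e⟩ := (D.mk0_eq_iff (D.CA.mul_mem hc he) (D.CA.mul_mem he hc)).mp h
  have hci : D.c⁻¹ ∈ XS D.a := (XS D.a).inv_mem D.hcX
  have h1 := D.ES_normal hci D.hem
  rw [inv_inv] at h1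
  have hk : w ∈ K0 := by
    have : w = D.em⁻¹ * (D.c⁻¹ * D.em * D.c) := by
      have : D.c⁻¹ * D.em * D.c = D.c⁻¹ * (D.em * D.c) := mul_assoc _ _ _
      rw [this, e]
      group
    rw [this]
    exact K0.mul_mem (K0.inv_mem D.hem.1) h1.1
  rw [D.AZ_inter_K0 hw hk, mul_one] at e
  apply D.hmove1
  rw [← e, mul_inv_cancel_right]

theorem move2 : D.mk0 D.c * D.mk0 D.em ≠ D.zS * (D.mk0 D.em * D.mk0 D.c) := by
  have hc := D.XS_le_CA D.hcX
  have he := D.ES_le_CA D.hem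
  unfold zS
  rw [← D.mk0_mul hc he, ← D.mk0_mul he hc, ← D.mk0_mul D.tE_mem_CA (D.CA.mul_mem he hc)]
  intro h
  obtain ⟨w, hw, e⟩ := (D.mk0_eq_iff (D.CA.mul_mem hc he)
    (D.CA.mul_mem D.tE_mem_CA (D.CA.mul_mem he hc))).mp h
  have hci : D.c⁻¹ ∈ XS D.a := (XS D.a).inv_mem D.hcX
  have h1 := D.ES_normal hci D.hem
  rw [inv_inv] at h1
  have hct : D.c⁻¹ * tE = tE * D.c⁻¹ := (mem_N.mp hci.1).symm
  have hk : w ∈ K0 := by
    have : w = D.em⁻¹ * (tE * (D.c⁻¹ * D.em * D.c)) := by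
      have e' : tE * (D.c⁻¹ * D.em * D.c) = D.c⁻¹ * (tE * (D.em * D.c)) := by
        calc tE * (D.c⁻¹ * D.em * D.c) = (tE * D.c⁻¹) * (D.em * D.c) := by group
          _ = (D.c⁻¹ * tE) * (D.em * D.c) := by rw [hct]
          _ = _ := by group
      rw [e', e]
      group
    rw [this]
    exact K0.mul_mem (K0.inv_mem D.hem.1) (K0.mul_mem tE_mem_K0 h1.1)
  rw [D.AZ_inter_K0 hw hk, mul_one] at e
  apply D.hmove2
  rw [← e]
  group

variable [hS : IsSimpleGroup ↥(Cfsg.Omega (ZMod 2) Qm)]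

/-- the centraliser of the kernel lies in the kernel -/
theorem cent_ker_le : Subgroup.centralizer (D.PsiX.ker : Set ↥D.X1) ≤ D.PsiX.ker := by
  have hCn : (Subgroup.centralizer (D.PsiX.ker : Set ↥D.X1)).Normal := Subgroup.normal_centralizer
  have hmap : ((Subgroup.centralizer (D.PsiX.ker : Set ↥D.X1)).map D.PsiX).Normal :=
    Subgroup.Normal.map hCn D.PsiX D.PsiX_surj
  rcases hmap.eq_bot_or_eq_top with h | h
  · exact (Subgroup.map_eq_bot_iff _).mp h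
  · exfalso
    set x : ↥D.X1 := D.piX D.cX with hx
    set q : ↥D.X1 := D.piX (D.eX ⟨D.em, D.hem⟩) with hq
    have hqk : q ∈ D.PsiX.ker := (D.mem_ker_iff _).mpr ⟨_, rfl⟩
    have hxm : D.PsiX x ∈ (Subgroup.centralizer (D.PsiX.ker : Set ↥D.X1)).map D.PsiX := by
      rw [h]
      trivial
    obtain ⟨c, hcC, hcx⟩ := hxm
    have cc : ∀ y ∈ D.PsiX.ker, y * c = c * y :=
      fun y hy => Subgroup.mem_centralizer_iff.mp hcC y hy
    have hq' : c⁻¹ * x ∈ D.PsiX.ker := by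
      rw [MonoidHom.mem_ker, map_mul, map_inv, hcx, inv_mul_cancel]
    have hxq : x = c * (c⁻¹ * x) := by rw [mul_inv_cancel_left]
    rcases D.comm_ker _ hq' q hqk with e | e
    · apply D.move1
      have : x * q = q * x := by
        calc x * q = c * ((c⁻¹ * x) * q) := by rw [← mul_assoc, ← hxq]
          _ = c * (q * (c⁻¹ * x)) := by rw [e]
          _ = (c * q) * (c⁻¹ * x) := by rw [mul_assoc]
          _ = (q * c) * (c⁻¹ * x) := by rw [cc q hqk]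
          _ = q * x := by rw [mul_assoc, ← hxq]
      exact congrArg Subtype.val this
    · apply D.move2
      have : x * q = D.zX * (q * x) := by
        calc x * q = c * ((c⁻¹ * x) * q) := by rw [← mul_assoc, ← hxq]
          _ = c * (D.zX * (q * (c⁻¹ * x))) := by rw [e]
          _ = (c * D.zX) * (q * (c⁻¹ * x)) := by rw [mul_assoc]
          _ = (D.zX * c) * (q * (c⁻¹ * x)) := by rw [cc D.zX D.zX_mem]
          _ = D.zX * ((c * q) * (c⁻¹ * x)) := by rw [mul_assoc, mul_assoc]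
          _ = D.zX * ((q * c) * (c⁻¹ * x)) := by rw [cc q hqk]
          _ = D.zX * (q * x) := by rw [mul_assoc q, ← hxq]
      exact congrArg Subtype.val this

theorem gfs_X1 : Cfsg.generalizedFittingSubgroup ↥D.X1 = D.PsiX.ker := by
  have h1 : D.piX D.cX * D.piX (D.eX ⟨D.em, D.hem⟩) ≠
      D.piX (D.eX ⟨D.em, D.hem⟩) * D.piX D.cX := fun h => D.move1 (congrArg Subtype.val h)
  have h2 : D.piX D.cX * D.piX (D.eX ⟨D.em, D.hem⟩) ≠
      D.zX * (D.piX (D.eX ⟨D.em, D.hem⟩) * D.piX D.cX) :=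
    fun h => D.move2 (congrArg Subtype.val h)
  exact gfs_eq_ker D.PsiX D.PsiX_surj D.hnot2 D.isPGroup_ker D.zX D.zX_mem D.comm_ker
    (D.piX D.cX) (D.piX (D.eX ⟨D.em, D.hem⟩)) ((D.mem_ker_iff _).mpr ⟨_, rfl⟩) h1 h2

end SecInput

end

end Cfsg.Agent.Helper26.SecAsm
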