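import Mathlib

/-!
# A local criterion for simplicity, and two counting lemmas

`simple_of_local`: a finite group with an involution `z` whose centraliser `C` has a normal
`2`-subgroup `Q` with `C_C(Q) ≤ Q`, `Z(Q) = {1, z}`, commutators of `Q` in `{1, z}`, `C / Q` simple
(in the form: no `C`-invariant subgroup strictly between `Q` and `C`), `z` not weakly closed in `Q`,
`Q` inside the normal closure of `z`, and the normal closure of `z` meeting `C` outside `Q`,
is simple.
-/

set_option autoImplicit false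

namespace Cfsg.Agent.Helper26.SecLocal

open Subgroup

section Inverts

variable {G : Type*} [Group G]

/-- an involution acting on a finite normal subgroup without non-trivial fixed points inverts it -/
theorem inverts_of_fpf (M : Subgroup G) [Finite M] (z : G) (hz : z * z = 1)
    (hM : ∀ m ∈ M, z * m * z⁻¹ ∈ M) (hfix : ∀ m ∈ M, z * m * z⁻¹ = m → m = 1) :
    ∀ m ∈ M, z * m * z⁻¹ = m⁻¹ := by
  have hzi : z⁻¹ = z := inv_eq_of_mul_eq_one_left hz
  let f : M → M := fun m => ⟨(m : G)⁻¹ * (z * m * z⁻¹), M.mul_mem (M.inv_mem m.2) (hM m m.2)⟩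
  have hinj : Function.Injective f := by
    intro m n h
    have h' : (m : G)⁻¹ * (z * m * z⁻¹) = (n : G)⁻¹ * (z * n * z⁻¹) := congrArg Subtype.val h
    have h1 : z * ((n : G) * (m : G)⁻¹) * z⁻¹ = (n : G) * (m : G)⁻¹ := by
      have e1 : (z * n * z⁻¹) = (n : G) * ((m : G)⁻¹ * (z * m * z⁻¹)) := by
        rw [h', mul_inv_cancel_left]
      calc z * ((n : G) * (m : G)⁻¹) * z⁻¹ = (z * n * z⁻¹) * (z * m * z⁻¹)⁻¹ := by group
        _ = (n : G) * ((m : G)⁻¹ * (z * m * z⁻¹)) * (z * m * z⁻¹)⁻¹ := by rw [e1]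
        _ = (n : G) * (m : G)⁻¹ := by group
    have h2 := hfix _ (M.mul_mem n.2 (M.inv_mem m.2)) h1
    apply Subtype.ext
    have : (n : G) = m := by
      have := mul_inv_eq_one.mp h2
      exact this
    exact this.symm
  have hsurj : Function.Surjective f := Finite.surjective_of_injective hinj
  intro x hx
  obtain ⟨m, hm⟩ := hsurj ⟨x, hx⟩
  have hx' : x = (m : G)⁻¹ * (z * m * z⁻¹) := (congrArg Subtype.val hm).symm
  rw [hx', hzi]
  have e1 : z * ((m : G)⁻¹ * (z * m * z)) * z = z * (m : G)⁻¹ * z * m * (z * z) := by group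
  have e2 : ((m : G)⁻¹ * (z * m * z))⁻¹ = z⁻¹ * (m : G)⁻¹ * z⁻¹ * m := by group
  rw [e1, e2, hz, hzi, mul_one]

end Inverts

section Counting

variable {G : Type*} [Group G]

/-- a lower bound for the order of a subgroup from distinct conjugates of an element -/
theorem card_ge_mul [Finite G] (H : Subgroup G) (b : G) (n : ℕ) (f : Fin n → G)
    (hf : ∀ i, f i ∈ H) (hinj : Function.Injective fun i => f i * b * (f i)⁻¹) :
    n * Nat.card ↥(H ⊓ centralizer {b}) ≤ Nat.card ↥H := by
  let F : Fin n × ↥(H ⊓ centralizer {b}) → ↥H := fun p =>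
    ⟨f p.1 * p.2.1, H.mul_mem (hf p.1) (mem_inf.mp p.2.2).1⟩
  have hF : Function.Injective F := by
    rintro ⟨i, c⟩ ⟨j, d⟩ h
    have h' : f i * c.1 = f j * d.1 := congrArg Subtype.val h
    have hc : c.1 * b = b * c.1 := by
      have := mem_centralizer_iff.mp (mem_inf.mp c.2).2 b rfl
      exact this.symm
    have hd : d.1 * b = b * d.1 := by
      have := mem_centralizer_iff.mp (mem_inf.mp d.2).2 b rfl
      exact this.symm
    have e1 : f i * b * (f i)⁻¹ = (f i * c.1) * b * (f i * c.1)⁻¹ := by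
      rw [mul_inv_rev, mul_assoc (f i) c.1 b, hc]
      group
    have e2 : f j * b * (f j)⁻¹ = (f j * d.1) * b * (f j * d.1)⁻¹ := by
      rw [mul_inv_rev, mul_assoc (f j) d.1 b, hd]
      group
    have hij : i = j := hinj (by show f i * b * (f i)⁻¹ = f j * b * (f j)⁻¹; rw [e1, e2, h'])
    subst hij
    have : c.1 = d.1 := mul_left_cancel h'
    exact Prod.ext rfl (Subtype.ext this)
  have := Nat.card_le_card_of_injective F hF
  rwa [Nat.card_prod, Nat.card_fin] at this

/-- an upper bound for the order of a subgroup from a map whose fibres lie in cosets of a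
subgroup -/
theorem card_le_of_fibers [Finite G] {T : Type*} (H K : Subgroup G) (φ : ↥H → T) (t : Finset T)
    (ht : ∀ h, φ h ∈ t) (hK : ∀ h h' : ↥H, φ h = φ h' → (h'.1)⁻¹ * h.1 ∈ K) :
    Nat.card ↥H ≤ t.card * Nat.card ↥(H ⊓ K) := by
  classical
  -- choose for every value a representative
  by_cases hne : Nonempty ↥H
  swap
  · exact absurd ⟨(1 : ↥H)⟩ hne
  let rep : T → ↥H := fun x => if h : ∃ y : ↥H, φ y = x then h.choose else 1
  have hrep : ∀ h : ↥H, φ (rep (φ h)) = φ h := by
    intro h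
    have hex : ∃ y : ↥H, φ y = φ h := ⟨h, rfl⟩
    simp only [rep, dif_pos hex]
    exact hex.choose_spec
  let F : ↥H → ↥t × ↥(H ⊓ K) := fun h =>
    (⟨φ h, ht h⟩, ⟨(rep (φ h)).1⁻¹ * h.1,
      mem_inf.mpr ⟨H.mul_mem (H.inv_mem (rep (φ h)).2) h.2, hK h (rep (φ h)) (hrep h).symm⟩⟩)
  have hF : Function.Injective F := by
    intro h h' e
    have e1 : φ h = φ h' := congrArg (fun p => (p.1 : T)) e
    have e2 : (rep (φ h)).1⁻¹ * h.1 = (rep (φ h')).1⁻¹ * h'.1 :=
      congrArg (fun p => (p.2 : G)) e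
    rw [e1] at e2
    exact Subtype.ext (mul_left_cancel e2)
  have := Nat.card_le_card_of_injective F hF
  rw [Nat.card_prod] at this
  have e : Nat.card ↥t = t.card := by
    rw [Nat.card_eq_fintype_card, Fintype.card_coe]
  rwa [e] at this

end Counting

section Local

variable {S : Type*} [Group S] [Finite S] (z : S) (Q : Subgroup S)

/-- the hypotheses of the local criterion -/
structure LocalData : Prop where
  hz1 : z ≠ 1
  hz2 : z * z = 1
  hQC : Q ≤ centralizer {z}
  hQn : ∀ c ∈ centralizer ({z} : Set S), ∀ q ∈ Q, c * q * c⁻¹ ∈ Q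
  hQ2 : IsPGroup 2 Q
  hzQ : z ∈ Q
  hZQ : ∀ q ∈ Q, (∀ q' ∈ Q, q' * q = q * q') → q = 1 ∨ q = z
  hcomm : ∀ x ∈ Q, ∀ y ∈ Q, x * y = y * x ∨ x * y = z * (y * x)
  hCQ : ∀ c ∈ centralizer ({z} : Set S), (∀ q ∈ Q, q * c = c * q) → c ∈ Q
  hmax : ∀ M : Subgroup S, Q ≤ M → M ≤ centralizer {z} →
    (∀ c ∈ centralizer ({z} : Set S), ∀ m ∈ M, c * m * c⁻¹ ∈ M) → M = Q ∨ M = centralizer {z}
  hconj : ∃ g : S, g * z * g⁻¹ ∈ Q ∧ g * z * g⁻¹ ≠ z
  hgen : Q ≤ normalClosure {z}
  hout : ∃ c ∈ centralizer ({z} : Set S), c ∉ Q ∧ c ∈ normalClosure ({z} : Set S)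

variable {z Q}

theorem mem_cent {c : S} : c ∈ centralizer ({z} : Set S) ↔ z * c = c * z := by
  rw [mem_centralizer_iff]
  constructor
  · intro h; exact h z rfl
  · intro h y hy; rw [Set.mem_singleton_iff.mp hy]; exact h

/-- a normal subgroup containing a non-trivial element commuting with `z` contains `z` -/
theorem LocalData.z_mem_of_exists (D : LocalData z Q) (M : Subgroup S) [M.Normal]
    (h : ∃ m ∈ M, m ≠ 1 ∧ z * m = m * z) : z ∈ M := by
  obtain ⟨m, hm, hm1, hmz⟩ := h
  have hmC : m ∈ centralizer ({z} : Set S) := mem_cent.mpr hmz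
  -- a non-trivial element of `M ⊓ Q`
  have key : ∃ q, q ∈ M ∧ q ∈ Q ∧ q ≠ 1 := by
    by_contra hno
    push_neg at hno
    have hc : ∀ q ∈ Q, q * m = m * q := by
      intro q hq
      have h1 : m * q * m⁻¹ * q⁻¹ ∈ M := by
        have : q * m⁻¹ * q⁻¹ ∈ M := Normal.conj_mem inferInstance _ (M.inv_mem hm) q
        have := M.mul_mem hm this
        rwa [← mul_assoc, ← mul_assoc] at this
      have h2 : m * q * m⁻¹ * q⁻¹ ∈ Q := Q.mul_mem (D.hQn m hmC q hq) (Q.inv_mem hq)
      have h3 := hno _ h1 h2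
      have : m * q = q * m := by
        have := mul_inv_eq_one.mp h3
        exact mul_inv_eq_iff_eq_mul.mp this
      exact this.symm
    have := D.hCQ m hmC hc
    exact hm1 (hno m hm this)
  obtain ⟨q, hqM, hqQ, hq1⟩ := key
  by_cases hcen : ∀ q' ∈ Q, q' * q = q * q'
  · rcases D.hZQ q hqQ hcen with h | h
    · exact absurd h hq1
    · rw [← h]; exact hqM
  · push_neg at hcen
    obtain ⟨q', hq', hne⟩ := hcen
    rcases D.hcomm q hqQ q' hq' with h | h
    · exact absurd h.symm hne
    · have e : z = q * (q' * q⁻¹ * q'⁻¹) := by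
        have : q * q' * q⁻¹ * q'⁻¹ = z := by
          rw [h]; group
        rw [← this]; group
      rw [e]
      exact M.mul_mem hqM (Normal.conj_mem inferInstance _ (M.inv_mem hqM) q')

/-- every non-trivial normal subgroup contains `z` -/
theorem LocalData.z_mem (D : LocalData z Q) (M : Subgroup S) [M.Normal] (hM : M ≠ ⊥) :
    z ∈ M := by
  by_cases h : ∃ m ∈ M, m ≠ 1 ∧ z * m = m * z
  · exact D.z_mem_of_exists M h
  exfalso
  push_neg at h
  have hzi : z⁻¹ = z := inv_eq_of_mul_eq_one_left D.hz2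
  -- `z` inverts `M`
  have hinv : ∀ m ∈ M, z * m * z⁻¹ = m⁻¹ := by
    apply inverts_of_fpf M z D.hz2
    · intro m hm; exact Normal.conj_mem inferInstance m hm z
    · intro m hm hfix
      by_contra hm1
      apply h m hm hm1
      have := mul_inv_eq_iff_eq_mul.mp hfix
      exact this
  obtain ⟨g, hgQ, hgz⟩ := D.hconj
  set z' := g * z * g⁻¹ with hz'
  have hz'2 : z' * z' = 1 := by
    rw [hz']
    calc g * z * g⁻¹ * (g * z * g⁻¹) = g * (z * z) * g⁻¹ := by group
      _ = 1 := by rw [D.hz2]; group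
  have hz'i : z'⁻¹ = z' := inv_eq_of_mul_eq_one_left hz'2
  have hinv' : ∀ m ∈ M, z' * m * z'⁻¹ = m⁻¹ := by
    intro m hm
    have h1 : g⁻¹ * m * g ∈ M := by
      have := Normal.conj_mem (inferInstance : M.Normal) m hm g⁻¹
      rwa [inv_inv] at this
    have h2 := hinv _ h1
    calc z' * m * z'⁻¹ = g * (z * (g⁻¹ * m * g) * z⁻¹) * g⁻¹ := by rw [hz']; group
      _ = g * (g⁻¹ * m * g)⁻¹ * g⁻¹ := by rw [h2]
      _ = m⁻¹ := by group
  -- the centraliser of `M`
  haveI : (centralizer (M : Set S)).Normal := Subgroup.normal_centralizer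
  have hw : z * z' ∈ centralizer (M : Set S) := by
    rw [mem_centralizer_iff]
    intro m hm
    have h1 := hinv' m hm
    have h2 := hinv m⁻¹ (M.inv_mem hm)
    rw [inv_inv] at h2
    have : z * z' * m * (z * z')⁻¹ = m := by
      calc z * z' * m * (z * z')⁻¹ = z * (z' * m * z'⁻¹) * z⁻¹ := by group
        _ = z * m⁻¹ * z⁻¹ := by rw [h1]
        _ = m := h2
    have := mul_inv_eq_iff_eq_mul.mp this
    exact this.symm
  have hw1 : z * z' ≠ 1 := by
    intro e
    apply hgz
    have : z' = z⁻¹ := (eq_inv_of_mul_eq_one_right e)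
    rw [this, hzi]
  have hwz : z * (z * z') = (z * z') * z := by
    have := mem_cent.mp (D.hQC hgQ)
    rw [mul_assoc, ← this]
  have hzD := D.z_mem_of_exists (centralizer (M : Set S)) ⟨z * z', hw, hw1, hwz⟩
  -- so `z` centralises `M`, which is then trivial
  apply hM
  rw [eq_bot_iff]
  intro m hm
  rw [mem_bot]
  by_contra hm1
  apply h m hm hm1
  exact ((mem_centralizer_iff.mp hzD) m hm).symm

/-- **the local criterion for simplicity** -/
theorem LocalData.isSimpleGroup (D : LocalData z Q) : IsSimpleGroup S := by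
  haveI : Fact (Nat.Prime 2) := ⟨Nat.prime_two⟩
  haveI : Nontrivial S := ⟨⟨z, 1, D.hz1⟩⟩
  refine ⟨fun M hM => ?_⟩
  by_cases hbot : M = ⊥
  · exact Or.inl hbot
  right
  haveI := hM
  have hzM : z ∈ M := D.z_mem M hbot
  have hncl : normalClosure ({z} : Set S) ≤ M :=
    normalClosure_le_normal (Set.singleton_subset_iff.mpr hzM)
  have hQM : Q ≤ M := D.hgen.trans hncl
  -- the centraliser is inside `M`
  have hCM : centralizer ({z} : Set S) ≤ M := by
    obtain ⟨c, hcC, hcQ, hcN⟩ := D.hout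
    have h1 := D.hmax (M ⊓ centralizer {z}) (le_inf hQM D.hQC) inf_le_right (by
      intro c hc m hm
      exact mem_inf.mpr ⟨Normal.conj_mem inferInstance m (mem_inf.mp hm).1 c,
        (centralizer ({z} : Set S)).mul_mem ((centralizer ({z} : Set S)).mul_mem hc
          (mem_inf.mp hm).2) ((centralizer ({z} : Set S)).inv_mem hc)⟩)
    rcases h1 with h1 | h1
    · exfalso
      apply hcQ
      rw [← h1]
      exact mem_inf.mpr ⟨hncl hcN, hcC⟩
    · intro x hx
      rw [← h1] at hx
      exact (mem_inf.mp hx).1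
  -- a Sylow `2`-subgroup of `M` containing `Q`
  have hQ'2 : IsPGroup 2 ↥(Q.subgroupOf M) :=
    D.hQ2.comap_of_injective M.subtype M.subtype_injective
  obtain ⟨P, hP⟩ := hQ'2.exists_le_sylow
  have hfr := Sylow.normalizer_sup_eq_top P
  set P' : Subgroup S := (P : Subgroup ↥M).map M.subtype with hP'
  have hQP' : Q ≤ P' := by
    intro q hq
    exact ⟨⟨q, hQM hq⟩, hP (mem_subgroupOf.mpr hq), rfl⟩
  have hzP' : z ∈ P' := hQP' D.hzQ
  have hP'2 : IsPGroup 2 ↥P' := P.2.map M.subtype
  -- a non-trivial element of `P'` commuting with `P'` is `z`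
  have key : ∀ y ∈ P', y ≠ 1 → (∀ p ∈ P', p * y = y * p) → y = z := by
    intro y _ hy1 hyc
    have hyC : y ∈ centralizer ({z} : Set S) := mem_cent.mpr (hyc z hzP')
    have hyQ : y ∈ Q := D.hCQ y hyC (fun q hq => hyc q (hQP' hq))
    rcases D.hZQ y hyQ (fun q hq => hyc q (hQP' hq)) with h | h
    · exact absurd h hy1
    · exact h
  -- `z` is central in `P'`
  have hzc : ∀ p ∈ P', p * z = z * p := by
    haveI : Nontrivial ↥P' := ⟨⟨⟨z, hzP'⟩, 1, fun h => D.hz1 (congrArg Subtype.val h)⟩⟩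
    haveI := hP'2.center_nontrivial
    obtain ⟨x, hx⟩ := exists_ne (1 : ↥(center ↥P'))
    have hx1 : (x.1.1 : S) ≠ 1 := by
      intro h
      apply hx
      apply Subtype.ext
      apply Subtype.ext
      exact h
    have hxc : ∀ p ∈ P', p * x.1.1 = x.1.1 * p := by
      intro p hp
      have := mem_center_iff.mp x.2 ⟨p, hp⟩
      exact congrArg Subtype.val this
    have := key x.1.1 x.1.2 hx1 hxc
    rw [← this]
    exact hxc
  have hNM : normalizer (P' : Set S) ≤ M := by
    intro n hn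
    apply hCM
    rw [mem_cent]
    have hn' : ∀ p, p ∈ P' ↔ n * p * n⁻¹ ∈ P' := fun p => mem_normalizer_iff.mp hn p
    have hy : n * z * n⁻¹ ∈ P' := (hn' z).mp hzP'
    have hy1 : n * z * n⁻¹ ≠ 1 := by
      intro h
      apply D.hz1
      have : n * z = n := by
        have := mul_inv_eq_one.mp h
        exact this
      exact mul_left_cancel (this.trans (mul_one n).symm)
    have hyc : ∀ p ∈ P', p * (n * z * n⁻¹) = (n * z * n⁻¹) * p := by
      intro p hp
      have h1 : n⁻¹ * p * n ∈ P' := by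
        rw [hn']
        have : n * (n⁻¹ * p * n) * n⁻¹ = p := by group
        rw [this]; exact hp
      have h2 := hzc _ h1
      calc p * (n * z * n⁻¹) = n * ((n⁻¹ * p * n) * z) * n⁻¹ := by group
        _ = n * (z * (n⁻¹ * p * n)) * n⁻¹ := by rw [h2]
        _ = (n * z * n⁻¹) * p := by group
    have := key _ hy hy1 hyc
    have h3 : n * z = z * n := mul_inv_eq_iff_eq_mul.mp this
    exact h3.symm
  rw [eq_top_iff, ← hfr]
  exact sup_le hNM le_rfl

end Local

end Cfsg.Agent.Helper26.SecLocal
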