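import Cfsg.Agent.Helper26.SecK0
import Cfsg.Agent.Helper26.SecLocal

/-!
# Elements of odd order in the centraliser of the involution of `Co0`

The subgroup generated by an element `a` of odd order of the centraliser `N` of the involution and
the centre of `Co0`; it meets the extraspecial normal subgroup of `N` trivially.
-/

set_option autoImplicit false

namespace Cfsg.Agent.Helper26.SecAsm

open Cfsg Cfsg.Agent.Helper7 Cfsg.Agent.Helper8 Cfsg.Agent.Helper27 Cfsg.Agent.Helper26.Co2Inv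
  Cfsg.Agent.Helper26.Co1Inv Cfsg.Agent.Helper26.SecLocal MulAction

/-- the centraliser of `a` in the centraliser of the involution -/
noncomputable abbrev XS (a : ↥Co0) : Subgroup ↥Co0 := N ⊓ Subgroup.centralizer {a}

/-- the centraliser of `a` in the extraspecial group -/
noncomputable abbrev ES (a : ↥Co0) : Subgroup ↥Co0 := K0 ⊓ Subgroup.centralizer {a}

/-- the subgroup generated by `a` and the centre -/
noncomputable abbrev AZS (a : ↥Co0) : Subgroup ↥Co0 := Subgroup.zpowers a ⊔ Subgroup.center ↥Co0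

/-- an element of odd order `p` of the centraliser of the involution -/
structure SecBase (p : ℕ) where
  a : ↥Co0
  hp : Odd p
  ha : orderOf a = p
  haN : a ∈ N

/-! ### elements of odd order -/

theorem eq_one_of_pow {G : Type*} [Group G] {p : ℕ} (hp : Odd p) {y : G} (h1 : y ^ p = 1)
    (h2 : y ^ 2 = 1) : y = 1 := by
  obtain ⟨m, rfl⟩ := hp
  rw [pow_succ, pow_mul, h2, one_pow, one_mul] at h1
  exact h1

theorem eq_one_of_pow4 {G : Type*} [Group G] {p : ℕ} (hp : Odd p) {y : G} (h1 : y ^ p = 1)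
    (h2 : y ^ 4 = 1) : y = 1 := by
  have h3 : (y ^ 2) ^ p = 1 := by rw [← pow_mul, mul_comm, pow_mul, h1, one_pow]
  have h4 : (y ^ 2) ^ 2 = 1 := by rw [← pow_mul]; exact h2
  exact eq_one_of_pow hp h1 (eq_one_of_pow hp h3 h4)

section

variable {p : ℕ} (D : SecBase p)

namespace SecBase


/-- the subgroup of order `p` -/
noncomputable abbrev A : Subgroup ↥Co0 := Subgroup.zpowers D.a

/-- its centraliser -/
noncomputable abbrev CA : Subgroup ↥Co0 := Subgroup.centralizer (D.A : Set ↥Co0)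

theorem card_A : Nat.card ↥D.A = p := by
  rw [Nat.card_zpowers, D.ha]

theorem mem_CA {g : ↥Co0} : g ∈ D.CA ↔ g * D.a = D.a * g := by
  rw [Subgroup.mem_centralizer_iff]
  constructor
  · intro h
    exact (h D.a (Subgroup.mem_zpowers D.a)).symm
  · intro h y hy
    obtain ⟨j, rfl⟩ := Subgroup.mem_zpowers_iff.mp hy
    have hc : Commute D.a g := h.symm
    exact (hc.zpow_left j).eq

theorem mem_cent {g : ↥Co0} : g ∈ Subgroup.centralizer {D.a} ↔ g * D.a = D.a * g := by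
  rw [Subgroup.mem_centralizer_singleton_iff]

theorem a_pow (j : ℤ) : (D.a ^ j) ^ p = 1 := by
  have h : D.a ^ p = 1 := by
    have := pow_orderOf_eq_one D.a
    rwa [D.ha] at this
  rw [← zpow_natCast, ← zpow_mul, mul_comm, zpow_mul, zpow_natCast, h, one_zpow]

theorem neg_pow_two : negCo0 ^ 2 = 1 := by rw [pow_two, neg_mul_neg]

/-- the elements of the subgroup generated by `a` and the centre -/
theorem mem_AZ {x : ↥Co0} : x ∈ AZS D.a ↔ ∃ j : ℤ, x = D.a ^ j ∨ x = negCo0 * D.a ^ j := by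
  rw [Subgroup.mem_sup_of_normal_right]
  constructor
  · rintro ⟨y, hy, z, hz, rfl⟩
    obtain ⟨j, rfl⟩ := Subgroup.mem_zpowers_iff.mp hy
    refine ⟨j, ?_⟩
    rcases center_eq_or z hz with rfl | rfl
    · left; rw [mul_one]
    · right; rw [neg_comm]
  · rintro ⟨j, rfl | rfl⟩
    · exact ⟨D.a ^ j, Subgroup.zpow_mem_zpowers _ _, 1, Subgroup.one_mem _, mul_one _⟩
    · exact ⟨D.a ^ j, Subgroup.zpow_mem_zpowers _ _, negCo0, negCo0_mem_center, neg_comm _⟩

theorem a_mem_CA : D.a ∈ D.CA := D.mem_CA.mpr rfl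

theorem apow_comm {g : ↥Co0} (hg : g ∈ D.CA) (j : ℤ) : D.a ^ j * g = g * D.a ^ j := by
  have hc : Commute D.a g := (D.mem_CA.mp hg).symm
  exact (hc.zpow_left j).eq

/-- elements of the subgroup commute with the centraliser -/
theorem AZ_comm {w : ↥Co0} (hw : w ∈ AZS D.a) {g : ↥Co0} (hg : g ∈ D.CA) : w * g = g * w := by
  obtain ⟨j, rfl | rfl⟩ := D.mem_AZ.mp hw
  · exact D.apow_comm hg j
  · rw [mul_assoc, D.apow_comm hg j, ← mul_assoc, ← neg_comm, mul_assoc]

theorem AZ_le_CA : AZS D.a ≤ D.CA := by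
  intro w hw
  obtain ⟨j, rfl | rfl⟩ := D.mem_AZ.mp hw
  · exact D.CA.zpow_mem D.a_mem_CA j
  · refine D.CA.mul_mem ?_ (D.CA.zpow_mem D.a_mem_CA j)
    rw [mem_CA]
    exact (neg_comm _).symm

theorem AZ_le_N : AZS D.a ≤ N := by
  intro w hw
  obtain ⟨j, rfl | rfl⟩ := D.mem_AZ.mp hw
  · exact N.zpow_mem D.haN j
  · exact N.mul_mem neg_mem_N (N.zpow_mem D.haN j)

/-- an element of the subgroup of order dividing four is `± 1` -/
theorem AZ_pow4 {w : ↥Co0} (hw : w ∈ AZS D.a) (h4 : w ^ 4 = 1) : w = 1 ∨ w = negCo0 := by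
  obtain ⟨j, rfl | rfl⟩ := D.mem_AZ.mp hw
  · left
    exact eq_one_of_pow4 D.hp (D.a_pow j) h4
  · right
    have hc : Commute negCo0 (D.a ^ j) := (neg_comm _).symm
    rw [hc.mul_pow] at h4
    have hn4 : negCo0 ^ 4 = 1 := by
      rw [show (4 : ℕ) = 2 * 2 from rfl, pow_mul, neg_pow_two, one_pow]
    rw [hn4, one_mul] at h4
    rw [eq_one_of_pow4 D.hp (D.a_pow j) h4, mul_one]

/-- the subgroup meets the extraspecial group trivially -/
theorem AZ_inter_K0 {w : ↥Co0} (hw : w ∈ AZS D.a) (hk : w ∈ K0) : w = 1 := by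
  rcases D.AZ_pow4 hw (K0_pow4 hk) with h | h
  · exact h
  · exfalso
    rw [h] at hk
    exact neg_not_mem_K0 hk

theorem neg_mem_AZ : negCo0 ∈ AZS D.a := D.mem_AZ.mpr ⟨0, Or.inr (by rw [zpow_zero, mul_one])⟩

theorem tE_mem_CA : tE ∈ D.CA := D.mem_CA.mpr (mem_N.mp D.haN)

theorem XS_le_CA : XS D.a ≤ D.CA := fun _ hx => D.mem_CA.mpr (D.mem_cent.mp hx.2)

theorem ES_le_XS : ES D.a ≤ XS D.a := fun _ he => ⟨K0_le_N he.1, he.2⟩

theorem ES_le_CA : ES D.a ≤ D.CA := D.ES_le_XS.trans D.XS_le_CA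

theorem tE_mem_ES : tE ∈ ES D.a := ⟨tE_mem_K0, D.mem_cent.mpr (mem_N.mp D.haN)⟩

theorem ES_normal {x : ↥Co0} (hx : x ∈ XS D.a) {e : ↥Co0} (he : e ∈ ES D.a) :
    x * e * x⁻¹ ∈ ES D.a :=
  ⟨K0_normal hx.1 he.1, (Subgroup.centralizer {D.a}).mul_mem
    ((Subgroup.centralizer {D.a}).mul_mem hx.2 he.2) ((Subgroup.centralizer {D.a}).inv_mem hx.2)⟩


end SecBase

end

end Cfsg.Agent.Helper26.SecAsm
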