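import Cfsg.Agent.Helper26.Co1InvF

/-!
# The normal extraspecial subgroup of the centraliser of the involution, as a subgroup of `Co0`
-/

set_option autoImplicit false

namespace Cfsg.Agent.Helper26.SecAsm

open Cfsg Cfsg.Agent.Helper7 Cfsg.Agent.Helper8 Cfsg.Agent.Helper27 Cfsg.Agent.Helper26.Co2Inv
  Cfsg.Agent.Helper26.Co1Inv MulAction

instance finite_co0 : Finite ↥Co0 := Nat.finite_of_card_ne_zero (by rw [card_co0]; norm_num)

/-- the extraspecial group of order `2 ^ 9`, as a subgroup of `Co0` -/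
noncomputable def K0 : Subgroup ↥Co0 := Co2Inv.phi.ker.map CH.subtype

theorem mem_K0 {g : ↥Co0} : g ∈ K0 ↔ ∃ n < 512, g = eN n := by
  constructor
  · rintro ⟨k, hk, rfl⟩
    exact exists_eN_of_ker (MonoidHom.mem_ker.mp hk)
  · rintro ⟨n, hn, rfl⟩
    exact ⟨⟨eN n, (eN_tab hn).memCH⟩, MonoidHom.mem_ker.mpr (eN_tab hn).phi_eq, rfl⟩

theorem eN_mem_K0 {n : ℕ} (hn : n < 512) : eN n ∈ K0 := mem_K0.mpr ⟨n, hn, rfl⟩

theorem K0_le_CH : K0 ≤ CH := by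
  rintro _ ⟨k, _, rfl⟩
  exact k.2

theorem K0_le_N : K0 ≤ N := K0_le_CH.trans CH_le_N

theorem card_K0 : Nat.card ↥K0 = 512 := by
  unfold K0
  rw [Subgroup.card_map_of_injective CH.subtype_injective, card_ker]
  norm_num

theorem K0_comm {g h : ↥Co0} (hg : g ∈ K0) (hh : h ∈ K0) :
    g * h = h * g ∨ g * h = tE * (h * g) := by
  obtain ⟨n, hn, rfl⟩ := mem_K0.mp hg
  obtain ⟨m, hm, rfl⟩ := mem_K0.mp hh
  rcases eN_comm hn hm with h | h
  · left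
    calc eN n * eN m = (eN n * eN m * (eN n)⁻¹ * (eN m)⁻¹) * (eN m * eN n) := by group
      _ = eN m * eN n := by rw [h, one_mul]
  · right
    calc eN n * eN m = (eN n * eN m * (eN n)⁻¹ * (eN m)⁻¹) * (eN m * eN n) := by group
      _ = tE * (eN m * eN n) := by rw [h]

theorem K0_comm' {g h : ↥Co0} (hg : g ∈ K0) (hh : h ∈ K0) :
    g * h * g⁻¹ * h⁻¹ = 1 ∨ g * h * g⁻¹ * h⁻¹ = tE := by
  obtain ⟨n, hn, rfl⟩ := mem_K0.mp hg
  obtain ⟨m, hm, rfl⟩ := mem_K0.mp hh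
  exact eN_comm hn hm

theorem K0_sq {g : ↥Co0} (hg : g ∈ K0) : g * g = 1 ∨ g * g = tE := by
  obtain ⟨n, hn, rfl⟩ := mem_K0.mp hg
  exact eN_sq hn

theorem K0_pow4 {g : ↥Co0} (hg : g ∈ K0) : g ^ 4 = 1 := by
  have e : g ^ 4 = (g * g) * (g * g) := by
    rw [pow_succ, pow_succ, pow_succ, pow_one, mul_assoc, mul_assoc]
  rw [e]
  rcases K0_sq hg with h | h
  · rw [h, one_mul]
  · rw [h, tE_mul_self]

theorem tE_mem_K0 : tE ∈ K0 := by
  have h : tE ∈ CH := tE_mem_CH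
  refine ⟨⟨tE, h⟩, ?_, rfl⟩
  show (⟨tE, h⟩ : ↥CH) ∈ Co2Inv.phi.ker
  rw [MonoidHom.mem_ker, phi_eq_one_iff]
  intro k hk
  have := R8_fix (k := k) (by omega)
  rw [R8_eq_R hk] at this
  left
  exact this

theorem K0_fix {g : ↥Co0} (hg : g ∈ K0) {y : ↥leechLattice} (hy : tE • y = y) : g • y = y := by
  obtain ⟨k, hk, rfl⟩ := hg
  exact ker_fix (MonoidHom.mem_ker.mp hk) hy

theorem neg_not_mem_K0 : negCo0 ∉ K0 := by
  intro h
  have h1 := K0_fix h tE_u0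
  rw [negCo0_smul] at h1
  exact u0_ne_neg h1.symm

theorem K0_tE_comm {g : ↥Co0} (hg : g ∈ K0) : g * tE = tE * g := (mem_N.mp (K0_le_N hg)).symm

/-- an element of `N` fixing all the roots lies in `K0` -/
theorem mem_K0_of_fix {g : ↥Co0} (hg : g ∈ N) (h : ∀ k < 240, g • R8 k = R8 k) : g ∈ K0 := by
  have h1 : psi0 ⟨g, hg⟩ = 1 := by
    rw [psi0_eq_one_iff]
    intro k hk
    left
    exact h k hk
  have hu : g • u0 = u0 := by
    have := h 126 (by norm_num)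
    rwa [R8_u] at this
  obtain ⟨hc, hp⟩ := ker_of_psi0 (g := ⟨g, hg⟩) h1 hu
  exact ⟨⟨g, hc⟩, MonoidHom.mem_ker.mpr hp, rfl⟩

theorem K0_normal {x : ↥Co0} (hx : x ∈ N) {k : ↥Co0} (hk : k ∈ K0) : x * k * x⁻¹ ∈ K0 := by
  have hxi : x⁻¹ ∈ N := N.inv_mem hx
  apply mem_K0_of_fix (N.mul_mem (N.mul_mem hx (K0_le_N hk)) hxi)
  intro j hj
  have h1 : tE • (x⁻¹ • R8 j) = x⁻¹ • R8 j := N_fix hxi (R8_fix hj)
  rw [mul_smul, mul_smul, K0_fix hk h1, smul_inv_smul]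

end Cfsg.Agent.Helper26.SecAsm
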