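import Cfsg.Agent.Helper26.SextetTab2

/-!
# Class certificates and class counts for sextets from a table
-/

set_option autoImplicit false

namespace Cfsg.Agent.Helper26

open Cfsg Helper27 Helper92
open scoped Pointwise

/-- the word stored in an entry -/
def sxWord (e : ℕ) : ℕ := Nat.land (Nat.shiftRight e 144) 281474976710655

/-- certificate check for entry `i`: its word moves its first tetrad to a tetrad of the
representative of its class -/
def sxCertFn (gens : List GenData) (T e₀ : ℕ) (rep : ℕ → ℕ) (N fuel : ℕ) (i : ℕ) : Bool :=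
  cond (Nat.blt i N)
    (strictN (fun e =>
      memB (runWord gens fuel (sxWord e) (lk24 e 0)) (tets (rep (sxInvM e₀ e)))) (sxEnt T i))
    true

theorem sxCert_sound (H : Subgroup (Equiv.Perm GolayPt)) (hHM : H ≤ M24) (gens : List GenData)
    (hH : ∀ g ∈ gens, g.ok = true ∧ g.perm ∈ H) (T e₀ : ℕ) (rep : ℕ → ℕ) (N fuel : ℕ)
    (hN : N ≤ 2048) (hT : SxTabGood T N) (h₀ : SxGood e₀) (hrep : ∀ k, SxGood (rep k))
    (hcheck : allRange (sxCertFn gens T e₀ rep N fuel) 11 0 = true) :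
    ∀ i < N, ∃ h ∈ H, h • sxOf (sxEnt T i) =
      sxOf (rep (sxInv (sxOf e₀) (sxOf (sxEnt T i)))) := by
  intro i hi
  have h1 := forall_lt_of_allRange _ 11 hcheck i (by norm_num; omega)
  unfold sxCertFn at h1
  have hb : Nat.blt i N = true := by simpa [Nat.blt_eq] using hi
  rw [hb, cond_true, strictN_eq, memB_iff, ← sxInv_eq h₀ (hT.good i hi)] at h1
  obtain ⟨h, hh, hrun⟩ := runWord_sound H gens hH fuel (sxWord (sxEnt T i))
  obtain ⟨-, he⟩ := hrun (lk24 (sxEnt T i) 0) (lk24_lt _ _)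
  refine ⟨h, hh, ?_⟩
  set k := sxInv (sxOf e₀) (sxOf (sxEnt T i)) with hk
  apply sextet_eq_of_common (smul_mem_sextets (hHM hh) (hT.mem_sextets hi))
    (sxOf_mem_sextets (hrep k))
    (t := Helper27.setOf (runWord gens fuel (sxWord (sxEnt T i)) (lk24 (sxEnt T i) 0)))
  · rw [← he]
    exact Finset.smul_mem_smul_finset (first_mem_sxOf _)
  · exact mem_sxOf.2 ⟨_, h1, rfl⟩

/-- counting function for a class -/
def sxCountFn (T e₀ N v : ℕ) (i : ℕ) : Bool := Nat.blt i N && Nat.beq (sxInvM e₀ (sxEnt T i)) v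

theorem sx_ncard_class {T e₀ : ℕ} (hT : SxTabGood T 1771) (h₀ : SxGood e₀) (v : ℕ) :
    {X | X ∈ sextets ∧ sxInv (sxOf e₀) X = v}.ncard = countRange (sxCountFn T e₀ 1771 v) 11 0 := by
  rw [← card_filter_range_pow, ← Set.ncard_coe_finset]
  let f : ℕ → Finset (Finset GolayPt) := fun i => sxOf (sxEnt T i)
  have himg : {X | X ∈ sextets ∧ sxInv (sxOf e₀) X = v} =
      f '' ↑((Finset.range (2 ^ 11)).filter fun i => sxCountFn T e₀ 1771 v i = true) := by
    ext X
    simp only [Set.mem_ofPred_eq, Set.mem_image, Finset.coe_filter, Finset.mem_range]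
    constructor
    · rintro ⟨hX, hv⟩
      obtain ⟨i, hi, rfl⟩ := hT.complete X hX
      refine ⟨i, ⟨by norm_num; omega, ?_⟩, rfl⟩
      rw [sxCountFn, Bool.and_eq_true]
      refine ⟨by simpa [Nat.blt_eq] using hi, ?_⟩
      rw [← sxInv_eq h₀ (hT.good i hi), hv]
      exact Nat.beq_refl _
    · rintro ⟨i, ⟨-, hc⟩, rfl⟩
      rw [sxCountFn, Bool.and_eq_true] at hc
      have hi : i < 1771 := by simpa [Nat.blt_eq] using hc.1
      refine ⟨hT.mem_sextets hi, ?_⟩
      show sxInv (sxOf e₀) (sxOf (sxEnt T i)) = v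
      rw [sxInv_eq h₀ (hT.good i hi)]
      exact Nat.eq_of_beq_eq_true hc.2
  rw [himg]
  apply Set.InjOn.ncard_image
  intro i hi j hj hij
  simp only [Finset.coe_filter, Finset.mem_range, Set.mem_ofPred_eq, sxCountFn,
    Bool.and_eq_true] at hi hj
  exact hT.inj (by simpa [Nat.blt_eq] using hi.2.1) (by simpa [Nat.blt_eq] using hj.2.1) hij

/-- check that a generator maps every tetrad of the entry `e₀` to a tetrad of `e₀` -/
def sxFixB (g : GenData) (e₀ : ℕ) : Bool := (tets e₀).all fun a => memB (g.app a) (tets e₀)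

theorem smul_sxOf_eq {g : GenData} (hg : g.ok = true) {e₀ : ℕ} (hfix : sxFixB g e₀ = true) :
    g.perm • sxOf e₀ = sxOf e₀ := by
  rw [sxFixB, List.all_eq_true] at hfix
  apply Finset.eq_of_subset_of_card_le
  · intro t ht
    obtain ⟨u, hu, rfl⟩ := Finset.mem_smul_finset.1 ht
    obtain ⟨a, ha, rfl⟩ := mem_sxOf.1 hu
    rw [GenData.smul_setOf hg a (tets_lt e₀ a ha)]
    exact mem_sxOf.2 ⟨_, (memB_iff _ _).1 (hfix a ha), rfl⟩
  · rw [Finset.card_smul_finset]

end Cfsg.Agent.Helper26
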