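import Cfsg.Agent.Helper26.SextetData
import Cfsg.Agent.Helper26.M24Homog

/-!
# Orbits of a sextet stabiliser on sextets

`sxInv S X` (sum of squares of the meets of the tetrads) takes the values 96 (`X = S`), 48, 36, 32 on
1, 90, 240, 1440 sextets `X`, and the stabiliser of `S` in `M24` is transitive on each class.
-/

set_option autoImplicit false

namespace Cfsg.Agent.Helper26

open Cfsg Helper27 Helper92 MulAction
open scoped Pointwise

/-- the stabiliser of the standard sextet inside `M24` -/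
def sxStab0 : Subgroup (Equiv.Perm GolayPt) :=
  M24 ⊓ stabilizer (Equiv.Perm GolayPt) (sxOf sxE0)

theorem sxGens_mem : ∀ g ∈ [sxG1, sxG2], g.ok = true ∧ g.perm ∈ sxStab0 := by
  intro g hg
  simp only [List.mem_cons, List.not_mem_nil, or_false] at hg
  rcases hg with rfl | rfl
  · exact ⟨sxG1_ok, Subgroup.mem_inf.2 ⟨GenData.perm_mem sxG1_ok,
      mem_stabilizer_iff.2 (smul_sxOf_eq sxG1_ok sxG1_fix)⟩⟩
  · exact ⟨sxG2_ok, Subgroup.mem_inf.2 ⟨GenData.perm_mem sxG2_ok,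
      mem_stabilizer_iff.2 (smul_sxOf_eq sxG2_ok sxG2_fix)⟩⟩

theorem sxT_good : SxTabGood sxT 1771 := sxTabGood_of_ok (by norm_num) sxT_ok

theorem sxE0_good : SxGood sxE0 := sxGood_of_ok sxE0_ok

theorem sxRep_good : ∀ k, SxGood (sxRep k) := by
  intro k
  unfold sxRep
  split_ifs with h1 h2 h3
  · have := sxRep_ok.1
    rw [sxRep, if_pos rfl] at this
    exact sxGood_of_ok this
  · have := sxRep_ok.2.1
    rw [sxRep, if_neg (by norm_num), if_pos rfl] at this
    exact sxGood_of_ok this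
  · have := sxRep_ok.2.2
    rw [sxRep, if_neg (by norm_num), if_neg (by norm_num), if_pos rfl] at this
    exact sxGood_of_ok this
  · exact sxE0_good

theorem sxOf_sxE0_mem : sxOf sxE0 ∈ sextets := sxOf_mem_sextets sxE0_good

theorem sx_to_rep {X : Finset (Finset GolayPt)} (hX : X ∈ sextets) :
    ∃ h ∈ sxStab0, h • X = sxOf (sxRep (sxInv (sxOf sxE0) X)) := by
  obtain ⟨i, hi, rfl⟩ := sxT_good.complete X hX
  exact sxCert_sound sxStab0 inf_le_left _ sxGens_mem sxT sxE0 sxRep 1771 13 (by norm_num)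
    sxT_good sxE0_good sxRep_good sxCert i hi

theorem sxInv_stab {S : Finset (Finset GolayPt)} {g : Equiv.Perm GolayPt} (hg : g • S = S)
    (X : Finset (Finset GolayPt)) : sxInv S (g • X) = sxInv S X := by
  conv_lhs => rw [← hg]
  exact sxInv_smul g S X

theorem sx_trans_std {X X' : Finset (Finset GolayPt)} (hX : X ∈ sextets) (hX' : X' ∈ sextets)
    (h : sxInv (sxOf sxE0) X = sxInv (sxOf sxE0) X') :
    ∃ g ∈ M24, g • sxOf sxE0 = sxOf sxE0 ∧ g • X = X' := by
  obtain ⟨a, ha, ea⟩ := sx_to_rep hX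
  obtain ⟨b, hb, eb⟩ := sx_to_rep hX'
  rw [h] at ea
  refine ⟨b⁻¹ * a, M24.mul_mem (M24.inv_mem hb.1) ha.1, ?_, ?_⟩
  · exact mem_stabilizer_iff.1 (sxStab0.mul_mem (sxStab0.inv_mem hb) ha).2
  · rw [mul_smul, ea, ← eb, inv_smul_smul]

/-- `M24` is transitive on sextets. -/
theorem exists_smul_sextet_eq {S S' : Finset (Finset GolayPt)} (hS : S ∈ sextets)
    (hS' : S' ∈ sextets) : ∃ g ∈ M24, g • S = S' := by
  have hne : S.Nonempty := Finset.card_pos.1 (by rw [hS.1]; norm_num)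
  have hne' : S'.Nonempty := Finset.card_pos.1 (by rw [hS'.1]; norm_num)
  obtain ⟨t, ht⟩ := hne
  obtain ⟨t', ht'⟩ := hne'
  obtain ⟨g, hg, hgt⟩ := exists_smul_eq_of_card t t' (by rw [hS.2.1 t ht, hS'.2.1 t' ht'])
    (by rw [hS.2.1 t ht]; norm_num)
  refine ⟨g, hg, ?_⟩
  apply sextet_eq_of_common (smul_mem_sextets hg hS) hS' (t := t') _ ht'
  rw [← hgt]
  exact Finset.smul_mem_smul_finset ht

/-- The stabiliser of a sextet `S` is transitive on the sextets with a given invariant. -/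
theorem sx_trans {S X X' : Finset (Finset GolayPt)} (hS : S ∈ sextets) (hX : X ∈ sextets)
    (hX' : X' ∈ sextets) (h : sxInv S X = sxInv S X') :
    ∃ g ∈ M24, g • S = S ∧ g • X = X' := by
  obtain ⟨a, ha, ea⟩ := exists_smul_sextet_eq hS sxOf_sxE0_mem
  have hc : ∀ Y, sxInv (sxOf sxE0) (a • Y) = sxInv S Y := fun Y => by
    rw [← ea]; exact sxInv_smul a S Y
  obtain ⟨g, hg, e1, e2⟩ := sx_trans_std (smul_mem_sextets ha hX) (smul_mem_sextets ha hX')
    (by rw [hc, hc, h])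
  refine ⟨a⁻¹ * g * a, M24.mul_mem (M24.mul_mem (M24.inv_mem ha) hg) ha, ?_, ?_⟩
  · rw [mul_smul, mul_smul, ea, e1, ← ea, inv_smul_smul]
  · rw [mul_smul, mul_smul, e2, inv_smul_smul]

theorem sx_ncard_std (v : ℕ) :
    {X | X ∈ sextets ∧ sxInv (sxOf sxE0) X = v}.ncard =
      countRange (sxCountFn sxT sxE0 1771 v) 11 0 := sx_ncard_class sxT_good sxE0_good v

theorem sx_ncard {S : Finset (Finset GolayPt)} (hS : S ∈ sextets) (v : ℕ) :
    {X | X ∈ sextets ∧ sxInv S X = v}.ncard = countRange (sxCountFn sxT sxE0 1771 v) 11 0 := by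
  rw [← sx_ncard_std v]
  obtain ⟨a, ha, ea⟩ := exists_smul_sextet_eq hS sxOf_sxE0_mem
  have hc : ∀ Y, sxInv (sxOf sxE0) (a • Y) = sxInv S Y := fun Y => by
    rw [← ea]; exact sxInv_smul a S Y
  refine Set.ncard_congr (fun X _ => a • X) ?_ ?_ ?_
  · rintro X ⟨hX, hv⟩
    exact ⟨smul_mem_sextets ha hX, by rw [hc, hv]⟩
  · intro X Y _ _ h
    exact MulAction.injective a h
  · rintro Y ⟨hY, hv⟩
    refine ⟨a⁻¹ • Y, ⟨smul_mem_sextets (M24.inv_mem ha) hY, ?_⟩, smul_inv_smul a Y⟩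
    rw [← hc, smul_inv_smul, hv]

theorem sxInvM_self : sxInvM sxE0 sxE0 = 96 := by decide +kernel

theorem sxInvM_reps : sxInvM sxE0 (sxRep 48) = 48 ∧ sxInvM sxE0 (sxRep 36) = 36 ∧
    sxInvM sxE0 (sxRep 32) = 32 := by decide +kernel

theorem sxInv_self {S : Finset (Finset GolayPt)} (hS : S ∈ sextets) : sxInv S S = 96 := by
  obtain ⟨a, ha, ea⟩ := exists_smul_sextet_eq hS sxOf_sxE0_mem
  rw [← sxInv_smul a S S, ea, sxInv_eq sxE0_good sxE0_good, sxInvM_self]

theorem sx_cls_mem {S X : Finset (Finset GolayPt)} (hS : S ∈ sextets) (hX : X ∈ sextets) :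
    sxInv S X = 32 ∨ sxInv S X = 36 ∨ sxInv S X = 48 ∨ sxInv S X = 96 := by
  obtain ⟨a, ha, ea⟩ := exists_smul_sextet_eq hS sxOf_sxE0_mem
  have hc : sxInv (sxOf sxE0) (a • X) = sxInv S X := by
    rw [← ea]; exact sxInv_smul a S X
  rw [← hc]
  obtain ⟨h, hh, he⟩ := sx_to_rep (smul_mem_sextets ha hX)
  set k := sxInv (sxOf sxE0) (a • X) with hk
  have h1 : k = sxInvM sxE0 (sxRep k) := by
    rw [← sxInv_eq sxE0_good (sxRep_good k), ← he,
      sxInv_stab (mem_stabilizer_iff.1 hh.2)]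
  by_cases h48 : k = 48
  · exact Or.inr (Or.inr (Or.inl h48))
  by_cases h36 : k = 36
  · exact Or.inr (Or.inl h36)
  by_cases h32 : k = 32
  · exact Or.inl h32
  right; right; right
  have : sxRep k = sxE0 := by
    unfold sxRep
    rw [if_neg h48, if_neg h36, if_neg h32]
  rw [this, sxInvM_self] at h1
  exact h1

end Cfsg.Agent.Helper26
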