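import Cfsg.Agent.Helper26.SextetOrbits
import Cfsg.Agent.Helper26.Coatom
import Cfsg.Agent.Helper7.M24Chain

/-!
# Structure of a sextet stabiliser `2^6 : 3.S_6` (abstract part)

For a sextet `S`: `sxK S` is the group of elements of `M24` fixing each tetrad, `sxN S` the subgroup
of those fixing moreover each of the three splittings of each tetrad into two pairs (on each tetrad
they act as an element of the four-group).  Elements of `sxN S` square to the identity.
-/

set_option autoImplicit false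

namespace Cfsg.Agent.Helper26

open Cfsg MulAction
open scoped Pointwise

/-! ### tetrads of a sextet partition the points -/

theorem sextet_disjoint {S : Finset (Finset GolayPt)} (hS : S ∈ sextets) {t u : Finset GolayPt}
    (ht : t ∈ S) (hu : u ∈ S) (h : t ≠ u) : Disjoint t u := by
  have h8 : (t ∪ u).card = 8 := (hS.2.2 t ht u hu h).2
  have h1 := Finset.card_union_add_card_inter t u
  rw [h8, hS.2.1 t ht, hS.2.1 u hu] at h1
  rw [Finset.disjoint_iff_inter_eq_empty, ← Finset.card_eq_zero]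
  omega

theorem sextet_cover {S : Finset (Finset GolayPt)} (hS : S ∈ sextets) (a : GolayPt) :
    ∃ t ∈ S, a ∈ t := by
  have hcard : (S.biUnion id).card = 24 := by
    rw [Finset.card_biUnion (t := id) (fun t ht u hu h => sextet_disjoint hS ht hu h)]
    have : ∀ t ∈ S, (id t : Finset GolayPt).card = 4 := fun t ht => hS.2.1 t ht
    rw [Finset.sum_congr rfl this, Finset.sum_const, hS.1]
    rfl
  have huniv : S.biUnion id = Finset.univ := by
    apply Finset.eq_univ_of_card
    rw [hcard, card_golayPt]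
  have : a ∈ S.biUnion id := by rw [huniv]; exact Finset.mem_univ a
  obtain ⟨t, ht, hat⟩ := Finset.mem_biUnion.1 this
  exact ⟨t, ht, hat⟩

/-! ### the subgroups -/

/-- `g` fixes or complements in `t` every pair inside `t` -/
def PairFix (g : Equiv.Perm GolayPt) (t : Finset GolayPt) : Prop :=
  ∀ p ⊆ t, p.card = 2 → g • p = p ∨ g • p = t \ p

theorem PairFix.mul {g h : Equiv.Perm GolayPt} {t : Finset GolayPt} (hg : PairFix g t)
    (hh : PairFix h t) (hgt : g • t = t) : PairFix (g * h) t := by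
  intro p hp h2
  rw [mul_smul]
  rcases hh p hp h2 with e | e
  · rw [e]; exact hg p hp h2
  · rw [e, Finset.smul_finset_sdiff, hgt]
    rcases hg p hp h2 with e' | e'
    · rw [e']; exact Or.inr rfl
    · rw [e', Finset.sdiff_sdiff_eq_self hp]; exact Or.inl rfl

theorem PairFix.inv {g : Equiv.Perm GolayPt} {t : Finset GolayPt} (hg : PairFix g t)
    (hgt : g • t = t) : PairFix g⁻¹ t := by
  intro p hp h2
  have hgt' : g⁻¹ • t = t := by rw [inv_smul_eq_iff, hgt]
  rcases hg p hp h2 with e | e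
  · left; rw [inv_smul_eq_iff, e]
  · right
    have : g⁻¹ • (t \ p) = p := by rw [inv_smul_eq_iff, e]
    conv_lhs => rw [← Finset.sdiff_sdiff_eq_self hp]
    rw [Finset.smul_finset_sdiff, hgt', this]

/-- the elements of `M24` fixing every tetrad of `S` -/
def sxK (S : Finset (Finset GolayPt)) : Subgroup (Equiv.Perm GolayPt) where
  carrier := {g | g ∈ M24 ∧ ∀ t ∈ S, g • t = t}
  mul_mem' := by
    rintro g h ⟨hg, hg'⟩ ⟨hh, hh'⟩
    exact ⟨M24.mul_mem hg hh, fun t ht => by rw [mul_smul, hh' t ht, hg' t ht]⟩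
  one_mem' := ⟨M24.one_mem, fun t _ => one_smul _ t⟩
  inv_mem' := by
    rintro g ⟨hg, hg'⟩
    exact ⟨M24.inv_mem hg, fun t ht => by rw [inv_smul_eq_iff, hg' t ht]⟩

/-- the elements of `sxK S` acting on each tetrad as an element of the four-group -/
def sxN (S : Finset (Finset GolayPt)) : Subgroup (Equiv.Perm GolayPt) where
  carrier := {g | g ∈ M24 ∧ ∀ t ∈ S, g • t = t ∧ PairFix g t}
  mul_mem' := by
    rintro g h ⟨hg, hg'⟩ ⟨hh, hh'⟩
    exact ⟨M24.mul_mem hg hh, fun t ht =>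
      ⟨by rw [mul_smul, (hh' t ht).1, (hg' t ht).1], (hg' t ht).2.mul (hh' t ht).2 (hg' t ht).1⟩⟩
  one_mem' := ⟨M24.one_mem, fun t _ => ⟨one_smul _ t, fun p _ _ => Or.inl (one_smul _ p)⟩⟩
  inv_mem' := by
    rintro g ⟨hg, hg'⟩
    exact ⟨M24.inv_mem hg, fun t ht =>
      ⟨by rw [inv_smul_eq_iff, (hg' t ht).1], (hg' t ht).2.inv (hg' t ht).1⟩⟩

theorem mem_sxK {S : Finset (Finset GolayPt)} {g : Equiv.Perm GolayPt} :
    g ∈ sxK S ↔ g ∈ M24 ∧ ∀ t ∈ S, g • t = t := Iff.rfl

theorem mem_sxN {S : Finset (Finset GolayPt)} {g : Equiv.Perm GolayPt} :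
    g ∈ sxN S ↔ g ∈ M24 ∧ ∀ t ∈ S, g • t = t ∧ PairFix g t := Iff.rfl

theorem sxN_le_sxK (S : Finset (Finset GolayPt)) : sxN S ≤ sxK S :=
  fun _ hg => ⟨hg.1, fun t ht => (hg.2 t ht).1⟩

/-- elements of `sxN S` square to the identity -/
theorem sxN_sq {S : Finset (Finset GolayPt)} (hS : S ∈ sextets) {g : Equiv.Perm GolayPt}
    (hg : g ∈ sxN S) : g * g = 1 := by
  refine Equiv.ext fun a => ?_
  show g (g a) = a
  obtain ⟨t, ht, hat⟩ := sextet_cover hS a
  obtain ⟨hgt, hpf⟩ := hg.2 t ht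
  by_cases hga : g a = a
  · rw [hga, hga]
  · have hgat : g a ∈ t := by
      have : g • a ∈ g • t := Finset.smul_mem_smul_finset hat
      rw [hgt] at this
      exact this
    have hp : ({a, g a} : Finset GolayPt) ⊆ t := by
      intro x hx
      rcases Finset.mem_insert.1 hx with rfl | hx
      · exact hat
      · rw [Finset.mem_singleton.1 hx]; exact hgat
    have h2 : ({a, g a} : Finset GolayPt).card = 2 := Finset.card_pair (Ne.symm hga)
    have hmem : g a ∈ g • ({a, g a} : Finset GolayPt) :=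
      Finset.smul_mem_smul_finset (a := g) (Finset.mem_insert_self a _)
    have hmem2 : g (g a) ∈ g • ({a, g a} : Finset GolayPt) :=
      Finset.smul_mem_smul_finset (a := g) (Finset.mem_insert_of_mem (Finset.mem_singleton_self _))
    rcases hpf _ hp h2 with e | e
    · rw [e] at hmem2
      rcases Finset.mem_insert.1 hmem2 with h | h
      · exact h
      · exfalso
        exact hga (g.injective (Finset.mem_singleton.1 h))
    · exfalso
      rw [e] at hmem
      exact (Finset.mem_sdiff.1 hmem).2 (Finset.mem_insert_of_mem (Finset.mem_singleton_self _))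

/-! ### transport along `M24` -/

theorem conj_mem_sxK {S : Finset (Finset GolayPt)} {a g : Equiv.Perm GolayPt} (ha : a ∈ M24)
    (hg : g ∈ sxK S) : a * g * a⁻¹ ∈ sxK (a • S) := by
  refine ⟨M24.mul_mem (M24.mul_mem ha hg.1) (M24.inv_mem ha), ?_⟩
  intro t ht
  obtain ⟨t₀, ht₀, rfl⟩ := Finset.mem_smul_finset.1 ht
  rw [mul_smul, mul_smul]
  show a • g • a⁻¹ • a • t₀ = a • t₀
  rw [inv_smul_smul, hg.2 t₀ ht₀]

theorem conj_mem_sxN {S : Finset (Finset GolayPt)} {a g : Equiv.Perm GolayPt} (ha : a ∈ M24)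
    (hg : g ∈ sxN S) : a * g * a⁻¹ ∈ sxN (a • S) := by
  refine ⟨M24.mul_mem (M24.mul_mem ha hg.1) (M24.inv_mem ha), ?_⟩
  intro t ht
  obtain ⟨t₀, ht₀, rfl⟩ := Finset.mem_smul_finset.1 ht
  obtain ⟨h1, h2⟩ := hg.2 t₀ ht₀
  refine ⟨?_, ?_⟩
  · rw [mul_smul, mul_smul]
    show a • g • a⁻¹ • a • t₀ = a • t₀
    rw [inv_smul_smul, h1]
  · intro p hp hp2
    have hp' : a⁻¹ • p ⊆ t₀ := by
      rw [← inv_smul_smul a t₀]
      exact Finset.smul_finset_subset_smul_finset hp
    have hp2' : (a⁻¹ • p).card = 2 := by rw [Finset.card_smul_finset, hp2]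
    rw [mul_smul, mul_smul]
    rcases h2 _ hp' hp2' with e | e
    · left
      rw [e, smul_inv_smul]
    · right
      rw [e, Finset.smul_finset_sdiff, smul_inv_smul]

/-! ### the action on the six tetrads -/

/-- the stabiliser of `S` in `M24`, as a group of permutations -/
abbrev sxStab (S : Finset (Finset GolayPt)) : Subgroup (Equiv.Perm GolayPt) :=
  M24 ⊓ stabilizer (Equiv.Perm GolayPt) S

theorem smul_mem_of_smul_eq {S : Finset (Finset GolayPt)} {g : Equiv.Perm GolayPt}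
    (hg : g • S = S) {t : Finset GolayPt} (ht : t ∈ S) : g • t ∈ S := by
  have := Finset.smul_mem_smul_finset (a := g) ht
  rwa [hg] at this

theorem smul_eq_of_forall_mem {S : Finset (Finset GolayPt)} {g : Equiv.Perm GolayPt}
    (h : ∀ t ∈ S, g • t ∈ S) : g • S = S := by
  apply Finset.eq_of_subset_of_card_le
  · intro u hu
    obtain ⟨t, ht, rfl⟩ := Finset.mem_smul_finset.1 hu
    exact h t ht
  · rw [Finset.card_smul_finset]

theorem sxK_le_sxStab (S : Finset (Finset GolayPt)) : sxK S ≤ sxStab S := by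
  intro g hg
  refine Subgroup.mem_inf.2 ⟨hg.1, mem_stabilizer_iff.2 (smul_eq_of_forall_mem fun t ht => ?_)⟩
  rw [hg.2 t ht]; exact ht

theorem sxStab_smul {S : Finset (Finset GolayPt)} (g : ↥(sxStab S)) :
    (g : Equiv.Perm GolayPt) • S = S := mem_stabilizer_iff.1 (Subgroup.mem_inf.1 g.2).2

/-- the action of the stabiliser on the tetrads -/
def tetHom (S : Finset (Finset GolayPt)) : ↥(sxStab S) →* Equiv.Perm ↥S where
  toFun g :=
    { toFun := fun t => ⟨(g : Equiv.Perm GolayPt) • (t : Finset GolayPt),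
        smul_mem_of_smul_eq (sxStab_smul g) t.2⟩
      invFun := fun t => ⟨(g : Equiv.Perm GolayPt)⁻¹ • (t : Finset GolayPt),
        smul_mem_of_smul_eq (by rw [inv_smul_eq_iff, sxStab_smul g]) t.2⟩
      left_inv := fun t => Subtype.ext (inv_smul_smul _ _)
      right_inv := fun t => Subtype.ext (smul_inv_smul _ _) }
  map_one' := Equiv.ext fun t => Subtype.ext (one_smul _ _)
  map_mul' g h := Equiv.ext fun t => Subtype.ext (mul_smul _ _ _)

theorem tetHom_apply (S : Finset (Finset GolayPt)) (g : ↥(sxStab S)) (t : ↥S) :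
    ((tetHom S g t : ↥S) : Finset GolayPt) = (g : Equiv.Perm GolayPt) • (t : Finset GolayPt) := rfl

theorem tetHom_ker (S : Finset (Finset GolayPt)) :
    (tetHom S).ker = (sxK S).subgroupOf (sxStab S) := by
  ext g
  rw [MonoidHom.mem_ker, Subgroup.mem_subgroupOf, mem_sxK]
  constructor
  · intro h
    refine ⟨(Subgroup.mem_inf.1 g.2).1, fun t ht => ?_⟩
    have := congrArg (fun e : Equiv.Perm ↥S => ((e ⟨t, ht⟩ : ↥S) : Finset GolayPt)) h
    exact this
  · rintro ⟨-, h⟩
    exact Equiv.ext fun t => Subtype.ext (h t.1 t.2)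

/-- the swapping property -/
def HasSwaps (S : Finset (Finset GolayPt)) : Prop :=
  ∀ t ∈ S, ∀ t' ∈ S, t ≠ t' → ∃ g ∈ M24, g • t = t' ∧ g • t' = t ∧
    ∀ u ∈ S, u ≠ t → u ≠ t' → g • u = u

theorem HasSwaps.smul {S : Finset (Finset GolayPt)} (h : HasSwaps S) {a : Equiv.Perm GolayPt}
    (ha : a ∈ M24) : HasSwaps (a • S) := by
  intro t ht t' ht' hne
  obtain ⟨t₀, ht₀, rfl⟩ := Finset.mem_smul_finset.1 ht
  obtain ⟨t₀', ht₀', rfl⟩ := Finset.mem_smul_finset.1 ht'
  have hne' : t₀ ≠ t₀' := fun e => hne (by rw [e])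
  obtain ⟨g, hg, e1, e2, e3⟩ := h t₀ ht₀ t₀' ht₀' hne'
  refine ⟨a * g * a⁻¹, M24.mul_mem (M24.mul_mem ha hg) (M24.inv_mem ha), ?_, ?_, ?_⟩
  · rw [mul_smul, mul_smul]
    show a • g • a⁻¹ • a • t₀ = a • t₀'
    rw [inv_smul_smul, e1]
  · rw [mul_smul, mul_smul]
    show a • g • a⁻¹ • a • t₀' = a • t₀
    rw [inv_smul_smul, e2]
  · intro u hu hu1 hu2
    obtain ⟨u₀, hu₀, rfl⟩ := Finset.mem_smul_finset.1 hu
    rw [mul_smul, mul_smul]
    show a • g • a⁻¹ • a • u₀ = a • u₀
    rw [inv_smul_smul, e3 u₀ hu₀ (fun e => hu1 (by rw [e])) (fun e => hu2 (by rw [e]))]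

theorem tetHom_surjective {S : Finset (Finset GolayPt)} (h : HasSwaps S) :
    Function.Surjective (tetHom S) := by
  rw [← MonoidHom.range_eq_top, eq_top_iff, ← Equiv.Perm.closure_isSwap, Subgroup.closure_le]
  rintro σ ⟨x, y, hxy, rfl⟩
  have hne : (x : Finset GolayPt) ≠ y := fun e => hxy (Subtype.ext e)
  obtain ⟨g, hg, e1, e2, e3⟩ := h x.1 x.2 y.1 y.2 hne
  have hgS : g • S = S := by
    apply smul_eq_of_forall_mem
    intro u hu
    by_cases h1 : u = x.1
    · rw [h1, e1]; exact y.2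
    · by_cases h2 : u = y.1
      · rw [h2, e2]; exact x.2
      · rw [e3 u hu h1 h2]; exact hu
  refine ⟨⟨g, Subgroup.mem_inf.2 ⟨hg, mem_stabilizer_iff.2 hgS⟩⟩, ?_⟩
  refine Equiv.ext fun u => Subtype.ext ?_
  rw [tetHom_apply]
  show g • (u : Finset GolayPt) = _
  by_cases h1 : u = x
  · rw [h1, Equiv.swap_apply_left, e1]
  · by_cases h2 : u = y
    · rw [h2, Equiv.swap_apply_right, e2]
    · rw [Equiv.swap_apply_of_ne_of_ne h1 h2]
      exact e3 u.1 u.2 (fun e => h1 (Subtype.ext e)) (fun e => h2 (Subtype.ext e))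

/-! ### orders -/

theorem orbit_M24_sextet {S : Finset (Finset GolayPt)} (hS : S ∈ sextets) :
    orbit M24 S = sextets := by
  ext y
  constructor
  · rintro ⟨g, rfl⟩
    exact smul_mem_sextets g.2 hS
  · intro hy
    obtain ⟨g, hg, hgs⟩ := exists_smul_sextet_eq hS hy
    exact ⟨⟨g, hg⟩, hgs⟩

/-- `H.subgroupOf K` has as many elements as `K ⊓ H`. -/
def sxSubgroupOfEquivInf {G : Type*} [Group G] (H K : Subgroup G) :
    ↥(H.subgroupOf K) ≃ ↥(K ⊓ H) where
  toFun x := ⟨x.1.1, Subgroup.mem_inf.2 ⟨x.1.2, Subgroup.mem_subgroupOf.1 x.2⟩⟩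
  invFun y := ⟨⟨y.1, (Subgroup.mem_inf.1 y.2).1⟩, Subgroup.mem_subgroupOf.2 (Subgroup.mem_inf.1 y.2).2⟩
  left_inv _ := rfl
  right_inv _ := rfl

theorem card_sxStab {S : Finset (Finset GolayPt)} (hS : S ∈ sextets) :
    Nat.card (sxStab S) = 138240 := by
  have h1 := Subgroup.card_mul_index (stabilizer M24 S)
  rw [index_stabilizer, orbit_M24_sextet hS, card_sextets Helper27.octads_steiner, Helper7.card_M24,
    stabilizer_subgroup_eq_subgroupOf, Nat.card_congr (sxSubgroupOfEquivInf _ _)] at h1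
  show Nat.card ↥(M24 ⊓ stabilizer (Equiv.Perm GolayPt) S) = 138240
  omega

theorem card_perm_sextet {S : Finset (Finset GolayPt)} (hS : S ∈ sextets) :
    Nat.card (Equiv.Perm ↥S) = 720 := by
  rw [Nat.card_eq_fintype_card, Fintype.card_perm, Fintype.card_coe, hS.1]
  rfl

theorem card_sxK {S : Finset (Finset GolayPt)} (hS : S ∈ sextets) (h : HasSwaps S) :
    Nat.card (sxK S) = 192 := by
  have h1 := Subgroup.card_mul_index (tetHom S).ker
  rw [Subgroup.index_ker, MonoidHom.range_eq_top.2 (tetHom_surjective h), Subgroup.card_top,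
    card_perm_sextet hS, card_sxStab hS, tetHom_ker,
    Nat.card_congr (Subgroup.subgroupOfEquivOfLe (sxK_le_sxStab S)).toEquiv] at h1
  omega

theorem card_sxN_le {S : Finset (Finset GolayPt)} (hS : S ∈ sextets) (h : HasSwaps S) :
    Nat.card (sxN S) ∣ 64 := by
  have hp : IsPGroup 2 (sxN S) := by
    intro g
    refine ⟨1, ?_⟩
    have := sxN_sq hS g.2
    rw [pow_one, pow_two]
    exact Subtype.ext this
  have : Fact (Nat.Prime 2) := ⟨Nat.prime_two⟩
  obtain ⟨n, hn⟩ := IsPGroup.iff_card.1 hp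
  have hdvd : Nat.card (sxN S) ∣ 192 := by
    rw [← card_sxK hS h]
    exact Subgroup.card_dvd_of_le (sxN_le_sxK S)
  rw [hn] at hdvd ⊢
  have hle : n ≤ 6 := by
    by_contra hcon
    have h7 : 2 ^ 7 ∣ 2 ^ n := Nat.pow_dvd_pow 2 (by omega)
    have := Nat.dvd_trans h7 hdvd
    norm_num at this
  exact Nat.pow_dvd_pow 2 hle

theorem card_sxN_smul_ge {S : Finset (Finset GolayPt)} {a : Equiv.Perm GolayPt} (ha : a ∈ M24) :
    Nat.card (sxN S) ≤ Nat.card (sxN (a • S)) := by
  apply Nat.card_le_card_of_injective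
    (fun g : ↥(sxN S) => (⟨a * g.1 * a⁻¹, conj_mem_sxN ha g.2⟩ : ↥(sxN (a • S))))
  intro g g' hgg
  have : a * g.1 * a⁻¹ = a * g'.1 * a⁻¹ := congrArg Subtype.val hgg
  exact Subtype.ext (mul_left_cancel (mul_right_cancel this))

end Cfsg.Agent.Helper26
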