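import Cfsg.Agent.Helper26.SextetStruct

/-!
# Structure of a sextet stabiliser: kernel-checkable certificates

`swapOK` : a generator swaps two tetrads of an entry and fixes the other four;
`nOK` : a generator fixes each tetrad of an entry and acts on it as an element of the four-group.
-/

set_option autoImplicit false

namespace Cfsg.Agent.Helper26

open Cfsg Helper27 Helper92 MulAction
open scoped Pointwise

theorem mem_tets_iff (e a : ℕ) : a ∈ tets e ↔ ∃ i < 6, a = lk24 e i := by
  unfold tets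
  constructor
  · intro h
    simp only [List.mem_cons, List.not_mem_nil, or_false] at h
    rcases h with rfl | rfl | rfl | rfl | rfl | rfl
    · exact ⟨0, by norm_num, rfl⟩
    · exact ⟨1, by norm_num, rfl⟩
    · exact ⟨2, by norm_num, rfl⟩
    · exact ⟨3, by norm_num, rfl⟩
    · exact ⟨4, by norm_num, rfl⟩
    · exact ⟨5, by norm_num, rfl⟩
  · rintro ⟨i, hi, rfl⟩
    interval_cases i <;> simp

theorem mem_sxOf_iff (e : ℕ) (t : Finset GolayPt) :
    t ∈ sxOf e ↔ ∃ i < 6, t = Helper27.setOf (lk24 e i) := by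
  rw [mem_sxOf]
  constructor
  · rintro ⟨a, ha, rfl⟩
    obtain ⟨i, hi, rfl⟩ := (mem_tets_iff e a).1 ha
    exact ⟨i, hi, rfl⟩
  · rintro ⟨i, hi, rfl⟩
    exact ⟨lk24 e i, (mem_tets_iff e _).2 ⟨i, hi, rfl⟩, rfl⟩

/-! ### swaps -/

/-- the transposition of `i` and `j` -/
def swp (i j k : ℕ) : ℕ := if k = i then j else if k = j then i else k

/-- `g` swaps tetrads `i`, `j` of the entry `e` and fixes the others -/
def swapOK (g : GenData) (e i j : ℕ) : Bool :=
  (List.range 6).all fun k => Nat.beq (g.app (lk24 e k)) (lk24 e (swp i j k))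

theorem swapOK_spec {g : GenData} (hok : g.ok = true) {e i j : ℕ} (h : swapOK g e i j = true)
    {k : ℕ} (hk : k < 6) :
    g.perm • Helper27.setOf (lk24 e k) = Helper27.setOf (lk24 e (swp i j k)) := by
  rw [swapOK, List.all_eq_true] at h
  have := Nat.eq_of_beq_eq_true (h k (List.mem_range.2 hk))
  rw [GenData.smul_setOf hok _ (lk24_lt _ _), this]

theorem hasSwaps_of_cert (e : ℕ) (sw : ℕ → ℕ → GenData)
    (h : ∀ i < 6, ∀ j < 6, i < j → (sw i j).ok = true ∧ swapOK (sw i j) e i j = true) :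
    HasSwaps (sxOf e) := by
  have key : ∀ i < 6, ∀ j < 6, i < j → ∃ g ∈ M24, ∀ k < 6,
      g • Helper27.setOf (lk24 e k) = Helper27.setOf (lk24 e (swp i j k)) := by
    intro i hi j hj hij
    obtain ⟨hok, hsw⟩ := h i hi j hj hij
    exact ⟨(sw i j).perm, GenData.perm_mem hok, fun k hk => swapOK_spec hok hsw hk⟩
  have key2 : ∀ i < 6, ∀ j < 6, i ≠ j → ∃ g ∈ M24, ∀ k < 6,
      g • Helper27.setOf (lk24 e k) = Helper27.setOf (lk24 e (swp i j k)) := by
    intro i hi j hj hij
    rcases Nat.lt_or_gt_of_ne hij with hlt | hgt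
    · exact key i hi j hj hlt
    · obtain ⟨g, hg, hk⟩ := key j hj i hi hgt
      refine ⟨g, hg, fun k hk' => ?_⟩
      rw [hk k hk']
      congr 2
      unfold swp
      split_ifs <;> omega
  intro t ht t' ht' hne
  obtain ⟨i, hi, rfl⟩ := (mem_sxOf_iff e t).1 ht
  obtain ⟨j, hj, rfl⟩ := (mem_sxOf_iff e t').1 ht'
  have hij : i ≠ j := fun h => hne (by rw [h])
  obtain ⟨g, hg, hk⟩ := key2 i hi j hj hij
  refine ⟨g, hg, ?_, ?_, ?_⟩
  · rw [hk i hi]
    congr 2
    unfold swp
    rw [if_pos rfl]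
  · rw [hk j hj]
    congr 2
    unfold swp
    rw [if_neg (Ne.symm hij), if_pos rfl]
  · intro u hu hu1 hu2
    obtain ⟨k, hk', rfl⟩ := (mem_sxOf_iff e u).1 hu
    have h1 : k ≠ i := fun h => hu1 (by rw [h])
    have h2 : k ≠ j := fun h => hu2 (by rw [h])
    rw [hk k hk']
    congr 2
    unfold swp
    rw [if_neg h1, if_neg h2]

/-! ### elements of the normal subgroup -/

/-- the mask of the pair of points `i`, `j` -/
def pmk (i j : ℕ) : ℕ := Nat.lor (Nat.shiftLeft 1 i) (Nat.shiftLeft 1 j)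

theorem testBit_pmk (i j k : ℕ) : (pmk i j).testBit k = (decide (i = k) || decide (j = k)) := by
  show ((1 <<< i) ||| (1 <<< j)).testBit k = _
  rw [Nat.testBit_or, Nat.one_shiftLeft, Nat.one_shiftLeft, Nat.testBit_two_pow, Nat.testBit_two_pow]

theorem pmk_lt {i j : ℕ} (hi : i < 24) (hj : j < 24) : pmk i j < 2 ^ 24 := by
  apply Nat.or_lt_two_pow
  · show 1 <<< i < 2 ^ 24
    rw [Nat.one_shiftLeft]; exact Nat.pow_lt_pow_right (by norm_num) hi
  · show 1 <<< j < 2 ^ 24
    rw [Nat.one_shiftLeft]; exact Nat.pow_lt_pow_right (by norm_num) hj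

theorem setOf_pmk (a b : GolayPt) : Helper27.setOf (pmk (gIdx a) (gIdx b)) = {a, b} := by
  ext q
  rw [Helper27.mem_setOf, testBit_pmk, Bool.or_eq_true, decide_eq_true_eq, decide_eq_true_eq,
    Finset.mem_insert, Finset.mem_singleton]
  constructor
  · rintro (h | h)
    · exact Or.inl (gIdx_injective h.symm)
    · exact Or.inr (gIdx_injective h.symm)
  · rintro (rfl | rfl)
    · exact Or.inl rfl
    · exact Or.inr rfl

/-- the pairs inside the tetrad `tm` are fixed or complemented -/
def pairOK (g : GenData) (tm : ℕ) : Bool :=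
  (List.range 24).all fun i => (List.range 24).all fun j =>
    !(Nat.testBit tm i && Nat.testBit tm j) || Nat.beq i j ||
      strictN (fun q => Nat.beq q (pmk i j) ||
        (Nat.beq (Nat.lor q (pmk i j)) tm && Nat.beq (Nat.land q (pmk i j)) 0)) (g.app (pmk i j))

/-- `g` fixes each tetrad of the entry and acts on it as an element of the four-group -/
def nOK (g : GenData) (e : ℕ) : Bool :=
  (List.range 6).all fun k => Nat.beq (g.app (lk24 e k)) (lk24 e k) && pairOK g (lk24 e k)

theorem pairFix_of_pairOK {g : GenData} (hok : g.ok = true) {tm : ℕ} (h : pairOK g tm = true) :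
    PairFix g.perm (Helper27.setOf tm) := by
  intro p hp h2
  obtain ⟨a, b, hab, rfl⟩ := Finset.card_eq_two.1 h2
  have ha : tm.testBit (gIdx a) = true :=
    (Helper27.mem_setOf tm a).1 (hp (Finset.mem_insert_self _ _))
  have hb : tm.testBit (gIdx b) = true :=
    (Helper27.mem_setOf tm b).1 (hp (Finset.mem_insert_of_mem (Finset.mem_singleton_self _)))
  have hne : gIdx a ≠ gIdx b := fun h => hab (gIdx_injective h)
  rw [pairOK, List.all_eq_true] at h
  have h1 := h (gIdx a) (List.mem_range.2 (gIdx_lt a))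
  rw [List.all_eq_true] at h1
  have h3 := h1 (gIdx b) (List.mem_range.2 (gIdx_lt b))
  rw [strictN_eq, ha, hb] at h3
  have hbeq : Nat.beq (gIdx a) (gIdx b) = false := by
    cases hc : Nat.beq (gIdx a) (gIdx b) with
    | true => exact absurd (Nat.eq_of_beq_eq_true hc) hne
    | false => rfl
  rw [hbeq] at h3
  simp only [Bool.and_self, Bool.not_true, Bool.false_or, Bool.or_eq_true, Bool.and_eq_true] at h3
  have hsm : g.perm • ({a, b} : Finset GolayPt) =
      Helper27.setOf (g.app (pmk (gIdx a) (gIdx b))) := by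
    rw [← setOf_pmk, GenData.smul_setOf hok _ (pmk_lt (gIdx_lt a) (gIdx_lt b))]
  rw [hsm]
  rcases h3 with h3 | ⟨h3, h4⟩
  · left
    rw [Nat.eq_of_beq_eq_true h3, setOf_pmk]
  · right
    have e1 := Nat.eq_of_beq_eq_true h3
    have e2 := Nat.eq_of_beq_eq_true h4
    set q := g.app (pmk (gIdx a) (gIdx b)) with hq
    have u1 : Helper27.setOf q ∪ {a, b} = Helper27.setOf tm := by
      rw [← setOf_pmk, ← Helper92.setOf_or]; exact congrArg _ e1
    have u2 : Helper27.setOf q ∩ {a, b} = ∅ := by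
      rw [← setOf_pmk, ← Helper92.setOf_and]
      have : q &&& pmk (gIdx a) (gIdx b) = 0 := e2
      rw [this]
      ext x
      simp [Helper27.mem_setOf]
    ext x
    rw [Finset.mem_sdiff, ← u1, Finset.mem_union]
    constructor
    · intro hx
      refine ⟨Or.inl hx, fun hx' => ?_⟩
      have : x ∈ Helper27.setOf q ∩ {a, b} := Finset.mem_inter.2 ⟨hx, hx'⟩
      rw [u2] at this
      exact absurd this (Finset.notMem_empty x)
    · rintro ⟨hx | hx, hx'⟩
      · exact hx
      · exact absurd hx hx'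

theorem mem_sxN_of_cert {g : GenData} (hok : g.ok = true) {e : ℕ} (h : nOK g e = true) :
    g.perm ∈ sxN (sxOf e) := by
  refine ⟨GenData.perm_mem hok, ?_⟩
  intro t ht
  obtain ⟨k, hk, rfl⟩ := (mem_sxOf_iff e t).1 ht
  rw [nOK, List.all_eq_true] at h
  have h1 := h k (List.mem_range.2 hk)
  rw [Bool.and_eq_true] at h1
  refine ⟨?_, pairFix_of_pairOK hok h1.2⟩
  rw [GenData.smul_setOf hok _ (lk24_lt _ _), Nat.eq_of_beq_eq_true h1.1]

/-! ### counting elements -/

theorem card_ge_of_images (H : Subgroup (Equiv.Perm GolayPt)) (gens : List GenData)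
    (hH : ∀ g ∈ gens, g.ok = true ∧ g.perm ∈ H) (n m : ℕ) (hm : m < 2 ^ 24) (ws : List ℕ)
    (hnd : (ws.map fun w => runWord gens n w m).Nodup) : ws.length ≤ Nat.card H := by
  classical
  set L := ws.map fun w => runWord gens n w m with hL
  have hex : ∀ x : {x // x ∈ L}, ∃ h ∈ H, x.1 < 2 ^ 24 ∧
      h • Helper27.setOf m = Helper27.setOf x.1 := by
    rintro ⟨x, hx⟩
    obtain ⟨w, -, rfl⟩ := List.mem_map.1 hx
    obtain ⟨h, hh, hs⟩ := runWord_sound H gens hH n w
    exact ⟨h, hh, (hs m hm).1, (hs m hm).2⟩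
  choose f hf using hex
  have hinj : Function.Injective (fun x : {x // x ∈ L} => (⟨f x, (hf x).1⟩ : ↥H)) := by
    intro x y hxy
    have e : f x = f y := congrArg Subtype.val hxy
    have := (hf x).2.2
    rw [e, (hf y).2.2] at this
    exact Subtype.ext (Helper27.eq_of_setOf_eq (hf x).2.1 (hf y).2.1 this.symm)
  have hcard : Nat.card {x // x ∈ L} = ws.length := by
    rw [Nat.card_eq_fintype_card, Fintype.card_of_subtype L.toFinset (fun x => List.mem_toFinset),
      List.toFinset_card_of_nodup hnd, hL, List.length_map]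
  rw [← hcard]
  exact Nat.card_le_card_of_injective _ hinj

end Cfsg.Agent.Helper26
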