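import Cfsg.Agent.Helper26.WordRun
import Cfsg.Agent.Helper26.FastCode
import Cfsg.Agent.Helper26.Sextet
import Cfsg.Agent.Helper7.M24Octad

/-!
# Sextets as table entries

An entry `e` packs six 24-bit tetrad masks (bits 0–143) and a word in the generators (bits 144–191).
`sxOf e` is the corresponding set of six tetrads, `sxEntryOK e` the kernel check that it is a sextet.
A table packs `N` entries of 192 bits; `sxTabOK` checks all entries, that each first tetrad contains
the point `0`, and that the first tetrads increase strictly; if `N = 1771` the table lists all sextets.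
-/

set_option autoImplicit false

namespace Cfsg.Agent.Helper26

open Cfsg Helper27 Helper92
open scoped Pointwise

/-! ### general facts on sextets and the action of `M24` -/

theorem smul_mem_sextets {g : Equiv.Perm GolayPt} (hg : g ∈ M24) {X : Finset (Finset GolayPt)}
    (hX : X ∈ sextets) : g • X ∈ sextets := by
  obtain ⟨h6, h4, hu⟩ := hX
  refine ⟨by rw [Finset.card_smul_finset, h6], ?_, ?_⟩
  · intro t ht
    obtain ⟨t', ht', rfl⟩ := Finset.mem_smul_finset.1 ht
    rw [Finset.card_smul_finset, h4 t' ht']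
  · intro t ht u hu' hne
    obtain ⟨t', ht', rfl⟩ := Finset.mem_smul_finset.1 ht
    obtain ⟨u', hu'', rfl⟩ := Finset.mem_smul_finset.1 hu'
    have hne' : t' ≠ u' := fun h => hne (by rw [h])
    rw [← Finset.smul_finset_union]
    exact Helper7.smul_mem_octads hg (hu t' ht' u' hu'' hne')

theorem sextet_eq_of_common {X Y : Finset (Finset GolayPt)} (hX : X ∈ sextets) (hY : Y ∈ sextets)
    {t : Finset GolayPt} (htX : t ∈ X) (htY : t ∈ Y) : X = Y := by
  have hS := Helper27.octads_steiner
  have h4 : t.card = 4 := hX.2.1 t htX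
  rw [sextet_unique hS h4 hX htX, sextet_unique hS h4 hY htY]

/-- the invariant of a pair of sextets: sum of the squares of the meets of their tetrads -/
def sxInv (S X : Finset (Finset GolayPt)) : ℕ := ∑ s ∈ S, ∑ x ∈ X, ((s ∩ x).card) ^ 2

theorem sxInv_smul (g : Equiv.Perm GolayPt) (S X : Finset (Finset GolayPt)) :
    sxInv (g • S) (g • X) = sxInv S X := by
  unfold sxInv
  have hinj : Function.Injective (fun s : Finset GolayPt => g • s) := MulAction.injective g
  have e1 : g • S = S.image (fun s => g • s) := rfl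
  have e2 : g • X = X.image (fun s => g • s) := rfl
  rw [e1, e2, Finset.sum_image (fun a _ b _ h => hinj h)]
  refine Finset.sum_congr rfl fun s _ => ?_
  rw [Finset.sum_image (fun a _ b _ h => hinj h)]
  refine Finset.sum_congr rfl fun x _ => ?_
  rw [← Finset.smul_finset_inter, Finset.card_smul_finset]

/-! ### entries -/

/-- the six tetrad masks of an entry -/
def tets (e : ℕ) : List ℕ := [lk24 e 0, lk24 e 1, lk24 e 2, lk24 e 3, lk24 e 4, lk24 e 5]

/-- the family of six tetrads of an entry -/
def sxOf (e : ℕ) : Finset (Finset GolayPt) := ((tets e).map Helper27.setOf).toFinset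

def isOctF (m : ℕ) : Bool := isCodeF m && Nat.beq (pc24 m) 8

def sxEntryOK (e : ℕ) : Bool :=
  (tets e).all (fun t => Nat.beq (pc24 t) 4) && pairwiseB (fun a b => isOctF (Nat.lor a b)) (tets e)

theorem tets_lt (e : ℕ) : ∀ t ∈ tets e, t < 2 ^ 24 := by
  intro t ht
  simp only [tets, List.mem_cons, List.not_mem_nil, or_false] at ht
  rcases ht with rfl | rfl | rfl | rfl | rfl | rfl <;> exact lk24_lt _ _

theorem isOctF_iff {m : ℕ} (hm : m < 2 ^ 24) : isOctF m = true ↔ Helper27.setOf m ∈ octads := by
  rw [Helper27.setOf_mem_octads_iff hm, isOctF, Bool.and_eq_true, isCodeF_eq, pc24_eq m hm]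
  constructor
  · rintro ⟨h1, h2⟩; exact ⟨h1, Nat.eq_of_beq_eq_true h2⟩
  · rintro ⟨h1, h2⟩; exact ⟨h1, h2 ▸ Nat.beq_refl _⟩

structure SxGood (e : ℕ) : Prop where
  card4 : ∀ t ∈ tets e, (Helper27.setOf t).card = 4
  union : ∀ a ∈ tets e, ∀ b ∈ tets e, a ≠ b → Helper27.setOf a ∪ Helper27.setOf b ∈ octads
  pw : (tets e).Pairwise (fun a b => Helper27.setOf a ∪ Helper27.setOf b ∈ octads)

theorem sxGood_of_ok {e : ℕ} (h : sxEntryOK e = true) : SxGood e := by
  rw [sxEntryOK, Bool.and_eq_true, List.all_eq_true, pairwiseB_iff] at h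
  obtain ⟨h4, hp⟩ := h
  have hpw : (tets e).Pairwise (fun a b => Helper27.setOf a ∪ Helper27.setOf b ∈ octads) := by
    have := hp
    rw [List.pairwise_iff_forall_sublist] at this ⊢
    intro a b hab
    have h1 := this hab
    have ha : a ∈ tets e := hab.subset (by simp)
    have hb : b ∈ tets e := hab.subset (by simp)
    have hlt : a ||| b < 2 ^ 24 := Nat.or_lt_two_pow (tets_lt e a ha) (tets_lt e b hb)
    rw [← setOf_or]
    exact (isOctF_iff hlt).1 h1
  refine ⟨?_, ?_, hpw⟩
  · intro t ht
    rw [card_setOf, ← pc24_eq t (tets_lt e t ht)]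
    exact Nat.eq_of_beq_eq_true (h4 t ht)
  · intro a ha b hb hne
    haveI : Std.Symm (fun a b : ℕ => Helper27.setOf a ∪ Helper27.setOf b ∈ octads) :=
      ⟨fun x y hxy => by rw [Finset.union_comm]; exact hxy⟩
    exact hpw.forall ha hb hne

theorem SxGood.disjoint {e : ℕ} (h : SxGood e) {a b : ℕ} (ha : a ∈ tets e) (hb : b ∈ tets e)
    (hne : a ≠ b) : Disjoint (Helper27.setOf a) (Helper27.setOf b) := by
  have h8 : (Helper27.setOf a ∪ Helper27.setOf b).card = 8 := (h.union a ha b hb hne).2
  have := Finset.card_union_add_card_inter (Helper27.setOf a) (Helper27.setOf b)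
  rw [h8, h.card4 a ha, h.card4 b hb] at this
  rw [Finset.disjoint_iff_inter_eq_empty, ← Finset.card_eq_zero]
  omega

theorem SxGood.setOf_ne {e : ℕ} (h : SxGood e) {a b : ℕ} (ha : a ∈ tets e) (hb : b ∈ tets e)
    (hne : a ≠ b) : Helper27.setOf a ≠ Helper27.setOf b := by
  intro heq
  have hd := h.disjoint ha hb hne
  rw [heq, Finset.disjoint_self_iff_empty] at hd
  have := h.card4 b hb
  rw [hd] at this
  simp at this

theorem SxGood.nodup_map {e : ℕ} (h : SxGood e) : ((tets e).map Helper27.setOf).Nodup := by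
  rw [List.nodup_map_iff_inj_on]
  · intro a ha b hb hab
    by_contra hne
    exact h.setOf_ne ha hb hne hab
  · -- the masks themselves are distinct
    have : (tets e).Pairwise (fun a b => a ≠ b) := by
      refine h.pw.imp_of_mem ?_
      intro a b ha hb hab hne
      subst hne
      rw [Finset.union_self] at hab
      have h8 : (Helper27.setOf a).card = 8 := hab.2
      have := h.card4 a ha
      omega
    exact this

theorem mem_sxOf {e : ℕ} {t : Finset GolayPt} : t ∈ sxOf e ↔ ∃ a ∈ tets e, Helper27.setOf a = t := by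
  simp [sxOf]

theorem sxOf_mem_sextets {e : ℕ} (h : SxGood e) : sxOf e ∈ sextets := by
  refine ⟨?_, ?_, ?_⟩
  · rw [sxOf, List.toFinset_card_of_nodup h.nodup_map]
    simp [tets]
  · intro t ht
    obtain ⟨a, ha, rfl⟩ := mem_sxOf.1 ht
    exact h.card4 a ha
  · intro t ht u hu hne
    obtain ⟨a, ha, rfl⟩ := mem_sxOf.1 ht
    obtain ⟨b, hb, rfl⟩ := mem_sxOf.1 hu
    exact h.union a ha b hb (fun hab => hne (by rw [hab]))

theorem first_mem_sxOf (e : ℕ) : Helper27.setOf (lk24 e 0) ∈ sxOf e :=
  mem_sxOf.2 ⟨_, by simp [tets], rfl⟩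

/-! ### the invariant on entries -/

def sxInvM (e₀ e : ℕ) : ℕ :=
  ((tets e₀).map fun a => ((tets e).map fun b => (pc24 (Nat.land a b)) ^ 2).sum).sum

theorem sxInv_eq {e₀ e : ℕ} (h₀ : SxGood e₀) (h : SxGood e) :
    sxInv (sxOf e₀) (sxOf e) = sxInvM e₀ e := by
  unfold sxInv sxInvM sxOf
  rw [List.sum_toFinset _ h₀.nodup_map, List.map_map]
  congr 1
  apply List.map_congr_left
  intro a ha
  rw [Function.comp_apply, List.sum_toFinset _ h.nodup_map, List.map_map]
  congr 1
  apply List.map_congr_left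
  intro b hb
  rw [Function.comp_apply, ← setOf_and, card_setOf]
  have hlt : a &&& b < 2 ^ 24 := lt_of_le_of_lt Nat.and_le_left (tets_lt e₀ a ha)
  rw [← pc24_eq _ hlt]
  rfl

end Cfsg.Agent.Helper26
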