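import Cfsg.Agent.Helper26.SextetTab

/-!
# Tables of sextets: completeness
-/

set_option autoImplicit false

namespace Cfsg.Agent.Helper26

open Cfsg Helper27 Helper92
open scoped Pointwise

/-- entry number `i` of a table of 192-bit entries (not masked above) -/
def sxEnt (T i : ℕ) : ℕ := Nat.shiftRight T (Nat.mul 192 i)

def sxTabFn (T N : ℕ) (i : ℕ) : Bool :=
  cond (Nat.blt i N)
    (strictN (fun e => sxEntryOK e && Nat.beq (Nat.land (lk24 e 0) 1) 1 &&
      cond (Nat.blt (Nat.succ i) N) (Nat.blt (lk24 e 0) (lk24 (sxEnt T (Nat.succ i)) 0)) true)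
      (sxEnt T i))
    true

def sxTabOK (T N : ℕ) : Bool := allRange (sxTabFn T N) 11 0

structure SxTabGood (T N : ℕ) : Prop where
  good : ∀ i < N, SxGood (sxEnt T i)
  pt0 : ∀ i < N, gPt 0 ∈ Helper27.setOf (lk24 (sxEnt T i) 0)
  mono : ∀ i j, i < j → j < N → lk24 (sxEnt T i) 0 < lk24 (sxEnt T j) 0

theorem sxTabGood_of_ok {T N : ℕ} (hN : N ≤ 2048) (h : sxTabOK T N = true) : SxTabGood T N := by
  have hall := forall_lt_of_allRange _ 11 h
  have spec : ∀ i < N, sxEntryOK (sxEnt T i) = true ∧ Nat.land (lk24 (sxEnt T i) 0) 1 = 1 ∧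
      (i + 1 < N → lk24 (sxEnt T i) 0 < lk24 (sxEnt T (i + 1)) 0) := by
    intro i hi
    have h1 := hall i (by norm_num; omega)
    unfold sxTabFn at h1
    have hb : Nat.blt i N = true := by simpa [Nat.blt_eq] using hi
    rw [hb, cond_true, strictN_eq, Bool.and_eq_true, Bool.and_eq_true] at h1
    refine ⟨h1.1.1, Nat.eq_of_beq_eq_true h1.1.2, fun hlt => ?_⟩
    have hb' : Nat.blt (Nat.succ i) N = true := by simpa [Nat.blt_eq] using hlt
    have h2 := h1.2
    rw [hb', cond_true] at h2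
    simpa [Nat.blt_eq] using h2
  refine ⟨fun i hi => sxGood_of_ok (spec i hi).1, fun i hi => ?_, ?_⟩
  · rw [Helper27.mem_setOf, gIdx_gPt 0 (by norm_num), Nat.testBit_zero]
    have h1 := (spec i hi).2.1
    have h2 : lk24 (sxEnt T i) 0 &&& 1 = 1 := h1
    rw [Nat.and_one_is_mod] at h2
    simp [h2]
  · intro i j hij hj
    induction j with
    | zero => omega
    | succ j ih =>
      have hstep := (spec j (by omega)).2.2 hj
      rcases Nat.lt_succ_iff_lt_or_eq.1 hij with h1 | h1
      · exact lt_trans (ih h1 (by omega)) hstep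
      · rw [h1]; exact hstep

theorem SxTabGood.mem_sextets {T N : ℕ} (h : SxTabGood T N) {i : ℕ} (hi : i < N) :
    sxOf (sxEnt T i) ∈ sextets := sxOf_mem_sextets (h.good i hi)

theorem SxTabGood.inj {T N : ℕ} (h : SxTabGood T N) {i j : ℕ} (hi : i < N) (hj : j < N)
    (heq : sxOf (sxEnt T i) = sxOf (sxEnt T j)) : i = j := by
  -- the first tetrad of entry `i` is a tetrad of entry `j` containing the point 0
  have h1 : Helper27.setOf (lk24 (sxEnt T i) 0) ∈ sxOf (sxEnt T j) := heq ▸ first_mem_sxOf _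
  obtain ⟨b, hb, hbe⟩ := mem_sxOf.1 h1
  have hb0 : b = lk24 (sxEnt T j) 0 := by
    by_contra hne
    have hd := (h.good j hj).disjoint hb (show lk24 (sxEnt T j) 0 ∈ tets (sxEnt T j) by simp [tets]) hne
    have p1 : gPt 0 ∈ Helper27.setOf b := hbe ▸ h.pt0 i hi
    exact Finset.disjoint_left.1 hd p1 (h.pt0 j hj)
  rw [hb0] at hbe
  have hm : lk24 (sxEnt T j) 0 = lk24 (sxEnt T i) 0 :=
    eq_of_setOf_eq (lk24_lt _ _) (lk24_lt _ _) hbe
  by_contra hne
  rcases Nat.lt_or_gt_of_ne hne with hlt | hlt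
  · have := h.mono i j hlt hj; omega
  · have := h.mono j i hlt hi; omega

/-- A good table with 1771 entries lists all sextets. -/
theorem SxTabGood.complete {T : ℕ} (h : SxTabGood T 1771) :
    ∀ X ∈ sextets, ∃ i < 1771, X = sxOf (sxEnt T i) := by
  have hS := Helper27.octads_steiner
  let f : ℕ → Finset (Finset GolayPt) := fun i => sxOf (sxEnt T i)
  have hsub : f '' (Finset.range 1771 : Set ℕ) ⊆ sextets := by
    rintro _ ⟨i, hi, rfl⟩
    exact h.mem_sextets (by simpa using hi)
  have hinj : Set.InjOn f (Finset.range 1771 : Set ℕ) := by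
    intro i hi j hj hij
    exact h.inj (by simpa using hi) (by simpa using hj) hij
  have hcard : (f '' (Finset.range 1771 : Set ℕ)).ncard = 1771 := by
    rw [Set.InjOn.ncard_image hinj, Set.ncard_coe_finset, Finset.card_range]
  have heq := Set.eq_of_subset_of_ncard_le hsub (by rw [hcard, card_sextets hS]) (Set.toFinite _)
  intro X hX
  rw [← heq] at hX
  obtain ⟨i, hi, rfl⟩ := hX
  exact ⟨i, by simpa using hi, rfl⟩

end Cfsg.Agent.Helper26
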