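import Mathlib

/-!
# Counting `k`-subsets by the size of their meet with a fixed set
-/

set_option autoImplicit false

namespace Cfsg.Agent.Helper26

theorem card_filter_inter_eq {α : Type*} [Fintype α] [DecidableEq α] (s : Finset α) (k j : ℕ)
    (hj : j ≤ k) :
    (((Finset.univ : Finset α).powersetCard k).filter fun y => (s ∩ y).card = j).card
      = s.card.choose j * (Fintype.card α - s.card).choose (k - j) := by
  have hR : s.card.choose j * (Fintype.card α - s.card).choose (k - j)
      = ((s.powersetCard j) ×ˢ (sᶜ.powersetCard (k - j))).card := by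
    rw [Finset.card_product, Finset.card_powersetCard, Finset.card_powersetCard, Finset.card_compl]
  rw [hR]
  refine Finset.card_nbij' (fun y => (s ∩ y, y \ s)) (fun p => p.1 ∪ p.2) ?_ ?_ ?_ ?_
  · intro y hy
    simp only [Finset.coe_filter, Finset.mem_powersetCard, Finset.subset_univ, true_and,
      Set.mem_ofPred_eq] at hy
    simp only [Finset.coe_product, Set.mem_prod, Finset.mem_coe, Finset.mem_powersetCard]
    refine ⟨⟨Finset.inter_subset_left, hy.2⟩, ?_, ?_⟩
    · intro a ha
      simp only [Finset.mem_sdiff] at ha
      simpa using ha.2
    · have := Finset.card_sdiff_add_card_inter y s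
      rw [Finset.inter_comm y s] at this
      omega
  · rintro ⟨u, v⟩ hp
    simp only [Finset.coe_product, Set.mem_prod, Finset.mem_coe, Finset.mem_powersetCard] at hp
    obtain ⟨⟨hu, huc⟩, hv, hvc⟩ := hp
    have hdisj : Disjoint u v := by
      rw [Finset.disjoint_left]
      intro a ha hb
      have := hv hb
      simp only [Finset.mem_compl] at this
      exact this (hu ha)
    have hinter : s ∩ (u ∪ v) = u := by
      ext a
      simp only [Finset.mem_inter, Finset.mem_union]
      constructor
      · rintro ⟨has, ha | ha⟩
        · exact ha
        · have := hv ha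
          simp only [Finset.mem_compl] at this
          exact absurd has this
      · intro ha
        exact ⟨hu ha, Or.inl ha⟩
    simp only [Finset.coe_filter, Finset.mem_powersetCard, Finset.subset_univ, true_and,
      Set.mem_ofPred_eq]
    refine ⟨?_, ?_⟩
    · rw [Finset.card_union_of_disjoint hdisj]; omega
    · rw [hinter, huc]
  · intro y _
    ext a
    simp only [Finset.mem_union, Finset.mem_inter, Finset.mem_sdiff]
    tauto
  · rintro ⟨u, v⟩ hp
    simp only [Finset.coe_product, Set.mem_prod, Finset.mem_coe, Finset.mem_powersetCard] at hp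
    obtain ⟨⟨hu, -⟩, hv, -⟩ := hp
    have hv' : ∀ a ∈ v, a ∉ s := fun a ha => by simpa using hv ha
    refine Prod.ext ?_ ?_
    · ext a
      simp only [Finset.mem_inter, Finset.mem_union]
      constructor
      · rintro ⟨has, ha | ha⟩
        · exact ha
        · exact absurd has (hv' a ha)
      · intro ha
        exact ⟨hu ha, Or.inl ha⟩
    · ext a
      simp only [Finset.mem_sdiff, Finset.mem_union]
      constructor
      · rintro ⟨ha | ha, has⟩
        · exact absurd (hu ha) has
        · exact ha
      · intro ha
        exact ⟨Or.inr ha, hv' a ha⟩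

theorem ncard_subsets_inter_eq {α : Type*} [Fintype α] [DecidableEq α] (s : Finset α) (k j : ℕ)
    (hj : j ≤ k) :
    {y : Finset α | y.card = k ∧ (s ∩ y).card = j}.ncard
      = s.card.choose j * (Fintype.card α - s.card).choose (k - j) := by
  rw [← card_filter_inter_eq s k j hj, ← Set.ncard_coe_finset]
  congr 1
  ext y
  simp [Finset.mem_powersetCard]

end Cfsg.Agent.Helper26
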