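import Cfsg.Agent.Helper26.SuzCountA
import Cfsg.Agent.Helper26.SecCount

/-!
# The Suzuki section of `Co0`: the order of the centraliser and the image of the homomorphism

An upper bound for the order of `C_N(a)` from a chain of four roots, a lower bound for the order of
the image of the homomorphism from a stabiliser chain on the vectors of `F_2^6`.
-/

set_option autoImplicit false

namespace Cfsg.Agent.Helper26.SuzSec

open Cfsg Cfsg.Agent.Helper7 Cfsg.Agent.Helper8 Cfsg.Agent.Helper27 Cfsg.Agent.Helper26.Co2Inv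
  Cfsg.Agent.Helper26.Co1Inv Cfsg.Agent.Helper26.SecAsm Cfsg.Agent.Helper26.ExCoord
  Cfsg.Agent.Helper26.OmegaM6 Cfsg.Agent.Helper26.SecLocal MulAction Matrix

/-! ### the generators in coordinates -/

set_option maxRecDepth 1000000

theorem conj_gen {i j : ℕ} (hi : i < 3) (hj : j < 6) :
    gE i * eN (bas j) * (gE i)⁻¹ = eN (img i j) := by
  have h : gE i * eN (bas j) = eN (img i j) * gE i :=
    Acts.ext ((acts_eN (bas_lt j hj)).mul (acts_gE hi))
      ((acts_gE hi).mul (acts_eN (img_lt i hi j hj)))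
      (okW_append (WN_ok _ (bas_lt j hj)) (genW_ok i hi))
      (okW_append (genW_ok i hi) (WN_ok _ (img_lt i hi j hj))) (img_chk i hi j hj)
  rw [h, mul_inv_cancel_right]

/-- the matrix of a generator -/
theorem Mx_gen {i : ℕ} (hi : i < 3) :
    frame.Mx (gE i) = Matrix.of fun r c => bitsV6 (col i (idx6 c)) r := by
  ext r c
  show frame.cvec (gE i * bE c * (gE i)⁻¹) r = _
  unfold bE
  rw [conj_gen hi (idx6_lt c), cvec_eN (img_lt i hi _ (idx6_lt c)), col_chk i hi _ (idx6_lt c)]
  rfl

/-- the generators as elements of the centraliser -/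
noncomputable def gX (i : ℕ) : ↥(XS aE) := if h : i < 3 then ⟨gE i, gE_mem h⟩ else 1

/-- the product of generators along a word -/
noncomputable def xW : List ℕ → ↥(XS aE)
  | [] => 1
  | i :: w => gX i * xW w

/-- the action of an isometry on vectors -/
def act (g : ↥O6) (v : I6 → ZMod 2) : I6 → ZMod 2 :=
  ((g : GL I6 (ZMod 2)) : Matrix I6 I6 (ZMod 2)) *ᵥ v

theorem act_mul (g h : ↥O6) (v : I6 → ZMod 2) : act (g * h) v = act g (act h v) := by
  unfold act
  rw [Matrix.mulVec_mulVec]
  rfl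

theorem act_one (v : I6 → ZMod 2) : act 1 v = v := by
  unfold act
  exact Matrix.one_mulVec v

theorem act_inv_of {g : ↥O6} {v : I6 → ZMod 2} (h : act g v = v) : act g⁻¹ v = v := by
  have := act_mul g⁻¹ g v
  rw [inv_mul_cancel, act_one, h] at this
  exact this.symm

theorem rho0_val (x : ↥(XS aE)) :
    (((rho0 x : ↥O6) : GL I6 (ZMod 2)) : Matrix I6 I6 (ZMod 2)) = frame.Mx x.1 := rfl

theorem gX_val {i : ℕ} (hi : i < 3) : (gX i : ↥Co0) = gE i := by
  unfold gX
  rw [dif_pos hi]

theorem act_gX {i : ℕ} (hi : i < 3) {v : ℕ} (hv : v < 64) :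
    act (rho0 (gX i)) (bitsV6 v) = bitsV6 (mvN i v) := by
  unfold act
  rw [rho0_val, gX_val hi, Mx_gen hi]
  exact (mv_chk i hi v hv).2

theorem act_xW (w : List ℕ) (hw : ∀ i ∈ w, i < 3) {v : ℕ} (hv : v < 64) :
    actW w v < 64 ∧ act (rho0 (xW w)) (bitsV6 v) = bitsV6 (actW w v) := by
  induction w with
  | nil =>
    refine ⟨hv, ?_⟩
    show act (rho0 1) (bitsV6 v) = bitsV6 v
    rw [map_one, act_one]
  | cons i w ih =>
    have hi : i < 3 := hw i (List.mem_cons_self)
    obtain ⟨h1, h2⟩ := ih (fun j hj => hw j (List.mem_cons_of_mem _ hj))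
    refine ⟨(mv_chk i hi _ h1).1, ?_⟩
    show act (rho0 (gX i * xW w)) (bitsV6 v) = bitsV6 (mvN i (actW w v))
    rw [map_mul, act_mul, h2, act_gX hi h1]

/-! ### the stabiliser chain in the image -/

/-- the stabiliser of a vector -/
def StV (v : I6 → ZMod 2) : Subgroup ↥O6 where
  carrier := {g | act g v = v}
  mul_mem' := by
    intro g h hg hh
    show act (g * h) v = v
    rw [act_mul, (show act h v = v from hh), (show act g v = v from hg)]
  one_mem' := act_one v
  inv_mem' := fun {g} hg => act_inv_of hg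

theorem mem_StV {g : ↥O6} {v : I6 → ZMod 2} : g ∈ StV v ↔ act g v = v := Iff.rfl

/-- the chain of stabilisers in the image -/
noncomputable def Hst : List ℕ → Subgroup ↥O6
  | [] => rho0.range
  | f :: l => Hst l ⊓ StV (bitsV6 f)

theorem mem_Hst_of {l : List ℕ} {w : List ℕ} (hw : ∀ i ∈ w, i < 3)
    (hl : ∀ f ∈ l, f < 64 ∧ actW w f = f) : rho0 (xW w) ∈ Hst l := by
  induction l with
  | nil => exact ⟨xW w, rfl⟩
  | cons f l ih =>
    refine ⟨ih (fun g hg => hl g (List.mem_cons_of_mem _ hg)), ?_⟩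
    obtain ⟨h1, h2⟩ := hl f (List.mem_cons_self)
    show act (rho0 (xW w)) (bitsV6 f) = bitsV6 f
    rw [(act_xW w hw h1).2, h2]

theorem level_ge (l : List ℕ) (b : ℕ) (ws : List (List ℕ)) (hok : lvlOk l b ws = true)
    (hnd : (ws.map fun w => actW w b).Nodup) :
    ws.length * Nat.card ↥(Hst (b :: l)) ≤ Nat.card ↥(Hst l) := by
  unfold lvlOk at hok
  rw [Bool.and_eq_true, decide_eq_true_eq, List.all_eq_true] at hok
  obtain ⟨hb, hws⟩ := hok
  have hw3 : ∀ w ∈ ws, ∀ i ∈ w, i < 3 := by
    intro w hw i hi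
    have := hws w hw
    rw [Bool.and_eq_true, List.all_eq_true] at this
    exact of_decide_eq_true (this.1 i hi)
  have hwl : ∀ w ∈ ws, ∀ f ∈ l, f < 64 ∧ actW w f = f := by
    intro w hw f hf
    have := hws w hw
    rw [Bool.and_eq_true, List.all_eq_true] at this
    have h2 := (List.all_eq_true.mp this.2) f hf
    rw [Bool.and_eq_true, decide_eq_true_eq, beq_iff_eq] at h2
    exact h2
  show ws.length * Nat.card ↥(Hst l ⊓ StV (bitsV6 b)) ≤ _
  apply card_ge_cosets (Hst l) (StV (bitsV6 b)) ws.length (fun i => rho0 (xW (ws.get i)))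
  · intro i
    exact mem_Hst_of (hw3 _ (List.get_mem ws i)) (hwl _ (List.get_mem ws i))
  · intro i j hij
    rw [mem_StV, act_mul] at hij
    have h1 := congrArg (act (rho0 (xW (ws.get i)))) hij
    rw [← act_mul, mul_inv_cancel, act_one,
      (act_xW _ (hw3 _ (List.get_mem ws j)) hb).2, (act_xW _ (hw3 _ (List.get_mem ws i)) hb).2] at h1
    have h2 := bitsV6_inj (act_xW _ (hw3 _ (List.get_mem ws j)) hb).1
      (act_xW _ (hw3 _ (List.get_mem ws i)) hb).1 h1
    have hi' : i.val < (ws.map fun w => actW w b).length := by rw [List.length_map]; exact i.isLt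
    have hj' : j.val < (ws.map fun w => actW w b).length := by rw [List.length_map]; exact j.isLt
    have h3 : (ws.map fun w => actW w b)[i.val] = (ws.map fun w => actW w b)[j.val] := by
      rw [List.getElem_map, List.getElem_map]
      exact h2.symm
    exact Fin.ext ((List.Nodup.getElem_inj_iff hnd).mp h3)

/-- the image has at least 25920 elements -/
theorem card_range_ge : 25920 ≤ Nat.card ↥rho0.range := by
  obtain ⟨l0, l1, l2, l3⟩ := lev_len
  obtain ⟨o0, o1, o2, o3⟩ := lev_ok
  obtain ⟨n0, n1, n2, n3⟩ := lev_nodup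
  have h0 := level_ge [] 20 lev0 o0 n0
  have h1 := level_ge [20] 11 lev1 o1 n1
  have h2 := level_ge [11, 20] 5 lev2 o2 n2
  have h3 := level_ge [5, 11, 20] 2 lev3 o3 n3
  have h4 : 0 < Nat.card ↥(Hst [2, 5, 11, 20]) := Nat.card_pos
  rw [l0] at h0
  rw [l1] at h1
  rw [l2] at h2
  rw [l3] at h3
  have e : Hst [] = rho0.range := rfl
  rw [e] at h0
  omega

/-! ### the chain of roots -/

theorem dot_R8 {k l : ℕ} (hk : k < 240) (hl : l < 240) :
    dotInt (R8 k : IVec) (R8 l : IVec) = dotT k l := dot_R8_R8 hk hl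

/-- the chain of stabilisers of roots -/
noncomputable def Xst : List ℕ → Subgroup ↥Co0
  | [] => XS aE
  | f :: l => Xst l ⊓ MulAction.stabilizer ↥Co0 (R8 f)

theorem Xst_le (l : List ℕ) : Xst l ≤ XS aE := by
  induction l with
  | nil => exact le_rfl
  | cons f l ih => exact inf_le_left.trans ih

theorem Xst_fix {l : List ℕ} {g : ↥Co0} (hg : g ∈ Xst l) {f : ℕ} (hf : f ∈ l) :
    g • R8 f = R8 f := by
  induction l with
  | nil => exact absurd hf (List.not_mem_nil)
  | cons f' l ih =>
    rcases List.mem_cons.mp hf with h | h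
    · rw [h]
      exact MulAction.mem_stabilizer_iff.mp hg.2
    · exact ih hg.1 h

theorem aE_R8 {k k' : ℕ} (hk : k < 240) (hk' : k' < 240) (h : runW aW (r8L k) = r8L k') :
    aE • R8 k = R8 k' := by
  apply Subtype.ext
  rw [acts_aE.run aW_ok (R8_val hk), h, R8_val hk']

theorem fix_img {g : ↥Co0} (hg : g ∈ XS aE) {k k' : ℕ} (ha : aE • R8 k = R8 k')
    (h : g • R8 k = R8 k) : g • R8 k' = R8 k' := by
  have hc : g * aE = aE * g := mem_cent_aE.mp hg.2
  rw [← ha, ← mul_smul, hc, mul_smul, h]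

theorem level_le (l fixed : List ℕ) (kk : ℕ) (hkk : kk < 240) (hfl : ∀ f ∈ fixed, f < 240)
    (hfix : ∀ g ∈ Xst l, ∀ f ∈ fixed, g • R8 f = R8 f) :
    Nat.card ↥(Xst l) ≤ (candL fixed kk).length * Nat.card ↥(Xst (kk :: l)) := by
  have hN : ∀ h : ↥(Xst l), h.1 ∈ N := fun h => (Xst_le l h.2).1
  let φ : ↥(Xst l) → ℕ := fun h => Classical.choose (exists_sig8 (hN h) hkk)
  have hφ : ∀ h : ↥(Xst l), φ h < 240 ∧ h.1 • R8 kk = R8 (φ h) := fun h =>
    Classical.choose_spec (exists_sig8 (hN h) hkk)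
  have h1 := card_le_of_fibers (Xst l) (MulAction.stabilizer ↥Co0 (R8 kk)) φ
    (candL fixed kk).toFinset (by
      intro h
      rw [List.mem_toFinset]
      unfold candL
      rw [List.mem_filter, List.mem_range, List.all_eq_true]
      refine ⟨(hφ h).1, ?_⟩
      intro f hf
      rw [beq_iff_eq, ← dot_R8 (hφ h).1 (hfl f hf), ← dot_R8 hkk (hfl f hf), ← (hφ h).2]
      conv_lhs => rw [← hfix h.1 h.2 f hf]
      exact co0_dotInt h.1 _ _) (by
      intro h h' e
      rw [MulAction.mem_stabilizer_iff, mul_smul, (hφ h).2, e, ← (hφ h').2, inv_smul_smul])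
  refine h1.trans (Nat.mul_le_mul_right _ (List.toFinset_card_le _))

/-- an element of `N` fixing the eight roots fixes all the roots -/
theorem fix_all {g : ↥Co0} (hg : g ∈ N) (h : ∀ f ∈ F4, g • R8 f = R8 f) :
    ∀ k < 240, g • R8 k = R8 k := by
  intro k hk
  obtain ⟨k', hk', e⟩ := exists_sig8 hg hk
  have h1 : F4.map (dotT k') = F4.map (dotT k) := by
    apply List.map_congr_left
    intro f hf
    rw [← dot_R8 hk' (F4_lt f hf), ← dot_R8 hk (F4_lt f hf), ← e]
    conv_lhs => rw [← h f hf]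
    exact co0_dotInt g _ _
  rw [← sigT_chk k' hk', ← sigT_chk k hk] at h1
  have hk1 : k' < sigT.length := by rw [sigT_length]; exact hk'
  have hk2 : k < sigT.length := by rw [sigT_length]; exact hk
  rw [List.getD_eq_getElem _ _ hk1, List.getD_eq_getElem _ _ hk2] at h1
  rw [e, (List.Nodup.getElem_inj_iff sigT_nodup).mp h1]

/-- the centraliser of `a` in `N` has at most 19906560 elements -/
theorem card_XS_le : Nat.card ↥(XS aE) ≤ 19906560 := by
  obtain ⟨c1, c2, c3, c4⟩ := chain_chk
  have a1 := aE_R8 (by norm_num : 126 < 240) (by norm_num : 148 < 240) c1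
  have a2 := aE_R8 (by norm_num : 4 < 240) (by norm_num : 189 < 240) c2
  have a3 := aE_R8 (by norm_num : 0 < 240) (by norm_num : 120 < 240) c3
  have a4 := aE_R8 (by norm_num : 14 < 240) (by norm_num : 72 < 240) c4
  obtain ⟨n1, n2, n3, n4⟩ := cand_len
  have h1 := level_le [] [] 126 (by norm_num) (by decide) (fun _ _ f hf => absurd hf List.not_mem_nil)
  have f1 : ∀ g ∈ Xst [126], ∀ f ∈ [126, 148], g • R8 f = R8 f := by
    intro g hg f hf
    have hX := Xst_le _ hg
    have e1 : g • R8 126 = R8 126 := Xst_fix hg (by decide)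
    have e2 := fix_img hX a1 e1
    rcases List.mem_cons.mp hf with rfl | hf
    · exact e1
    rcases List.mem_cons.mp hf with rfl | hf
    · exact e2
    exact absurd hf List.not_mem_nil
  have h2 := level_le [126] [126, 148] 4 (by norm_num) (by decide) f1
  have f2 : ∀ g ∈ Xst [4, 126], ∀ f ∈ [4, 189, 126, 148], g • R8 f = R8 f := by
    intro g hg f hf
    have hX := Xst_le _ hg
    have e1 : g • R8 4 = R8 4 := Xst_fix hg (by decide)
    have e2 := fix_img hX a2 e1
    rcases List.mem_cons.mp hf with rfl | hf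
    · exact e1
    rcases List.mem_cons.mp hf with rfl | hf
    · exact e2
    exact f1 g hg.1 f hf
  have h3 := level_le [4, 126] [4, 189, 126, 148] 0 (by norm_num) (by decide) f2
  have f3 : ∀ g ∈ Xst [0, 4, 126], ∀ f ∈ [0, 120, 4, 189, 126, 148], g • R8 f = R8 f := by
    intro g hg f hf
    have hX := Xst_le _ hg
    have e1 : g • R8 0 = R8 0 := Xst_fix hg (by decide)
    have e2 := fix_img hX a3 e1
    rcases List.mem_cons.mp hf with rfl | hf
    · exact e1
    rcases List.mem_cons.mp hf with rfl | hf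
    · exact e2
    exact f2 g hg.1 f hf
  have h4 := level_le [0, 4, 126] [0, 120, 4, 189, 126, 148] 14 (by norm_num) (by decide) f3
  have f4 : ∀ g ∈ Xst [14, 0, 4, 126], ∀ f ∈ F4, g • R8 f = R8 f := by
    intro g hg f hf
    have hX := Xst_le _ hg
    have e1 : g • R8 14 = R8 14 := Xst_fix hg (by decide)
    have e2 := fix_img hX a4 e1
    rcases List.mem_cons.mp hf with rfl | hf
    · exact e1
    rcases List.mem_cons.mp hf with rfl | hf
    · exact e2
    exact f3 g hg.1 f hf
  have h5 : Nat.card ↥(Xst [14, 0, 4, 126]) ≤ Nat.card ↥(ES aE) := by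
    apply Subgroup.card_le_of_le
    intro g hg
    have hX := Xst_le _ hg
    exact ⟨mem_K0_of_fix hX.1 (fix_all hX.1 (f4 g hg)), hX.2⟩
  rw [card_ES] at h5
  rw [n1] at h1
  rw [n2] at h2
  rw [n3] at h3
  rw [n4] at h4
  have e : Xst [] = XS aE := rfl
  rw [e] at h1
  omega

end Cfsg.Agent.Helper26.SuzSec
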