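import Cfsg.Agent.Helper26.SuzRho2

/-!
# The Suzuki section of `Co0`: data and kernel checks for the counting
-/

set_option autoImplicit false

namespace Cfsg.Agent.Helper26.SuzSec

open Cfsg Cfsg.Agent.Helper7 Cfsg.Agent.Helper8 Cfsg.Agent.Helper27 Cfsg.Agent.Helper26.Co2Inv
  Cfsg.Agent.Helper26.Co1Inv Cfsg.Agent.Helper26.SecAsm Cfsg.Agent.Helper26.ExCoord
  Cfsg.Agent.Helper26.OmegaM6 Cfsg.Agent.Helper26.SecLocal MulAction Matrix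

/-! ### data -/

/-- the coordinates of the images of the basis under the generators -/
def colT : List (List ℕ) :=
  [[2, 1, 27, 23, 51, 16], [2, 3, 15, 6, 16, 32], [9, 23, 12, 8, 16, 40]]

def col (i j : ℕ) : ℕ := (colT.getD i []).getD j 0

/-- the eight fixed roots -/
def F4 : List ℕ := [14, 72, 0, 120, 4, 189, 126, 148]

/-- the dot products of the roots with the eight fixed roots -/
def sigT : List (List ℤ) := [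
  [-16, 0, 32, -16, 0, 0, 0, 0],
  [16, 0, -32, 16, 0, 0, 0, 0],
  [0, 0, 0, -16, 0, 0, 0, 0],
  [0, 0, 0, 16, 0, 0, 0, 0],
  [16, 0, 0, 0, 32, -16, 0, 16],
  [-16, 0, 0, 0, -32, 16, 0, -16],
  [0, 16, 0, -16, 0, 0, 0, 0],
  [0, -16, 0, 16, 0, 0, 0, 0],
  [-16, 16, 0, 0, 0, 16, 0, 16],
  [16, -16, 0, 0, 0, -16, 0, -16],
  [0, -16, 0, 0, 0, -16, 0, 16],
  [0, 16, 0, 0, 0, 16, 0, -16],
  [16, -16, 0, 16, 0, 0, 0, 0],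
  [-16, 16, 0, -16, 0, 0, 0, 0],
  [32, -16, -16, 16, 16, -16, 0, 0],
  [-32, 16, 16, -16, -16, 16, 0, 0],
  [16, -16, 16, 0, 16, -16, 0, 0],
  [-16, 16, -16, 0, -16, 16, 0, 0],
  [0, 16, -16, 0, 16, 0, 0, 16],
  [0, -16, 16, 0, -16, 0, 0, -16],
  [-16, 16, 16, -16, 16, 0, 0, 16],
  [16, -16, -16, 16, -16, 0, 0, -16],
  [0, 0, 16, 0, 16, 0, 0, 16],
  [0, 0, -16, 0, -16, 0, 0, -16],
  [16, 0, -16, 16, 16, 0, 0, 16],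
  [-16, 0, 16, -16, -16, 0, 0, -16],
  [0, 0, -16, 16, -16, 16, 0, 0],
  [0, 0, 16, -16, 16, -16, 0, 0],
  [-16, 0, 16, 0, -16, 16, 0, 0],
  [16, 0, -16, 0, 16, -16, 0, 0],
  [0, 0, 0, 0, 16, -16, 0, 16],
  [0, 0, 0, 0, -16, 16, 0, -16],
  [16, 0, 0, 16, 16, 0, 0, 0],
  [-16, 0, 0, -16, -16, 0, 0, 0],
  [0, 0, 0, -16, 16, -16, 0, 16],
  [0, 0, 0, 16, -16, 16, 0, -16],
  [16, 0, 0, 0, 16, 0, 0, 0],
  [-16, 0, 0, 0, -16, 0, 0, 0],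
  [0, -16, 0, 16, -16, 0, 0, 0],
  [0, 16, 0, -16, 16, 0, 0, 0],
  [16, -16, 0, 0, 16, -16, 0, 16],
  [-16, 16, 0, 0, -16, 16, 0, -16],
  [0, -16, 0, 0, -16, 0, 0, 0],
  [0, 16, 0, 0, 16, 0, 0, 0],
  [16, -16, 0, 16, 16, -16, 0, 16],
  [-16, 16, 0, -16, -16, 16, 0, -16],
  [0, 16, -16, 16, 0, 16, 0, 0],
  [0, -16, 16, -16, 0, -16, 0, 0],
  [-16, 16, 16, 0, 0, 16, 0, 0],
  [16, -16, -16, 0, 0, -16, 0, 0],
  [0, 16, -16, 0, 0, 16, 0, 0],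
  [0, -16, 16, 0, 0, -16, 0, 0],
  [-16, 16, 16, -16, 0, 16, 0, 0],
  [16, -16, -16, 16, 0, -16, 0, 0],
  [0, 0, -16, 0, 0, 0, 0, 16],
  [0, 0, 16, 0, 0, 0, 0, -16],
  [-16, 0, 16, -16, 0, 0, 0, 16],
  [16, 0, -16, 16, 0, 0, 0, -16],
  [0, 0, -16, 16, 0, 0, 0, 16],
  [0, 0, 16, -16, 0, 0, 0, -16],
  [-16, 0, 16, 0, 0, 0, 0, 16],
  [16, 0, -16, 0, 0, 0, 0, -16],
  [0, -16, 0, 16, 0, 0, 0, 16],
  [0, 16, 0, -16, 0, 0, 0, -16],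
  [16, -16, 0, 0, 0, -16, 0, 0],
  [-16, 16, 0, 0, 0, 16, 0, 0],
  [0, 16, 0, 0, 0, 16, 0, 0],
  [0, -16, 0, 0, 0, -16, 0, 0],
  [-16, 16, 0, -16, 0, 0, 0, 16],
  [16, -16, 0, 16, 0, 0, 0, -16],
  [0, 0, 0, 0, 0, 0, 0, 16],
  [0, 0, 0, 0, 0, 0, 0, -16],
  [-16, 32, 0, -16, 0, 16, 0, 0],
  [16, -32, 0, 16, 0, -16, 0, 0],
  [0, 0, 0, 16, 0, 16, 0, 0],
  [0, 0, 0, -16, 0, -16, 0, 0],
  [-16, 0, 0, 0, 0, 0, 0, 16],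
  [16, 0, 0, 0, 0, 0, 0, -16],
  [0, 0, -16, 0, -16, 0, 0, 0],
  [0, 0, 16, 0, 16, 0, 0, 0],
  [-16, 0, 16, -16, -16, 0, 0, 0],
  [16, 0, -16, 16, 16, 0, 0, 0],
  [0, 0, 16, -16, 16, -16, 0, 16],
  [0, 0, -16, 16, -16, 16, 0, -16],
  [16, 0, -16, 0, 16, -16, 0, 16],
  [-16, 0, 16, 0, -16, 16, 0, -16],
  [0, 16, 16, -16, 16, 0, 0, 0],
  [0, -16, -16, 16, -16, 0, 0, 0],
  [16, 16, -16, 0, 16, 0, 0, 0],
  [-16, -16, 16, 0, -16, 0, 0, 0],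
  [0, -16, 16, 0, 16, -16, 0, 16],
  [0, 16, -16, 0, -16, 16, 0, -16],
  [16, -16, -16, 16, 16, -16, 0, 16],
  [-16, 16, 16, -16, -16, 16, 0, -16],
  [0, 16, 0, -16, 16, 0, 0, 16],
  [0, -16, 0, 16, -16, 0, 0, -16],
  [-16, 16, 0, 0, -16, 16, 0, 0],
  [16, -16, 0, 0, 16, -16, 0, 0],
  [0, 16, 0, 0, 16, 0, 0, 16],
  [0, -16, 0, 0, -16, 0, 0, -16],
  [-16, 16, 0, -16, -16, 16, 0, 0],
  [16, -16, 0, 16, 16, -16, 0, 0],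
  [0, 0, 0, 0, 16, 0, 0, 16],
  [0, 0, 0, 0, -16, 0, 0, -16],
  [-16, 0, 0, 16, -16, 16, 0, 0],
  [16, 0, 0, -16, 16, -16, 0, 0],
  [0, 0, 0, 16, 16, 0, 0, 16],
  [0, 0, 0, -16, -16, 0, 0, -16],
  [-16, 0, 0, 0, -16, 16, 0, 0],
  [16, 0, 0, 0, 16, -16, 0, 0],
  [0, 0, 16, 0, 0, 0, 0, 0],
  [0, 0, -16, 0, 0, 0, 0, 0],
  [16, 0, -16, 16, 0, 0, 0, 0],
  [-16, 0, 16, -16, 0, 0, 0, 0],
  [0, 0, 16, -16, 0, 0, 0, 0],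
  [0, 0, -16, 16, 0, 0, 0, 0],
  [16, 0, -16, 0, 0, 0, 0, 0],
  [-16, 0, 16, 0, 0, 0, 0, 0],
  [0, -16, 16, 16, 0, 0, 0, 0],
  [0, 16, -16, -16, 0, 0, 0, 0],
  [16, -16, -16, 32, 0, 0, 0, 0],
  [-16, 16, 16, -32, 0, 0, 0, 0],
  [0, -16, 16, 0, 0, 0, 0, 0],
  [0, 16, -16, 0, 0, 0, 0, 0],
  [16, -16, -16, 16, 0, 0, 0, 0],
  [-16, 16, 16, -16, 0, 0, 0, 0],
  [0, 0, 0, 0, 0, -16, 32, -16],
  [0, 0, 0, 0, 0, 16, -32, 16],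
  [0, 16, -16, 0, 0, 16, -16, 16],
  [0, -16, 16, 0, 0, -16, 16, -16],
  [0, 16, -16, 0, 0, 0, 16, -16],
  [0, -16, 16, 0, 0, 0, -16, 16],
  [-16, 16, 16, -16, 0, 16, -16, 16],
  [16, -16, -16, 16, 0, -16, 16, -16],
  [-16, 16, 16, -16, 0, 0, 16, -16],
  [16, -16, -16, 16, 0, 0, -16, 16],
  [16, 0, 0, 0, 16, 0, -16, 16],
  [-16, 0, 0, 0, -16, 0, 16, -16],
  [16, 0, 0, 0, 16, -16, 16, -16],
  [-16, 0, 0, 0, -16, 16, -16, 16],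
  [0, 0, 0, 16, 0, 16, -16, 16],
  [0, 0, 0, -16, 0, -16, 16, -16],
  [0, 0, 0, 16, 0, 0, 16, -16],
  [0, 0, 0, -16, 0, 0, -16, 16],
  [0, 0, 0, 0, 0, 16, -16, 16],
  [0, 0, 0, 0, 0, -16, 16, -16],
  [0, 0, 0, 0, 0, 0, 16, -16],
  [0, 0, 0, 0, 0, 0, -16, 16],
  [0, 0, 0, 0, 16, 0, -16, 32],
  [0, 0, 0, 0, -16, 0, 16, -32],
  [0, 0, 0, 0, 16, -16, 16, 0],
  [0, 0, 0, 0, -16, 16, -16, 0],
  [0, -16, 0, 0, -16, -16, 16, -16],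
  [0, 16, 0, 0, 16, 16, -16, 16],
  [-16, 16, 0, -16, -16, 0, 16, -16],
  [16, -16, 0, 16, 16, 0, -16, 16],
  [16, 0, -16, 0, 0, -16, 16, -16],
  [-16, 0, 16, 0, 0, 16, -16, 16],
  [0, 0, 16, -16, 0, -16, 16, -16],
  [0, 0, -16, 16, 0, 16, -16, 16],
  [0, 0, -16, 16, -16, 0, 16, -16],
  [0, 0, 16, -16, 16, 0, -16, 16],
  [-16, 0, 16, 0, -16, 0, 16, -16],
  [16, 0, -16, 0, 16, 0, -16, 16],
  [16, -16, 0, 16, 0, -16, 16, -16],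
  [-16, 16, 0, -16, 0, 16, -16, 16],
  [0, 16, 0, 0, 0, 0, 16, -16],
  [0, -16, 0, 0, 0, 0, -16, 16],
  [0, 0, -16, 0, -16, 0, 16, -16],
  [0, 0, 16, 0, 16, 0, -16, 16],
  [-16, 0, 16, -16, -16, 0, 16, -16],
  [16, 0, -16, 16, 16, 0, -16, 16],
  [16, -16, 0, 0, 0, -16, 16, -16],
  [-16, 16, 0, 0, 0, 16, -16, 16],
  [0, 16, 0, -16, 0, 0, 16, -16],
  [0, -16, 0, 16, 0, 0, -16, 16],
  [0, -16, 0, 16, -16, 0, 16, -16],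
  [0, 16, 0, -16, 16, 0, -16, 16],
  [-16, 16, 0, 0, -16, 16, 16, -16],
  [16, -16, 0, 0, 16, -16, -16, 16],
  [16, 0, -16, 16, 0, 0, 16, -16],
  [-16, 0, 16, -16, 0, 0, -16, 16],
  [0, 0, 16, 0, 0, 0, 16, -16],
  [0, 0, -16, 0, 0, 0, -16, 16],
  [0, 0, -16, 0, 0, -16, 16, 0],
  [0, 0, 16, 0, 0, 16, -16, 0],
  [-16, 0, 16, -16, 0, -16, 16, 0],
  [16, 0, -16, 16, 0, 16, -16, 0],
  [16, -16, 0, 0, 16, -32, 16, 0],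
  [-16, 16, 0, 0, -16, 32, -16, 0],
  [0, 16, 0, -16, 16, -16, 16, 0],
  [0, -16, 0, 16, -16, 16, -16, 0],
  [0, -16, 0, 16, 0, -16, 16, 0],
  [0, 16, 0, -16, 0, 16, -16, 0],
  [-16, 16, 0, 0, 0, 0, 16, 0],
  [16, -16, 0, 0, 0, 0, -16, 0],
  [16, 0, -16, 16, 16, -16, 16, 0],
  [-16, 0, 16, -16, -16, 16, -16, 0],
  [0, 0, 16, 0, 16, -16, 16, 0],
  [0, 0, -16, 0, -16, 16, -16, 0],
  [0, -16, 0, 0, 0, -16, 16, 0],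
  [0, 16, 0, 0, 0, 16, -16, 0],
  [-16, 16, 0, -16, 0, 0, 16, 0],
  [16, -16, 0, 16, 0, 0, -16, 0],
  [16, 0, -16, 0, 16, -16, 16, 0],
  [-16, 0, 16, 0, -16, 16, -16, 0],
  [0, 0, 16, -16, 16, -16, 16, 0],
  [0, 0, -16, 16, -16, 16, -16, 0],
  [0, 0, -16, 16, 0, 0, 16, 0],
  [0, 0, 16, -16, 0, 0, -16, 0],
  [-16, 0, 16, 0, 0, 0, 16, 0],
  [16, 0, -16, 0, 0, 0, -16, 0],
  [16, -16, 0, 16, 16, -16, 16, 0],
  [-16, 16, 0, -16, -16, 16, -16, 0],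
  [0, 16, 0, 0, 16, 0, 16, 0],
  [0, -16, 0, 0, -16, 0, -16, 0],
  [0, 0, 0, 0, -16, 0, 16, -16],
  [0, 0, 0, 0, 16, 0, -16, 16],
  [0, 0, 0, 0, 0, -16, 16, 0],
  [0, 0, 0, 0, 0, 16, -16, 0],
  [0, 0, 0, -16, 0, -16, 16, 0],
  [0, 0, 0, 16, 0, 16, -16, 0],
  [-16, 0, 0, 0, -16, 0, 16, 0],
  [16, 0, 0, 0, 16, 0, -16, 0],
  [16, -16, -16, 16, 0, -16, 16, 0],
  [-16, 16, 16, -16, 0, 16, -16, 0],
  [0, -16, 16, 0, 0, -16, 16, 0],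
  [0, 16, -16, 0, 0, 16, -16, 0],
  [0, 16, -16, 0, 0, 0, 16, 0],
  [0, -16, 16, 0, 0, 0, -16, 0],
  [-16, 16, 16, -16, 0, 0, 16, 0],
  [16, -16, -16, 16, 0, 0, -16, 0],
  [16, 0, 0, 0, 16, -16, 16, 0],
  [-16, 0, 0, 0, -16, 16, -16, 0],
  [0, 0, 0, 16, 0, 0, 16, 0],
  [0, 0, 0, -16, 0, 0, -16, 0],
  [0, 0, 0, 0, 0, 0, 16, 0],
  [0, 0, 0, 0, 0, 0, -16, 0],
  [0, 0, 0, 0, 16, -16, 16, 16],
  [0, 0, 0, 0, -16, 16, -16, -16]]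

/-- the words of level 0 of the stabiliser chain (base point 20) -/
def lev0 : List (List ℕ) := [
  [1, 2, 1],
  [0, 0],
  [2, 1],
  [0, 0, 1, 1],
  [0, 1, 0, 0],
  [1, 0, 0],
  [0, 2, 0],
  [2, 1, 2],
  [2, 0, 0],
  [1, 2, 0, 0],
  [],
  [0, 2, 1],
  [1, 1],
  [1, 2],
  [2],
  [1],
  [2, 0],
  [0, 0, 2, 1, 2],
  [2, 0, 2],
  [1, 2, 0, 2],
  [0, 1, 1],
  [1, 0],
  [0],
  [0, 0, 2, 1],
  [0, 0, 2],
  [0, 0, 1],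
  [2, 1, 0, 2],
  [0, 2, 1, 2],
  [0, 2, 0, 0],
  [2, 1, 0],
  [0, 1, 0, 2],
  [0, 1, 0, 1],
  [1, 0, 2],
  [1, 0, 1],
  [0, 1],
  [0, 2]]

/-- the words of level 1 of the stabiliser chain (base point 11) -/
def lev1 : List (List ℕ) := [
  [2, 1, 1, 1, 1],
  [2, 1, 1, 2, 1, 1],
  [],
  [0, 0, 0, 1, 1],
  [2, 0, 0, 0, 2],
  [0, 0, 0, 2, 1, 1],
  [1, 1, 2],
  [0, 2, 0, 2, 1],
  [2, 1, 0, 0, 1, 0],
  [0, 2, 0, 0, 1, 0],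
  [2, 0, 1, 1, 0],
  [2, 1, 0, 2, 1],
  [1, 1, 0, 1, 1, 0],
  [0, 0, 1, 0, 1, 1, 1],
  [1, 0, 1, 2, 1],
  [0, 1, 1, 1, 2, 1],
  [2, 0, 1, 0, 1, 2],
  [2, 0, 2, 1, 0, 1, 2],
  [0, 0, 2, 0, 2, 1, 1],
  [0, 2, 1, 1, 1]]

/-- the words of level 2 of the stabiliser chain (base point 5) -/
def lev2 : List (List ℕ) := [
  [],
  [1, 0, 0, 1, 2, 0, 0, 2],
  [0, 1, 1, 0, 2, 0, 0, 2, 1],
  [0, 0, 0, 1, 0, 0, 2, 0, 1],
  [1, 0, 2, 1, 2, 1],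
  [0, 0, 2, 0, 0, 0, 0],
  [0, 0, 0, 0, 1, 2, 0, 2, 1],
  [0, 2, 0, 0, 1, 2, 0, 2, 1, 0],
  [1, 0, 0, 1, 0, 0, 2]]

/-- the words of level 3 of the stabiliser chain (base point 2) -/
def lev3 : List (List ℕ) := [
  [],
  [0, 1, 0, 0, 1, 2, 1, 2, 1],
  [0, 1, 2, 0, 0, 0, 1, 0, 0],
  [1, 2, 1, 0, 2, 0, 1, 0, 1]]

/-- the action of a generator on a vector given as a number -/
def mvN (i v : ℕ) : ℕ :=
  (List.range 6).foldl (fun acc j => if v.testBit j then acc ^^^ col i j else acc) 0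

/-- the action of a word on a vector given as a number -/
def actW : List ℕ → ℕ → ℕ
  | [], v => v
  | i :: w, v => mvN i (actW w v)

/-- the check of a level -/
def lvlOk (l : List ℕ) (b : ℕ) (ws : List (List ℕ)) : Bool :=
  decide (b < 64) && ws.all fun w => w.all (fun i => decide (i < 3)) &&
    l.all fun f => decide (f < 64) && actW w f == f

/-- the dot product of two roots -/
def dotT (k l : ℕ) : ℤ := lsum 24 (fun i => r8E k i * r8E l i)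

/-- the candidates for the image of a root -/
def candL (fixed : List ℕ) (kk : ℕ) : List ℕ :=
  (List.range 240).filter fun l => fixed.all fun f => dotT l f == dotT kk f

/-! ### kernel checks -/

set_option maxRecDepth 1000000

theorem img_lt : ∀ i < 3, ∀ j < 6, img i j < 512 := by decide

theorem col_chk : ∀ i < 3, ∀ j < 6, cvN (img i j) = col i j := by decide +kernel

theorem mv_chk : ∀ i < 3, ∀ v < 64, mvN i v < 64 ∧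
    (Matrix.of fun r c => bitsV6 (col i (idx6 c)) r) *ᵥ bitsV6 v = bitsV6 (mvN i v) := by
  decide +kernel

theorem lev_len : lev0.length = 36 ∧ lev1.length = 20 ∧ lev2.length = 9 ∧ lev3.length = 4 := by
  decide

theorem lev_ok : lvlOk [] 20 lev0 = true ∧ lvlOk [20] 11 lev1 = true ∧
    lvlOk [11, 20] 5 lev2 = true ∧ lvlOk [5, 11, 20] 2 lev3 = true := by decide +kernel

theorem lev_nodup : (lev0.map fun w => actW w 20).Nodup ∧ (lev1.map fun w => actW w 11).Nodup ∧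
    (lev2.map fun w => actW w 5).Nodup ∧ (lev3.map fun w => actW w 2).Nodup := by decide +kernel

theorem sigT_length : sigT.length = 240 := by decide +kernel

theorem sigT_chk : ∀ k < 240, sigT.getD k [] = F4.map (dotT k) := by decide +kernel

theorem sigT_nodup : sigT.Nodup := by decide +kernel

theorem F4_lt : ∀ f ∈ F4, f < 240 := by decide

theorem cand_len : (candL [] 126).length = 240 ∧ (candL [126, 148] 4).length = 27 ∧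
    (candL [4, 189, 126, 148] 0).length = 24 ∧
    (candL [0, 120, 4, 189, 126, 148] 14).length = 1 := by decide +kernel

end Cfsg.Agent.Helper26.SuzSec
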