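import Cfsg.Agent.Helper26.SecK0

/-!
# The Suzuki section of `Co0`: words and kernel checks

An element `a` of order three of the centraliser `N` of the involution `tE`, without fixed vectors;
three generators of its centraliser in `N`; a monomial element of its centraliser fusing `tE` into
the extraspecial group; the action of the generators on a basis of `C_{K0}(a)` modulo `tE`.
-/

set_option autoImplicit false

namespace Cfsg.Agent.Helper26.SuzSec

open Cfsg Cfsg.Agent.Helper7 Cfsg.Agent.Helper8 Cfsg.Agent.Helper27 Cfsg.Agent.Helper26.Co2Inv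
  Cfsg.Agent.Helper26.Co1Inv

/-! ### words -/

/-- the element of order three -/
def aW : List Letter := [.P [1, 2, 0, 14, 22, 3, 21, 7, 8, 9, 15, 12, 18, 13, 5, 20, 4, 17, 11, 6, 10, 19, 16, 23] [2, 0, 1, 5, 16, 14, 19, 7, 8, 9, 20, 18, 11, 13, 3, 10, 22, 17, 12, 21, 15, 6, 4, 23],
  .S 140167,
  .X]

/-- the first generator (monomial) -/
def m1W : List Letter := [.S 3216208,
  .P [4, 22, 16, 6, 2, 19, 9, 10, 5, 18, 8, 14, 3, 0, 21, 12, 23, 7, 17, 15, 11, 20, 1, 13] [13, 22, 4, 12, 0, 8, 3, 17, 10, 6, 7, 20, 15, 23, 11, 19, 2, 18, 9, 5, 21, 14, 1, 16]]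

/-- the second generator (monomial) -/
def m2W : List Letter := [.S 3575374,
  .P [1, 23, 2, 12, 22, 18, 7, 6, 20, 17, 14, 15, 10, 13, 8, 5, 4, 11, 9, 21, 3, 19, 16, 0] [23, 0, 2, 20, 16, 15, 7, 6, 14, 18, 12, 17, 3, 13, 10, 11, 22, 9, 5, 21, 8, 19, 4, 1]]

/-- the third generator -/
def xiW : List Letter := [.P [2, 18, 1, 3, 23, 20, 9, 4, 17, 14, 15, 10, 6, 12, 21, 7, 11, 13, 16, 19, 22, 5, 8, 0] [23, 2, 0, 3, 7, 21, 12, 15, 22, 6, 11, 16, 13, 17, 9, 10, 18, 8, 1, 19, 5, 14, 20, 4],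
  .S 3781746,
  .X,
  .S 8511869,
  .P [23, 2, 0, 9, 7, 8, 15, 12, 13, 10, 5, 1, 22, 17, 3, 6, 18, 21, 16, 14, 11, 19, 20, 4] [2, 11, 1, 14, 23, 10, 15, 4, 5, 3, 9, 20, 7, 8, 19, 6, 18, 13, 16, 21, 22, 17, 12, 0]]

/-- the fusing element (monomial) -/
def g0W : List Letter := [.S 1989958,
  .P [20, 9, 10, 19, 14, 7, 0, 1, 8, 22, 4, 11, 12, 17, 21, 16, 3, 6, 18, 23, 13, 2, 5, 15] [6, 7, 21, 16, 10, 22, 17, 5, 8, 1, 2, 11, 12, 20, 4, 23, 15, 13, 18, 3, 0, 14, 9, 19]]

/-- a sign change, conjugate to the involution up to sign -/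
def cW : List Letter := [.S 6889680]

/-- the generators -/
def genW (i : ℕ) : List Letter := [m1W, m2W, xiW].getD i []

/-- the word of the `n`-th element of the extraspecial group -/
def WN (n : ℕ) : List Letter := WS (n % 32) ++ WP (n / 32)

/-- the basis of `C_{K0}(a)` modulo the involution: `e0, e1, f0, f1, u, v` -/
def basT : List ℕ := [3, 10, 71, 136, 46, 300]

/-- the images of the basis under conjugation by the generators -/
def imgT : List (List ℕ) :=
  [[21, 3, 239, 480, 372, 46], [10, 9, 198, 82, 49, 300], [148, 511, 208, 136, 46, 283]]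

def bas (j : ℕ) : ℕ := basT.getD j 0
def img (i j : ℕ) : ℕ := (imgT.getD i []).getD j 0

/-! ### kernel checks -/

set_option maxRecDepth 1000000

theorem aW_ok : okW aW = true := by decide +kernel
theorem genW_ok : ∀ i < 3, okW (genW i) = true := by decide +kernel
theorem g0W_ok : okW g0W = true := by decide +kernel
theorem cW_ok : okW cW = true := by decide +kernel
theorem WN_ok : ∀ n < 512, okW (WN n) = true := by decide +kernel

theorem aW_comm : ∀ k < 24, runW (aW ++ tW) (basisL k) = runW (tW ++ aW) (basisL k) := by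
  decide +kernel

theorem aW_cube : ∀ k < 24, runW (aW ++ aW ++ aW) (basisL k) = runW [] (basisL k) := by
  decide +kernel

theorem aW_ne : (runW aW (basisL 0)).getD 0 0 ≠ (runW [] (basisL 0)).getD 0 0 := by
  decide +kernel

theorem genW_comm_t : ∀ i < 3, ∀ k < 24,
    runW (genW i ++ tW) (basisL k) = runW (tW ++ genW i) (basisL k) := by decide +kernel

theorem genW_comm_a : ∀ i < 3, ∀ k < 24,
    runW (genW i ++ aW) (basisL k) = runW (aW ++ genW i) (basisL k) := by decide +kernel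

theorem g0W_comm_a : ∀ k < 24, runW (g0W ++ aW) (basisL k) = runW (aW ++ g0W) (basisL k) := by
  decide +kernel

theorem cW_comm_t : ∀ k < 24, runW (cW ++ tW) (basisL k) = runW (tW ++ cW) (basisL k) := by
  decide +kernel

theorem cW_comm_a : ∀ k < 24, runW (cW ++ aW) (basisL k) = runW (aW ++ cW) (basisL k) := by
  decide +kernel

theorem bas_comm_a : ∀ j < 6, ∀ k < 24,
    runW (WN (bas j) ++ aW) (basisL k) = runW (aW ++ WN (bas j)) (basisL k) := by decide +kernel

theorem s9_comm_a : ∀ k < 24, runW (WN 9 ++ aW) (basisL k) = runW (aW ++ WN 9) (basisL k) := by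
  decide +kernel

theorem img_chk : ∀ i < 3, ∀ j < 6, ∀ k < 24,
    runW (WN (bas j) ++ genW i) (basisL k) = runW (genW i ++ WN (img i j)) (basisL k) := by
  decide +kernel

theorem g0_fuse : ∀ k < 24,
    runW (tW ++ g0W) (basisL k) = runW (g0W ++ WN 9 ++ negW) (basisL k) := by decide +kernel

theorem c_conj : ∀ k < 24, runW (WN 9 ++ g0W) (basisL k) = runW (g0W ++ cW) (basisL k) := by
  decide +kernel

theorem move_chk :
    (runW (WN 71 ++ cW) (basisL 3)).getD 6 0 ≠ (runW (cW ++ WN 71) (basisL 3)).getD 6 0 ∧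
    (runW (WN 71 ++ cW) (basisL 8)).getD 10 0 ≠
      (runW (cW ++ WN 71 ++ tW) (basisL 8)).getD 10 0 := by decide +kernel

theorem idx4_chk :
    (runW (aW ++ WS 1) (basisL 3)).getD 5 0 ≠ (runW (WS 1 ++ aW) (basisL 3)).getD 5 0 ∧
    (runW (aW ++ WS 4) (basisL 3)).getD 5 0 ≠ (runW (WS 4 ++ aW) (basisL 3)).getD 5 0 ∧
    (runW (aW ++ WS 5) (basisL 3)).getD 14 0 ≠ (runW (WS 5 ++ aW) (basisL 3)).getD 14 0 := by
  decide +kernel

/-- the chain of roots and their images under `a` -/
theorem chain_chk : runW aW (r8L 126) = r8L 148 ∧ runW aW (r8L 4) = r8L 189 ∧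
    runW aW (r8L 0) = r8L 120 ∧ runW aW (r8L 14) = r8L 72 := by decide +kernel

end Cfsg.Agent.Helper26.SuzSec
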