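import Cfsg.Agent.Helper26.SuzData
import Cfsg.Agent.Helper26.ExCoord
import Cfsg.Agent.Helper26.SecAsm
import Cfsg.Agent.Helper26.OmegaM6

/-!
# The Suzuki section of `Co0`: the elements, the coordinates and the homomorphism
-/

set_option autoImplicit false

namespace Cfsg.Agent.Helper26.SuzSec

open Cfsg Cfsg.Agent.Helper7 Cfsg.Agent.Helper8 Cfsg.Agent.Helper27 Cfsg.Agent.Helper26.Co2Inv
  Cfsg.Agent.Helper26.Co1Inv Cfsg.Agent.Helper26.SecAsm Cfsg.Agent.Helper26.ExCoord
  Cfsg.Agent.Helper26.OmegaM6 Cfsg.Agent.Helper26.SecLocal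

/-! ### elements from words -/

open Classical in
/-- the element acting as a word -/
noncomputable def wE (W : List Letter) : ↥Co0 :=
  if h : okW W = true then Classical.choose (exists_co0_word W h) else 1

theorem acts_wE {W : List Letter} (h : okW W = true) : Acts (wE W) W := by
  unfold wE
  rw [dif_pos h]
  exact Classical.choose_spec (exists_co0_word W h)

theorem acts_one : Acts (1 : ↥Co0) [] := by
  intro v
  rw [one_smul]
  rfl

theorem acts_pE {i : ℕ} (hi : i < 16) : Acts (pE i) (WP i) := by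
  unfold pE
  rw [dif_pos hi]
  exact Classical.choose_spec (exists_co0_word (WP i) (WP_ok i hi))

theorem acts_eN {n : ℕ} (hn : n < 512) : Acts (eN n) (WN n) :=
  (acts_sE (Nat.mod_lt n (by norm_num))).mul (acts_pE (by omega))

/-- commutation from a check on the basis -/
theorem comm_of_chk {g g' : ↥Co0} {W W' : List Letter} (h : Acts g W) (h' : Acts g' W')
    (hW : okW W = true) (hW' : okW W' = true)
    (H : ∀ k < 24, runW (W ++ W') (basisL k) = runW (W' ++ W) (basisL k)) : g' * g = g * g' :=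
  Acts.ext (h.mul h') (h'.mul h) (okW_append hW hW') (okW_append hW' hW) H

/-- the element of order three -/
noncomputable def aE : ↥Co0 := wE aW

theorem acts_aE : Acts aE aW := acts_wE aW_ok

theorem aE_mem_N : aE ∈ N := mem_N.mpr (comm_of_chk acts_aE acts_tE aW_ok tW_ok aW_comm)

theorem aE_cube : aE ^ 3 = 1 := by
  have h := Acts.ext ((acts_aE.mul acts_aE).mul acts_aE) acts_one
    (okW_append (okW_append aW_ok aW_ok) aW_ok) rfl aW_cube
  rw [pow_succ, pow_succ, pow_one, mul_assoc]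
  exact h

theorem aE_ne_one : aE ≠ 1 :=
  Acts.ne acts_aE acts_one aW_ok rfl (by norm_num) (by norm_num) aW_ne

theorem orderOf_aE : orderOf aE = 3 := by
  haveI : Fact (Nat.Prime 3) := ⟨Nat.prime_three⟩
  exact orderOf_eq_prime aE_cube aE_ne_one

theorem mem_cent_aE {g : ↥Co0} : g ∈ Subgroup.centralizer {aE} ↔ g * aE = aE * g := by
  rw [Subgroup.mem_centralizer_singleton_iff]

/-- membership in the centraliser of `a` in `N` from checks on the basis -/
theorem mem_XS_of_chk {g : ↥Co0} {W : List Letter} (h : Acts g W) (hW : okW W = true)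
    (H1 : ∀ k < 24, runW (W ++ tW) (basisL k) = runW (tW ++ W) (basisL k))
    (H2 : ∀ k < 24, runW (W ++ aW) (basisL k) = runW (aW ++ W) (basisL k)) : g ∈ XS aE :=
  ⟨mem_N.mpr (comm_of_chk h acts_tE hW tW_ok H1),
    mem_cent_aE.mpr (comm_of_chk acts_aE h aW_ok hW (fun k hk => (H2 k hk).symm))⟩

/-- the generators -/
noncomputable def gE (i : ℕ) : ↥Co0 := wE (genW i)

theorem acts_gE {i : ℕ} (hi : i < 3) : Acts (gE i) (genW i) := acts_wE (genW_ok i hi)

theorem gE_mem {i : ℕ} (hi : i < 3) : gE i ∈ XS aE :=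
  mem_XS_of_chk (acts_gE hi) (genW_ok i hi) (genW_comm_t i hi) (genW_comm_a i hi)

/-- the fusing element -/
noncomputable def g0E : ↥Co0 := wE g0W

theorem acts_g0E : Acts g0E g0W := acts_wE g0W_ok

theorem g0E_comm : g0E * aE = aE * g0E :=
  comm_of_chk acts_aE acts_g0E aW_ok g0W_ok (fun k hk => (g0W_comm_a k hk).symm)

/-- the sign change -/
noncomputable def cE : ↥Co0 := wE cW

theorem acts_cE : Acts cE cW := acts_wE cW_ok

theorem cE_mem : cE ∈ XS aE := mem_XS_of_chk acts_cE cW_ok cW_comm_t cW_comm_a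

/-! ### elements of the extraspecial group centralising `a` -/

theorem bas_lt : ∀ j < 6, bas j < 512 := by decide

theorem eN_mem_ES {n : ℕ} (hn : n < 512)
    (H : ∀ k < 24, runW (WN n ++ aW) (basisL k) = runW (aW ++ WN n) (basisL k)) :
    eN n ∈ ES aE :=
  ⟨eN_mem_K0 hn, mem_cent_aE.mpr (comm_of_chk acts_aE (acts_eN hn) aW_ok (WN_ok n hn)
    (fun k hk => (H k hk).symm))⟩

theorem bas_mem {j : ℕ} (hj : j < 6) : eN (bas j) ∈ ES aE :=
  eN_mem_ES (bas_lt j hj) (bas_comm_a j hj)

theorem s9_mem : eN 9 ∈ ES aE := eN_mem_ES (by norm_num) s9_comm_a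

theorem ES_normal' {x : ↥Co0} (hx : x ∈ XS aE) {e : ↥Co0} (he : e ∈ ES aE) :
    x * e * x⁻¹ ∈ ES aE :=
  ⟨K0_normal hx.1 he.1, (Subgroup.centralizer {aE}).mul_mem
    ((Subgroup.centralizer {aE}).mul_mem hx.2 he.2) ((Subgroup.centralizer {aE}).inv_mem hx.2)⟩

/-! ### commutation and squares by tables -/

/-- the table of the `n`-th element -/
def tb (n : ℕ) : ℕ → ℕ := dig (tabL.getD n 0)

/-- equality of tables -/
def eqT (τ τ' : ℕ → ℕ) : Bool := (List.range 16).all fun k => τ k == τ' k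

theorem eqT_iff (τ τ' : ℕ → ℕ) : eqT τ τ' = true ↔ ∀ k < 16, τ k = τ' k := by
  unfold eqT
  rw [List.all_eq_true]
  constructor
  · intro h k hk
    exact beq_iff_eq.mp (h k (List.mem_range.mpr hk))
  · intro h k hk
    exact beq_iff_eq.mpr (h k (List.mem_range.mp hk))

/-- do the `n`-th and `m`-th elements commute -/
def cmT (n m : ℕ) : Bool := eqT (compT (tb n) (tb m)) (compT (tb m) (tb n))

theorem eN_comm_iff {n m : ℕ} (hn : n < 512) (hm : m < 512) :
    eN n * eN m = eN m * eN n ↔ cmT n m = true := by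
  have h1 : HasTab (eN n * eN m) (compT (tb n) (tb m)) := (eN_tab hm).mul (eN_tab hn)
  have h2 : HasTab (eN m * eN n) (compT (tb m) (tb n)) := (eN_tab hn).mul (eN_tab hm)
  unfold cmT
  rw [eqT_iff]
  constructor
  · intro e
    rw [e] at h1
    exact h1.unique h2
  · intro e
    exact h1.ext h2 e

theorem cP_eN {n m : ℕ} (hn : n < 512) (hm : m < 512) :
    cP (eN n) (eN m) = if cmT n m = true then 0 else 1 := by
  by_cases h : cmT n m = true
  · rw [if_pos h]
    exact cP_eq_zero ((eN_comm_iff hn hm).mpr h)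
  · rw [if_neg h]
    exact cP_eq_one (fun e => h ((eN_comm_iff hn hm).mp e))

/-! ### the frame -/

/-- the position of a coordinate -/
def idx6 : I6 → ℕ
  | .inl (.inl i) => i.val
  | .inl (.inr i) => 2 + i.val
  | .inr i => 4 + i.val

/-- the dual position -/
def dl (j : ℕ) : ℕ := [2, 3, 0, 1, 5, 4].getD j 0

theorem idx6_lt (i : I6) : idx6 i < 6 := by
  revert i
  decide

theorem dl_lt : ∀ j < 6, dl j < 6 := by decide

/-- the enumeration of the coordinates -/
def L6 : List I6 := [.inl (.inl 0), .inl (.inl 1), .inl (.inr 0), .inl (.inr 1), .inr 0, .inr 1]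

/-- the basis -/
noncomputable def bE (i : I6) : ↥Co0 := eN (bas (idx6 i))

/-- the dual family -/
noncomputable def dE (i : I6) : ↥Co0 := eN (bas (dl (idx6 i)))

theorem bE_mem (i : I6) : bE i ∈ ES aE := bas_mem (idx6_lt i)

theorem dE_mem (i : I6) : dE i ∈ ES aE := bas_mem (dl_lt _ (idx6_lt i))

theorem dual_chk : ∀ i j : I6,
    (if cmT (bas (idx6 j)) (bas (dl (idx6 i))) = true then (0 : ZMod 2) else 1) =
      if i = j then 1 else 0 := by decide +kernel

/-- the index of the subgroup: three sign changes not commuting with `a` -/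
theorem sE_mul : sE 1 * sE 4 = sE 5 := by
  have h1 : (1 : ℕ) < 32 := by norm_num
  have h4 : (4 : ℕ) < 32 := by norm_num
  have h5 : (5 : ℕ) < 32 := by norm_num
  exact ((sE_tab h4).mul (sE_tab h1)).ext (sE_tab h5) (by decide +kernel)

theorem sE_mem_K0 {j : ℕ} (hj : j < 32) : sE j ∈ K0 := by
  have h : sE j = eN j := by
    have h0 : pE 0 = 1 := (pE_tab (by norm_num : (0 : ℕ) < 16)).ext hasTab_one (by decide +kernel)
    unfold eN
    rw [Nat.div_eq_of_lt hj, Nat.mod_eq_of_lt hj, h0, one_mul]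
  rw [h]
  exact eN_mem_K0 (by omega)

theorem sE_sq {j : ℕ} (hj : j < 32) : sE j * sE j = 1 :=
  ((sE_tab hj).mul (sE_tab hj)).ext hasTab_one (by
    revert j
    decide +kernel)

theorem sE_not_comm :
    sE 1 * aE ≠ aE * sE 1 ∧ sE 4 * aE ≠ aE * sE 4 ∧ sE 5 * aE ≠ aE * sE 5 := by
  obtain ⟨c1, c2, c3⟩ := idx4_chk
  have h1 : (1 : ℕ) < 32 := by norm_num
  have h4 : (4 : ℕ) < 32 := by norm_num
  have h5 : (5 : ℕ) < 32 := by norm_num
  refine ⟨?_, ?_, ?_⟩
  · exact Acts.ne (acts_aE.mul (acts_sE h1)) ((acts_sE h1).mul acts_aE)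
      (okW_append aW_ok (WS_ok 1 h1)) (okW_append (WS_ok 1 h1) aW_ok) (by norm_num) (by norm_num) c1
  · exact Acts.ne (acts_aE.mul (acts_sE h4)) ((acts_sE h4).mul acts_aE)
      (okW_append aW_ok (WS_ok 4 h4)) (okW_append (WS_ok 4 h4) aW_ok) (by norm_num) (by norm_num) c2
  · exact Acts.ne (acts_aE.mul (acts_sE h5)) ((acts_sE h5).mul acts_aE)
      (okW_append aW_ok (WS_ok 5 h5)) (okW_append (WS_ok 5 h5) aW_ok) (by norm_num) (by norm_num) c3

end Cfsg.Agent.Helper26.SuzSec
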