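import Cfsg.Agent.Helper26.FivePt
import Cfsg.Agent.Helper26.Steiner
import Cfsg.Agent.Helper26.SubsetCount

/-!
# Triads disjoint from a given triad

For a 3-set `T`: 210 of the 1330 triads `U` disjoint from `T` have `T ∪ U` inside an octad, 1120
have not, and the stabiliser of `T` in `M24` is transitive on each of the two kinds.
-/

set_option autoImplicit false

namespace Cfsg.Agent.Helper26

open Cfsg
open scoped Pointwise

/-- special triads: those `U` with `T ∪ U` in an octad -/
theorem ncard_special_triads (T : Finset GolayPt) (hT : T.card = 3) :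
    {U : Finset GolayPt | U.card = 3 ∧ Disjoint T U ∧ (∃ o ∈ octads, T ∪ U ⊆ o)}.ncard = 210 := by
  classical
  have hS := Helper27.octads_steiner
  have hfin : {b | b ∈ octads ∧ T ⊆ b}.Finite := Set.toFinite _
  set OT : Finset (Finset GolayPt) := hfin.toFinset with hOT
  have hmem : ∀ o, o ∈ OT ↔ o ∈ octads ∧ T ⊆ o := fun o => by
    rw [hOT, Set.Finite.mem_toFinset]; rfl
  have hcnt : OT.card * 10 = 210 := by
    have h := card_blocks_through hS T (by omega)
    rw [Set.ncard_eq_toFinset_card _ hfin, hT] at h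
    have h21 : Fintype.card GolayPt = 24 := by decide
    rw [h21] at h
    have e1 : Nat.choose (8 - 3) (5 - 3) = 10 := by decide
    have e2 : Nat.choose (24 - 3) (5 - 3) = 210 := by decide
    rw [e1, e2] at h
    exact h
  have hset : {U : Finset GolayPt | U.card = 3 ∧ Disjoint T U ∧ (∃ o ∈ octads, T ∪ U ⊆ o)} =
      ↑(OT.biUnion fun o => (o \ T).powersetCard 3) := by
    ext U
    simp only [Set.mem_ofPred_eq, Finset.coe_biUnion, Finset.mem_coe, Set.mem_iUnion,
      Finset.mem_powersetCard, exists_prop, hmem]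
    constructor
    · rintro ⟨hU, hd, o, ho, hsub⟩
      refine ⟨o, ⟨ho, Finset.union_subset_left hsub⟩, ?_, hU⟩
      intro a ha
      exact Finset.mem_sdiff.2 ⟨Finset.union_subset_right hsub ha,
        fun haT => Finset.disjoint_left.1 hd haT ha⟩
    · rintro ⟨o, ⟨ho, hTo⟩, hsub, hU⟩
      refine ⟨hU, ?_, o, ho, Finset.union_subset hTo fun a ha => (Finset.mem_sdiff.1 (hsub ha)).1⟩
      rw [Finset.disjoint_left]
      intro a haT haU
      exact (Finset.mem_sdiff.1 (hsub haU)).2 haT
  rw [hset, Set.ncard_coe_finset, Finset.card_biUnion]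
  · rw [← hcnt, Finset.sum_const_nat (m := 10), ]
    intro o ho
    rw [Finset.card_powersetCard]
    have h8 : o.card = 8 := ((hmem o).1 ho).1.2
    have : (o \ T).card = 5 := by
      rw [Finset.card_sdiff_of_subset ((hmem o).1 ho).2]; omega
    rw [this]; decide
  · intro o ho o' ho' hne
    rw [Function.onFun, Finset.disjoint_left]
    intro U hU hU'
    apply hne
    rw [Finset.mem_powersetCard] at hU hU'
    rw [Finset.mem_coe, hmem] at ho ho'
    apply block_eq_of_le_card_inter hS ho.1 ho'.1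
    have hsub : T ∪ U ⊆ o ∩ o' := by
      intro a ha
      rcases Finset.mem_union.1 ha with ha | ha
      · exact Finset.mem_inter.2 ⟨ho.2 ha, ho'.2 ha⟩
      · exact Finset.mem_inter.2 ⟨(Finset.mem_sdiff.1 (hU.1 ha)).1, (Finset.mem_sdiff.1 (hU'.1 ha)).1⟩
    have hdisj : Disjoint T U := by
      rw [Finset.disjoint_left]
      intro a haT haU
      exact (Finset.mem_sdiff.1 (hU.1 haU)).2 haT
    have := Finset.card_le_card hsub
    rw [Finset.card_union_of_disjoint hdisj, hT, hU.2] at this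
    omega

theorem ncard_disjoint_triads (T : Finset GolayPt) (hT : T.card = 3) :
    {U : Finset GolayPt | U.card = 3 ∧ Disjoint T U}.ncard = 1330 := by
  have h := ncard_subsets_inter_eq T 3 0 (by omega)
  have h24 : Fintype.card GolayPt = 24 := by decide
  rw [hT, h24] at h
  have e : Nat.choose 3 0 * Nat.choose (24 - 3) (3 - 0) = 1330 := by decide
  rw [e] at h
  rw [← h]
  congr 1
  ext U
  simp only [Set.mem_ofPred_eq, Finset.card_eq_zero, Finset.disjoint_iff_inter_eq_empty]

theorem ncard_nonspecial_triads (T : Finset GolayPt) (hT : T.card = 3) :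
    {U : Finset GolayPt | U.card = 3 ∧ Disjoint T U ∧ ¬ (∃ o ∈ octads, T ∪ U ⊆ o)}.ncard
      = 1120 := by
  have h1 := ncard_special_triads T hT
  have h2 := ncard_disjoint_triads T hT
  have hu : {U : Finset GolayPt | U.card = 3 ∧ Disjoint T U} =
      {U : Finset GolayPt | U.card = 3 ∧ Disjoint T U ∧ (∃ o ∈ octads, T ∪ U ⊆ o)} ∪
      {U : Finset GolayPt | U.card = 3 ∧ Disjoint T U ∧ ¬ (∃ o ∈ octads, T ∪ U ⊆ o)} := by
    ext U
    simp only [Set.mem_ofPred_eq, Set.mem_union]
    by_cases hx : ∃ o ∈ octads, T ∪ U ⊆ o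
    · simp only [hx, not_true_eq_false, and_false, or_false, and_true]
    · simp only [hx, not_false_eq_true, and_false, false_or, and_true]
  have hd : Disjoint
      {U : Finset GolayPt | U.card = 3 ∧ Disjoint T U ∧ (∃ o ∈ octads, T ∪ U ⊆ o)}
      {U : Finset GolayPt | U.card = 3 ∧ Disjoint T U ∧ ¬ (∃ o ∈ octads, T ∪ U ⊆ o)} := by
    rw [Set.disjoint_left]
    rintro U ⟨-, -, h⟩ ⟨-, -, h'⟩
    exact h' h
  rw [hu, Set.ncard_union_eq hd (Set.toFinite _) (Set.toFinite _), h1] at h2
  omega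

/-- The stabiliser of a triad `T` is transitive on the special and on the non-special triads
disjoint from `T`. -/
theorem triad_trans (T U U' : Finset GolayPt) (hT : T.card = 3) (hU : U.card = 3)
    (hU' : U'.card = 3) (hd : Disjoint T U) (hd' : Disjoint T U')
    (h : (∃ o ∈ octads, T ∪ U ⊆ o) ↔ (∃ o ∈ octads, T ∪ U' ⊆ o)) :
    ∃ g ∈ M24, g • T = T ∧ g • U = U' := by
  obtain ⟨t₁, t₂, t₃, h12, h13, h23, rfl⟩ := Finset.card_eq_three.1 hT
  obtain ⟨a, b, x, hab, hax, hbx, rfl⟩ := Finset.card_eq_three.1 hU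
  obtain ⟨a', b', x', hab', hax', hbx', rfl⟩ := Finset.card_eq_three.1 hU'
  simp only [Finset.disjoint_insert_left, Finset.disjoint_singleton_left, Finset.mem_insert,
    Finset.mem_singleton, not_or] at hd hd'
  obtain ⟨⟨h1a, h1b, h1x⟩, ⟨h2a, h2b, h2x⟩, h3a, h3b, h3x⟩ := hd
  obtain ⟨⟨h1a', h1b', h1x'⟩, ⟨h2a', h2b', h2x'⟩, h3a', h3b', h3x'⟩ := hd'
  have conv : ∀ (p q r : GolayPt) (o : Finset GolayPt),
      ((∀ z ∈ [t₁, t₂, t₃, p, q], z ∈ o) ∧ r ∈ o) ↔ ({t₁, t₂, t₃} ∪ {p, q, r} : Finset GolayPt) ⊆ o := by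
    intro p q r o
    simp only [List.mem_cons, List.not_mem_nil, or_false, forall_eq_or_imp, forall_eq,
      Finset.subset_iff, Finset.mem_union, Finset.mem_insert, Finset.mem_singleton]
    constructor
    · rintro ⟨⟨h1, h2, h3, h4, h5⟩, h6⟩ z (hz | hz)
      · rcases hz with rfl | rfl | rfl <;> assumption
      · rcases hz with rfl | rfl | rfl <;> assumption
    · intro hall
      exact ⟨⟨hall (Or.inl (Or.inl rfl)), hall (Or.inl (Or.inr (Or.inl rfl))),
        hall (Or.inl (Or.inr (Or.inr rfl))), hall (Or.inr (Or.inl rfl)),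
        hall (Or.inr (Or.inr (Or.inl rfl)))⟩, hall (Or.inr (Or.inr (Or.inr rfl)))⟩
  obtain ⟨g, hg, hmap, hgx⟩ := exists_map_six [t₁, t₂, t₃, a, b] [t₁, t₂, t₃, a', b']
    (by simp [*]) (by simp [*]) rfl rfl x x'
    (by simp [*, Ne.symm]) (by simp [*, Ne.symm])
    (by simpa only [conv] using h)
  simp only [List.map_cons, List.map_nil, List.cons.injEq, and_true] at hmap
  obtain ⟨e1, e2, e3, e4, e5⟩ := hmap
  refine ⟨g, hg, ?_, ?_⟩
  · simp only [Finset.smul_finset_insert, Finset.smul_finset_singleton, Equiv.Perm.smul_def,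
      e1, e2, e3]
  · simp only [Finset.smul_finset_insert, Finset.smul_finset_singleton, Equiv.Perm.smul_def,
      e4, e5, hgx]

end Cfsg.Agent.Helper26
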