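import Cfsg.Agent.Helper26.FastPerm

/-!
# Running a word in the generators on masks

A word is a natural number read in base 8, lowest digit first; digit `k ≥ 1` applies generator
number `k - 1`, and the word ends when the remaining number is `0`.
-/

set_option autoImplicit false

namespace Cfsg.Agent.Helper26

open Cfsg Helper27 Helper92
open scoped Pointwise

/-- apply the generator with (1-based) number `k` -/
def appLetter (gens : List GenData) (k m : ℕ) : ℕ :=
  match gens[Nat.pred k]? with
  | some g => g.app m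
  | none => m

/-- run the word `w` (at most `n` letters) on the mask `m` -/
def runWord (gens : List GenData) (n : ℕ) : ℕ → ℕ → ℕ :=
  Nat.rec (fun _ m => m)
    (fun _ ih w m => cond (Nat.beq w 0) m
      (strictN (ih (Nat.shiftRight w 3)) (appLetter gens (Nat.land w 7) m))) n

theorem runWord_zero (gens : List GenData) (w m : ℕ) : runWord gens 0 w m = m := rfl

theorem runWord_succ (gens : List GenData) (n w m : ℕ) :
    runWord gens (n + 1) w m = cond (Nat.beq w 0) m
      (runWord gens n (Nat.shiftRight w 3) (appLetter gens (Nat.land w 7) m)) := by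
  show cond (Nat.beq w 0) m
    (strictN (runWord gens n (Nat.shiftRight w 3)) (appLetter gens (Nat.land w 7) m)) = _
  rw [strictN_eq]

theorem appLetter_sound (H : Subgroup (Equiv.Perm GolayPt)) (gens : List GenData)
    (hH : ∀ g ∈ gens, g.ok = true ∧ g.perm ∈ H) (k : ℕ) :
    ∃ h ∈ H, ∀ m, m < 2 ^ 24 →
      appLetter gens k m < 2 ^ 24 ∧ h • Helper27.setOf m = Helper27.setOf (appLetter gens k m) := by
  unfold appLetter
  split
  · rename_i g hg
    have hmem : g ∈ gens := List.mem_of_getElem? hg
    exact ⟨g.perm, (hH g hmem).2, fun m hm =>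
      ⟨g.app_lt m, GenData.smul_setOf (hH g hmem).1 m hm⟩⟩
  · exact ⟨1, H.one_mem, fun m hm => ⟨hm, one_smul _ _⟩⟩

/-- The word acts on all masks as one element of `H`. -/
theorem runWord_sound (H : Subgroup (Equiv.Perm GolayPt)) (gens : List GenData)
    (hH : ∀ g ∈ gens, g.ok = true ∧ g.perm ∈ H) (n : ℕ) :
    ∀ w, ∃ h ∈ H, ∀ m, m < 2 ^ 24 →
      runWord gens n w m < 2 ^ 24 ∧ h • Helper27.setOf m = Helper27.setOf (runWord gens n w m) := by
  induction n with
  | zero => intro w; exact ⟨1, H.one_mem, fun m hm => ⟨hm, one_smul _ _⟩⟩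
  | succ n ih =>
    intro w
    cases hw : Nat.beq w 0 with
    | true =>
      refine ⟨1, H.one_mem, fun m hm => ?_⟩
      rw [runWord_succ, hw]
      exact ⟨hm, one_smul _ _⟩
    | false =>
      obtain ⟨a, ha, hA⟩ := appLetter_sound H gens hH (Nat.land w 7)
      obtain ⟨b, hb, hB⟩ := ih (Nat.shiftRight w 3)
      refine ⟨b * a, H.mul_mem hb ha, fun m hm => ?_⟩
      rw [runWord_succ, hw]
      obtain ⟨h1, h2⟩ := hA m hm
      obtain ⟨h3, h4⟩ := hB _ h1
      refine ⟨h3, ?_⟩
      rw [mul_smul, h2, h4]
      rfl

/-- Boolean pairwise check on a list -/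
def pairwiseB (r : ℕ → ℕ → Bool) : List ℕ → Bool
  | [] => true
  | a :: l => l.all (r a) && pairwiseB r l

theorem pairwiseB_iff (r : ℕ → ℕ → Bool) (l : List ℕ) :
    pairwiseB r l = true ↔ l.Pairwise (fun a b => r a b = true) := by
  induction l with
  | nil => simp [pairwiseB]
  | cons a l ih =>
    rw [pairwiseB, Bool.and_eq_true, ih, List.pairwise_cons, List.all_eq_true]

/-- Boolean membership test -/
def memB (x : ℕ) : List ℕ → Bool
  | [] => false
  | a :: l => Nat.beq x a || memB x l

theorem memB_iff (x : ℕ) (l : List ℕ) : memB x l = true ↔ x ∈ l := by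
  induction l with
  | nil => simp [memB]
  | cons a l ih =>
    rw [memB, Bool.or_eq_true, ih, List.mem_cons]
    constructor
    · rintro (h | h)
      · exact Or.inl (Nat.eq_of_beq_eq_true h)
      · exact Or.inr h
    · rintro (h | h)
      · exact Or.inl (h ▸ Nat.beq_refl _)
      · exact Or.inr h

end Cfsg.Agent.Helper26
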